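import Cfsg.Agent.Lib.LocalEven.QuadraticDerived
import Cfsg.Agent.Lib.PLocal.HallHigmanFrattini
import Cfsg.Agent.Lib.PLocal.PLength
import Cfsg.Agent.Lib.PGroups.Basic

/-!
The `p`-length of a `p`-soluble group is at most the derived length of a Sylow `p`-subgroup, `p` odd.
-/

set_option autoImplicit false
set_option maxHeartbeats 1000000
set_option linter.style.haveILetI false

namespace CfsgLib.LocalEven.QuadDerived

open Cfsg CfsgLib.Base Module
open scoped commutatorElement TensorProduct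

universe u

theorem le_normalizer_commutator {G : Type*} [Group G] {A B X : Subgroup G}
    (hA : X ≤ Subgroup.normalizer (A : Set G)) (hB : X ≤ Subgroup.normalizer (B : Set G)) :
    X ≤ Subgroup.normalizer ((⁅A, B⁆ : Subgroup G) : Set G) := by
  intro x hx
  rw [Subgroup.mem_normalizer_iff_map_conj_eq, Subgroup.map_commutator,
    Subgroup.mem_normalizer_iff_map_conj_eq.mp (hA hx),
    Subgroup.mem_normalizer_iff_map_conj_eq.mp (hB hx)]

/-- There is no quadratic element as in `key` in a `p`-soluble linear group without normal `p`-subgroup. -/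
theorem eq_one_of_quadratic {F : Type*} [Field F] {p : ℕ} [Fact p.Prime] [CharP F p]
    {V : Type*} [AddCommGroup V] [Module F V] [FiniteDimensional F V] {G : Type*} [Group G] [Finite G]
    (hp2 : p ≠ 2) (ρ : Representation F G V) (hfaith : Function.Injective ρ) (hsol : IsPSolvable p G)
    (hOp : pCore p G = ⊥) {B : Subgroup G} (hB : IsPGroup p B) {x : G} (hxB : x ∈ B)
    (hxc : ∀ b ∈ B, Commute x b) (hxB' : x ∈ ⁅B, B⁆) (hxp : x ^ p = 1)
    (hquad : (ρ x - 1) ^ 2 = 0) (hbx : ∀ b ∈ B, (ρ x - 1) * (ρ b - 1) ^ 2 = 0) : x = 1 := by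
  classical
  have hp : p.Prime := Fact.out
  by_contra hx1
  set N := pPrimeCore p G with hN
  have hNc : (Nat.card N).Coprime p := pPrimeCore_coprime p G
  haveI : N.Normal := inferInstance
  have hBN : B ≤ Subgroup.normalizer (N : Set G) := by
    rw [Subgroup.normalizer_eq_top]; exact le_top
  obtain ⟨e, he⟩ := IsPGroup.iff_card.1 hB
  have hcop : (Nat.card B).Coprime (Nat.card N) := by
    rw [he]; exact Nat.Coprime.pow_left e hNc.symm
  have hBsol : Group.IsSolvable B := by
    haveI := hB.isNilpotent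
    infer_instance
  obtain ⟨q, hq, S, hSN, hSq, hSB, hSx⟩ : ∃ q, q.Prime ∧ ∃ S : Subgroup G, S ≤ N ∧ IsPGroup q S ∧
      B ≤ Subgroup.normalizer (S : Set G) ∧ ¬ ∀ k ∈ S, Commute k x := by
    by_contra hall
    push Not at hall
    have hxC : x ∈ Subgroup.centralizer (N : Set G) := by
      refine Subgroup.mem_centralizer_iff.mpr fun k hk => ?_
      set D := N ⊓ Subgroup.centralizer ({x} : Set G) with hD
      have hDN : N ≤ D := by
        refine (Subgroup.eq_of_le_of_card_ge inf_le_left (Nat.le_of_dvd Nat.card_pos ?_)).ge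
        refine Nat.dvd_iff_prime_pow_dvd_dvd _ _ |>.mpr fun q k hq hdvd => ?_
        haveI := Fact.mk hq
        obtain ⟨P, hP⟩ := CfsgLib.Coprime.exists_invariant_sylow (p := q) hBN hcop (Or.inl hBsol)
        refine dvd_trans ?_ (Subgroup.card_dvd_of_le (le_inf (Subgroup.map_subtype_le _)
          (fun s hs => Subgroup.mem_centralizer_singleton_iff.mpr
            (hall q hq _ (Subgroup.map_subtype_le _) (P.isPGroup'.map N.subtype) hP s hs).eq)))
        rw [Subgroup.card_map_of_injective N.subtype_injective, P.card_eq_multiplicity]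
        exact pow_dvd_pow q ((Nat.Prime.pow_dvd_iff_le_factorization hq Nat.card_pos.ne').mp hdvd)
      exact Subgroup.mem_centralizer_singleton_iff.mp (hDN hk).2
    have hxN := CfsgLib.FgsC.HallHigmanB.centralizer_pPrimeCore_le hsol hOp hxC
    have h2 := Subgroup.orderOf_dvd_natCard N hxN
    rw [orderOf_eq_prime hxp hx1] at h2
    exact (hp.coprime_iff_not_dvd.mp hNc.symm) h2
  haveI := Fact.mk hq
  obtain ⟨Q, ⟨hQS, hQB, hQx⟩, hmin⟩ := wellFounded_lt.has_min
    {Q : Subgroup G | Q ≤ S ∧ B ≤ Subgroup.normalizer (Q : Set G) ∧ ¬ ∀ k ∈ Q, Commute k x}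
    ⟨S, le_rfl, hSB, hSx⟩
  have hQq : IsPGroup q Q := hSq.to_le hQS
  have hQne : Q ≠ ⊥ := fun h => hQx fun k hk => by
    rw [h, Subgroup.mem_bot] at hk; rw [hk]; exact Commute.one_left x
  have hqp : q ≠ p := by
    intro h
    subst h
    obtain ⟨c, hc⟩ := IsPGroup.iff_card.mp hQq
    have h1 : (q ^ c).Coprime q := hc ▸ hNc.coprime_dvd_left
      (Subgroup.card_dvd_of_le (hQS.trans hSN))
    rcases Nat.eq_zero_or_pos c with hc0 | hc0
    · exact hQne (Subgroup.card_eq_one.mp (by rw [hc, hc0, pow_zero]))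
    · rw [Nat.coprime_pow_left_iff hc0, Nat.coprime_self] at h1
      exact hp.one_lt.ne' h1
  have hsmall : ∀ M : Subgroup G, M < Q → B ≤ Subgroup.normalizer (M : Set G) →
      ∀ k ∈ M, Commute k x := by
    intro M hM hMB
    by_contra h
    exact hmin M ⟨hM.le.trans hQS, hMB, h⟩ hM
  set Z := Subgroup.zpowers x with hZ
  have hZB : Z ≤ B := Subgroup.zpowers_le.mpr hxB
  have hZQ : Z ≤ Subgroup.normalizer (Q : Set G) := hZB.trans hQB
  have hgen : Q ≤ ⁅Q, Z⁆ := by
    by_contra h
    have hlt : ⁅Q, Z⁆ < Q := lt_of_le_not_ge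
      (CfsgLib.Coprime.commutator_le_of_le_normalizer hZQ) h
    have hBZ : B ≤ Subgroup.normalizer (Z : Set G) := by
      intro b hb
      refine Subgroup.centralizer_le_normalizer (G := G) (s := (Z : Set G)) ?_
      refine Subgroup.mem_centralizer_iff.mpr fun t ht => ?_
      obtain ⟨j, rfl⟩ := ht
      exact ((hxc b hb).zpow_left j).eq
    have hc := hsmall _ hlt (le_normalizer_commutator hQB hBZ)
    have hcopQ : (Nat.card Z).Coprime (Nat.card Q) :=
      (hcop.coprime_dvd_left (Subgroup.card_dvd_of_le hZB)).coprime_dvd_right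
        (Subgroup.card_dvd_of_le (hQS.trans hSN))
    have h0 : ⁅⁅Q, Z⁆, Z⁆ = (⊥ : Subgroup G) := by
      refine Subgroup.commutator_eq_bot_iff_le_centralizer.mpr fun g hg => ?_
      refine Subgroup.mem_centralizer_iff.mpr fun t ht => ?_
      obtain ⟨j, rfl⟩ := ht
      exact ((hc g hg).zpow_right j).eq.symm
    rw [CfsgLib.Coprime.commutator_commutator_eq hZQ hcopQ
      (Or.inl (CfsgLib.Coprime.isSolvable_of_le hZB hBsol))] at h0
    exact hQx fun k hk => (Subgroup.mem_centralizer_iff.mp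
      (Subgroup.commutator_eq_bot_iff_le_centralizer.mp h0 hk) x (Subgroup.mem_zpowers x)).symm
  set Q' := (⁅Q, Q⁆ : Subgroup G) with hQ'
  have hQ'lt : Q' < Q := by
    refine lt_of_le_of_ne (Subgroup.commutator_le_self Q) fun h => ?_
    haveI : Nontrivial Q := (Subgroup.nontrivial_iff_ne_bot Q).mpr hQne
    haveI : Group.IsSolvable Q := by
      haveI := hQq.isNilpotent
      infer_instance
    refine (Group.IsSolvable.commutator_lt_top_of_nontrivial Q).ne ?_
    refine Subgroup.map_injective Q.subtype_injective ?_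
    rw [commutator_def, Subgroup.map_commutator, ← MonoidHom.range_eq_map, Subgroup.range_subtype]
    exact h
  have hQ'x := hsmall Q' hQ'lt (le_normalizer_commutator hQB hQB)
  -- `C_Q(x)` is central in `Q`
  have hcent : ∀ k ∈ Q, Commute k x → ∀ g ∈ Q, Commute k g := by
    set C := Q ⊓ Subgroup.centralizer ({x} : Set G) with hC
    have hCx : ⁅C, Z⁆ = (⊥ : Subgroup G) := by
      refine Subgroup.commutator_eq_bot_iff_le_centralizer.mpr fun g hg => ?_
      refine Subgroup.mem_centralizer_iff.mpr fun t ht => ?_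
      obtain ⟨j, rfl⟩ := ht
      have hgx : Commute g x := Subgroup.mem_centralizer_singleton_iff.1 hg.2
      exact (hgx.zpow_right j).eq.symm
    have hQCx : ⁅⁅Q, C⁆, Z⁆ = (⊥ : Subgroup G) := by
      refine Subgroup.commutator_eq_bot_iff_le_centralizer.mpr fun g hg => ?_
      refine Subgroup.mem_centralizer_iff.mpr fun t ht => ?_
      obtain ⟨j, rfl⟩ := ht
      exact ((hQ'x g (Subgroup.commutator_mono le_rfl inf_le_left hg)).zpow_right j).eq.symm
    have h2 : ⁅⁅C, Z⁆, Q⁆ = (⊥ : Subgroup G) := by rw [hCx, Subgroup.commutator_bot_left]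
    have h3 := Subgroup.commutator_commutator_eq_bot_of_rotate (H₁ := Z) (H₂ := Q) (H₃ := C) hQCx h2
    have h4 : ⁅Q, C⁆ = (⊥ : Subgroup G) := le_bot_iff.mp (h3 ▸ Subgroup.commutator_mono
      (by rw [Subgroup.commutator_comm Z Q]; exact hgen) le_rfl)
    intro k hk hkx g hg
    exact (Subgroup.mem_centralizer_iff.1 (Subgroup.commutator_eq_bot_iff_le_centralizer.1 h4 hg) k
      ⟨hk, Subgroup.mem_centralizer_singleton_iff.2 hkx.eq⟩)
  have hD : ∀ k ∈ Q, ∀ l ∈ Q, Commute ⁅k, l⁆ x := fun k hk l hl =>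
    hQ'x _ (Subgroup.commutator_mem_commutator hk hl)
  -- extension of scalars
  let K := AlgebraicClosure F
  haveI : CharP K p := charP_of_injective_algebraMap (algebraMap F K).injective p
  let ρK : Representation K G (K ⊗[F] V) := (Module.End.baseChangeHom F K V).toMonoidHom.comp ρ
  have hcomm : ∀ k ∈ Q, ρK k = 1 := by
    refine key (ρ := ρK) hp2 hQq hqp hB hQB hxc hxB hxB' hxp hgen hcent hD ?_ fun b hb => ?_
    · show (Module.End.baseChangeHom F K V (ρ x) - 1) ^ 2 = 0
      have h := congrArg (Module.End.baseChangeHom F K V) hquad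
      simpa only [map_pow, map_sub, map_one, map_zero] using h
    · show (Module.End.baseChangeHom F K V (ρ x) - 1) * (Module.End.baseChangeHom F K V (ρ b) - 1) ^ 2 = 0
      have h := congrArg (Module.End.baseChangeHom F K V) (hbx b hb)
      simpa only [map_mul, map_pow, map_sub, map_one, map_zero] using h
  refine hQne ((Subgroup.eq_bot_iff_forall _).2 fun k hk => hfaith ?_)
  rw [map_one]
  refine LinearMap.baseChangeHom_injective F V K ?_
  show LinearMap.baseChange K (ρ k) = LinearMap.baseChange K (1 : Module.End F V)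
  rw [LinearMap.baseChange_one]
  exact hcomm k hk

variable {X : Type u} [Group X] [Finite X] {p : ℕ} [Fact p.Prime]

/-- The last term of the derived series of a Sylow subgroup lies in `O_p(X)`. -/
theorem derived_le_pCore (hp2 : p ≠ 2) (hG : IsPSolvable p X) (hO : pPrimeCore p X = ⊥)
    (T : Sylow p X) (d : ℕ) (hd : derivedSeries ↥(T : Subgroup X) (d + 1) = ⊥) :
    (derivedSeries ↥(T : Subgroup X) d).map (T : Subgroup X).subtype ≤ pCore p X := by
  classical
  have hpp : p.Prime := Fact.out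
  have hRT := pCore_le_sylow T
  rcases d with _ | d
  · rw [derivedSeries_zero, ← MonoidHom.range_eq_map, Subgroup.range_subtype]
    refine le_trans ?_ (CfsgLib.PLocal.centralizer_pCore_le hG hO)
    intro t ht
    refine Subgroup.mem_centralizer_iff.2 fun r hr => ?_
    rw [derivedSeries_one, commutator_def, Subgroup.commutator_eq_bot_iff_le_centralizer] at hd
    exact congrArg Subtype.val
      (Subgroup.mem_centralizer_iff.1 (hd (Subgroup.mem_top ⟨t, ht⟩)) ⟨r, hRT hr⟩ trivial)
  set B := (derivedSeries ↥(T : Subgroup X) d).map (T : Subgroup X).subtype with hBdef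
  set A := (derivedSeries ↥(T : Subgroup X) (d + 1)).map (T : Subgroup X).subtype with hAdef
  have hAB : A = ⁅B, B⁆ := by rw [hAdef, derivedSeries_succ, Subgroup.map_commutator]
  have hAA : ⁅A, A⁆ = ⊥ := by
    rw [← Subgroup.map_commutator, ← derivedSeries_succ, hd, Subgroup.map_bot]
  have hnormal : ∀ (n : ℕ) (M : Subgroup X), M = (derivedSeries ↥(T : Subgroup X) n).map (T : Subgroup X).subtype →
      ∀ m ∈ M, ∀ t ∈ (T : Subgroup X), ⁅m, t⁆ ∈ M ∧ ⁅t, m⁆ ∈ M := by
    rintro n M rfl _ ⟨m, hm, rfl⟩ t ht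
    haveI := derivedSeries_normal ↥(T : Subgroup X) n
    refine ⟨⟨⁅m, (⟨t, ht⟩ : (T : Subgroup X))⁆, ?_, ?_⟩, ⟨⁅(⟨t, ht⟩ : (T : Subgroup X)), m⁆, ?_, ?_⟩⟩
    · rw [commutatorElement_def, mul_assoc, mul_assoc]
      exact mul_mem hm (by rw [← mul_assoc]; exact Subgroup.Normal.conj_mem inferInstance _ (inv_mem hm) _)
    · rfl
    · rw [commutatorElement_def]
      exact mul_mem (Subgroup.Normal.conj_mem inferInstance _ hm _) (inv_mem hm)
    · rfl
  obtain ⟨D⟩ := CfsgLib.PLocal.FrattiniRep.exists_data hG hO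
  have hcom : ∀ (z : X) (r : ↥(pCore p X)),
      D.proj ⟨⁅z, (r : X)⁆, by
        rw [commutatorElement_def]
        exact mul_mem ((pCore_normal p X).conj_mem _ r.2 z) (inv_mem r.2)⟩ =
      (D.f z - 1) (D.proj r) := by
    intro z r
    set c : ↥(pCore p X) := ⟨z * r * z⁻¹, (pCore_normal p X).conj_mem _ r.2 z⟩ with hc
    have h1 := D.proj_mul ⟨⁅z, (r : X)⁆, by
        rw [commutatorElement_def]
        exact mul_mem ((pCore_normal p X).conj_mem _ r.2 z) (inv_mem r.2)⟩ r
    have h2 := D.conj z r c rfl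
    rw [LinearMap.sub_apply, Module.End.one_apply, eq_sub_iff_add_eq, ← h1]
    show D.proj _ = D.f z (D.proj r)
    rw [← show D.proj c = D.f z (D.proj r) from h2]
    congr 1
    exact Subtype.ext (by simp [hc, commutatorElement_def, mul_assoc])
  by_contra hAR
  obtain ⟨a₀, ha₀, ha₀R⟩ := SetLike.not_le_iff_exists.1 hAR
  -- pass to the linear group
  set Y := D.ρ.range
  let π : X →* Y := D.ρ.rangeRestrict
  have hπker : ∀ z, π z = 1 ↔ z ∈ pCore p X := fun z => by
    rw [← D.ker, MonoidHom.mem_ker]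
    exact ⟨fun h => congrArg Subtype.val h, fun h => Subtype.ext h⟩
  haveI : Finite Y := Finite.of_surjective π D.ρ.rangeRestrict_surjective
  set B' := B.map π with hB'
  set A' := A.map π with hA'
  have hA'ne : A' ≠ ⊥ := fun h =>
    ha₀R ((hπker _).1 (Subgroup.mem_bot.1 (h ▸ Subgroup.mem_map_of_mem π ha₀)))
  have hBp : IsPGroup p B' := (T.isPGroup'.to_le (Subgroup.map_subtype_le _)).map π
  have hA'B : A' ≤ B' := Subgroup.map_mono (Subgroup.map_mono (derivedSeries_antitone _ (Nat.le_succ d)))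
  haveI : (A'.subgroupOf B').Normal := by
    refine Subgroup.normal_subgroupOf_iff hA'B |>.2 ?_
    rintro _ _ ⟨a, ha, rfl⟩ ⟨b, hb, rfl⟩
    refine ⟨b * a * b⁻¹, ?_, by simp⟩
    have h := (hnormal _ A hAdef a ha b (Subgroup.map_subtype_le _ hb)).2
    rw [commutatorElement_def] at h
    simpa using mul_mem h ha
  have hne : A'.subgroupOf B' ≠ ⊥ := fun h => hA'ne (by
    rwa [Subgroup.subgroupOf_eq_bot, disjoint_iff, inf_eq_left.2 hA'B] at h)
  obtain ⟨⟨y, hyA, hyc⟩, hy1⟩ := Subgroup.ne_bot_iff_exists_ne_one.1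
    (CfsgLib.PGroups.inf_center_ne_bot hBp hne)
  obtain ⟨k, hk⟩ := hBp y
  have hex : ∃ k, y ^ p ^ k = 1 := ⟨k, hk⟩
  have hk0 : Nat.find hex ≠ 0 := fun h => hy1 (Subtype.ext (by
    have := Nat.find_spec hex; rwa [h, pow_zero, pow_one] at this))
  set z := y ^ p ^ (Nat.find hex - 1) with hz
  have hz1 : z ≠ 1 := Nat.find_min hex (by omega)
  have hzp : z ^ p = 1 := by
    rw [hz, ← pow_mul, ← pow_succ, Nat.sub_add_cancel (by omega)]; exact Nat.find_spec hex
  obtain ⟨a, ha, haz⟩ : (z : Y) ∈ A' := pow_mem (hyA : (y : Y) ∈ A') _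
  have haB : a ∈ B := Subgroup.map_mono (derivedSeries_antitone _ (Nat.le_succ d)) ha
  have hzc : ∀ b ∈ B', Commute (z : Y) b := fun b hb =>
    (congrArg Subtype.val (Subgroup.mem_center_iff.1 (pow_mem hyc _) ⟨b, hb⟩)).symm
  let ρY : Representation (ZMod p) Y D.V :=
    LinearEquiv.automorphismGroup.toLinearMapMonoidHom.comp Y.subtype
  have hρπ : ∀ g : X, ρY (π g) = D.f g := fun g => rfl
  have hfin : ∀ (T₀ : Module.End (ZMod p) D.V), (∀ r : ↥(pCore p X), T₀ (D.proj r) = 0) → T₀ = 0 :=
    fun T₀ h => LinearMap.ext fun v => by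
      obtain ⟨r, rfl⟩ := D.proj_surjective v
      exact h r
  have hzero : ∀ (g : X) (h : g ∈ pCore p X), g = 1 → D.proj ⟨g, h⟩ = 0 := by
    intro g h hg
    subst hg
    exact D.proj_one
  refine hz1 (Subtype.ext (eq_one_of_quadratic (V := D.V) hp2 ρY ?_ ?_ ?_ hBp (z : B').2 hzc ?_
    (by exact congrArg Subtype.val hzp) ?_ ?_))
  · exact LinearEquiv.toLinearMap_injective.comp Y.subtype_injective
  · exact CfsgLib.PLocal.isPSolvable_of_surjective π D.ρ.rangeRestrict_surjective hG
  · rw [← map_pCore_mulEquiv (QuotientGroup.quotientKerEquivRange D.ρ),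
      ← map_pCore_mulEquiv (QuotientGroup.quotientMulEquivOfEq D.ker.symm), pCore_quotient_pCore,
      Subgroup.map_bot, Subgroup.map_bot]
  · show (z : Y) ∈ ⁅B.map π, B.map π⁆
    rw [← Subgroup.map_commutator, ← hAB, ← haz]
    exact Subgroup.mem_map_of_mem π ha
  · rw [← haz, hρπ]
    refine hfin _ fun r => ?_
    rw [pow_two, Module.End.mul_apply, ← hcom a r, ← hcom a]
    refine hzero _ _ ?_
    have h1 := (hnormal _ A hAdef a ha r (hRT r.2)).1
    exact Subgroup.mem_bot.1 (hAA ▸ Subgroup.commutator_mem_commutator ha h1)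
  · rintro _ ⟨b, hb, rfl⟩
    rw [← haz, hρπ, hρπ]
    refine hfin _ fun r => ?_
    rw [Module.End.mul_apply, pow_two, Module.End.mul_apply, ← hcom b r, ← hcom b, ← hcom a]
    refine hzero _ _ ?_
    have h1 := (hnormal _ B hBdef b hb r (hRT r.2)).1
    have h2 : ⁅b, ⁅b, (r : X)⁆⁆ ∈ A := hAB ▸ Subgroup.commutator_mem_commutator hb h1
    exact Subgroup.mem_bot.1 (hAA ▸ Subgroup.commutator_mem_commutator ha h2)

theorem pLengthLE_of_derivedSeries (hp2 : p ≠ 2) (d : ℕ) : ∀ {G : Type u} [Group G] [Finite G],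
    IsPSolvable p G → ∀ S : Sylow p G, derivedSeries ↥(S : Subgroup G) d = ⊥ → PLengthLE p d G := by
  induction d with
  | zero =>
    intro G _ _ hG S hS
    rw [derivedSeries_zero] at hS
    refine CfsgLib.PLocal.upperPSeries_one_eq_top
      (((Fact.out : p.Prime).coprime_iff_not_dvd.2 fun hd => ?_).symm)
    refine S.ne_bot_of_dvd_card hd ?_
    have h : (⊤ : Subgroup ↥(S : Subgroup G)).map (S : Subgroup G).subtype = ⊥ := by
      rw [hS, Subgroup.map_bot]
    rwa [← MonoidHom.range_eq_map, Subgroup.range_subtype] at h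
  | succ d ih =>
    intro G _ _ hG S hS
    set N := (upperPSeries p G 1).1 with hN
    set U := (upperPSeries p G 2).1 with hU
    have hO : pPrimeCore p (G ⧸ N) = ⊥ := by
      have e : N = (pPrimeCore p (G ⧸ (upperPSeries p G (2 * 0)).1)).comap
          (QuotientGroup.mk' (upperPSeries p G (2 * 0)).1) := CfsgLib.PLocal.upperPSeries_odd p G 0
      have e2 : N.map (QuotientGroup.mk' (upperPSeries p G (2 * 0)).1) = pPrimeCore p _ := by
        rw [e, CfsgLib.Base.map_mk'_comap]
      rw [← map_pPrimeCore_mulEquiv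
        (QuotientGroup.quotientQuotientEquivQuotient (upperPSeries p G (2 * 0)).1 N
          (CfsgLib.PLocal.upperPSeries_monotone p G (Nat.le_succ (2 * 0)))),
        ← map_pPrimeCore_mulEquiv (QuotientGroup.quotientMulEquivOfEq e2.symm),
        pPrimeCore_quotient_pPrimeCore, Subgroup.map_bot, Subgroup.map_bot]
    set P := S.mapSurjective (QuotientGroup.mk'_surjective N) with hP
    let g : ↥(S : Subgroup G) →* ↥(P : Subgroup (G ⧸ N)) :=
      (QuotientGroup.mk' N).subgroupMap (S : Subgroup G)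
    have hg : Function.Surjective g := (QuotientGroup.mk' N).subgroupMap_surjective _
    have hPd : derivedSeries ↥(P : Subgroup (G ⧸ N)) (d + 1) = ⊥ := by
      rw [← map_derivedSeries_eq hg, hS, Subgroup.map_bot]
    have hle := derived_le_pCore hp2 (CfsgLib.PLocal.isPSolvable_quotient hG N) hO P d hPd
    have hSU : (derivedSeries ↥(S : Subgroup G) d).map (S : Subgroup G).subtype ≤ U := by
      rintro _ ⟨s, hs, rfl⟩
      rw [hU, show (2 : ℕ) = 2 * 0 + 2 from rfl, CfsgLib.PLocal.upperPSeries_even, Subgroup.mem_comap]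
      refine hle ⟨g s, ?_, rfl⟩
      rw [← map_derivedSeries_eq hg]
      exact Subgroup.mem_map_of_mem g hs
    set W := S.mapSurjective (QuotientGroup.mk'_surjective U) with hW
    let f : ↥(S : Subgroup G) →* ↥(W : Subgroup (G ⧸ U)) :=
      (QuotientGroup.mk' U).subgroupMap (S : Subgroup G)
    have hWd : derivedSeries ↥(W : Subgroup (G ⧸ U)) d = ⊥ := by
      rw [← map_derivedSeries_eq (f := f) ((QuotientGroup.mk' U).subgroupMap_surjective _),
        Subgroup.map_eq_bot_iff]
      intro s hs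
      exact Subtype.ext ((QuotientGroup.eq_one_iff _).2 (hSU (Subgroup.mem_map_of_mem _ hs)))
    have h2 := ih (CfsgLib.PLocal.isPSolvable_quotient hG U) W hWd
    show (upperPSeries p G (2 * (d + 1) + 1)).1 = ⊤
    rw [show 2 * (d + 1) + 1 = (2 * d + 1) + 2 by ring, ← CfsgLib.PLocal.comap_upperPSeries,
      show (upperPSeries p (G ⧸ U) (2 * d + 1)).1 = ⊤ from h2, Subgroup.comap_top]

end CfsgLib.LocalEven.QuadDerived
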