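import Cfsg.Agent.Lib.LocalEven.StrongEmb

/-!
Sylow subgroups with a unique subgroup of order `p`; strongly `p`-embedded subgroups of quotients.
-/

namespace CfsgLib.LocalEven

variable {G : Type*} [Group G] {p : ℕ}

theorem quaternion_eq_of_sq_eq_one {n : ℕ} [NeZero n] {x : QuaternionGroup n} (hx : x ^ 2 = 1) :
    x = 1 ∨ x = QuaternionGroup.a (n : ZMod (2 * n)) := by
  cases x with
  | a i =>
    rw [sq, QuaternionGroup.a_mul_a, QuaternionGroup.one_def] at hx
    injection hx with hi
    have hd : 2 * n ∣ i.val + i.val := by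
      rw [← ZMod.natCast_eq_zero_iff, Nat.cast_add, ZMod.natCast_zmod_val]; exact hi
    obtain ⟨c, hc⟩ := hd
    have hlt : i.val < 2 * n := ZMod.val_lt i
    have hc' : i.val = n * c := by rw [Nat.mul_assoc] at hc; omega
    have : c < 2 := by
      by_contra hc2
      have := Nat.mul_le_mul_left n (not_lt.1 hc2)
      omega
    interval_cases c
    · left
      rw [QuaternionGroup.one_def, ← ZMod.natCast_zmod_val i, hc', Nat.mul_zero, Nat.cast_zero]
    · right
      rw [← ZMod.natCast_zmod_val i, hc', Nat.mul_one]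
  | xa i =>
    exact absurd (orderOf_dvd_of_pow_eq_one hx) (by rw [QuaternionGroup.orderOf_xa]; omega)

theorem card_pow_prime_eq_one_le {T : Type*} [Group T] [Finite T] [hp : Fact p.Prime]
    (hT : IsPGroup p T) (h : IsCyclic T ∨ ∃ n : ℕ, Nonempty (T ≃* QuaternionGroup n)) :
    Nat.card {x : T // x ^ p = 1} ≤ p := by
  classical
  rcases h with hc | ⟨n, ⟨e⟩⟩
  · have := Fintype.ofFinite T
    rw [Nat.card_eq_fintype_card, Fintype.card_subtype]
    exact IsCyclic.card_pow_eq_one_le hp.out.pos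
  · have hn : n ≠ 0 := by
      rintro rfl
      have : Finite (QuaternionGroup 0) := Finite.of_equiv T e.toEquiv
      have : Finite (ZMod (2 * 0)) :=
        Finite.of_injective (fun i : ZMod (2 * 0) => QuaternionGroup.a i) fun i j h => by
          injection h
      exact @not_finite ℤ _ this
    have : NeZero n := ⟨hn⟩
    have hp2 : p = 2 := by
      obtain ⟨k, hk⟩ := IsPGroup.iff_orderOf.1 hT (e.symm (QuaternionGroup.xa 0))
      rw [MulEquiv.orderOf_eq, QuaternionGroup.orderOf_xa] at hk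
      have : p ∣ 2 ^ 2 := by
        rcases k with _ | k
        · rw [pow_zero] at hk; omega
        · exact Dvd.intro_left _ (by rw [← pow_succ, ← hk]; rfl)
      exact (Nat.prime_dvd_prime_iff_eq hp.out Nat.prime_two).1 (hp.out.dvd_of_dvd_pow this)
    subst hp2
    have hle : Nat.card {x : T // x ^ 2 = 1} ≤ Nat.card Bool := by
      refine Nat.card_le_card_of_injective (fun x => decide (e x.1 = 1)) ?_
      intro x y hxy
      simp only [decide_eq_decide] at hxy
      apply Subtype.ext; apply e.injective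
      have hx := quaternion_eq_of_sq_eq_one (x := e x.1) (by rw [← map_pow, x.2, map_one])
      have hy := quaternion_eq_of_sq_eq_one (x := e y.1) (by rw [← map_pow, y.2, map_one])
      by_cases h1 : e x.1 = 1
      · rw [h1, hxy.1 h1]
      · rw [hx.resolve_left h1, hy.resolve_left (fun h2 => h1 (hxy.2 h2))]
    simpa using hle

theorem exists_unique_subgroup_card_prime [Finite G] [hp : Fact p.Prime] (T : Subgroup G)
    (hT : IsPGroup p T) (hne : T ≠ ⊥)
    (h : IsCyclic T ∨ ∃ n : ℕ, Nonempty (T ≃* QuaternionGroup n)) :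
    Nat.card (Cfsg.omegaOne p T) = p ∧
      ∀ x, x ∈ Cfsg.omegaOne p T ↔ x ∈ T ∧ x ^ p = 1 := by
  obtain ⟨k, hk⟩ := IsPGroup.iff_card.1 hT
  have hdvd : p ∣ Nat.card T := by
    rcases k with _ | k
    · rw [pow_zero] at hk; exact absurd (Subgroup.eq_bot_of_card_eq _ hk) hne
    · rw [hk]; exact dvd_pow_self p k.succ_ne_zero
  obtain ⟨z, hz⟩ := exists_prime_orderOf_dvd_card' p hdvd
  have hzp : z ^ p = 1 := by rw [← hz, pow_orderOf_eq_one]
  have hsub : ∀ x : T, x ∈ Subgroup.zpowers z → x ^ p = 1 := by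
    rintro _ ⟨m, rfl⟩
    rw [← zpow_natCast, ← zpow_mul, mul_comm, zpow_mul, zpow_natCast, hzp, one_zpow]
  have hle := card_pow_prime_eq_one_le hT h
  have heq : ∀ x : T, x ^ p = 1 → x ∈ Subgroup.zpowers z := by
    intro x hx
    let f : Subgroup.zpowers z → {x : T // x ^ p = 1} := fun y => ⟨y.1, hsub y.1 y.2⟩
    have hf : Function.Injective f := fun a b hab =>
      Subtype.ext (congrArg (fun w : {x : T // x ^ p = 1} => w.1) hab)
    have hcard : Nat.card {x : T // x ^ p = 1} ≤ Nat.card (Subgroup.zpowers z) := by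
      rw [Nat.card_zpowers, hz]; exact hle
    obtain ⟨y, hy⟩ := (hf.bijective_of_nat_card_le hcard).2 ⟨x, hx⟩
    have hyx : y.1 = x := congrArg Subtype.val hy
    exact hyx ▸ y.2
  have hΩ : Cfsg.omegaOne p T = Subgroup.zpowers (z : G) := by
    refine le_antisymm ((Subgroup.closure_le _).2 ?_) (Subgroup.zpowers_le.2 ?_)
    · rintro x ⟨hxT, hxp⟩
      obtain ⟨m, hm⟩ := heq ⟨x, hxT⟩ (Subtype.ext (by simpa using hxp))
      exact ⟨m, by simpa using congrArg Subtype.val hm⟩
    · exact Subgroup.subset_closure ⟨z.2, by rw [← hz, ← Subgroup.coe_pow, pow_orderOf_eq_one, Subgroup.coe_one]⟩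
  refine ⟨by rw [hΩ, Nat.card_zpowers, Subgroup.orderOf_coe, hz], fun x => ⟨?_, ?_⟩⟩
  · rw [hΩ]
    rintro ⟨m, rfl⟩
    exact ⟨T.zpow_mem z.2 m, by
      simpa using congrArg Subtype.val (hsub (z ^ m) (Subgroup.zpow_mem _ (Subgroup.mem_zpowers z) m))⟩
  · exact fun hx => Subgroup.subset_closure hx

theorem stronglyPEmbedded_normalizer_omegaOne [Finite G] [hp : Fact p.Prime]
    (hO : Cfsg.pCore p G = ⊥) (T : Sylow p G) (hT1 : (T : Subgroup G) ≠ ⊥)
    (hT : IsCyclic ↥(T : Subgroup G) ∨ ∃ n : ℕ, Nonempty (↥(T : Subgroup G) ≃* QuaternionGroup n)) :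
    Cfsg.IsStronglyPEmbedded p (Subgroup.normalizer (Cfsg.omegaOne p (T : Subgroup G) : Set G)) := by
  obtain ⟨hcard, hmem⟩ := exists_unique_subgroup_card_prime _ T.isPGroup' hT1 hT
  set Ω := Cfsg.omegaOne p (T : Subgroup G)
  have hΩp : IsPGroup p Ω := IsPGroup.of_card (n := 1) (by rw [hcard, pow_one])
  refine ⟨?_, fun e => ?_, T, (kGeneratedCore_one_le_iff T.isPGroup').2 ?_⟩
  · exact hcard ▸ Subgroup.card_subgroup_dvd_card Ω
  · have h1 : Ω ≤ Cfsg.pCore p G := le_pCore (Subgroup.normalizer_eq_top_iff.1 e) hΩp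
    rw [hO] at h1
    rw [le_bot_iff.1 h1, Subgroup.card_bot] at hcard
    exact hp.out.ne_one hcard.symm
  · intro Q hQ hQne g hg
    have hΩQ : Ω ≤ Q := by
      obtain ⟨k, hk⟩ := IsPGroup.iff_card.1 (T.isPGroup'.to_le hQ)
      have hd : p ∣ Nat.card Q := by
        rcases k with _ | k
        · rw [pow_zero] at hk; exact absurd (Subgroup.eq_bot_of_card_eq _ hk) hQne
        · rw [hk]; exact dvd_pow_self p k.succ_ne_zero
      obtain ⟨q, hq⟩ := exists_prime_orderOf_dvd_card' p hd
      have hqle : Subgroup.zpowers (q : G) ≤ Ω :=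
        Subgroup.zpowers_le.2 ((hmem _).2 ⟨hQ q.2, by
          rw [← hq, ← Subgroup.coe_pow, pow_orderOf_eq_one, Subgroup.coe_one]⟩)
      rw [← Subgroup.eq_of_le_of_card_ge hqle
        (by rw [Nat.card_zpowers, Subgroup.orderOf_coe, hq, hcard])]
      exact Subgroup.zpowers_le.2 q.2
    apply mem_normalizer_of_conj
    refine Subgroup.eq_of_le_of_card_ge ?_
      (le_of_eq (Subgroup.card_map_of_injective (MulAut.conj g).injective).symm)
    rintro _ ⟨x, hx, rfl⟩
    refine (hmem _).2 ⟨hQ ((Subgroup.mem_normalizer_iff.1 hg x).1 (hΩQ hx)), ?_⟩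
    rw [← map_pow, ((hmem x).1 hx).2, map_one]

theorem not_dvd_of_image {H : Type*} [Group H] [Finite G] [Fact p.Prime] (f : G →* H)
    (hf : Function.Surjective f) (U V : Subgroup H)
    (h : ¬ p ∣ Nat.card ↥(U.comap f ⊓ V.comap f)) : ¬ p ∣ Nat.card ↥(U ⊓ V) := by
  intro hd
  apply h
  have e : (U.comap f ⊓ V.comap f).map f = U ⊓ V := by
    rw [← Subgroup.comap_inf, Subgroup.map_comap_eq_self_of_surjective hf]
  rw [← e] at hd
  exact hd.trans (Subgroup.card_map_dvd _ f)

theorem stronglyPEmbedded_map [Finite G] [Fact p.Prime] {H : Type*} [Group H] (f : G →* H)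
    (hf : Function.Surjective f) {Y : Subgroup G} (hY : Cfsg.IsStronglyPEmbedded p Y)
    (hker : f.ker ≤ Y) (hpker : ¬ p ∣ Nat.card f.ker) :
    Cfsg.IsStronglyPEmbedded p (Y.map f) := by
  have : Finite H := Finite.of_surjective f hf
  obtain ⟨hne, hd, hdis⟩ := stronglyPEmbedded_iff_disjoint.1 hY
  have hc : (Y.map f).comap f = Y := by rw [Subgroup.comap_map_eq, sup_eq_left.2 hker]
  rw [stronglyPEmbedded_iff_disjoint]
  refine ⟨fun e => hne (by rw [← hc, e, Subgroup.comap_top]), ?_, fun q hq => ?_⟩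
  · obtain ⟨S⟩ : Nonempty (Sylow p Y) := inferInstance
    set SG := (S : Subgroup Y).map Y.subtype
    have hSne : p ∣ Nat.card SG := by
      rw [Subgroup.card_map_of_injective Y.subtype_injective]
      exact S.dvd_card_of_dvd_card hd
    obtain ⟨x, hx⟩ := exists_prime_orderOf_dvd_card' p hSne
    have hfx : f x ∈ Y.map f := ⟨x, Subgroup.map_subtype_le _ x.2, rfl⟩
    have hord : orderOf (f (x : G)) = p := by
      rcases (Nat.dvd_prime (Fact.out : p.Prime)).1
        (show orderOf (f (x : G)) ∣ p by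
          rw [← hx, ← Subgroup.orderOf_coe]; exact orderOf_map_dvd f _) with h1 | h1
      · exfalso
        apply hpker
        rw [orderOf_eq_one_iff, ← MonoidHom.mem_ker] at h1
        rw [← hx, ← Subgroup.orderOf_coe]
        exact Subgroup.orderOf_dvd_natCard _ h1
      · exact h1
    rw [← hord]
    exact Subgroup.orderOf_dvd_natCard _ hfx
  · obtain ⟨g, rfl⟩ := hf q
    refine not_dvd_of_image f hf _ _ ?_
    have hg : g ∉ Y := fun h => hq ⟨g, h, rfl⟩
    have e : ((Y.map f).map (MulAut.conj (f g)).toMonoidHom).comap f =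
        Y.map (MulAut.conj g).toMonoidHom := by
      conv_rhs => rw [← hc]
      ext x
      simp only [Subgroup.mem_comap, Subgroup.mem_map_equiv, MulAut.conj_symm_apply, map_mul, map_inv]
    rw [hc, e]
    exact hdis g hg

end CfsgLib.LocalEven
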