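import Mathlib

/-!
# Primitive prime divisors of `aⁿ - 1`
-/

set_option autoImplicit false
set_option linter.unusedSectionVars false

namespace CfsgLib.LocalEven.Zsig

open Polynomial Finset

/-- `Φ_n(a)` as a natural number. -/
noncomputable def phiVal (n a : ℕ) : ℕ := ((cyclotomic n ℤ).eval (a : ℤ)).natAbs

theorem phiVal_dvd_pow_sub_one (n a : ℕ) (ha : 1 ≤ a) : phiVal n a ∣ a ^ n - 1 := by
  have h := Polynomial.eval_dvd (x := (a : ℤ)) (cyclotomic.dvd_X_pow_sub_one n ℤ)
  simp only [eval_sub, eval_pow, eval_X, eval_one] at h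
  have h1 : ((a ^ n - 1 : ℕ) : ℤ) = (a : ℤ) ^ n - 1 := by
    rw [Nat.cast_sub (Nat.one_le_pow _ _ ha)]; push_cast; ring
  rw [← h1, ← Int.natAbs_dvd, Int.natCast_dvd_natCast] at h
  exact h

theorem phiVal_dvd_geom (n a q m : ℕ) (ha : 1 < a) (hq : 1 < q) (hn : n = q * m) (hm : 0 < m) :
    (phiVal n a : ℤ) ∣ ∑ i ∈ range q, ((a : ℤ) ^ m) ^ i := by
  have hmem : m ∈ n.properDivisors := Nat.mem_properDivisors.2
    ⟨Dvd.intro_left q hn.symm, by rw [hn]; exact lt_mul_of_one_lt_left hm hq⟩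
  have h := Polynomial.eval_dvd (x := (a : ℤ))
    (X_pow_sub_one_mul_cyclotomic_dvd_X_pow_sub_one_of_dvd ℤ hmem)
  simp only [eval_mul, eval_sub, eval_pow, eval_X, eval_one] at h
  have hs : (a : ℤ) ^ n - 1 = ((a : ℤ) ^ m - 1) * ∑ i ∈ range q, ((a : ℤ) ^ m) ^ i := by
    rw [mul_comm, geom_sum_mul, ← pow_mul, hn, mul_comm m q]
  rw [hs] at h
  have hne : (a : ℤ) ^ m - 1 ≠ 0 := by
    have : (1 : ℤ) < (a : ℤ) ^ m := one_lt_pow₀ (by exact_mod_cast ha) hm.ne'
    omega
  rw [phiVal, Int.natAbs_dvd]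
  exact (mul_dvd_mul_iff_left hne).1 h

theorem geom_not_sq_dvd {r : ℕ} (hr : r.Prime) (hodd : Odd r) {c : ℤ} (hc : (r : ℤ) ∣ c - 1) :
    ¬ ((r : ℤ) ^ 2 ∣ ∑ i ∈ range r, c ^ i) := by
  obtain ⟨u, hu⟩ := hc
  have key : ∀ i : ℕ, (r : ℤ) ^ 2 ∣ c ^ i - (1 + i * u * r) := by
    intro i
    induction i with
    | zero => simp
    | succ i ih =>
      obtain ⟨v, hv⟩ := ih
      refine ⟨v * c + i * u * u, ?_⟩
      have hc' : c = 1 + r * u := by linarith
      rw [pow_succ, show c ^ i = (1 + i * u * r) + r ^ 2 * v by linarith, hc']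
      push_cast
      ring
  intro h
  have h2 : (r : ℤ) ^ 2 ∣ ∑ i ∈ range r, (1 + (i : ℤ) * u * r) := by
    have h3 := Finset.dvd_sum (s := range r) fun i _ => key i
    rw [Finset.sum_sub_distrib] at h3
    exact (dvd_iff_dvd_of_dvd_sub h3).1 h
  obtain ⟨k, hk⟩ := hodd
  have hsum : (∑ i ∈ range r, (i : ℤ)) = r * k := by
    have := Finset.sum_range_id_mul_two r
    have h4 : (∑ i ∈ range r, i) = r * k := by
      rw [show r - 1 = k * 2 by omega, ← mul_assoc] at this
      exact Nat.eq_of_mul_eq_mul_right two_pos this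
    rw [← Nat.cast_sum, h4]; push_cast; ring
  rw [Finset.sum_add_distrib, ← Finset.sum_mul, ← Finset.sum_mul, hsum, Finset.sum_const,
    Finset.card_range, nsmul_one] at h2
  have h5 : (r : ℤ) ^ 2 ∣ (r : ℤ) := by
    have h6 : (r : ℤ) ^ 2 ∣ (r : ℤ) * k * u * r := ⟨k * u, by ring⟩
    exact (dvd_add_left h6).1 (by simpa using h2)
  rw [← Nat.cast_pow, Int.natCast_dvd_natCast] at h5
  have := Nat.le_of_dvd hr.pos h5
  nlinarith [hr.two_le]

theorem exists_primitive (a n : ℕ) (ha : 1 < a) (hn : 1 < n) (h6 : ¬ (a = 2 ∧ n = 6))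
    (h2 : ¬ (n = 2 ∧ ∃ m : ℕ, a + 1 = 2 ^ m)) :
    ∃ r : ℕ, r.Prime ∧ r ∣ a ^ n - 1 ∧ ∀ k : ℕ, 0 < k → k < n → ¬ r ∣ a ^ k - 1 := by
  by_contra hcon
  push Not at hcon
  set N := phiVal n a with hN
  have hlow : (a - 1) ^ Nat.totient n < N :=
    sub_one_pow_totient_lt_natAbs_cyclotomic_eval hn (by omega)
  have hN1 : 1 < N := lt_of_le_of_lt (Nat.one_le_pow _ _ (by omega)) hlow
  -- the shape of a prime divisor
  have shape : ∀ r : ℕ, r.Prime → r ∣ N → ∃ d k, 1 ≤ k ∧ n = d * r ^ k ∧ d ∣ r - 1 ∧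
      (∀ j, r ∣ a ^ j - 1 ↔ d ∣ j) := by
    intro r hr hrN
    haveI := Fact.mk hr
    have hrn : r ∣ a ^ n - 1 := hrN.trans (phiVal_dvd_pow_sub_one n a (by omega))
    have hiff : ∀ j, r ∣ a ^ j - 1 ↔ orderOf (a : ZMod r) ∣ j := by
      intro j
      rw [orderOf_dvd_iff_pow_eq_one, ← ZMod.natCast_eq_zero_iff,
        Nat.cast_sub (Nat.one_le_pow _ _ (by omega)), Nat.cast_pow, Nat.cast_one, sub_eq_zero]
    set d := orderOf (a : ZMod r) with hd
    have hdn : d ∣ n := (hiff n).1 hrn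
    obtain ⟨j, hj0, hjn, hj⟩ := hcon r hr hrn
    have hdlt : d < n := lt_of_le_of_lt (Nat.le_of_dvd hj0 ((hiff j).1 hj)) hjn
    have ha0 : (a : ZMod r) ≠ 0 := by
      intro h
      have h1 : (a : ZMod r) ^ n = 1 := orderOf_dvd_iff_pow_eq_one.1 hdn
      rw [h, zero_pow (by omega)] at h1
      exact zero_ne_one h1
    have hd1 : d ∣ r - 1 := ZMod.orderOf_dvd_card_sub_one ha0
    obtain ⟨t, ht⟩ := hdn
    have ht1 : 1 < t := by
      rcases t with _ | _ | t
      · omega
      · omega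
      · omega
    have hall : ∀ q : ℕ, q.Prime → q ∣ t → q = r := by
      intro q hq hqt
      obtain ⟨t', rfl⟩ := hqt
      have hm : 0 < d * t' := by
        rcases Nat.eq_zero_or_pos (d * t') with h | h
        · exfalso
          have : n = 0 := by rw [ht, ← mul_assoc, mul_comm d q, mul_assoc, h, mul_zero]
          omega
        · exact h
      have hdvd := phiVal_dvd_geom n a q (d * t') ha hq.one_lt (by rw [ht]; ring) hm
      have h1 : ((a : ZMod r)) ^ (d * t') = 1 := orderOf_dvd_iff_pow_eq_one.1 (dvd_mul_right d t')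
      have h2 : ((r : ℤ)) ∣ ∑ i ∈ range q, ((a : ℤ) ^ (d * t')) ^ i :=
        (Int.natCast_dvd_natCast.2 hrN).trans hdvd
      rw [← ZMod.intCast_zmod_eq_zero_iff_dvd] at h2
      push_cast at h2
      rw [h1] at h2
      simp only [one_pow, Finset.sum_const, Finset.card_range, nsmul_one] at h2
      rw [ZMod.natCast_eq_zero_iff] at h2
      exact ((Nat.prime_dvd_prime_iff_eq hr hq).1 h2).symm
    refine ⟨d, t.primeFactorsList.length, ?_, ?_, hd1, hiff⟩
    · have h := Nat.eq_prime_pow_of_unique_prime_dvd (n := t) (p := r) (by omega) fun {q} => hall q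
      by_contra h0
      rw [show t.primeFactorsList.length = 0 by omega, pow_zero] at h
      omega
    · conv_lhs => rw [ht, Nat.eq_prime_pow_of_unique_prime_dvd (n := t) (p := r) (by omega)
        fun {q} => hall q]
  obtain ⟨r, hr, hrN⟩ := Nat.exists_prime_and_dvd hN1.ne'
  obtain ⟨d, k, hk, hnk, hdr, hiff⟩ := shape r hr hrN
  have hr2 := hr.two_le
  have hd0 : 0 < d := by
    rcases Nat.eq_zero_or_pos d with h | h
    · rw [h, zero_mul] at hnk; omega
    · exact h
  have hdlt : d < r := lt_of_le_of_lt (Nat.le_of_dvd (by omega) hdr) (by omega)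
  have hun : ∀ q : ℕ, q.Prime → q ∣ N → q = r := by
    intro q hq hqN
    obtain ⟨d', k', hk', hnk', hdr', -⟩ := shape q hq hqN
    by_contra hne
    have h1 : q ∣ d * r ^ k := hnk ▸ hnk' ▸ dvd_mul_of_dvd_right (dvd_pow_self q (by omega)) d'
    have h2 : r ∣ d' * q ^ k' := hnk' ▸ hnk ▸ dvd_mul_of_dvd_right (dvd_pow_self r (by omega)) d
    have h3 : q ∣ d := (hq.dvd_mul.1 h1).resolve_right fun h =>
      hne ((Nat.prime_dvd_prime_iff_eq hq hr).1 (hq.dvd_of_dvd_pow h))
    have h4 : r ∣ d' := (hr.dvd_mul.1 h2).resolve_right fun h =>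
      hne ((Nat.prime_dvd_prime_iff_eq hr hq).1 (hr.dvd_of_dvd_pow h)).symm
    have hq2 := hq.two_le
    have hd'0 : 0 < d' := by
      rcases Nat.eq_zero_or_pos d' with h | h
      · rw [h, zero_mul] at hnk'; omega
      · exact h
    have := Nat.le_of_dvd hd0 h3
    have := Nat.le_of_dvd (by omega : 0 < q - 1) hdr'
    have := Nat.le_of_dvd hd'0 h4
    omega
  obtain ⟨m, hm⟩ : ∃ m, n = r * m ∧ d ∣ m := by
    obtain ⟨k', rfl⟩ : ∃ k', k = k' + 1 := ⟨k - 1, by omega⟩
    exact ⟨d * r ^ k', by rw [hnk, pow_succ]; ring, dvd_mul_right _ _⟩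
  have hm0 : 0 < m := by
    rcases Nat.eq_zero_or_pos m with h | h
    · rw [h, mul_zero] at hm; omega
    · exact h
  by_cases hn2 : n = 2
  · refine h2 ⟨hn2, ?_⟩
    have hr2' : r = 2 := by
      have : r ∣ 2 := hn2 ▸ Dvd.intro m hm.1.symm
      exact (Nat.prime_dvd_prime_iff_eq hr Nat.prime_two).1 this
    have hNa : N = a + 1 := by
      rw [hN, phiVal, hn2, cyclotomic_two, eval_add, eval_X, eval_one]
      omega
    refine ⟨N.primeFactorsList.length, hNa ▸ ?_⟩
    exact hr2' ▸ Nat.eq_prime_pow_of_unique_prime_dvd (n := N) (p := r) (by omega) fun {q} => hun q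
  have hsq : ¬ r ^ 2 ∣ N := by
    intro h
    have hdvd := phiVal_dvd_geom n a r m ha hr.one_lt hm.1 hm0
    have hs : ((r : ℤ) ^ 2) ∣ ∑ i ∈ range r, ((a : ℤ) ^ m) ^ i := by
      refine dvd_trans ?_ hdvd
      exact_mod_cast h
    have hc : (r : ℤ) ∣ (a : ℤ) ^ m - 1 := by
      have h1 := (hiff m).2 hm.2
      rw [← Int.natCast_dvd_natCast, Nat.cast_sub (Nat.one_le_pow _ _ (by omega))] at h1
      push_cast at h1
      exact h1
    rcases hr.eq_two_or_odd' with h2' | hodd
    · subst h2'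
      have hd1 : d = 1 := by omega
      obtain ⟨j, rfl⟩ : ∃ j, k = j + 2 := ⟨k - 2, by
        rcases k with _ | _ | k
        · omega
        · rw [hd1] at hnk; omega
        · omega⟩
      have hmeven : m = 2 * 2 ^ j := by
        rw [hd1] at hnk
        have : 2 * m = 2 * (2 * 2 ^ j) := by rw [← hm.1, hnk]; ring
        omega
      rw [Finset.sum_range_succ, Finset.sum_range_one, pow_zero, pow_one, hmeven, mul_comm,
        pow_mul] at hs
      have hao : Odd ((a : ℤ) ^ 2 ^ j) := by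
        have h3 : ¬ (2 : ℤ) ∣ (a : ℤ) ^ 2 ^ j := by
          intro h4
          have h5 : (2 : ℤ) ∣ (a : ℤ) ^ m := by
            rw [hmeven, mul_comm, pow_mul]; exact dvd_pow h4 two_ne_zero
          have : (2 : ℤ) ∣ 1 := by simpa using dvd_sub h5 hc
          omega
        exact Int.not_even_iff_odd.1 fun h4 => h3 (even_iff_two_dvd.1 h4)
      obtain ⟨w, hw⟩ := hao
      rw [hw] at hs
      obtain ⟨z, hz⟩ := hs
      have : (4 : ℤ) * (w * w + w) + 2 = 4 * z := by push_cast at hz; linarith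
      omega
    · exact geom_not_sq_dvd hr hodd hc hs
  have hNr : N = r := by
    have h := Nat.eq_prime_pow_of_unique_prime_dvd (n := N) (p := r) (by omega) fun {q} => hun q
    rcases Nat.lt_or_ge N.primeFactorsList.length 2 with hl | hl
    · interval_cases hl' : N.primeFactorsList.length
      · rw [pow_zero] at h; omega
      · simpa using h
    · exact absurd (h ▸ pow_dvd_pow r hl) hsq
  have htot : r - 1 ≤ Nat.totient n := by
    refine Nat.le_of_dvd (Nat.totient_pos.2 (by omega)) ?_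
    rw [← Nat.totient_prime hr]
    exact Nat.totient_dvd_of_dvd (Dvd.intro m hm.1.symm)
  have hge : ∀ j, j + 1 ≤ 2 ^ j := fun j => Nat.lt_two_pow_self
  by_cases ha3 : 3 ≤ a
  · have h1 : 2 ^ (r - 1) ≤ (a - 1) ^ Nat.totient n :=
      (Nat.pow_le_pow_right two_pos htot).trans (Nat.pow_le_pow_left (by omega) _)
    have := hge (r - 1)
    omega
  have ha2 : a = 2 := by omega
  subst ha2
  have hrodd : 3 ≤ r := by
    by_contra h
    have h2' : r = 2 := by omega
    have h1 := (hiff d).2 dvd_rfl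
    rw [h2'] at h1
    have hd1 : d = 1 := by omega
    rw [hd1] at h1
    omega
  obtain ⟨j, rfl⟩ : ∃ j, k = j + 1 := ⟨k - 1, by omega⟩
  have hval : ∀ i (b : ℕ), (expand ℤ r (cyclotomic i ℤ)).eval (b : ℤ) =
      (cyclotomic i ℤ).eval (((b ^ r : ℕ) : ℤ)) := fun i b => by
    rw [expand_eval]; push_cast; rfl
  have hbig : ∀ i, 1 < i → (2 ^ r - 1) ^ Nat.totient i < phiVal i (2 ^ r) := fun i hi =>
    sub_one_pow_totient_lt_natAbs_cyclotomic_eval hi (by have := hge r; omega)
  rcases j with _ | j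
  · -- `n = d r`
    simp only [zero_add, pow_one] at hnk
    have hrd : ¬ r ∣ d := fun h => by have := Nat.le_of_dvd hd0 h; omega
    have he := congrArg (fun P : ℤ[X] => (P.eval ((2 : ℕ) : ℤ)).natAbs)
      (cyclotomic_expand_eq_cyclotomic_mul hr hrd ℤ)
    simp only [hval, eval_mul, Int.natAbs_mul] at he
    rw [← hnk] at he
    change phiVal d (2 ^ r) = N * phiVal d 2 at he
    have hd2 : d ≠ 1 := by
      intro h
      have h1 := (hiff d).2 dvd_rfl
      rw [h] at h1
      have := Nat.le_of_dvd one_pos h1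
      omega
    by_cases hd3 : d = 2
    · have h1 := (hiff d).2 dvd_rfl
      rw [hd3] at h1
      have hr3 : r = 3 := by
        have h2' : r ∣ 3 := by simpa using h1
        exact (Nat.prime_dvd_prime_iff_eq hr Nat.prime_three).1 h2'
      exact h6 ⟨rfl, by rw [hnk, hd3, hr3]⟩
    have hdge : 3 ≤ d := by omega
    have hr5 : 5 ≤ r := by
      by_contra h
      have : r = 4 := by omega
      rw [this] at hr; norm_num at hr
    have hup : phiVal d 2 ≤ 3 ^ Nat.totient d := by
      have h := cyclotomic_eval_le_add_one_pow_totient (q := (2 : ℝ)) one_lt_two d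
      have hpos : 0 ≤ (cyclotomic d ℤ).eval (2 : ℤ) := by
        exact (cyclotomic_pos (by omega) 2).le
      have hc : (cyclotomic d ℝ).eval (2 : ℝ) = (((cyclotomic d ℤ).eval (2 : ℤ) : ℤ) : ℝ) := by
        have := (Polynomial.eval_intCast_map (Int.castRingHom ℝ) (cyclotomic d ℤ) 2)
        rw [map_cyclotomic_int] at this
        simpa using this
      rw [hc, show ((2 : ℝ) + 1) = ((3 : ℤ) : ℝ) by norm_num, ← Int.cast_pow, Int.cast_le] at h
      have h' : ((phiVal d 2 : ℕ) : ℤ) ≤ ((3 ^ Nat.totient d : ℕ) : ℤ) := by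
        rw [phiVal, Int.natCast_natAbs, abs_of_nonneg (by simpa using hpos)]
        push_cast
        exact h
      exact_mod_cast h'
    have h4 : 3 * r + 1 ≤ 2 ^ r := by
      obtain ⟨i, rfl⟩ : ∃ i, r = i + 5 := ⟨r - 5, by omega⟩
      have := hge i
      rw [pow_add]; omega
    have h5 : r * 3 ^ Nat.totient d ≤ (2 ^ r - 1) ^ Nat.totient d :=
      calc r * 3 ^ Nat.totient d ≤ r ^ Nat.totient d * 3 ^ Nat.totient d :=
            Nat.mul_le_mul_right _ (Nat.le_self_pow (Nat.totient_pos.2 hd0).ne' r)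
        _ = (3 * r) ^ Nat.totient d := by rw [mul_pow, mul_comm]
        _ ≤ _ := Nat.pow_le_pow_left (by omega) _
    have := hbig d (by omega)
    have := Nat.mul_le_mul_left r hup
    rw [he, hNr] at *
    omega
  · -- `r² ∣ n`
    set n' := d * r ^ (j + 1) with hn'
    have hn'eq : n = n' * r := by rw [hn', hnk, pow_succ]; ring
    have he := congrArg (fun P : ℤ[X] => (P.eval ((2 : ℕ) : ℤ)).natAbs)
      (cyclotomic_expand_eq_cyclotomic hr (Dvd.intro_left (d * r ^ j) (by rw [hn', pow_succ]; ring) : r ∣ n') ℤ)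
    simp only [hval] at he
    rw [← hn'eq] at he
    change phiVal n' (2 ^ r) = N at he
    have hn'1 : 1 < n' := lt_of_lt_of_le (by omega : 1 < r)
      ((Nat.le_self_pow (by omega) r).trans (Nat.le_mul_of_pos_left _ hd0))
    have h1 := hbig n' hn'1
    have h3 : 2 ^ r - 1 ≤ (2 ^ r - 1) ^ Nat.totient n' :=
      Nat.le_self_pow (Nat.totient_pos.2 (by omega)).ne' _
    have := hge r
    omega

end CfsgLib.LocalEven.Zsig
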