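import Cfsg.Agent.Lib.LocalEven.PushBaumann

/-!
Baumann's lemma in the forms S2768, S2769, S2770.
-/

set_option autoImplicit false

namespace CfsgLib.LocalEven.Push

open Cfsg
open scoped commutatorElement
open CD (cj cen zOf)

variable {G : Type*} [Group G] [Finite G] {p : ℕ} [Fact p.Prime]

theorem baumann_sylow (P : Sylow p G) (hE : Setup p (P : Subgroup G) (pCore p G))
    (hZ : ¬ (zOf (P : Subgroup G)).Normal) {B : Subgroup G}
    (hB : B = (P : Subgroup G) ⊓ cen (centerThompsonAOf (P : Subgroup G))) :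
    ∃ R : Sylow p ↥(Subgroup.normalClosure (B : Set G)),
      (R : Subgroup ↥(Subgroup.normalClosure (B : Set G))) =
        B.subgroupOf (Subgroup.normalClosure (B : Set G)) := by
  set L := Subgroup.normalClosure (B : Set G) with hL
  have hle : (P : Subgroup G) ⊓ L ≤ B := by
    rcases baumann_cases hE (fun h => hZ (normal_of_le_center h)) with h | ⟨-, W, hW, hWX, hXW, -⟩
    · have : B.Normal := hB ▸ h
      exact inf_le_right.trans (Subgroup.normalClosure_le_normal (N := B) (Set.Subset.refl _))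
    · have hWn := cen_normal hW
      have hLW : L ≤ cen W := Subgroup.normalClosure_le_normal
        ((hB.le.trans inf_le_right).trans (CD.cen_anti hWX))
      rw [hB]
      refine le_inf inf_le_left (le_trans ?_ (CD.cen_anti hXW))
      show _ ≤ cen (_ ⊔ W)
      rw [CD.cen_sup]
      exact le_inf (inf_le_left.trans (Subgroup.le_centralizer_iff.1 inf_le_right))
        (inf_le_right.trans hLW)
  obtain ⟨R, hR⟩ := exists_sylow_inf_eq P (le_top : (P : Subgroup G) ≤ ⊤) (le_top : L ≤ ⊤)
    (fun x _ => by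
      rw [Subgroup.normalizer_eq_top_iff.2 Subgroup.normalClosure_normal]; trivial)
  refine ⟨R, ?_⟩
  have hPB : (P : Subgroup G) ⊓ L = B :=
    le_antisymm hle (le_inf (hB.le.trans inf_le_left) Subgroup.le_normalClosure)
  rw [← hPB, ← hR, Subgroup.subgroupOf, Subgroup.comap_map_eq_self_of_injective L.subtype_injective]

theorem baumann_commutator {S T : Subgroup G} (hE : Setup p S T) :
    (⁅centerThompsonAOf S, S⁆ ⊓ zOf S).Normal ∨ (S ⊓ cen (centerThompsonAOf S)).Normal := by
  by_cases hZ : zOf S ≤ Subgroup.center G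
  · exact Or.inl (normal_of_le_center (inf_le_right.trans hZ))
  rcases baumann_cases hE hZ with h | ⟨-, W, hW, -, hXW, L, hL, hLT, hWL⟩
  · exact Or.inr h
  left
  refine normal_of_le_center (central_of_normal hE hL hLT ?_ (inf_le_right.trans inf_le_right))
  refine inf_le_left.trans (le_trans (Subgroup.commutator_le.2 fun x hx s hs => ?_) hWL)
  have hx' : x ∈ ((zOf S ⊔ W : Subgroup G) : Set G) := hXW hx
  rw [Subgroup.mul_normal] at hx'
  obtain ⟨z, hz, w, hw, rfl⟩ := hx'
  have h1 : ⁅z, s⁆ = 1 := commutatorElement_eq_one_iff_mul_comm.2 (hz.2 s hs).symm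
  have e : ⁅z * w, s⁆ = z * ⁅w, s⁆ * z⁻¹ * ⁅z, s⁆ := by simp only [commutatorElement_def]; group
  rw [e, h1, mul_one]
  refine hW.conj_mem _ ?_ z
  have e2 : ⁅w, s⁆ = w * (s * w⁻¹ * s⁻¹) := by simp only [commutatorElement_def]; group
  rw [e2]
  exact mul_mem hw (hW.conj_mem _ (inv_mem hw) s)

theorem baumann_power {S T : Subgroup G} (hE : Setup p S T) :
    (powerClosure p 1 (zOf S)).Normal ∨ (S ⊓ cen (centerThompsonAOf S)).Normal := by
  have hle : ∀ z ∈ zOf S, ∀ h : ∀ z ∈ zOf S, z ^ p ∈ Subgroup.center G, z ^ (p ^ 1) ∈ Subgroup.center G :=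
    fun z hz h => by rw [pow_one]; exact h z hz
  by_cases hZ : zOf S ≤ Subgroup.center G
  · refine Or.inl (normal_of_le_center ?_)
    rw [powerClosure, Subgroup.closure_le]
    rintro _ ⟨z, hz, rfl⟩
    exact pow_mem (hZ hz) _
  rcases baumann_cases hE hZ with h | ⟨hp, -⟩
  · exact Or.inr h
  refine Or.inl (normal_of_le_center ?_)
  rw [powerClosure, Subgroup.closure_le]
  rintro _ ⟨z, hz, rfl⟩
  exact hle z hz hp

end CfsgLib.LocalEven.Push
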