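import Mathlib
import Cfsg.Agent.Lib.Chars.Basic

/-!
# Blichfeldt's sixty degree theorem, two-sided

An element whose eigenvalues, after multiplication by a scalar, all have distance less than one
from the eigenvalue one, maps every translate of its fixed space to itself.
-/

set_option autoImplicit false
set_option linter.unusedSectionVars false
set_option linter.unusedSimpArgs false
set_option linter.style.haveILetI false

namespace CfsgLib.LocalEven.TwoSided

open scoped ComplexConjugate InnerProductSpace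

universe u

variable {G : Type u} [Group G] [Fintype G] {n : ℕ} (ρ : Representation ℂ G (Fin n → ℂ))

/-- The embedding carrying the averaged inner product. -/
noncomputable def emb : (Fin n → ℂ) →ₗ[ℂ] EuclideanSpace ℂ (G × Fin n) where
  toFun v := WithLp.toLp 2 fun q => ρ q.1 v q.2
  map_add' v w := by ext q; simp
  map_smul' c v := by ext q; simp

lemma emb_apply (v : Fin n → ℂ) (q : G × Fin n) : emb ρ v q = ρ q.1 v q.2 := rfl

lemma emb_injective : Function.Injective (emb ρ) := by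
  intro v w h
  funext i
  have := congrArg (fun f : EuclideanSpace ℂ (G × Fin n) => f (1, i)) h
  simpa [emb_apply] using this

lemma inner_emb (h : G) (v w : Fin n → ℂ) :
    ⟪emb ρ (ρ h v), emb ρ (ρ h w)⟫_ℂ = ⟪emb ρ v, emb ρ w⟫_ℂ := by
  rw [PiLp.inner_apply, PiLp.inner_apply]
  refine Fintype.sum_equiv ((Equiv.mulRight h).prodCongr (Equiv.refl (Fin n))) _ _ fun q => ?_
  simp [emb_apply, map_mul]

lemma norm_emb (h : G) (v : Fin n → ℂ) : ‖emb ρ (ρ h v)‖ = ‖emb ρ v‖ := by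
  rw [@norm_eq_sqrt_re_inner ℂ, @norm_eq_sqrt_re_inner ℂ, inner_emb]

/-- The subspace `W` lies within relative distance `r` of `W'`. -/
def Close (W W' : Submodule ℂ (Fin n → ℂ)) (r : ℝ) : Prop :=
  ∀ w ∈ W, ∃ v ∈ W', ‖emb ρ (w - v)‖ ≤ r * ‖emb ρ w‖

variable {ρ}

lemma Close.map {W W' : Submodule ℂ (Fin n → ℂ)} {r : ℝ} (hc : Close ρ W W' r) (h : G) :
    Close ρ (W.map (ρ h)) (W'.map (ρ h)) r := by
  rintro _ ⟨w, hw, rfl⟩
  obtain ⟨v, hv, hle⟩ := hc w hw
  refine ⟨ρ h v, ⟨v, hv, rfl⟩, ?_⟩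
  rwa [← map_sub (ρ h), norm_emb, norm_emb]

/-- Equal in the limit. -/
lemma le_of_close {W W' : Submodule ℂ (Fin n → ℂ)} {c : ℝ} (hc0 : 0 ≤ c) (hc1 : c < 1)
    (h : ∀ k : ℕ, ∃ m, k ≤ m ∧ Close ρ W W' (c ^ m)) : W ≤ W' := by
  intro w hw
  by_contra hw'
  set S := W'.map (emb ρ)
  have hnS : emb ρ w ∉ S := by
    rintro ⟨v, hv, hvw⟩
    exact hw' (emb_injective ρ hvw ▸ hv)
  set u := emb ρ w - S.starProjection (emb ρ w)
  have hu : 0 < ‖u‖ := by
    refine norm_pos_iff.2 fun h0 => hnS ?_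
    rw [sub_eq_zero.1 h0]
    exact Submodule.starProjection_apply_mem _ _
  have hmin : ∀ v ∈ W', ‖u‖ ≤ ‖emb ρ (w - v)‖ := by
    intro v hv
    show ‖emb ρ w - S.starProjection (emb ρ w)‖ ≤ _
    rw [Submodule.starProjection_minimal, map_sub]
    exact ciInf_le (f := fun x : S => ‖emb ρ w - x‖) ⟨0, by rintro _ ⟨x, rfl⟩; exact norm_nonneg _⟩
      ⟨emb ρ v, ⟨v, hv, rfl⟩⟩
  have hlim : Filter.Tendsto (fun k : ℕ => c ^ k * ‖emb ρ w‖) Filter.atTop (nhds 0) := by
    simpa using (tendsto_pow_atTop_nhds_zero_of_lt_one hc0 hc1).mul_const ‖emb ρ w‖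
  obtain ⟨k, hk⟩ := Filter.eventually_atTop.1 (hlim.eventually (Iio_mem_nhds hu))
  obtain ⟨m, hm, hcl⟩ := h k
  obtain ⟨v, hv, hle⟩ := hcl w hw
  have h5 : c ^ m * ‖emb ρ w‖ < ‖u‖ := hk m hm
  linarith [hmin v hv]

/-- An operator with orthogonal eigenvectors moves every vector by at most the largest distance of
an eigenvalue from one. -/
lemma norm_sub_le {A : (Fin n → ℂ) →ₗ[ℂ] (Fin n → ℂ)} {ι : Type*} [Fintype ι]
    (hA : ∀ v w, ⟪emb ρ (A v), emb ρ (A w)⟫_ℂ = ⟪emb ρ v, emb ρ w⟫_ℂ)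
    (b : Module.Basis ι ℂ (Fin n → ℂ)) (lam : ι → ℂ) (hb : ∀ i, A (b i) = lam i • b i)
    (hnorm : ∀ i, ‖lam i‖ = 1) {c : ℝ} (hc0 : 0 ≤ c) (hc : ∀ i, ‖lam i - 1‖ ≤ c) (v : Fin n → ℂ) :
    ‖emb ρ (A v - v)‖ ≤ c * ‖emb ρ v‖ := by
  classical
  set f : ι → EuclideanSpace ℂ (G × Fin n) := fun i => (b.repr v i) • emb ρ (b i) with hf
  have horth : ∀ i j, lam i ≠ lam j → ⟪f i, f j⟫_ℂ = 0 := by
    intro i j hne
    have h := hA (b i) (b j)
    rw [hb, hb, map_smul, map_smul, inner_smul_left, inner_smul_right, ← mul_assoc] at h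
    have h1 : (conj (lam i) * lam j - 1) * ⟪emb ρ (b i), emb ρ (b j)⟫_ℂ = 0 := by
      rw [sub_mul, one_mul, h, sub_self]
    rcases mul_eq_zero.1 h1 with h2 | h2
    · refine absurd ?_ hne
      have h3 : lam i * (conj (lam i) * lam j) = lam i := by rw [sub_eq_zero.1 h2, mul_one]
      rw [← mul_assoc, Complex.mul_conj, Complex.normSq_eq_norm_sq, hnorm] at h3
      simpa using h3.symm
    · simp [hf, inner_smul_left, inner_smul_right, h2]
  set S : Finset ℂ := Finset.univ.image lam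
  set g : ℂ → EuclideanSpace ℂ (G × Fin n) := fun l => ∑ i with lam i = l, f i with hg
  have hgorth : ∀ l l', l ≠ l' → ⟪g l, g l'⟫_ℂ = 0 := by
    intro l l' hne
    simp only [hg, sum_inner, inner_sum]
    refine Finset.sum_eq_zero fun i hi => Finset.sum_eq_zero fun j hj => horth _ _ ?_
    rw [(Finset.mem_filter.1 hi).2, (Finset.mem_filter.1 hj).2]
    exact hne
  have hv : emb ρ v = ∑ l ∈ S, g l := by
    rw [Finset.sum_fiberwise_of_maps_to (fun i _ => Finset.mem_image_of_mem lam (Finset.mem_univ i))]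
    conv_lhs => rw [← b.sum_repr v, map_sum]
    simp [hf]
  have hAv : emb ρ (A v - v) = ∑ l ∈ S, (l - 1) • g l := by
    have h1 : ∀ l, (l - 1) • g l = ∑ i with lam i = l, (lam i - 1) • f i := fun l => by
      rw [hg, Finset.smul_sum]
      exact Finset.sum_congr rfl fun i hi => by rw [(Finset.mem_filter.1 hi).2]
    simp only [h1]
    rw [Finset.sum_fiberwise_of_maps_to (fun i _ => Finset.mem_image_of_mem lam (Finset.mem_univ i))]
    conv_lhs => rw [← b.sum_repr v]
    rw [map_sum A, map_sub, map_sum, map_sum, ← Finset.sum_sub_distrib]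
    simp only [map_smul, hb]
    refine Finset.sum_congr rfl fun i _ => ?_
    simp only [hf, smul_smul, ← sub_smul]
    congr 1
    ring
  have pyth : ∀ x : ℂ → EuclideanSpace ℂ (G × Fin n), (∀ l l', l ≠ l' → ⟪x l, x l'⟫_ℂ = 0) →
      ∀ T : Finset ℂ, ‖∑ l ∈ T, x l‖ ^ 2 = ∑ l ∈ T, ‖x l‖ ^ 2 := by
    intro x hx T
    induction T using Finset.induction_on with
    | empty => simp
    | insert l T hl ih =>
      rw [Finset.sum_insert hl, Finset.sum_insert hl, ← ih, sq, sq, sq]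
      refine norm_add_sq_eq_norm_sq_add_norm_sq_of_inner_eq_zero (𝕜 := ℂ) _ _ ?_
      rw [inner_sum]
      exact Finset.sum_eq_zero fun l' hl' => hx l l' fun e => hl (e ▸ hl')
  have hsq : ‖emb ρ (A v - v)‖ ^ 2 ≤ (c * ‖emb ρ v‖) ^ 2 := by
    rw [hAv, mul_pow, hv, pyth g hgorth, pyth (fun l => (l - 1) • g l) (fun l l' hne => by
      rw [inner_smul_left, inner_smul_right, hgorth l l' hne, mul_zero, mul_zero]), Finset.mul_sum]
    refine Finset.sum_le_sum fun l hl => ?_
    obtain ⟨i, -, rfl⟩ := Finset.mem_image.1 hl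
    rw [norm_smul, mul_pow]
    exact mul_le_mul_of_nonneg_right (pow_le_pow_left₀ (norm_nonneg _) (hc i) 2) (sq_nonneg _)
  exact le_of_sq_le_sq hsq (mul_nonneg hc0 (norm_nonneg _))

/-- The main step: translates of the fixed space are invariant. -/
theorem map_translate_eq {ρ : Representation ℂ G (Fin n → ℂ)} (a : G) (ω : ℂ) (hω : ‖ω‖ = 1) {ι : Type*} [Fintype ι]
    (b : Module.Basis ι ℂ (Fin n → ℂ)) (μ : ι → ℂ) (hb : ∀ i, ρ a (b i) = μ i • b i)
    (hμ : ∀ i, ‖μ i‖ = 1) {c : ℝ} (hc0 : 0 ≤ c) (hc1 : c < 1) (hc : ∀ i, ‖ω * μ i - 1‖ ≤ c) (g : G) :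
    ((LinearMap.ker (ω • ρ a - 1)).map (ρ g)).map (ρ a) = (LinearMap.ker (ω • ρ a - 1)).map (ρ g) := by
  classical
  have hω0 : ω ≠ 0 := fun h => by simp [h] at hω
  set A : (Fin n → ℂ) →ₗ[ℂ] (Fin n → ℂ) := ω • ρ a with hA
  set V1 := LinearMap.ker (A - 1) with hV1
  have hmapA : ∀ W : Submodule ℂ (Fin n → ℂ), W.map A = W.map (ρ a) := fun W =>
    Submodule.map_smul (ρ a) W ω hω0
  have hfix : ∀ v ∈ V1, A v = v := fun v hv => by
    simpa [hV1, sub_eq_zero] using hv
  have hiso : ∀ v w, ⟪emb ρ (A v), emb ρ (A w)⟫_ℂ = ⟪emb ρ v, emb ρ w⟫_ℂ := by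
    intro v w
    simp only [hA, LinearMap.smul_apply, map_smul, inner_smul_left, inner_smul_right, inner_emb]
    rw [← mul_assoc, Complex.mul_conj, Complex.normSq_eq_norm_sq, hω]
    simp
  have hbound := norm_sub_le hiso b (fun i => ω * μ i)
    (fun i => by simp [hA, hb, smul_smul]) (fun i => by simp [hω, hμ i]) hc0 hc
  set O : G → Submodule ℂ (Fin n → ℂ) := fun g => V1.map (ρ g) with hO
  have hOmap : ∀ g h : G, (O g).map (ρ h) = O (h * g) := fun g h => by
    rw [hO]
    simp only [← Submodule.map_comp]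
    congr 1
    rw [map_mul]
    rfl
  have hOone : O 1 = V1 := by simp [hO, Module.End.one_eq_id]
  have hstep : ∀ (g : G) (r : ℝ), Close ρ (O g) V1 r → Close ρ (O g) (O (a * g)) (c * r) := by
    intro g r hcl w hw
    obtain ⟨v, hv, hle⟩ := hcl w hw
    refine ⟨A w, ?_, ?_⟩
    · rw [← hOmap, ← hmapA]
      exact ⟨w, hw, rfl⟩
    · have e : w - A w = -(A (w - v) - (w - v)) := by
        rw [map_sub, hfix v hv]; abel
      rw [e, map_neg, norm_neg, mul_assoc]
      exact (hbound _).trans (mul_le_mul_of_nonneg_left hle hc0)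
  -- an invariant translate which is close to the fixed space is equal to it
  have hinv : ∀ (g : G) (r : ℝ), r < 1 → Close ρ (O g) V1 r → O (a * g) = O g → O g = V1 := by
    intro g r hr hcl heq
    have hfr : Module.finrank ℂ (O g) = Module.finrank ℂ V1 := by
      refine (Submodule.equivMapOfInjective (ρ g) ?_ V1).finrank_eq.symm
      exact fun x y h => by simpa using congrArg (ρ g⁻¹) h
    by_contra hne
    obtain ⟨w, hw, hw1⟩ := SetLike.not_le_iff_exists.1 fun hle : O g ≤ V1 =>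
      hne (Submodule.eq_of_le_of_finrank_eq hle hfr)
    set u := A w - w with hu
    have hu0 : u ≠ 0 := fun h => hw1 (by simp [hV1, ← hu, h])
    have huW : u ∈ O g := by
      refine sub_mem ?_ hw
      rw [← heq, ← hOmap, ← hmapA]
      exact ⟨w, hw, rfl⟩
    obtain ⟨v, hv, hle⟩ := hcl u huW
    have horth : ⟪emb ρ u, emb ρ (-v)⟫_ℂ = 0 := by
      have h := hiso w (-v)
      rw [map_neg A, hfix v hv] at h
      rw [hu, map_sub, inner_sub_left, h, sub_self]
    have h1 := norm_add_sq_eq_norm_sq_add_norm_sq_of_inner_eq_zero _ _ horth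
    rw [← map_add, ← sub_eq_add_neg] at h1
    have h2 : ‖emb ρ u‖ ≤ ‖emb ρ (u - v)‖ := by
      nlinarith [norm_nonneg (emb ρ (u - v)), norm_nonneg (emb ρ u), mul_self_nonneg ‖emb ρ (-v)‖]
    have h3 : 0 < ‖emb ρ u‖ :=
      norm_pos_iff.2 fun h => hu0 (emb_injective ρ (h.trans (map_zero _).symm))
    nlinarith
  have hbase : ∀ g h : G, Close ρ (O g) (O h) 1 := fun g h w _ => ⟨0, zero_mem _, by simp⟩
  show (O g).map (ρ a) = O g
  rw [hOmap]
  by_contra hne
  -- distinct translates arbitrarily close to the fixed space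
  have hall : ∀ k : ℕ, ∃ h : G, O h ≠ V1 ∧ Close ρ (O h) V1 (c ^ (k + 1)) := by
    have next' : ∀ (g : G) (r : ℝ), O (a * g) ≠ O g → Close ρ (O g) (O (a * g)) r →
        O ((a * g)⁻¹ * g) ≠ V1 ∧ Close ρ (O ((a * g)⁻¹ * g)) V1 r := by
      intro g r hne hcl
      constructor
      · intro h
        apply hne
        have h' := congrArg (fun W : Submodule ℂ (Fin n → ℂ) => W.map (ρ (a * g))) h
        rw [hOmap, mul_inv_cancel_left, ← hOone, hOmap, mul_one] at h'
        exact h'.symm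
      · have h' := hcl.map (a * g)⁻¹
        rwa [hOmap, hOmap, inv_mul_cancel, hOone] at h'
    intro k
    induction k with
    | zero =>
      exact ⟨_, next' g _ hne (by simpa using hstep g 1 (hOone ▸ hbase g 1))⟩
    | succ k ih =>
      obtain ⟨h, hh, hcl⟩ := ih
      refine ⟨_, next' h _ (fun e => hh (hinv h _ ?_ hcl e)) (by rw [pow_succ']; exact hstep h _ hcl)⟩
      exact pow_lt_one₀ hc0 hc1 k.succ_ne_zero
  choose h hh hcl using hall
  obtain ⟨g0, hg0⟩ := Finite.exists_infinite_fiber h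
  have hinf : (h ⁻¹' {g0}).Infinite := Set.infinite_coe_iff.1 hg0
  have hle : O g0 ≤ V1 := by
    refine le_of_close (ρ := ρ) hc0 hc1 fun k => ?_
    obtain ⟨m, hm, hkm⟩ := hinf.exists_gt k
    refine ⟨m + 1, by omega, ?_⟩
    rw [← show h m = g0 from hm]
    exact hcl m
  obtain ⟨m, hm⟩ := hinf.nonempty
  refine hh m ?_
  rw [show h m = g0 from hm]
  refine Submodule.eq_of_le_of_finrank_eq hle ?_
  refine (Submodule.equivMapOfInjective (ρ g0) ?_ V1).finrank_eq.symm
  exact fun x y h => by simpa using congrArg (ρ g0⁻¹) h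

/-- In a simple group no non-trivial element has its eigenvalues within sixty degrees on both sides
of one of them. -/
theorem eq_one_of_near [IsSimpleGroup G] (hnc : ¬ IsMulCommutative G)
    [Representation.IsIrreducible ρ] (hρ : Function.Injective ρ) {a : G} (ω : ℂ) (hω : ‖ω‖ = 1)
    {ι : Type*} [Fintype ι] (b : Module.Basis ι ℂ (Fin n → ℂ)) (μ : ι → ℂ)
    (hb : ∀ i, ρ a (b i) = μ i • b i) (hμ : ∀ i, ‖μ i‖ = 1) (hc : ∀ i, ‖ω * μ i - 1‖ < 1)
    {i0 : ι} (hi0 : ω * μ i0 = 1) : a = 1 := by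
  classical
  haveI : Nonempty ι := ⟨i0⟩
  set c := Finset.univ.sup' Finset.univ_nonempty (fun i => ‖ω * μ i - 1‖) with hcdef
  have hc1 : c < 1 := (Finset.sup'_lt_iff _).2 fun i _ => hc i
  have hcle : ∀ i, ‖ω * μ i - 1‖ ≤ c := fun i =>
    Finset.le_sup' (fun i => ‖ω * μ i - 1‖) (Finset.mem_univ i)
  have hc0 : 0 ≤ c := (norm_nonneg _).trans (hcle i0)
  set V1 := LinearMap.ker (ω • ρ a - 1) with hV1
  have hinv := map_translate_eq a ω hω b μ hb hμ hc0 hc1 hcle
  let K : Subgroup G :=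
    { carrier := {h | ∀ g : G, (V1.map (ρ g)).map (ρ h) = V1.map (ρ g)}
      one_mem' := fun g => by simp [Module.End.one_eq_id]
      mul_mem' := fun {x y} hx hy g => by
        rw [map_mul, Module.End.mul_eq_comp, Submodule.map_comp, hy, hx]
      inv_mem' := fun {x} hx g => by
        conv_lhs => rw [← hx g]
        rw [← Submodule.map_comp, ← Module.End.mul_eq_comp, ← map_mul, inv_mul_cancel, map_one,
          Module.End.one_eq_id, Submodule.map_id] }
  have hKn : K.Normal := ⟨fun x hx k g => by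
    have h1 : V1.map (ρ g) = (V1.map (ρ (k⁻¹ * g))).map (ρ k) := by
      rw [← Submodule.map_comp, ← Module.End.mul_eq_comp, ← map_mul, mul_inv_cancel_left]
    conv_lhs => rw [h1, ← Submodule.map_comp, ← Module.End.mul_eq_comp, ← map_mul]
    rw [show k * x * k⁻¹ * k = k * x by group, map_mul, Module.End.mul_eq_comp,
      Submodule.map_comp, hx, ← h1]⟩
  by_contra ha
  rcases hKn.eq_bot_or_eq_top with hK | hK
  · exact ha ((Subgroup.mem_bot).1 (hK ▸ (hinv : a ∈ K)))
  have hGinv : ∀ h : G, ∀ v ∈ V1, ρ h v ∈ V1 := fun h v hv => by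
    have h1 := (hK ▸ Subgroup.mem_top h : h ∈ K) 1
    simp only [map_one, Module.End.one_eq_id, Submodule.map_id] at h1
    rw [← h1]
    exact ⟨v, hv, rfl⟩
  have hbot : (⟨V1, fun g v hv => hGinv g v hv⟩ : Subrepresentation ρ) ≠ ⊥ := by
    intro h
    have h1 : b i0 ∈ V1 := by simp [hV1, hb, smul_smul, hi0]
    have h2 : b i0 ∈ (⊥ : Subrepresentation ρ) := h ▸ h1
    exact b.ne_zero i0 ((Submodule.mem_bot ℂ).1 h2)
  have htop := (eq_bot_or_eq_top (⟨V1, fun g v hv => hGinv g v hv⟩ : Subrepresentation ρ)).resolve_left hbot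
  have hscal : ∀ v, ω • ρ a v = v := fun v => by
    have h1 : v ∈ (⟨V1, fun g v hv => hGinv g v hv⟩ : Subrepresentation ρ) := htop ▸ Submodule.mem_top
    have h2 : v ∈ V1 := h1
    simpa [hV1, sub_eq_zero] using h2
  have hcen : a ∈ Subgroup.center G := Subgroup.mem_center_iff.2 fun g => hρ (LinearMap.ext fun v => by
    have hω0 : ω ≠ 0 := fun h => by simp [h] at hω
    apply smul_right_injective (Fin n → ℂ) hω0
    simp only [map_mul, Module.End.mul_apply]
    rw [hscal (ρ g v), ← map_smul, hscal v])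
  rcases (inferInstance : (Subgroup.center G).Normal).eq_bot_or_eq_top with hZ | hZ
  · exact ha (Subgroup.mem_bot.1 (hZ ▸ hcen))
  · exact hnc ⟨⟨fun x y => (Subgroup.mem_center_iff.1 (hZ ▸ Subgroup.mem_top y) x)⟩⟩

end CfsgLib.LocalEven.TwoSided
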