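import Cfsg.Agent.Lib.LocalEven.PReduced

/-!
`Y_L`, `Z_L` and a parabolic subgroup `L` of characteristic `p`.
-/

namespace CfsgLib.LocalEven

variable {G : Type*} [Group G] {p : ℕ}

theorem exists_sylow_inf_eq [Finite G] [Fact p.Prime] (T : Sylow p G) {N C : Subgroup G}
    (hTN : (T : Subgroup G) ≤ N) (hCN : C ≤ N) (hC : N ≤ Subgroup.normalizer (C : Set G)) :
    ∃ P : Sylow p C, (P : Subgroup C).map C.subtype = (T : Subgroup G) ⊓ C := by
  obtain ⟨P, hP⟩ := (T.isPGroup'.to_le (inf_le_left :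
    (T : Subgroup G) ⊓ C ≤ T)).comap_subtype (K := C) |>.exists_le_sylow
  refine ⟨P, ?_⟩
  set PG := (P : Subgroup C).map C.subtype with hPG
  have hle : (T : Subgroup G) ⊓ C ≤ PG := fun x hx => ⟨⟨x, hx.2⟩, hP hx, rfl⟩
  have hPC : PG ≤ C := Subgroup.map_subtype_le _
  -- move `PG` into `T` inside `N`
  obtain ⟨R, hR⟩ := ((P.isPGroup'.map C.subtype).comap_subtype (K := N)).exists_le_sylow
  obtain ⟨n, hn⟩ := MulAction.exists_smul_eq N (T.subtype hTN) R
  have hsub : PG ≤ ((T : Subgroup G) ⊓ C).map (MulAut.conj (n : G)).toMonoidHom := by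
    intro x hx
    have h1 : (⟨x, hCN (hPC hx)⟩ : N) ∈ (R : Subgroup N) := hR hx
    rw [← hn, Sylow.coe_subgroup_smul, Subgroup.mem_pointwise_smul_iff_inv_smul_mem] at h1
    have h2 : (n : G)⁻¹ * x * n ∈ (T : Subgroup G) := by
      simpa [MulAut.smul_def, Sylow.coe_subtype, Subgroup.mem_subgroupOf] using h1
    refine ⟨(n : G)⁻¹ * x * n, ⟨h2, ?_⟩, by simp [mul_assoc]⟩
    have := (Subgroup.mem_normalizer_iff.1 (hC (N.inv_mem n.2)) x).1 (hPC hx)
    simpa using this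
  refine (Subgroup.eq_of_le_of_card_ge hle ?_).symm
  calc Nat.card PG ≤ Nat.card (((T : Subgroup G) ⊓ C).map (MulAut.conj (n : G)).toMonoidHom) :=
        Subgroup.card_le_of_le hsub
    _ = _ := Nat.card_congr (Subgroup.equivMapOfInjective _ _ (MulAut.conj _).injective).toEquiv.symm

/-- Frattini argument in an ambient group. -/
theorem exists_frattini_factor [Finite G] [Fact p.Prime] (T : Sylow p G) {N C : Subgroup G}
    (hTN : (T : Subgroup G) ≤ N) (hCN : C ≤ N) (hC : N ≤ Subgroup.normalizer (C : Set G)) {g : G}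
    (hg : g ∈ N) :
    ∃ a ∈ N ⊓ Subgroup.normalizer (((T : Subgroup G) ⊓ C : Subgroup G) : Set G),
      ∃ c ∈ C, g = a * c := by
  obtain ⟨P, hP⟩ := exists_sylow_inf_eq T hTN hCN hC
  obtain ⟨P', hP'⟩ : ∃ P' : Sylow p C, (P' : Subgroup C).map C.subtype =
      ((T : Subgroup G) ⊓ C).map (MulAut.conj g).toMonoidHom := by
    have hgT : ((g • T : Sylow p G) : Subgroup G) ≤ N := by
      intro x hx
      rw [Sylow.coe_subgroup_smul, Subgroup.mem_pointwise_smul_iff_inv_smul_mem] at hx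
      have h2 : g⁻¹ * x * g ∈ N := hTN (by simpa [MulAut.smul_def] using hx)
      have := N.mul_mem (N.mul_mem hg h2) (N.inv_mem hg)
      simpa [mul_assoc] using this
    obtain ⟨P', hP'⟩ := exists_sylow_inf_eq (g • T) (N := N) hgT hCN hC
    refine ⟨P', hP'.trans ?_⟩
    rw [Subgroup.map_inf _ _ _ (MulAut.conj g).injective,
      conj_map_eq_of_mem_normalizer (hC hg)]
    rfl
  obtain ⟨c, hc⟩ := MulAction.exists_smul_eq C P P'
  have hconj : ((T : Subgroup G) ⊓ C).map (MulAut.conj (c : G)).toMonoidHom =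
      ((T : Subgroup G) ⊓ C).map (MulAut.conj g).toMonoidHom := by
    rw [← hP', ← hc, ← hP, Sylow.coe_subgroup_smul]
    ext x
    constructor
    · rintro ⟨_, ⟨y, hy, rfl⟩, rfl⟩
      exact ⟨c * y * c⁻¹, ⟨y, hy, by simp [MulAut.smul_def]⟩, by simp⟩
    · rintro ⟨_, ⟨y, hy, rfl⟩, rfl⟩
      exact ⟨(y : G), ⟨y, hy, rfl⟩, by simp [MulAut.smul_def]⟩
  have ha : (c : G)⁻¹ * g ∈ Subgroup.normalizer (((T : Subgroup G) ⊓ C : Subgroup G) : Set G) := by
    apply mem_normalizer_of_conj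
    rw [show (MulAut.conj ((c : G)⁻¹ * g)).toMonoidHom
        = (MulAut.conj (c : G)⁻¹).toMonoidHom.comp (MulAut.conj g).toMonoidHom by
          ext x; simp [mul_assoc], ← Subgroup.map_map, ← hconj, Subgroup.map_map]
    rw [show (MulAut.conj (c : G)⁻¹).toMonoidHom.comp (MulAut.conj (c : G)).toMonoidHom
        = MonoidHom.id G by ext x; simp [mul_assoc], Subgroup.map_id]
  refine ⟨(c : G)⁻¹ * g, ⟨N.mul_mem (N.inv_mem (hCN c.2)) hg, ha⟩, g⁻¹ * c * g, ?_, by group⟩
  have := (Subgroup.mem_normalizer_iff.1 (hC (N.inv_mem hg)) (c : G)).1 c.2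
  simpa using this

theorem map_center_inf (H : Subgroup G) {G' : Type*} [Group G'] (f : G →* G')
    (hf : Function.Injective f) :
    (H ⊓ Subgroup.centralizer (H : Set G)).map f =
      H.map f ⊓ Subgroup.centralizer ((H.map f : Subgroup G') : Set G') := by
  ext y
  constructor
  · rintro ⟨x, ⟨hx, hxc⟩, rfl⟩
    refine ⟨⟨x, hx, rfl⟩, ?_⟩
    rintro _ ⟨z, hz, rfl⟩
    rw [← map_mul, ← map_mul, hxc z hz]
  · rintro ⟨⟨x, hx, rfl⟩, hc⟩
    refine ⟨x, ⟨hx, fun z hz => hf ?_⟩, rfl⟩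
    rw [map_mul, map_mul]; exact hc _ ⟨z, hz, rfl⟩

theorem map_omegaOne (p : ℕ) (H : Subgroup G) {G' : Type*} [Group G'] (f : G →* G')
    (hf : Function.Injective f) : (Cfsg.omegaOne p H).map f = Cfsg.omegaOne p (H.map f) := by
  rw [Cfsg.omegaOne, Cfsg.omegaOne, MonoidHom.map_closure]
  congr 1
  ext y
  constructor
  · rintro ⟨x, ⟨hx, hxp⟩, rfl⟩
    exact ⟨⟨x, hx, rfl⟩, by rw [← map_pow, hxp, map_one]⟩
  · rintro ⟨⟨x, hx, rfl⟩, hp⟩
    exact ⟨x, ⟨hx, hf (by rw [map_pow, hp, map_one])⟩, rfl⟩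

theorem omegaCenter_sylow_le [Fact p.Prime] {L : Subgroup G} [Finite L]
    (hL : Subgroup.centralizer (Cfsg.pCore p L : Set L) ≤ Cfsg.pCore p L) (S : Sylow p L) :
    Cfsg.omegaOne p (((S : Subgroup L).map L.subtype) ⊓
        Subgroup.centralizer (((S : Subgroup L).map L.subtype : Subgroup G) : Set G))
      ≤ Cfsg.omegaOne p (Cfsg.pCoreOf p L ⊓
        Subgroup.centralizer (Cfsg.pCoreOf p L : Set G)) := by
  set SG := (S : Subgroup L).map L.subtype
  have hOS : Cfsg.pCoreOf p L ≤ SG := Subgroup.map_mono (pCore_le_sylow S)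
  refine Subgroup.closure_le _ |>.2 fun x hx => Subgroup.subset_closure ⟨⟨?_, ?_⟩, hx.2⟩
  · exact (charP_iff L).1 hL
      ⟨Subgroup.map_subtype_le _ hx.1.1, Subgroup.centralizer_le hOS hx.1.2⟩
  · exact Subgroup.centralizer_le hOS hx.1.2

theorem conj_sylow_map {L : Subgroup G} (S : Sylow p L) (g : L) :
    ((S : Subgroup L).map L.subtype).map (MulAut.conj (g : G)).toMonoidHom =
      ((g • S : Sylow p L) : Subgroup L).map L.subtype := by
  rw [Sylow.coe_subgroup_smul, Subgroup.map_map]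
  ext x
  constructor
  · rintro ⟨y, hy, rfl⟩
    exact ⟨g * y * g⁻¹, ⟨y, hy, by simp [MulAut.smul_def]⟩, by simp⟩
  · rintro ⟨_, ⟨y, hy, rfl⟩, rfl⟩
    exact ⟨y, hy, by simp [MulAut.smul_def]⟩

theorem le_normalizer_sylowCenterClosure (L : Subgroup G) :
    L ≤ Subgroup.normalizer (Cfsg.sylowCenterClosure p L : Set G) := by
  have key : ∀ g ∈ L,
      (Cfsg.sylowCenterClosure p L).map (MulAut.conj g).toMonoidHom ≤ Cfsg.sylowCenterClosure p L := by
    intro g hg
    rw [Cfsg.sylowCenterClosure, Subgroup.map_iSup]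
    refine iSup_le fun S => le_iSup_of_le ((⟨g, hg⟩ : L) • S) ?_
    rw [map_omegaOne p _ _ (MulAut.conj g).injective, map_center_inf _ _ (MulAut.conj g).injective,
      ← conj_sylow_map]
  intro g hg
  rw [Subgroup.mem_normalizer_iff]
  refine fun x => ⟨fun hx => key g hg ⟨x, hx, rfl⟩, fun hx => ?_⟩
  have := key g⁻¹ (L.inv_mem hg) ⟨_, hx, rfl⟩
  simpa [mul_assoc] using this

theorem isPRedIn_sylowCenterClosure [Finite G] [Fact p.Prime] {L : Subgroup G}
    (hL : Subgroup.centralizer (Cfsg.pCore p L : Set L) ≤ Cfsg.pCore p L) :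
    IsPRedIn p (Cfsg.sylowCenterClosure p L) L := by
  have hle : Cfsg.sylowCenterClosure p L ≤ Cfsg.omegaOne p (Cfsg.pCoreOf p L ⊓
      Subgroup.centralizer (Cfsg.pCoreOf p L : Set G)) := iSup_le fun S => omegaCenter_sylow_le hL S
  refine ⟨hle.trans ((omegaOne_le p _).trans (inf_le_left.trans (pCoreOf_le p L))),
    le_normalizer_sylowCenterClosure L,
    elemAbelian_mono (elemAbelian_omegaOne_center p _) hle, fun D hDL hDn hD => ?_⟩
  rw [Subgroup.le_centralizer_iff]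
  refine iSup_le fun S => ?_
  rw [Subgroup.le_centralizer_iff]
  intro d hd
  obtain ⟨s, hs, c, hc, rfl⟩ := exists_sylow_mul_centralizer (le_normalizer_sylowCenterClosure L)
    hDL hDn hD S hd
  refine Subgroup.mul_mem _ ?_ (Subgroup.centralizer_le ?_ hc.2)
  · intro y hy
    exact ((omegaOne_le p _ hy).2 s hs).symm
  · exact SetLike.coe_subset_coe.2 (le_iSup_of_le S le_rfl)

end CfsgLib.LocalEven
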