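import Mathlib
import Cfsg.Prelude.Def_LocalEven

/-!
A four-group with an element permuting its involutions cyclically and an element exchanging two
of them gives a section isomorphic to the symmetric group of degree four.
-/

set_option autoImplicit false

namespace CfsgLib.LocalEven

open Equiv

universe u

variable {G : Type u} [Group G]

/-- The four-group on two commuting involutions. -/
def fourGroup (e f : G) (he : e * e = 1) (hf : f * f = 1) (hef : f * e = e * f) : Subgroup G where
  carrier := {1, e, f, e * f}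
  one_mem' := Or.inl rfl
  inv_mem' := by
    rintro a (rfl | rfl | rfl | rfl)
    · simp
    · exact Or.inr (Or.inl (inv_eq_of_mul_eq_one_right he))
    · exact Or.inr (Or.inr (Or.inl (inv_eq_of_mul_eq_one_right hf)))
    · refine Or.inr (Or.inr (Or.inr (inv_eq_of_mul_eq_one_right ?_)))
      rw [mul_assoc, ← mul_assoc f, hef, mul_assoc, hf, mul_one, he]
  mul_mem' := by
    have hee : ∀ x : G, e * (e * x) = x := fun x => by rw [← mul_assoc, he, one_mul]
    have hff : ∀ x : G, f * (f * x) = x := fun x => by rw [← mul_assoc, hf, one_mul]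
    have hfe : ∀ x : G, f * (e * x) = e * (f * x) := fun x => by rw [← mul_assoc, hef, mul_assoc]
    rintro a b (rfl | rfl | rfl | rfl) (rfl | rfl | rfl | rfl) <;>
      simp [Set.mem_insert_iff, he, hf, hef, hee, hff, hfe, mul_assoc]

variable [Finite G]

theorem mem_normalizer_of_conj_mem {H : Subgroup G} {g : G}
    (h : ∀ x ∈ H, g * x * g⁻¹ ∈ H) : g ∈ Subgroup.normalizer (H : Set G) := by
  have hmap : H.map (MulAut.conj g).toMonoidHom = H := by
    refine Subgroup.eq_of_le_of_card_ge ?_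
      (le_of_eq (Subgroup.card_map_of_injective (MulAut.conj g).injective).symm)
    rintro _ ⟨x, hx, rfl⟩
    exact h x hx
  rw [Subgroup.mem_normalizer_iff]
  refine fun x => ⟨h x, fun hx => ?_⟩
  obtain ⟨y, hy, e⟩ := hmap.ge hx
  have hyx : y = x := (MulAut.conj g).injective e
  exact hyx ▸ hy

omit [Finite G] in
theorem involves_of_surjective {E : Subgroup G} {H : Type} [Group H] (f : E →* H)
    (hf : Function.Surjective f) : Cfsg.Involves H G := by
  have h : (f.ker.map E.subtype).subgroupOf E = f.ker := by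
    rw [Subgroup.subgroupOf, Subgroup.comap_map_eq_self_of_injective E.subtype_injective]
  have hn : ((f.ker.map E.subtype).subgroupOf E).Normal := by rw [h]; infer_instance
  exact ⟨E, f.ker.map E.subtype, hn,
    ⟨(QuotientGroup.quotientMulEquivOfEq h).trans
      (QuotientGroup.quotientKerEquivOfSurjective f hf)⟩⟩

/-- A four-group in which the full automorphism group is induced splits off a section `S₄`. -/
theorem involves_perm_four {e f k b : G} (he : e * e = 1) (hf : f * f = 1) (hef : f * e = e * f)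
    (he1 : e ≠ 1) (hf1 : f ≠ 1) (hne : e ≠ f) (hke : k * e * k⁻¹ = f)
    (hkf : k * f * k⁻¹ = e * f) (hbe : b * e * b⁻¹ = e) (hbf : b * f * b⁻¹ = e * f) :
    Cfsg.Involves (Perm (Fin 4)) G := by
  classical
  set U := fourGroup e f he hf hef with hU
  have hmem : ∀ x : G, x ∈ U ↔ x = 1 ∨ x = e ∨ x = f ∨ x = e * f := fun x => Iff.rfl
  have h3 : e * f ≠ e := fun h => hf1 (mul_eq_left.1 h)
  have h4 : e * f ≠ f := fun h => he1 (mul_eq_right.1 h)
  have h5 : e * f ≠ 1 := fun h => hne (by
    have : e = f⁻¹ := eq_inv_of_mul_eq_one_left h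
    rwa [inv_eq_of_mul_eq_one_right hf] at this)
  have hkef : k * (e * f) * k⁻¹ = e := by
    rw [show k * (e * f) * k⁻¹ = (k * e * k⁻¹) * (k * f * k⁻¹) by group, hke, hkf,
      ← mul_assoc, hef, mul_assoc, hf, mul_one]
  have hbef : b * (e * f) * b⁻¹ = f := by
    rw [show b * (e * f) * b⁻¹ = (b * e * b⁻¹) * (b * f * b⁻¹) by group, hbe, hbf,
      ← mul_assoc, he, one_mul]
  have heU : e ∈ U := Or.inr (Or.inl rfl)
  have hfU : f ∈ U := Or.inr (Or.inr (Or.inl rfl))
  have hefU : e * f ∈ U := Or.inr (Or.inr (Or.inr rfl))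
  have hkN : k ∈ Subgroup.normalizer (U : Set G) := mem_normalizer_of_conj_mem fun x hx => by
    rcases (hmem x).1 hx with rfl | rfl | rfl | rfl
    · simp
    · rw [hke]; exact hfU
    · rw [hkf]; exact hefU
    · rw [hkef]; exact heU
  have hbN : b ∈ Subgroup.normalizer (U : Set G) := mem_normalizer_of_conj_mem fun x hx => by
    rcases (hmem x).1 hx with rfl | rfl | rfl | rfl
    · simp
    · rw [hbe]; exact heU
    · rw [hbf]; exact hefU
    · rw [hbef]; exact hfU
  set φ : Subgroup.normalizer (U : Set G) →* MulAut U := Subgroup.normalizerMonoidHom U with hφdef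
  have hφ : ∀ (g : Subgroup.normalizer (U : Set G)) (u : U),
      ((φ g u : U) : G) = (g : G) * u * (g : G)⁻¹ := fun g u => rfl
  set kk : Subgroup.normalizer (U : Set G) := ⟨k, hkN⟩
  set bb : Subgroup.normalizer (U : Set G) := ⟨b, hbN⟩
  have hk3 : φ kk ^ 3 = 1 := by
    ext ⟨x, hx⟩
    simp only [pow_succ, pow_zero, one_mul, MulAut.mul_apply, MulAut.one_apply, hφ]
    change k * (k * (k * x * k⁻¹) * k⁻¹) * k⁻¹ = x
    rcases (hmem x).1 hx with rfl | rfl | rfl | rfl
    · simp
    · rw [hke, hkf, hkef]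
    · rw [hkf, hkef, hke]
    · rw [hkef, hke, hkf]
  have hfix : ∀ u : U, φ kk u = u → u = 1 := by
    rintro ⟨x, hx⟩ h
    have h' : k * x * k⁻¹ = x := congrArg Subtype.val h
    rcases (hmem x).1 hx with rfl | rfl | rfl | rfl
    · rfl
    · exact absurd (hke.symm.trans h').symm hne
    · exact absurd (hkf.symm.trans h') h4
    · exact absurd (hkef.symm.trans h').symm h3
  have hk1 : φ kk ≠ 1 := fun h => he1 (congrArg Subtype.val (hfix ⟨e, heU⟩ (by rw [h]; rfl)))
  have : Fact (Nat.Prime 3) := ⟨Nat.prime_three⟩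
  have : Fact (Nat.Prime 2) := ⟨Nat.prime_two⟩
  have hkord : orderOf (φ kk) = 3 := orderOf_eq_prime hk3 hk1
  -- the parity of the action
  let _ : Fintype U := Fintype.ofFinite U
  set sg : Subgroup.normalizer (U : Set G) →* ℤˣ :=
    Perm.sign.comp ((MulAut.toPerm U).comp φ) with hsg
  have hsb : sg bb = -1 := by
    have : MulAut.toPerm U (φ bb) = Equiv.swap ⟨f, hfU⟩ ⟨e * f, hefU⟩ := by
      ext ⟨x, hx⟩
      change b * x * b⁻¹ = _
      rcases (hmem x).1 hx with rfl | rfl | rfl | rfl
      · rw [Equiv.swap_apply_of_ne_of_ne] <;> simp [hf1.symm, h5.symm]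
      · rw [Equiv.swap_apply_of_ne_of_ne (by simpa using hne) (by simpa using h3.symm)]
        exact hbe
      · rw [Equiv.swap_apply_left]; exact hbf
      · rw [Equiv.swap_apply_right]; exact hbef
    change Perm.sign (MulAut.toPerm U (φ bb)) = -1
    rw [this, Perm.sign_swap]
    simpa using h4.symm
  have hsk : sg kk = 1 := by
    have h : sg kk ^ 3 = 1 := by
      rw [← map_pow]
      change Perm.sign (MulAut.toPerm U (φ (kk ^ 3))) = 1
      rw [map_pow φ, hk3, map_one, map_one]
    rcases Int.units_eq_one_or (sg kk) with h' | h'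
    · exact h'
    · rw [h'] at h; exact absurd h (by decide)
  -- a Sylow `3`-subgroup of the even part
  obtain ⟨a, m, hm, hord⟩ := Nat.exists_eq_pow_mul_and_not_dvd (orderOf_pos kk).ne' 3 (by norm_num)
  set k₃ := kk ^ m with hk₃
  have hk₃p : IsPGroup 3 (Subgroup.zpowers k₃) := by
    refine IsPGroup.iff_card.2 ⟨a, ?_⟩
    rw [Nat.card_zpowers, hk₃, orderOf_pow_of_dvd (fun h => hm (by rw [h]; exact dvd_zero 3))
      (hord ▸ dvd_mul_left m _), hord, Nat.mul_div_cancel _ (Nat.pos_of_ne_zero fun h => hm (by rw [h]; exact dvd_zero 3))]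
  have hk₃Y : Subgroup.zpowers k₃ ≤ sg.ker := by
    rw [Subgroup.zpowers_le, MonoidHom.mem_ker, hk₃, map_pow, hsk, one_pow]
  have hk₃ord : orderOf (φ k₃) = 3 := by
    rw [hk₃, map_pow, Nat.Coprime.orderOf_pow, hkord]
    rw [hkord]
    exact (Nat.prime_three.coprime_iff_not_dvd).2 hm
  have hkgen : φ kk ∈ Subgroup.zpowers (φ k₃) := by
    rw [hk₃, map_pow, mem_zpowers_pow_iff, hkord]
    exact ((Nat.prime_three.coprime_iff_not_dvd).2 hm).symm
  obtain ⟨T, hT⟩ := (hk₃p.comap_of_injective sg.ker.subtype Subtype.val_injective).exists_le_sylow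
  set T' := (T : Subgroup sg.ker).map sg.ker.subtype with hT'
  have hk₃T : k₃ ∈ T' := ⟨⟨k₃, hk₃Y (Subgroup.mem_zpowers _)⟩, hT (Subgroup.mem_zpowers _), rfl⟩
  have hfr : Subgroup.normalizer (T' : Set (Subgroup.normalizer (U : Set G))) ⊔ sg.ker = ⊤ :=
    Sylow.normalizer_sup_eq_top T
  obtain ⟨n, hn, y, hy, hny⟩ := Subgroup.mem_sup_of_normal_right.1 (hfr.ge (Subgroup.mem_top bb))
  have hsn : sg n = -1 := by
    rw [← hsb, ← hny, map_mul, MonoidHom.mem_ker.1 hy, mul_one]
  set L : Subgroup (Subgroup.normalizer (U : Set G)) := T' ⊔ Subgroup.zpowers n with hLdef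
  have hLT : L ≤ Subgroup.normalizer (T' : Set (Subgroup.normalizer (U : Set G))) :=
    sup_le Subgroup.le_normalizer (Subgroup.zpowers_le.2 hn)
  set U' := U.subgroupOf (Subgroup.normalizer (U : Set G)) with hU'
  have hdisj : U' ⊓ L = ⊥ := by
    rw [eq_bot_iff]
    rintro u ⟨huU, huL⟩
    have hu2 : u * u = 1 := by
      rcases (hmem (u : G)).1 (Subgroup.mem_subgroupOf.1 huU) with h | h | h | h <;>
        refine Subtype.ext ?_ <;> simp only [Subgroup.coe_mul, Subgroup.coe_one, h]
      · simp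
      · exact he
      · exact hf
      · rw [mul_assoc, ← mul_assoc f, hef, mul_assoc, hf, mul_one, he]
    set c := u * k₃ * u⁻¹ * k₃⁻¹ with hc
    have hcT : c ∈ T' :=
      T'.mul_mem ((Subgroup.mem_normalizer_iff.1 (hLT huL) k₃).1 hk₃T) (T'.inv_mem hk₃T)
    have hcU : c ∈ U' := by
      rw [hc, show u * k₃ * u⁻¹ * k₃⁻¹ = u * (k₃ * u⁻¹ * k₃⁻¹) by group]
      exact U'.mul_mem huU (Subgroup.Normal.conj_mem (Subgroup.normal_in_normalizer) _ (U'.inv_mem huU) k₃)
    have hc1 : c = 1 := by
      have hc2 : c ^ 2 = 1 := by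
        refine Subtype.ext ?_
        rcases (hmem (c : G)).1 (Subgroup.mem_subgroupOf.1 hcU) with h | h | h | h <;>
          simp only [Subgroup.coe_pow, Subgroup.coe_one, Subgroup.coe_mul, pow_two, h]
        · simp
        · exact he
        · exact hf
        · rw [mul_assoc, ← mul_assoc f, hef, mul_assoc, hf, mul_one, he]
      obtain ⟨j, hj⟩ := (T.2.map sg.ker.subtype) ⟨c, hcT⟩
      have hj' : c ^ 3 ^ j = 1 := congrArg Subtype.val hj
      have := pow_gcd_eq_one.2 ⟨hc2, hj'⟩
      rwa [show Nat.gcd 2 (3 ^ j) = 1 from (Nat.Coprime.pow_right _ (by norm_num)), pow_one] at this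
    have hcomm : k₃ * u * k₃⁻¹ = u := by
      rw [hc, mul_inv_eq_one, mul_inv_eq_iff_eq_mul] at hc1
      rw [mul_inv_eq_iff_eq_mul, hc1]
    have hfix₃ : φ k₃ ⟨(u : G), huU⟩ = ⟨(u : G), huU⟩ :=
      Subtype.ext ((hφ _ _).trans
        (congrArg (fun v : Subgroup.normalizer (U : Set G) => (v : G)) hcomm))
    have : φ kk ⟨(u : G), huU⟩ = ⟨(u : G), huU⟩ := by
      obtain ⟨j, hj⟩ := Submonoid.mem_powers_iff _ _ |>.1 (mem_powers_iff_mem_zpowers.2 hkgen)
      rw [← hj]
      clear hj
      induction j with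
      | zero => rfl
      | succ j ih => rw [pow_succ, MulAut.mul_apply, hfix₃, ih]
    rw [Subgroup.mem_bot]
    exact Subtype.ext (congrArg Subtype.val (hfix _ this) :)
  -- the action on the four cosets
  have hUn : U'.Normal := Subgroup.normal_in_normalizer
  set E := U' ⊔ L with hE
  set LE := L.subgroupOf E with hLE
  set χ := MulAction.toPermHom E (E ⧸ LE) with hχ
  have hcardU : Nat.card U' = 4 := by
    rw [Nat.card_congr (Subgroup.subgroupOfEquivOfLe Subgroup.le_normalizer).toEquiv]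
    change Nat.card ({1, e, f, e * f} : Set G) = 4
    rw [Nat.card_coe_set_eq, Set.ncard_insert_of_notMem (by simp [he1.symm, hf1.symm, h5.symm]),
      Set.ncard_insert_of_notMem (by simp [hne, h3.symm]),
      Set.ncard_insert_of_notMem (by simp [h4.symm]), Set.ncard_singleton]
  have hcardE : Nat.card E = 4 * Nat.card L := by
    rw [← hcardU, hE]
    have := Subgroup.relIndex_sup_left (H := L) (K := U')
    rw [← Subgroup.card_mul_index (U'.subgroupOf (U' ⊔ L)),
      Nat.card_congr (Subgroup.subgroupOfEquivOfLe (le_sup_left : U' ≤ U' ⊔ L)).toEquiv]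
    change Nat.card U' * U'.relIndex (U' ⊔ L) = _
    rw [this, ← Subgroup.inf_relIndex_right, hdisj, Subgroup.relIndex_bot_left]
  have hcardQ : Nat.card (E ⧸ LE) = 4 := by
    have h := Subgroup.card_mul_index LE
    rw [Nat.card_congr (Subgroup.subgroupOfEquivOfLe (le_sup_right : L ≤ E)).toEquiv, hcardE,
      mul_comm 4] at h
    rw [← Subgroup.index_eq_card]
    exact Nat.eq_of_mul_eq_mul_left Nat.card_pos h
  set θ : L →* MulAut U := φ.comp L.subtype with hθ
  have hkerL : χ.ker ≤ LE := by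
    rw [← Subgroup.normalCore_eq_ker]; exact Subgroup.normalCore_le _
  have hker : (χ.ker.map E.subtype) ≤ θ.ker.map L.subtype := by
    rintro g ⟨⟨g', hg'E⟩, hg', rfl⟩
    have hgL : g' ∈ L := hkerL hg'
    refine ⟨⟨g', hgL⟩, ?_, rfl⟩
    rw [SetLike.mem_coe, MonoidHom.mem_ker]
    refine MulEquiv.ext fun u => ?_
    have huE : (⟨(u : G), Subgroup.le_normalizer u.2⟩ : Subgroup.normalizer (U : Set G)) ∈ E :=
      le_sup_left (a := U') (b := L) (show (u : G) ∈ U from u.2)
    set u' : E := ⟨⟨(u : G), Subgroup.le_normalizer u.2⟩, huE⟩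
    set g'' : E := ⟨g', hg'E⟩
    have h1 : u'⁻¹ * (g'' * u' * g''⁻¹) ∈ χ.ker := by
      rw [show u'⁻¹ * (g'' * u' * g''⁻¹) = (u'⁻¹ * g'' * (u'⁻¹)⁻¹) * g''⁻¹ by group]
      exact χ.ker.mul_mem ((MonoidHom.normal_ker χ).conj_mem _ hg' _) (χ.ker.inv_mem hg')
    have h2 : ((u'⁻¹ * (g'' * u' * g''⁻¹) : E) : Subgroup.normalizer (U : Set G)) ∈ U' ⊓ L := by
      refine ⟨?_, hkerL h1⟩
      exact U'.mul_mem (U'.inv_mem (show (u : G) ∈ U from u.2))
        (hUn.conj_mem _ (show (u : G) ∈ U from u.2) _)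
    rw [hdisj, Subgroup.mem_bot] at h2
    apply Subtype.ext
    have h6 := congrArg (fun v : Subgroup.normalizer (U : Set G) => (v : G)) h2
    change (u : G)⁻¹ * ((g' : G) * u * (g' : G)⁻¹) = 1 at h6
    exact (inv_mul_eq_one.1 h6).symm
  have h6 : 6 ≤ Nat.card θ.range := by
    refine Nat.le_of_dvd Nat.card_pos (Nat.Coprime.mul_dvd_of_dvd_of_dvd (by norm_num : Nat.Coprime 2 3) ?_ ?_)
    · have hmem' : φ n ∈ θ.range := ⟨⟨n, le_sup_right (a := T') (Subgroup.mem_zpowers n)⟩, rfl⟩
      refine dvd_trans ?_ (Subgroup.orderOf_dvd_natCard θ.range hmem')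
      by_contra h
      have h1 : sg n ^ orderOf (φ n) = 1 := by
        rw [← map_pow]
        change Perm.sign (MulAut.toPerm U (φ (n ^ orderOf (φ n)))) = 1
        rw [map_pow φ, pow_orderOf_eq_one, map_one, map_one]
      rw [hsn, (Nat.odd_iff.2 (by omega)).neg_one_pow] at h1
      exact absurd h1 (by decide)
    · have hmem' : φ k₃ ∈ θ.range := ⟨⟨k₃, le_sup_left (b := Subgroup.zpowers n) hk₃T⟩, rfl⟩
      exact hk₃ord ▸ Subgroup.orderOf_dvd_natCard θ.range hmem'
  have hrange : 24 ≤ Nat.card χ.range := by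
    have e1 : Nat.card χ.ker * Nat.card χ.range = Nat.card E := by
      rw [← Subgroup.index_ker]; exact Subgroup.card_mul_index _
    have e2 : Nat.card θ.ker * Nat.card θ.range = Nat.card L := by
      rw [← Subgroup.index_ker]; exact Subgroup.card_mul_index _
    have e3 : Nat.card χ.ker ≤ Nat.card θ.ker := by
      have := Subgroup.card_le_of_le hker
      rwa [Subgroup.card_map_of_injective Subtype.val_injective,
        Subgroup.card_map_of_injective Subtype.val_injective] at this
    rw [hcardE, ← e2] at e1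
    refine Nat.le_of_mul_le_mul_left ?_ (Nat.card_pos (α := χ.ker))
    calc Nat.card χ.ker * 24 = 4 * (Nat.card χ.ker * 6) := by ring
      _ ≤ 4 * (Nat.card θ.ker * Nat.card θ.range) :=
          Nat.mul_le_mul_left _ (Nat.mul_le_mul e3 h6)
      _ = _ := e1.symm
  have hsurj : Function.Surjective χ := by
    rw [← MonoidHom.range_eq_top]
    refine Subgroup.eq_top_of_le_card _ ?_
    rw [Nat.card_perm, hcardQ]
    exact hrange
  let σ : Perm (E ⧸ LE) ≃* Perm (Fin 4) := (Finite.equivFinOfCardEq hcardQ).permCongrHom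
  set ι := E.equivMapOfInjective (Subgroup.normalizer (U : Set G)).subtype
    (Subgroup.subtype_injective _) with hι
  exact involves_of_surjective (E := E.map (Subgroup.normalizer (U : Set G)).subtype)
    ((σ.toMonoidHom.comp χ).comp ι.symm.toMonoidHom)
    ((σ.surjective.comp hsurj).comp ι.symm.surjective)

end CfsgLib.LocalEven
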