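import Cfsg.Agent.Lib.LocalEven.StrongEmb3

/-!
The graph on the Sylow `p`-subgroups whose edges are the pairs meeting nontrivially.
-/

namespace CfsgLib.LocalEven

variable {G : Type*} [Group G] [Finite G] {p : ℕ} [Fact p.Prime]

/-- Distinct Sylow subgroups meeting nontrivially. -/
def SylowMeet (S T : Sylow p G) : Prop :=
  S ≠ T ∧ (S : Subgroup G) ⊓ (T : Subgroup G) ≠ ⊥

omit [Finite G] [Fact p.Prime] in
theorem sylowMeet_symm {S T : Sylow p G} (h : SylowMeet S T) : SylowMeet T S :=
  ⟨h.1.symm, by rw [inf_comm]; exact h.2⟩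

omit [Finite G] [Fact p.Prime] in
theorem sylowMeet_smul (g : G) {S T : Sylow p G} (h : SylowMeet S T) : SylowMeet (g • S) (g • T) := by
  refine ⟨fun e => h.1 (smul_left_cancel g e), fun e => h.2 ?_⟩
  apply (Subgroup.map_eq_bot_iff_of_injective _ (f := (MulAut.conj g).toMonoidHom) (MulAut.conj g).injective).1
  rw [Subgroup.map_inf _ _ (MulAut.conj g).toMonoidHom (MulAut.conj g).injective]
  exact e

omit [Finite G] [Fact p.Prime] in
theorem exists_chain_of_reflTransGen {S T : Sylow p G}
    (h : Relation.ReflTransGen SylowMeet S T) :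
    ∃ (n : ℕ) (c : Fin (n + 1) → Sylow p G), c 0 = S ∧ c (Fin.last n) = T ∧
      ∀ i : Fin n, SylowMeet (c i.castSucc) (c i.succ) := by
  induction h with
  | refl => exact ⟨0, fun _ => S, rfl, rfl, fun i => i.elim0⟩
  | @tail b c _ hbc ih =>
    obtain ⟨n, f, h0, hn, hf⟩ := ih
    refine ⟨n + 1, Fin.snoc f c, ?_, Fin.snoc_last _ _, fun i => ?_⟩
    · rw [show (0 : Fin (n + 2)) = (0 : Fin (n + 1)).castSucc from rfl, Fin.snoc_castSucc, h0]
    · induction i using Fin.lastCases with
      | last => rw [Fin.snoc_castSucc, Fin.succ_last, Fin.snoc_last, hn]; exact hbc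
      | cast i => rw [Fin.snoc_castSucc, Fin.succ_castSucc, Fin.snoc_castSucc]; exact hf i

omit [Finite G] [Fact p.Prime] in
theorem reflTransGen_of_chain {n : ℕ} {c : Fin (n + 1) → Sylow p G}
    (h : ∀ i : Fin n, SylowMeet (c i.castSucc) (c i.succ)) :
    Relation.ReflTransGen SylowMeet (c 0) (c (Fin.last n)) := by
  suffices ∀ i : Fin (n + 1), Relation.ReflTransGen SylowMeet (c 0) (c i) from this _
  intro i
  induction i using Fin.induction with
  | zero => exact Relation.ReflTransGen.refl
  | succ i ih => exact ih.tail (h i)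

omit [Finite G] [Fact p.Prime] in
theorem isSylowChainConnected_iff :
    Cfsg.IsSylowChainConnected p G ↔ ∀ S T : Sylow p G, Relation.ReflTransGen SylowMeet S T := by
  constructor
  · intro h S T
    obtain ⟨n, c, rfl, rfl, -, hc⟩ := h S T
    exact reflTransGen_of_chain hc
  · intro h S T
    rcases eq_or_ne S T with rfl | hne
    · exact ⟨0, fun _ => S, rfl, rfl, fun _ => inf_le_left, fun i => i.elim0⟩
    by_cases hb : (S : Subgroup G) ⊓ (T : Subgroup G) = ⊥
    · obtain ⟨n, c, h0, hn, hc⟩ := exists_chain_of_reflTransGen (h S T)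
      exact ⟨n, c, h0, hn, fun i => hb ▸ bot_le, hc⟩
    · refine ⟨1, ![S, T], rfl, rfl, ?_, ?_⟩
      · intro i; fin_cases i
        · exact inf_le_left
        · exact inf_le_right
      · intro i; fin_cases i; exact ⟨hne, hb⟩

theorem stronglyPEmbedded_not_connected {H : Subgroup G} (hH : Cfsg.IsStronglyPEmbedded p H) :
    ¬ Cfsg.IsSylowChainConnected p G := by
  rw [isSylowChainConnected_iff]
  intro hcon
  obtain ⟨hne, -, hdis⟩ := stronglyPEmbedded_iff_disjoint.1 hH
  obtain ⟨P, hPne, hPH, -⟩ := exists_sylow_of_stronglyPEmbedded hH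
  have step : ∀ g : G, ∀ A : Subgroup G, A ≠ ⊥ → IsPGroup p A → A ≤ H →
      A ≤ H.map (MulAut.conj g).toMonoidHom → g ∈ H := by
    intro g A hA hAp h1 h2
    by_contra hg
    obtain ⟨k, hk⟩ := IsPGroup.iff_card.1 hAp
    rcases k with _ | k
    · rw [pow_zero] at hk; exact hA (Subgroup.eq_bot_of_card_eq _ hk)
    · exact hdis g hg (dvd_trans (by rw [hk]; exact dvd_pow_self p k.succ_ne_zero)
        (Subgroup.card_dvd_of_le (le_inf h1 h2)))
  have all : ∀ T : Sylow p G, (T : Subgroup G) ≤ H := by
    intro T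
    induction hcon P T with
    | refl => exact hPH
    | @tail b c _ hbc ih =>
      obtain ⟨g, rfl⟩ := MulAction.exists_smul_eq G P c
      have hg : g ∈ H := step g _ hbc.2 (b.isPGroup'.to_le inf_le_left) (inf_le_left.trans ih)
        (inf_le_right.trans (Subgroup.map_mono hPH))
      rintro _ ⟨x, hx, rfl⟩
      exact H.mul_mem (H.mul_mem hg (hPH hx)) (H.inv_mem hg)
  refine hne ((Subgroup.eq_top_iff' H).2 fun g => ?_)
  exact step g _ (map_conj_ne_bot hPne) (P.isPGroup'.map _) (all (g • P)) (Subgroup.map_mono hPH)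

theorem exists_stronglyPEmbedded_of_not_connected (h : ¬ Cfsg.IsSylowChainConnected p G) :
    ∃ H : Subgroup G, Cfsg.IsStronglyPEmbedded p H := by
  rw [isSylowChainConnected_iff] at h
  push Not at h
  obtain ⟨P, T, hPT⟩ := h
  let R : Sylow p G → Sylow p G → Prop := Relation.ReflTransGen SylowMeet
  have symm : ∀ {A B}, R A B → R B A := fun hab => by
    induction hab with
    | refl => exact Relation.ReflTransGen.refl
    | tail _ hbc ih => exact Relation.ReflTransGen.head (sylowMeet_symm hbc) ih
  have act : ∀ (g : G) {A B}, R A B → R (g • A) (g • B) := fun g _ _ hab =>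
    Relation.ReflTransGen.lift (fun S => g • S) (fun _ _ => sylowMeet_smul g) _ _ hab
  let H : Subgroup G :=
    { carrier := {g | R P (g • P)}
      one_mem' := by show R P _; rw [one_smul]
      mul_mem' := fun {a b} ha hb => by
        show R P _; rw [mul_smul]; exact ha.trans (act a hb)
      inv_mem' := fun {a} ha => by
        show R P _
        have := act a⁻¹ ha
        rw [inv_smul_smul] at this
        exact symm this }
  have hPne : (P : Subgroup G) ≠ ⊥ := by
    intro e
    apply hPT
    have hs : T = P := by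
      obtain ⟨g, rfl⟩ := MulAction.exists_smul_eq G P T
      apply Sylow.ext
      rw [Sylow.coe_subgroup_smul, e, Subgroup.smul_bot]
    rw [hs]
  have hPH : (P : Subgroup G) ≤ H := fun x hx => by
    show R P (x • P)
    rw [Sylow.smul_eq_iff_mem_normalizer.2 (Subgroup.le_normalizer hx)]
  refine ⟨H, ?_⟩
  have hpd : p ∣ Nat.card H := by
    refine dvd_trans ?_ (Subgroup.card_dvd_of_le hPH)
    obtain ⟨k, hk⟩ := IsPGroup.iff_card.1 P.isPGroup'
    rcases k with _ | k
    · rw [pow_zero] at hk; exact absurd (Subgroup.eq_bot_of_card_eq _ hk) hPne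
    · rw [hk]; exact dvd_pow_self p k.succ_ne_zero
  refine (LocallyClosedIn.of_sylow P hPH fun Q hQ hQne g hg => ?_).stronglyPEmbedded ?_ hpd
  · show R P (g • P)
    rcases eq_or_ne P (g • P) with e | e
    · rw [← e]
    · refine Relation.ReflTransGen.single ⟨e, fun hbot => hQne (le_bot_iff.1 (hbot ▸ le_inf hQ ?_))⟩
      exact (conj_map_eq_of_mem_normalizer hg).ge.trans (Subgroup.map_mono hQ)
  · intro e
    obtain ⟨g, rfl⟩ := MulAction.exists_smul_eq G P T
    exact hPT (show g ∈ H from e ▸ Subgroup.mem_top g)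

end CfsgLib.LocalEven
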