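import Mathlib
import Cfsg.Agent.Lib.LocalEven.SylowGraph
import Cfsg.Agent.Lib.PGroups.UniqueOrderP
import Cfsg.Agent.Lib.Coprime.Hall
import Cfsg.Agent.Lib.Base.Cores

/-!
# Strongly `p`-embedded subgroups of `p`-solvable groups
-/

set_option linter.style.haveILetI false
set_option autoImplicit false

namespace CfsgLib.LocalEven

open Cfsg

variable {G : Type*} [Group G] [Finite G] {p : ℕ} [Fact p.Prime] {H : Subgroup G}

theorem pCore_eq_bot_of_stronglyPEmbedded (hH : Cfsg.IsStronglyPEmbedded p H) :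
    Cfsg.pCore p G = ⊥ := by
  obtain ⟨P, -, -, hP⟩ := exists_sylow_of_stronglyPEmbedded hH
  obtain ⟨hne, -, -⟩ := stronglyPEmbedded_iff.1 hH
  by_contra h
  have h1 := hP _ ((CfsgLib.Base.isPGroup_pCore p G).le_sylow_of_normal P) h
  rw [Subgroup.normalizer_eq_top_iff.2 inferInstance] at h1
  exact hne (top_le_iff.1 h1)

theorem cyclic_or_quaternion_of_pSolvable (hH : Cfsg.IsStronglyPEmbedded p H)
    (hsol : Cfsg.IsPSolvable p G) (P : Sylow p G) :
    IsCyclic ↥P ∨ (p = 2 ∧ ∃ n : ℕ, Nonempty (↥P ≃* QuaternionGroup (2 ^ n))) := by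
  classical
  have hO := pCore_eq_bot_of_stronglyPEmbedded hH
  obtain ⟨hne, -, hlc⟩ := stronglyPEmbedded_iff.1 hH
  obtain ⟨P₀, hP₀ne, hP₀H, -⟩ := exists_sylow_of_stronglyPEmbedded hH
  suffices h : IsCyclic ↥(P₀ : Subgroup G) ∨
      (p = 2 ∧ ∃ n : ℕ, Nonempty (↥(P₀ : Subgroup G) ≃* QuaternionGroup (2 ^ n))) by
    let e := P₀.equiv P
    rcases h with h | ⟨h2, n, ⟨f⟩⟩
    · haveI := h
      exact Or.inl (isCyclic_of_surjective e e.surjective)
    · exact Or.inr ⟨h2, n, ⟨e.symm.trans f⟩⟩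
  obtain ⟨z, hzP, hzo, hzc⟩ := exists_orderOf_eq_prime_central (A := (P₀ : Subgroup G))
    P₀.isPGroup' le_rfl Subgroup.le_normalizer hP₀ne
  by_cases huniq : ∀ y : ↥(P₀ : Subgroup G), y ^ p = 1 → y ∈ Subgroup.zpowers ⟨z, hzP⟩
  · rcases CfsgLib.PGroups.isCyclic_or_quaternion_of_unique P₀.isPGroup'
      (z := ⟨z, hzP⟩) (Subtype.ext (by
        rw [SubmonoidClass.coe_pow]; exact orderOf_dvd_iff_pow_eq_one.1 (dvd_of_eq hzo))) huniq
      with h | ⟨h2, n, -, h⟩
    · exact Or.inl h
    · exact Or.inr ⟨h2, n, h⟩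
  exfalso
  push Not at huniq
  obtain ⟨⟨y, hyP⟩, hy, hyz⟩ := huniq
  replace hy : y ^ p = 1 := congrArg Subtype.val hy
  have hyz' : y ∉ Subgroup.zpowers z := fun ⟨i, hi⟩ => hyz ⟨i, Subtype.ext hi⟩
  have hzy : z * y = y * z := (Subgroup.mem_centralizer_singleton_iff.1 (hzc hyP)).symm
  set A := Subgroup.closure ({z, y} : Set G) with hA
  have hAel : Cfsg.IsElementaryAbelian p A := by
    refine elemAbelian_closure ?_ ?_
    · rintro a (rfl | rfl) b (rfl | rfl) <;> first | rfl | exact hzy | exact hzy.symm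
    · rintro a (rfl | rfl)
      · rw [← hzo, pow_orderOf_eq_one]
      · exact hy
  have : IsMulCommutative A := hAel.1
  have hAP : A ≤ (P₀ : Subgroup G) := (Subgroup.closure_le _).2 (by rintro a (rfl | rfl) <;> assumption)
  have hnc : ¬ IsCyclic A := by
    intro hc
    have hcard : Nat.card A ≤ p := by
      have := Fintype.ofFinite A
      refine le_trans ?_ (IsCyclic.card_pow_eq_one_le (α := A) (Fact.out : p.Prime).pos)
      rw [Nat.card_eq_fintype_card, Finset.filter_true_of_mem (fun x _ => Subtype.ext (by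
        simpa using hAel.2 x x.2)), Finset.card_univ]
    have h1 : Subgroup.zpowers z = A := Subgroup.eq_of_le_of_card_ge
      (Subgroup.zpowers_le.2 (Subgroup.subset_closure (by simp)))
      (by rw [Nat.card_zpowers, hzo]; exact hcard)
    exact hyz' (h1.ge (Subgroup.subset_closure (by simp)))
  -- the `p'`-core lies in `H`, so does `O_{p',p}`
  set K := Cfsg.pPrimeCore p G with hK
  have hKH : K ≤ H := hlc.le_of_coprime (hAP.trans hP₀H) hAel.2 hnc
    (by rw [Subgroup.normalizer_eq_top_iff.2 inferInstance]; exact le_top)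
    (CfsgLib.Base.not_dvd_card_pPrimeCore p G)
  haveI : Nontrivial (G ⧸ K) := by
    rw [← Finite.one_lt_card_iff_nontrivial, ← Subgroup.index_eq_card]
    refine Subgroup.one_lt_index_of_ne_top fun h => ?_
    exact CfsgLib.Base.not_dvd_card_pPrimeCore p G (by
      rw [← hK, h, Subgroup.card_top]
      exact (hzo ▸ orderOf_dvd_natCard z))
  obtain ⟨N, hN, hNne, hNp | hNc⟩ :=
    CfsgLib.Coprime.pSolvable_step (CfsgLib.Coprime.pSolvable_quotient hsol K)
  swap
  · haveI := hN
    have h := CfsgLib.Base.le_pPrimeCore (p := p) hNc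
    have h0 : Cfsg.pPrimeCore p (G ⧸ K) = ⊥ := CfsgLib.Base.pPrimeCore_quotient_pPrimeCore p G
    rw [h0, le_bot_iff] at h
    exact hNne h
  haveI := hN
  set M := N.comap (QuotientGroup.mk' K) with hM
  have hle : M ≤ H := by
    have h1 : N ≤ (P₀ : Subgroup G).map (QuotientGroup.mk' K) :=
      hNp.le_sylow_of_normal (P₀.mapSurjective (QuotientGroup.mk'_surjective K))
    refine (Subgroup.comap_mono h1).trans ?_
    rw [Subgroup.comap_map_eq, QuotientGroup.ker_mk']
    exact sup_le hP₀H hKH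
  have hd : p ∣ Nat.card M := by
    obtain ⟨k, hk⟩ := IsPGroup.iff_card.1 hNp
    have h1 : p ∣ Nat.card N := by
      rw [hk]
      refine dvd_pow_self p fun h0 => hNne ?_
      rw [h0, pow_zero] at hk
      exact Subgroup.eq_bot_of_card_eq _ hk
    refine h1.trans ?_
    have h2 : N = M.map (QuotientGroup.mk' K) :=
      (Subgroup.map_comap_eq_self_of_surjective (QuotientGroup.mk'_surjective K) N).symm
    rw [h2]
    exact Subgroup.card_map_dvd _ _
  have htop := sup_eq_top_of_stronglyPEmbedded hH M hd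
  exact hne (top_le_iff.1 (htop.ge.trans (sup_le le_rfl hle)))

end CfsgLib.LocalEven
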