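import Mathlib
import Cfsg.Agent.Lib.Coprime.Action
import Cfsg.Agent.Lib.Coprime.Action2
import Cfsg.Agent.Lib.Components.PTimesQ

/-!
# `[P, B] ≤ [P, A]` for `A × B` acting on a `p`-group, and an application
-/

namespace CfsgLib.LocalEven.CommutatorAB

open Subgroup
open scoped commutatorElement

variable {G : Type*} [Group G] [Finite G]

theorem eq_bot_of_le_commutator {p : ℕ} [Fact p.Prime] {N K : Subgroup G} (hK : IsPGroup p K)
    (hNK : N ≤ K) (h : N ≤ ⁅N, K⁆) : N = ⊥ := by
  haveI : Group.IsNilpotent K := hK.isNilpotent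
  have hall : ∀ n, N ≤ ((Subgroup.lowerCentralSeries (⊤ : Subgroup K) n)).map K.subtype := by
    intro n
    induction n with
    | zero => intro x hx; exact ⟨⟨x, hNK hx⟩, by simp, rfl⟩
    | succ n ih =>
      refine h.trans ((commutator_mono ih le_rfl).trans ?_)
      rw [Subgroup.lowerCentralSeries_succ, Subgroup.map_commutator]
      refine commutator_mono le_rfl ?_
      intro x hx
      exact ⟨⟨x, hx⟩, by simp, rfl⟩
  obtain ⟨n, hn⟩ := Subgroup.nilpotent_iff_lowerCentralSeries.1 (inferInstance : Group.IsNilpotent K)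
  have := hall n
  rw [hn, Subgroup.map_bot] at this
  exact le_bot_iff.1 this

theorem normalizes_commutator {A P B : Subgroup G} (hAP : A ≤ normalizer (P : Set G))
    (hAB : A ≤ normalizer (B : Set G)) : A ≤ normalizer (⁅P, B⁆ : Subgroup G) := by
  intro a ha
  refine mem_normalizer_fintype fun z hz => ?_
  have h1 : P.map (MulAut.conj a).toMonoidHom ≤ P := by
    rintro _ ⟨x, hx, rfl⟩; exact (mem_normalizer_iff.1 (hAP ha) x).1 hx
  have h2 : B.map (MulAut.conj a).toMonoidHom ≤ B := by
    rintro _ ⟨x, hx, rfl⟩; exact (mem_normalizer_iff.1 (hAB ha) x).1 hx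
  exact commutator_mono h1 h2
    ((map_commutator P B (MulAut.conj a).toMonoidHom) ▸ mem_map_of_mem (MulAut.conj a).toMonoidHom hz)

theorem exists_mul_of_mem_sup {H N : Subgroup G} (hH : H ≤ normalizer (N : Set G)) {x : G}
    (hx : x ∈ N ⊔ H) : ∃ n ∈ N, ∃ h ∈ H, n * h = x := by
  rw [← SetLike.mem_coe, coe_mul_of_right_le_normalizer_left N H hH, Set.mem_mul] at hx
  exact hx

theorem le_normalizer_of_comm {A B : Subgroup G} (h : ⁅A, B⁆ = ⊥) :
    A ≤ normalizer (B : Set G) ∧ B ≤ centralizer (A : Set G) ∧ A ≤ centralizer (B : Set G) := by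
  have h1 := commutator_eq_bot_iff_le_centralizer.1 h
  exact ⟨h1.trans (centralizer_le_normalizer (B : Set G)), le_centralizer_iff.1 h1, h1⟩

theorem commutator_eq_bot {p : ℕ} [Fact p.Prime] (P A B : Subgroup G) (hP : IsPGroup p P)
    (hA : IsPGroup p A) (hB : ¬ p ∣ Nat.card B) (hnA : A ≤ normalizer (P : Set G))
    (hnB : B ≤ normalizer (P : Set G)) (hAB : ⁅A, B⁆ = ⊥) (hcomm : ⁅P, B⁆ ≤ ⁅P, A⁆) :
    ⁅P, B⁆ = ⊥ := by
  have hp := (Fact.out : p.Prime)
  have hcop : (Nat.card B).Coprime (Nat.card P) := by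
    obtain ⟨n, hn⟩ := IsPGroup.iff_card.1 hP
    rw [hn]; exact (Nat.Coprime.pow_left n (hp.coprime_iff_not_dvd.2 hB)).symm
  have hsol : Group.IsSolvable B ∨ Group.IsSolvable P :=
    Or.inr (haveI := hP.isNilpotent; inferInstance)
  obtain ⟨hABn, hBA, hAB'⟩ := le_normalizer_of_comm hAB
  set N := ⁅P, B⁆ with hN
  set C := P ⊓ centralizer (B : Set G) with hCdef
  set K := P ⊔ A with hKdef
  have hKp : IsPGroup p K := hP.to_sup_of_normal_left' hA hnA
  have hPN : P ≤ normalizer (N : Set G) := normalizer_commutator_ge_left P B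
  have hBN : B ≤ normalizer (N : Set G) := normalizer_commutator_ge_right P B
  have hAN : A ≤ normalizer (N : Set G) := normalizes_commutator hnA hABn
  have hNP : N ≤ P := Coprime.commutator_le_of_le_normalizer hnB
  have hCA : C ≤ normalizer (C : Set G) ∧ A ≤ normalizer (C : Set G) := by
    refine ⟨le_normalizer, fun a ha => mem_normalizer_fintype fun z hz => ⟨?_, ?_⟩⟩
    · exact (mem_normalizer_iff.1 (hnA ha) z).1 hz.1
    · exact Subgroup.mul_mem (centralizer (B : Set G))
        (Subgroup.mul_mem (centralizer (B : Set G)) (hAB' ha) hz.2) (inv_mem (hAB' ha))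
  set W := ⁅N, K⁆ with hW
  have hKN : K ≤ normalizer (N : Set G) := sup_le hPN hAN
  have hWN : W ≤ N := Coprime.commutator_le_of_le_normalizer hKN
  have hKW : K ≤ normalizer (W : Set G) := normalizer_commutator_ge_right N K
  have hBK : B ≤ normalizer (K : Set G) := by
    intro b hb
    refine mem_normalizer_fintype fun z hz => ?_
    have : K.map (MulAut.conj b).toMonoidHom ≤ K := by
      rw [hKdef, Subgroup.map_sup]
      refine sup_le_sup ?_ ?_
      · rintro _ ⟨x, hx, rfl⟩; exact (mem_normalizer_iff.1 (hnB hb) x).1 hx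
      · rintro _ ⟨x, hx, rfl⟩
        have := mem_centralizer_iff.1 (hBA hb) x hx
        simpa [← this] using hx
    exact this ⟨z, hz, rfl⟩
  have hBW : B ≤ normalizer (W : Set G) := normalizes_commutator hBN hBK
  -- `[P, A] ≤ W [C, A]`
  have hPA : ⁅P, A⁆ ≤ W ⊔ C := by
    rw [commutator_le]
    intro x hx a ha
    rw [← Coprime.commutator_sup_centralizer hnB hcop hsol, ← hN, ← hCdef] at hx
    obtain ⟨n, hn, c, hc, rfl⟩ := exists_mul_of_mem_sup (inf_le_left.trans hPN) hx
    have hca : ⁅c, a⁆ ∈ C := Coprime.commutator_le_of_le_normalizer hCA.2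
      (commutator_mem_commutator hc ha)
    have e : ⁅n * c, a⁆ = ⁅n, ⁅c, a⁆⁆ * ⁅c, a⁆ * ⁅n, a⁆ := by
      simp only [commutatorElement_def]; group
    rw [e]
    exact mul_mem (mul_mem (mem_sup_left (commutator_mem_commutator hn (mem_sup_left hca.1)))
      (mem_sup_right hca)) (mem_sup_left (commutator_mem_commutator hn (mem_sup_right ha)))
  have hNW : N ≤ W := by
    nth_rw 1 [hN]
    rw [← Coprime.commutator_commutator_eq hnB hcop hsol, commutator_le, ← hN]
    intro n hn b hb
    obtain ⟨w, hw, c, hc, rfl⟩ :=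
      exists_mul_of_mem_sup ((inf_le_left.trans le_sup_left).trans hKW) (hPA (hcomm hn))
    have hcb : c * b * c⁻¹ = b := by
      rw [← mem_centralizer_iff.1 hc.2 b hb]; group
    have e : ⁅w * c, b⁆ = w * (c * b * c⁻¹ * w⁻¹ * b⁻¹) := by
      simp only [commutatorElement_def]; group
    rw [e, hcb]
    exact mul_mem hw ((mem_normalizer_iff.1 (hBW hb) _).1 (inv_mem hw))
  exact eq_bot_of_le_commutator hKp (hNP.trans le_sup_left) hNW

/-- `[R, U] ≤ C_G(E)`. -/
theorem commutator_le_centralizer {p : ℕ} [Fact p.Prime] (E : Subgroup G) [E.Normal]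
    (hE : IsPGroup p E) (U : Subgroup G) (hUc : IsMulCommutative U) (hUp : IsPGroup p U)
    (hnc : ¬ IsCyclic U)
    (hcond : (∀ u ∈ U, u ≠ 1 → E ⊓ centralizer (U : Set G) = E ⊓ centralizer ({u} : Set G)) ∨
      (∀ u ∈ U, u ≠ 1 → ⁅E, U⁆ = ⁅E, zpowers u⁆))
    (R : Subgroup G) (hR : ¬ p ∣ Nat.card R) (hRU : U ≤ normalizer (R : Set G)) :
    ⁅R, U⁆ ≤ centralizer (E : Set G) := by
  have hp := (Fact.out : p.Prime)
  let R' : Subgroup G :=
    { carrier := {r | ∀ v ∈ U, r * v * r⁻¹ * v⁻¹ ∈ centralizer (E : Set G)}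
      one_mem' := by simp
      mul_mem' := fun {a b} ha hb v hv => by
        have : a * b * v * (a * b)⁻¹ * v⁻¹ =
            a * (b * v * b⁻¹ * v⁻¹) * a⁻¹ * (a * v * a⁻¹ * v⁻¹) := by group
        rw [this]
        exact mul_mem (Normal.conj_mem inferInstance _ (hb v hv) a) (ha v hv)
      inv_mem' := fun {a} ha v hv => by
        have : a⁻¹ * v * a⁻¹⁻¹ * v⁻¹ = a⁻¹ * (a * v * a⁻¹ * v⁻¹)⁻¹ * a⁻¹⁻¹ := by group
        rw [this]
        exact Normal.conj_mem inferInstance _ (inv_mem (ha v hv)) _ }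
  suffices hle : R ≤ R' by
    rw [commutator_le]; intro r hr v hv
    rw [commutatorElement_def]; exact hle hr v hv
  have hcop : (Nat.card U).Coprime (Nat.card R) := by
    obtain ⟨n, hn⟩ := IsPGroup.iff_card.1 hUp
    rw [hn]; exact (hp.coprime_iff_not_dvd.2 hR).pow_left n
  refine Coprime.le_of_centralizer_le_of_not_isCyclic hnc hRU hcop fun u hu hu1 r hr v hv => ?_
  obtain ⟨hrR, hru⟩ := hr
  have hru' : r * u * r⁻¹ = u := by
    rw [← mem_centralizer_iff.1 hru u rfl]; group
  have huv : u * v = v * u := congrArg Subtype.val (hUc.is_comm.comm (⟨u, hu⟩ : U) ⟨v, hv⟩)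
  set g := r * v * r⁻¹ * v⁻¹ with hg
  have hgR : g ∈ R := by
    have : g = r * (v * r⁻¹ * v⁻¹) := by rw [hg]; group
    rw [this]; exact mul_mem hrR ((mem_normalizer_iff.1 (hRU hv) _).1 (inv_mem hrR))
  have hgu : g * u = u * g := by
    have h1 : r * u = u * r := (mul_inv_eq_iff_eq_mul.1 hru')
    have cu : Commute r u := h1
    have cv : Commute v u := huv.symm
    exact (((cu.mul_left cv).mul_left cu.inv_left).mul_left cv.inv_left).eq
  have hord : (orderOf g).Coprime p :=
    ((hp.coprime_iff_not_dvd.2 hR).symm).coprime_dvd_left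
      (by simpa using orderOf_dvd_natCard (⟨g, hgR⟩ : R))
  have hgE : g ∈ normalizer (E : Set G) := by rw [normalizer_eq_top]; trivial
  rcases hcond with hc | hc
  · -- fixed points
    refine Components.mem_centralizer_of_pTimesQ (P := zpowers u)
      (hUp.to_le (zpowers_le.2 hu)) hE (by rw [normalizer_eq_top]; exact le_top) hord ?_ hgE ?_
    · rw [mem_centralizer_iff]; rintro _ ⟨i, rfl⟩
      exact ((Commute.zpow_left (hgu.symm : Commute u g) i)).eq
    · rintro x ⟨hxE, hxu⟩
      have hmem : ∀ y : G, y ∈ E → u * y = y * u → y * v = v * y := by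
        intro y hy hyu
        have : y ∈ E ⊓ centralizer ({u} : Set G) :=
          ⟨hy, mem_centralizer_iff.2 (by simp only [Set.mem_singleton_iff, forall_eq]; exact hyu)⟩
        rw [← hc u hu hu1] at this
        exact (mem_centralizer_iff.1 this.2 v hv).symm
      have hxu' : u * x = x * u := mem_centralizer_iff.1 hxu u (mem_zpowers u)
      rw [mem_centralizer_iff]
      simp only [Set.mem_singleton_iff, forall_eq]
      have cxv : Commute x v := hmem x hxE hxu'
      have cxr : Commute (r⁻¹ * x * r) v := by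
        refine hmem _ (by simpa using Normal.conj_mem ‹E.Normal› x hxE r⁻¹) ?_
        have cu : Commute u r := (mem_centralizer_iff.1 hru u rfl)
        exact ((cu.inv_right.mul_right (hxu' : Commute u x)).mul_right cu).eq
      have cxrv : Commute x (r * v * r⁻¹) := by
        show x * (r * v * r⁻¹) = r * v * r⁻¹ * x
        calc x * (r * v * r⁻¹) = r * ((r⁻¹ * x * r) * v) * r⁻¹ := by group
          _ = r * (v * (r⁻¹ * x * r)) * r⁻¹ := by rw [cxr.eq]
          _ = r * v * r⁻¹ * x := by group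
      exact (cxrv.mul_right cxv.inv_right).eq.symm
  · -- commutators
    set W := ⁅E, U⁆ with hW
    let T : Subgroup G :=
      { carrier := {a | a ∈ normalizer (W : Set G) ∧ ∀ e ∈ E, a * e * a⁻¹ * e⁻¹ ∈ W}
        one_mem' := ⟨one_mem _, by simp⟩
        mul_mem' := fun {a b} ha hb => ⟨mul_mem ha.1 hb.1, fun e he => by
          have : a * b * e * (a * b)⁻¹ * e⁻¹ =
              a * (b * e * b⁻¹ * e⁻¹) * a⁻¹ * (a * e * a⁻¹ * e⁻¹) := by group
          rw [this]
          exact mul_mem ((mem_normalizer_iff.1 ha.1 _).1 (hb.2 e he)) (ha.2 e he)⟩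
        inv_mem' := fun {a} ha => ⟨inv_mem ha.1, fun e he => by
          have : a⁻¹ * e * a⁻¹⁻¹ * e⁻¹ = a⁻¹ * (a * e * a⁻¹ * e⁻¹)⁻¹ * a⁻¹⁻¹ := by group
          rw [this]
          exact (mem_normalizer_iff.1 (inv_mem ha.1) _).1 (inv_mem (ha.2 e he))⟩ }
    have hvT : v ∈ T := ⟨normalizer_commutator_ge_right E U hv, fun e he => by
      have := inv_mem (commutator_mem_commutator (H₁ := E) (H₂ := U) he hv)
      simpa [commutatorElement_def, mul_assoc] using this⟩
    have hrW : r ∈ normalizer (W : Set G) := by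
      rw [hc u hu hu1]
      refine normalizes_commutator (A := zpowers r) (by rw [normalizer_eq_top]; exact le_top) ?_
        (mem_zpowers r)
      rw [zpowers_le]
      refine centralizer_le_normalizer _ ?_
      rw [mem_centralizer_iff]; rintro _ ⟨i, rfl⟩
      exact ((Commute.zpow_left (mem_centralizer_iff.1 hru u rfl : Commute u r) i)).eq
    have hrv : r * v * r⁻¹ ∈ T := by
      refine ⟨mul_mem (mul_mem hrW hvT.1) (inv_mem hrW), fun e he => ?_⟩
      have h1 := hvT.2 (r⁻¹ * e * r) (by simpa using Normal.conj_mem ‹E.Normal› e he r⁻¹)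
      have := (mem_normalizer_iff.1 hrW _).1 h1
      convert this using 1 <;> first | rfl | group
    have hgT : g ∈ T := by rw [hg]; exact mul_mem hrv (inv_mem hvT)
    have hle : ⁅E, zpowers g⁆ ≤ ⁅E, zpowers u⁆ := by
      rw [← hc u hu hu1, commutator_le]
      intro e he a ha
      have := inv_mem ((zpowers_le.2 hgT ha).2 e he)
      simpa [commutatorElement_def, mul_assoc, W] using this
    have h0 := commutator_eq_bot E (zpowers u) (zpowers g) hE (hUp.to_le (zpowers_le.2 hu))
      (by rw [Nat.card_zpowers]; exact hp.coprime_iff_not_dvd.1 hord.symm)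
      (by rw [normalizer_eq_top]; exact le_top) (by rw [normalizer_eq_top]; exact le_top)
      (by
        rw [commutator_eq_bot_iff_le_centralizer, zpowers_le, mem_centralizer_iff]
        rintro _ ⟨i, rfl⟩
        exact ((Commute.zpow_left (hgu : Commute g u) i)).eq) hle
    exact le_centralizer_iff.1 (commutator_eq_bot_iff_le_centralizer.1 h0) (mem_zpowers g)

end CfsgLib.LocalEven.CommutatorAB
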