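import Cfsg.Agent.Lib.LocalEven.StrongEmb2
import Cfsg.Agent.Lib.LocalEven.PReduced2
import Cfsg.Agent.Lib.Coprime.Action2
import Cfsg.Agent.Lib.Base.Cores
import Cfsg.Agent.Lib.PGroups.Basic
import Cfsg.Prelude.Def_SylowChains

/-!
Applications of strong `p`-embedding: normal subgroups, chains of Sylow subgroups,
centralizer criteria.
-/

namespace CfsgLib.LocalEven

variable {G : Type*} [Group G] [Finite G] {p : ℕ} [Fact p.Prime] {H : Subgroup G}

omit [Finite G] in
theorem map_conj_zpowers (g x : G) :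
    (Subgroup.zpowers x).map (MulAut.conj g).toMonoidHom = Subgroup.zpowers (g * x * g⁻¹) :=
  MonoidHom.map_zpowers _ x

theorem isPGroup_zpowers_of_orderOf {x : G} (hx : orderOf x = p) :
    IsPGroup p (Subgroup.zpowers x) :=
  IsPGroup.of_card (n := 1) (by rw [Nat.card_zpowers, hx, pow_one])

theorem LocallyClosedIn.centralizer_le (hH : LocallyClosedIn p H) {x : G} (hx : x ∈ H)
    (hxp : orderOf x = p) : Subgroup.centralizer ({x} : Set G) ≤ H := by
  have h := hH (Subgroup.zpowers x) (Subgroup.zpowers_le.2 hx) (isPGroup_zpowers_of_orderOf hxp)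
    (fun e => by
      rw [Subgroup.zpowers_eq_bot] at e
      rw [e, orderOf_one] at hxp
      exact (Fact.out : p.Prime).ne_one hxp.symm)
  refine le_trans ?_ h
  rw [← Subgroup.centralizer_closure, ← Subgroup.zpowers_eq_closure]
  exact Subgroup.centralizer_le_normalizer _

theorem exists_orderOf_eq_prime_central {A B : Subgroup G} (hB : IsPGroup p B) (hAB : A ≤ B)
    (hn : B ≤ Subgroup.normalizer (A : Set G)) (hne : A ≠ ⊥) :
    ∃ z ∈ A, orderOf z = p ∧ B ≤ Subgroup.centralizer ({z} : Set G) := by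
  have hnorm : (A.subgroupOf B).Normal := (Subgroup.normal_subgroupOf_iff_le_normalizer hAB).2 hn
  have : Nontrivial (A.subgroupOf B) := by
    rw [Subgroup.nontrivial_iff_ne_bot]
    intro e
    exact hne (by
      have := congrArg (Subgroup.map B.subtype) e
      rwa [Subgroup.map_subgroupOf_eq_of_le hAB, Subgroup.map_bot] at this)
  have hne' : (A.subgroupOf B) ⊓ Subgroup.center B ≠ ⊥ :=
    CfsgLib.PGroups.inf_center_ne_bot hB (Subgroup.nontrivial_iff_ne_bot _ |>.1 inferInstance)
  have hd : p ∣ Nat.card ↥((A.subgroupOf B) ⊓ Subgroup.center B) := by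
    obtain ⟨k, hk⟩ := IsPGroup.iff_card.1 (hB.to_subgroup ((A.subgroupOf B) ⊓ Subgroup.center B))
    rcases k with _ | k
    · rw [pow_zero] at hk; exact absurd (Subgroup.eq_bot_of_card_eq _ hk) hne'
    · rw [hk]; exact dvd_pow_self p k.succ_ne_zero
  obtain ⟨z, hz⟩ := exists_prime_orderOf_dvd_card' p hd
  refine ⟨((z : B) : G), z.2.1, by rw [Subgroup.orderOf_coe, Subgroup.orderOf_coe, hz], ?_⟩
  intro b hb
  rw [Subgroup.mem_centralizer_singleton_iff]
  exact congrArg Subtype.val (Subgroup.mem_center_iff.1 z.2.2 ⟨b, hb⟩)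

/-- Centralizers of elements of order `p` and the normalizer of a Sylow subgroup suffice. -/
theorem locallyClosedIn_of_centralizer
    (hC : ∀ x ∈ H, orderOf x = p → Subgroup.centralizer ({x} : Set G) ≤ H)
    (hN : ∀ S : Sylow p H,
      Subgroup.normalizer (((S : Subgroup H).map H.subtype : Subgroup G) : Set G) ≤ H) :
    LocallyClosedIn p H := by
  suffices key : ∀ n, ∀ A : Subgroup G, A ≤ H → IsPGroup p A → A ≠ ⊥ →
      Nat.card G ≤ Nat.card A + n → Subgroup.normalizer (A : Set G) ≤ H from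
    fun A h1 h2 h3 => key _ A h1 h2 h3 (Nat.le_add_left _ _)
  intro n
  induction n with
  | zero =>
    intro A hA _ _ hc
    have : A = ⊤ := Subgroup.eq_top_of_le_card A (by simpa using hc)
    subst this
    exact le_top.trans hA
  | succ n ih =>
    intro A hA hAp hne hc
    by_cases hS : CfsgLib.Fusion.IsSylIn p A H
    · obtain ⟨S, hS'⟩ := (CfsgLib.Fusion.exists_sylow_iff hA).2 hS
      have := hN S
      rwa [hS', Subgroup.map_subgroupOf_eq_of_le hA] at this
    obtain ⟨b, hbH, hbA, hbN, k, hk⟩ := CfsgLib.Fusion.exists_normalizing hA hAp hS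
    obtain ⟨B, hAB, hB⟩ := CfsgLib.Fusion.exists_isSylIn_of_isPGroup hAp
      (le_inf hA (Subgroup.le_normalizer (H := A)))
    have hlt : A < B := by
      refine lt_of_le_of_ne hAB fun e => ?_
      have hp' : IsPGroup p (Subgroup.zpowers b) := by
        intro y
        refine ⟨k, Subtype.ext ?_⟩
        obtain ⟨m, hm⟩ := y.2
        rw [Subgroup.coe_pow, ← hm, ← zpow_natCast, ← zpow_mul, mul_comm, zpow_mul, zpow_natCast,
          hk, one_zpow, Subgroup.coe_one]
      have hsup : IsPGroup p ↥(Subgroup.zpowers b ⊔ A) :=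
        hp'.to_sup_of_normal_right' hAp (Subgroup.zpowers_le.2 hbN)
      have : Subgroup.zpowers b ⊔ A = B := hB.2.2 _ hsup (e ▸ le_sup_right)
        (sup_le (Subgroup.zpowers_le.2 ⟨hbH, hbN⟩) (hAB.trans hB.1))
      exact hbA (e.symm ▸ this.le ((le_sup_left : Subgroup.zpowers b ≤ _) (Subgroup.mem_zpowers b)))
    have hBne : B ≠ ⊥ := fun e => hne (le_bot_iff.1 (e ▸ hAB))
    have hNB : Subgroup.normalizer (B : Set G) ≤ H := by
      refine ih B (hB.1.trans inf_le_left) hB.2.1 hBne ?_
      have : Nat.card A < Nat.card B := by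
        refine lt_of_le_of_ne (Subgroup.card_le_of_le hAB) fun e => hlt.ne ?_
        exact Subgroup.eq_of_le_of_card_ge hAB e.ge
      omega
    obtain ⟨z, hzA, hzp, hzB⟩ :=
      exists_orderOf_eq_prime_central hB.2.1 hAB (hB.1.trans inf_le_right) hne
    intro g hg
    have hgz : g * z * g⁻¹ ∈ A := (Subgroup.mem_normalizer_iff.1 hg z).1 hzA
    have hconj : B.map (MulAut.conj g).toMonoidHom ≤ H ⊓ Subgroup.normalizer (A : Set G) := by
      refine le_inf ?_ ?_
      · refine le_trans ?_ (hC _ (hA hgz) (by rw [← hzp]; exact orderOf_injective (MulAut.conj g).toMonoidHom (MulAut.conj g).injective z))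
        rintro _ ⟨b', hb', rfl⟩
        rw [Subgroup.mem_centralizer_singleton_iff]
        have := Subgroup.mem_centralizer_singleton_iff.1 (hzB hb')
        simp only [MulEquiv.coe_toMonoidHom, MulAut.conj_apply]
        calc g * b' * g⁻¹ * (g * z * g⁻¹) = g * (b' * z) * g⁻¹ := by group
          _ = g * (z * b') * g⁻¹ := by rw [this]
          _ = g * z * g⁻¹ * (g * b' * g⁻¹) := by group
      · refine (Subgroup.map_mono (hB.1.trans inf_le_right)).trans ?_
        rw [map_conj_normalizer, conj_map_eq_of_mem_normalizer hg]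
    obtain ⟨m, hm, hmB⟩ := hB.exists_conj_le (hB.2.1.map _) hconj
    have hle : B.map (MulAut.conj (m * g)).toMonoidHom ≤ B := by
      rw [← conj_map_conj_map]
      rintro _ ⟨a, ha, rfl⟩
      exact hmB a ha
    have := hNB (mem_normalizer_of_conj (Subgroup.eq_of_le_of_card_ge hle
      (le_of_eq (Subgroup.card_map_of_injective (MulAut.conj (m * g)).injective).symm)))
    exact (H.mul_mem_cancel_left hm.1).1 this

theorem sylow_normalizer_of_one (hS : ∃ S : Sylow p H,
      Subgroup.normalizer (((S : Subgroup H).map H.subtype : Subgroup G) : Set G) ≤ H) :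
    ∀ S : Sylow p H,
      Subgroup.normalizer (((S : Subgroup H).map H.subtype : Subgroup G) : Set G) ≤ H := by
  obtain ⟨S, hS⟩ := hS
  intro S'
  obtain ⟨h, rfl⟩ := MulAction.exists_smul_eq H S S'
  rw [← conj_sylow_map, ← map_conj_normalizer]
  exact (map_conj_le_iff h.2).2 hS

/-- Strongly `p`-embedded subgroups supplement normal subgroups of order divisible by `p`. -/
theorem sup_eq_top_of_stronglyPEmbedded (hH : Cfsg.IsStronglyPEmbedded p H) (N : Subgroup G)
    [N.Normal] (hN : p ∣ Nat.card N) : H ⊔ N = ⊤ := by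
  obtain ⟨P, -, hPH, hP⟩ := exists_sylow_of_stronglyPEmbedded hH
  obtain ⟨Q, hQ⟩ := exists_sylow_inf_eq P (N := ⊤) (C := N) le_top le_top
    (by rw [Subgroup.normalizer_eq_top_iff.2 inferInstance])
  have := Sylow.normalizer_sup_eq_top Q
  rw [hQ] at this
  refine top_le_iff.1 (this.ge.trans (sup_le_sup_right (hP _ inf_le_left ?_) N))
  intro e
  apply Q.ne_bot_of_dvd_card hN
  rwa [← hQ, Subgroup.map_eq_bot_iff_of_injective _ N.subtype_injective] at e

theorem exists_orderOf_mem_inf_sylow (P : Sylow p G) (N : Subgroup G) [N.Normal]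
    (hN : p ∣ Nat.card N) :
    ∃ z ∈ N, z ∈ (P : Subgroup G) ∧ orderOf z = p ∧
      (P : Subgroup G) ≤ Subgroup.centralizer ({z} : Set G) := by
  obtain ⟨Q, hQ⟩ := exists_sylow_inf_eq P (N := ⊤) (C := N) le_top le_top
    (by rw [Subgroup.normalizer_eq_top_iff.2 inferInstance])
  have hne : (P : Subgroup G) ⊓ N ≠ ⊥ := by
    intro e
    apply Q.ne_bot_of_dvd_card hN
    rwa [← hQ, Subgroup.map_eq_bot_iff_of_injective _ N.subtype_injective] at e
  obtain ⟨z, hz, hzp, hzc⟩ := exists_orderOf_eq_prime_central (A := (P : Subgroup G) ⊓ N)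
    P.isPGroup' inf_le_left
    ((le_inf Subgroup.le_normalizer
      (by rw [Subgroup.normalizer_eq_top_iff.2 inferInstance]; exact le_top)).trans
      Subgroup.inf_normalizer_le_normalizer_inf) hne
  exact ⟨z, hz.2, hz.1, hzp, hzc⟩

/-- `p'`-subgroups normalized by a noncyclic elementary abelian subgroup of `H` lie in `H`. -/
theorem LocallyClosedIn.le_of_coprime (hH : LocallyClosedIn p H) {A K : Subgroup G}
    [IsMulCommutative A] (hA : A ≤ H) (hexp : ∀ a ∈ A, a ^ p = 1) (hnc : ¬ IsCyclic A)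
    (hAK : A ≤ Subgroup.normalizer (K : Set G)) (hK : ¬ p ∣ Nat.card K) : K ≤ H := by
  refine CfsgLib.Coprime.le_of_centralizer_le_of_not_isCyclic hnc hAK ?_ fun a ha ha1 => ?_
  · obtain ⟨n, hn⟩ := IsPGroup.iff_card.1 (show IsPGroup p A from fun a => ⟨1, Subtype.ext (by
      simpa using hexp a a.2)⟩)
    rw [hn]
    exact Nat.Coprime.pow_left _ ((Fact.out : p.Prime).coprime_iff_not_dvd.2 hK)
  · exact inf_le_right.trans (hH.centralizer_le (hA ha) (orderOf_eq_prime (hexp a ha) ha1))

theorem dvd_card_inf_of_stronglyPEmbedded (hH : Cfsg.IsStronglyPEmbedded p H) (N M : Subgroup G)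
    [N.Normal] [M.Normal] (hN : p ∣ Nat.card N) (hM : p ∣ Nat.card M) :
    p ∣ Nat.card ↥(N ⊓ M) := by
  by_contra hK
  obtain ⟨hne, -, hdis⟩ := stronglyPEmbedded_iff_disjoint.1 hH
  have hlc := (stronglyPEmbedded_iff.1 hH).2.2
  obtain ⟨P, -, hPH, -⟩ := exists_sylow_of_stronglyPEmbedded hH
  obtain ⟨a, haN, haP, hap, haC⟩ := exists_orderOf_mem_inf_sylow P N hN
  obtain ⟨b, hbM, hbP, hbp, -⟩ := exists_orderOf_mem_inf_sylow P M hM
  have hab : a * b = b * a := (Subgroup.mem_centralizer_singleton_iff.1 (haC hbP)).symm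
  set A := Subgroup.closure ({a, b} : Set G)
  have hAel : Cfsg.IsElementaryAbelian p A := by
    refine elemAbelian_closure ?_ ?_
    · rintro x (rfl | rfl) y (rfl | rfl) <;> first | rfl | exact hab | exact hab.symm
    · rintro x (rfl | rfl)
      · rw [← hap, pow_orderOf_eq_one]
      · rw [← hbp, pow_orderOf_eq_one]
  have : IsMulCommutative A := hAel.1
  have hnc : ¬ IsCyclic A := by
    intro hc
    have hcard : Nat.card A ≤ p := by
      classical
      have := Fintype.ofFinite A
      refine le_trans ?_ (IsCyclic.card_pow_eq_one_le (α := A) (Fact.out : p.Prime).pos)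
      rw [Nat.card_eq_fintype_card, Finset.filter_true_of_mem (fun x _ => Subtype.ext (by
        simpa using hAel.2 x x.2)), Finset.card_univ]
    have h1 : Subgroup.zpowers a = A := Subgroup.eq_of_le_of_card_ge
      (Subgroup.zpowers_le.2 (Subgroup.subset_closure (by simp)))
      (by rw [Nat.card_zpowers, hap]; exact hcard)
    have h2 : Subgroup.zpowers b = A := Subgroup.eq_of_le_of_card_ge
      (Subgroup.zpowers_le.2 (Subgroup.subset_closure (by simp)))
      (by rw [Nat.card_zpowers, hbp]; exact hcard)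
    apply hK
    rw [← hap]
    exact Subgroup.orderOf_dvd_natCard _ ⟨haN,
      (Subgroup.zpowers_le.2 hbM) (h2.ge (h1.le (Subgroup.mem_zpowers a)))⟩
  have hKH : N ⊓ M ≤ H := hlc.le_of_coprime ((Subgroup.closure_le _).2 (by
      rintro x (rfl | rfl)
      · exact hPH haP
      · exact hPH hbP)) hAel.2 hnc
    (by rw [Subgroup.normalizer_eq_top_iff.2 inferInstance]; exact le_top) hK
  have hMH : M ≤ H := by
    intro m hm
    by_contra hmH
    refine hdis m⁻¹ (fun h => hmH (inv_mem_iff.1 h)) ?_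
    rw [← hap]
    refine Subgroup.orderOf_dvd_natCard _ ⟨hPH haP, m * a * m⁻¹, ?_, by simp [mul_assoc]⟩
    have hc : m * a * m⁻¹ * a⁻¹ ∈ N ⊓ M := by
      refine ⟨N.mul_mem ((inferInstance : N.Normal).conj_mem a haN m) (N.inv_mem haN), ?_⟩
      have := M.mul_mem hm ((inferInstance : M.Normal).conj_mem m⁻¹ (M.inv_mem hm) a)
      simpa [mul_assoc] using this
    have := H.mul_mem (hKH hc) (hPH haP)
    simpa using this
  exact hne (top_le_iff.1 ((sup_eq_top_of_stronglyPEmbedded hH M hM).ge.trans (sup_le le_rfl hMH)))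

end CfsgLib.LocalEven
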