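import Cfsg.Agent.Lib.LocalEven.CDSimple

/-!
In a nilpotent group some minimal centrally large subgroup is normalised by every minimal
centrally large subgroup and by every abelian subgroup of largest order.
-/

set_option autoImplicit false

namespace CfsgLib.LocalEven.CD

open Cfsg
open scoped Pointwise commutatorElement

universe u

variable {G : Type u} [Group G] [Finite G]

theorem le_normalizer_of_cj_le {L N : Subgroup G} (h : ∀ x ∈ L, cj x N ≤ N) :
    L ≤ Subgroup.normalizer (N : Set G) := fun x hx =>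
  Subgroup.mem_normalizer_iff_map_conj_eq.2
    (Subgroup.eq_of_le_of_card_ge (h x hx) (card_cj x N).ge)

theorem cj_eq_of_mem_normalizer {x : G} {N : Subgroup G}
    (h : x ∈ Subgroup.normalizer (N : Set G)) : cj x N = N :=
  Subgroup.mem_normalizer_iff_map_conj_eq.1 h

omit [Finite G] in
theorem cj_cen_le_of_le {x : G} {R : Subgroup G} (h : cj x R = R) : cj x (cen R) = cen R := by
  rw [← cen_cj, h]

theorem exists_normal_above [Group.IsNilpotent G] {X L : Subgroup G} (hXL : X ≤ L) (hne : X ≠ L) :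
    ∃ N : Subgroup G, X ≤ N ∧ N ≤ L ∧ N ≠ L ∧ L ≤ Subgroup.normalizer (N : Set G) := by
  rcases eq_top_or_exists_le_coatom (X.subgroupOf L) with h | ⟨M, hM, hXM⟩
  · exact absurd (le_antisymm hXL (Subgroup.subgroupOf_eq_top.1 h)) hne
  · have hn : M.Normal :=
      Subgroup.NormalizerCondition.normal_of_coatom _ Group.normalizerCondition_of_isNilpotent hM
    refine ⟨M.map L.subtype, fun x hx => ⟨⟨x, hXL hx⟩, hXM hx, rfl⟩, Subgroup.map_subtype_le M,
      fun h => hM.1 ?_, ?_⟩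
    · apply Subgroup.map_injective L.subtype_injective
      rw [h, ← MonoidHom.range_eq_map, Subgroup.range_subtype]
    · refine le_normalizer_of_cj_le fun x hx => ?_
      rintro y ⟨z, ⟨m, hm, rfl⟩, rfl⟩
      exact ⟨⟨x, hx⟩ * m * ⟨x, hx⟩⁻¹, hn.conj_mem m hm ⟨x, hx⟩, rfl⟩

theorem exists_fixed_mod [Group.IsNilpotent G] {N Z L : Subgroup G} (hne : ¬ N ≤ Z)
    (hL : L ≤ Subgroup.normalizer (N : Set G)) :
    ∃ v ∈ N, v ∉ Z ∧ ∀ l ∈ L, l * v * l⁻¹ * v⁻¹ ∈ Z := by
  classical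
  have hex : ∃ k, (⊤ : Subgroup G).lowerCentralSeries k ⊓ N ≤ Z := by
    obtain ⟨n, hn⟩ := Subgroup.nilpotent_iff_lowerCentralSeries.1 (inferInstance : Group.IsNilpotent G)
    exact ⟨n, by rw [hn, bot_inf_eq]; exact bot_le⟩
  have hspec := Nat.find_spec hex
  have hmin := fun {m} => Nat.find_min (m := m) hex
  set k := Nat.find hex
  cases hk : k with
  | zero =>
    rw [hk] at hspec
    rw [Subgroup.lowerCentralSeries_zero, top_inf_eq] at hspec
    exact absurd hspec hne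
  | succ j =>
    rw [hk] at hspec hmin
    obtain ⟨v, hv, hvZ⟩ := SetLike.not_le_iff_exists.1 (hmin (Nat.lt_succ_self j))
    have hvN : v ∈ N := hv.2
    refine ⟨v, hvN, hvZ, fun l hl => hspec ⟨?_, ?_⟩⟩
    · have h1 : ⁅v, l⁆ ∈ (⊤ : Subgroup G).lowerCentralSeries (j + 1) := by
        rw [Subgroup.lowerCentralSeries_succ]
        exact Subgroup.commutator_mem_commutator hv.1 (Subgroup.mem_top l)
      have h2 := inv_mem h1
      rw [commutatorElement_inv] at h2
      simpa [commutatorElement_def] using h2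
    · show l * v * l⁻¹ * v⁻¹ ∈ N
      refine mul_mem ?_ (inv_mem hvN)
      have := cj_eq_of_mem_normalizer (hL hl)
      exact this ▸ Subgroup.mem_map_of_mem _ hvN

theorem large_sInf {s : Set (Subgroup G)} (hs : s.Nonempty)
    (h : ∀ Q ∈ s, IsCentralizerLarge Q) : IsCentralizerLarge (sInf s) := by
  have hfin : s.Finite := Set.toFinite s
  induction s, hfin using Set.Finite.induction_on with
  | empty => exact absurd hs (by simp)
  | @insert a t _ _ ih =>
    rw [sInf_insert]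
    rcases t.eq_empty_or_nonempty with rfl | hne
    · simpa using h a (by simp)
    · exact (large_sup_inf (h a (by simp)) (ih hne fun Q hQ => h Q (by simp [hQ]))).2.2.1

/-- The conjugates of `Q` under the elements of `L`. -/
def orbit (L Q : Subgroup G) : Set (Subgroup G) := (fun l => cj l Q) '' (L : Set G)

omit [Finite G] in
theorem mem_orbit_self (L Q : Subgroup G) : Q ∈ orbit L Q := ⟨1, one_mem L, cj_one Q⟩

theorem orbit_sSup_normal (L Q : Subgroup G) :
    L ≤ Subgroup.normalizer ((sSup (orbit L Q) : Subgroup G) : Set G) := by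
  refine le_normalizer_of_cj_le fun x hx => Subgroup.map_le_iff_le_comap.2 (sSup_le ?_)
  rintro _ ⟨l, hl, rfl⟩
  refine Subgroup.map_le_iff_le_comap.1 ?_
  refine le_of_eq_of_le (cj_cj x l Q) (le_sSup ⟨x * l, mul_mem hx hl, rfl⟩)

theorem orbit_sInf_normal (L Q : Subgroup G) :
    L ≤ Subgroup.normalizer ((sInf (orbit L Q) : Subgroup G) : Set G) := by
  refine le_normalizer_of_cj_le fun x hx => le_sInf ?_
  rintro _ ⟨l, hl, rfl⟩
  have h1 : sInf (orbit L Q) ≤ cj (x⁻¹ * l) Q :=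
    sInf_le ⟨x⁻¹ * l, mul_mem (inv_mem hx) hl, rfl⟩
  refine (cj_mono x h1).trans (le_of_eq ?_)
  rw [cj_cj, mul_inv_cancel_left]

/-- A minimal centrally large subgroup or an abelian subgroup of largest order. -/
def IsOp (E : Subgroup G) : Prop := IsMinimalCentrallyLarge E ∨ E ∈ maxAbelianSubgroups G

theorem op_cj {E : Subgroup G} (g : G) (h : IsOp E) : IsOp (cj g E) :=
  h.imp (mcl_cj g) (maxAb_cj g)

theorem zOf_maxAb {A : Subgroup G} (hA : A ∈ maxAbelianSubgroups G) : zOf A = A :=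
  inf_eq_left.2 (maxAb_isComm hA)

theorem op_prod {Q E : Subgroup G} (hQ : IsCentrallyLarge Q) (hE : IsOp E) :
    ((Q ⊔ E : Subgroup G) : Set G) = (Q : Set G) * (E : Set G) := by
  rcases hE with h | h
  · exact (cl_sup hQ h.1).1
  · exact (cl_sup_maxAb hQ h).1

theorem op_cent {Q E : Subgroup G} (hQ : IsCentrallyLarge Q) (hE : IsOp E) {x : G}
    (hx : x ∈ Q ⊔ E) (hxc : x ∈ cen (Q ⊓ E)) : ∃ t ∈ cen Q, ∃ β ∈ zOf E, t * β = x := by
  rcases hE with h | h
  · have h4 := (large_sup_inf (cl_large hQ) (cl_large h.1)).2.2.2.1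
    rw [zOf_eq h.1]
    exact Set.mem_mul.1 (h4 ▸ hxc)
  · obtain ⟨-, -, h3, h4⟩ := cl_sup_maxAb hQ h
    rw [zOf_maxAb h, ← zOf_eq hQ]
    exact Set.mem_mul.1 (h4 ▸ (SetLike.le_def.1 h3.le ⟨hx, hxc⟩ : x ∈ zOf Q ⊔ E))

theorem op_split {W E : Subgroup G} (hW : IsCentrallyLarge W) (hE : IsOp E) :
    (E ⊓ W) ⊔ zOf E = E := by
  rcases hE with h | h
  · rw [zOf_eq h.1]; exact mcl_eq_inf_sup h hW
  · rw [zOf_maxAb h]; exact sup_eq_right.2 inf_le_left

variable [Group.IsNilpotent G]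

theorem exists_normal_mcl_step {W : Subgroup G} (hW : IsCentrallyLarge W)
    {L X E Q : Subgroup G} (hL : L ≤ Subgroup.normalizer (W : Set G))
    (hWX : W ≤ X) (hE : IsOp E) (hsup : X ⊔ E = L)
    (hXn : L ≤ Subgroup.normalizer (X : Set G))
    (hQ : IsMinimalCentrallyLarge Q) (hQW : Q ≤ W) (hXQ : X ≤ Subgroup.normalizer (Q : Set G))
    (hU : sSup (orbit L Q) = W) (hne : Q ≠ W) :
    ∃ V : Subgroup G, IsCentrallyLarge V ∧ V ≤ W ∧ V ≠ W ∧
      L ≤ Subgroup.normalizer (V : Set G) := by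
  have hEL : E ≤ L := le_sup_right.trans hsup.le
  have hXL : X ≤ L := le_sup_left.trans hsup.le
  have hZE : zOf E ≤ E := inf_le_left
  have hZW : cen W ≤ W := cl_cen_le hW
  have hWL : W ≤ L := hWX.trans hXL
  -- every conjugate of `Q` is a conjugate by an element of `Z(E)`
  have horb : ∀ l ∈ L, ∃ b ∈ zOf E, cj l Q = cj b Q := by
    intro l hl
    rw [← hsup, ← SetLike.mem_coe, sup_comm,
      Subgroup.coe_mul_of_left_le_normalizer_right E X (hEL.trans hXn)] at hl
    obtain ⟨e, he, x, hx, rfl⟩ := hl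
    have he' : e ∈ (((E ⊓ W) ⊔ zOf E : Subgroup G) : Set G) := by rw [op_split hW hE]; exact he
    rw [sup_eq_mul_of_le_cen
      (show zOf E ≤ cen (E ⊓ W) from inf_le_right.trans (cen_anti inf_le_left))] at he'
    obtain ⟨w, hw, b, hb, rfl⟩ := he'
    refine ⟨b, hb, ?_⟩
    have hwb : b * w = w * b :=
      (Subgroup.mem_centralizer_iff.1 (show b ∈ cen E from (show b ∈ E ⊓ cen E from hb).2) w hw.1).symm
    show cj (w * b * x) Q = _
    rw [← hwb, mul_assoc, ← cj_cj,
      cj_eq_of_mem_normalizer (hXQ (mul_mem (hWX hw.2) hx))]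
  -- `W ≤ Q ⊔ E`
  have hWQE : W ≤ Q ⊔ E := by
    rw [← hU]
    refine sSup_le ?_
    rintro _ ⟨l, hl, rfl⟩
    obtain ⟨b, hb, e⟩ := horb l hl
    show cj l Q ≤ _
    rw [e]
    exact le_of_le_of_eq (cj_mono b (le_sup_left : Q ≤ Q ⊔ E))
      (cj_eq_of_mem_normalizer (Subgroup.le_normalizer (le_sup_right (a := Q) (hZE hb))))
  -- `Z(W)` lies in every conjugate of `Q`
  have hQorb : ∀ l ∈ L, cj l Q ≤ W := fun l hl =>
    le_of_le_of_eq (cj_mono l hQW) (cj_eq_of_mem_normalizer (hL hl))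
  have hZQ : cen Q ≤ Q := cl_cen_le hQ.1
  have hZle : cen W ≤ cen Q := cen_anti hQW
  have hZH : cen W ≤ sInf (orbit L Q) := le_sInf fun _ h => by
    obtain ⟨l, hl, rfl⟩ := h
    exact (cen_anti (hQorb l hl)).trans (cl_cen_le (cl_cj l hQ.1))
  set H := sInf (orbit L Q) with hHdef
  have hHQ : H ≤ Q := sInf_le (mem_orbit_self L Q)
  have hHl : IsCentralizerLarge H := large_sInf ⟨Q, mem_orbit_self L Q⟩ fun _ h => by
    obtain ⟨l, -, rfl⟩ := h
    exact large_cj l (cl_large hQ.1)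
  have hHn : L ≤ Subgroup.normalizer (H : Set G) := orbit_sInf_normal L Q
  have hQEH : Q ⊓ E ≤ H := le_sInf fun _ h x hx => by
    obtain ⟨l, hl, rfl⟩ := h
    obtain ⟨b, hb, e⟩ := horb l hl
    show x ∈ cj l Q
    rw [e]
    refine ⟨x, hx.1, ?_⟩
    show b * x * b⁻¹ = x
    rw [← Subgroup.mem_centralizer_iff.1 (show b ∈ cen E from (show b ∈ E ⊓ cen E from hb).2) x hx.2,
      mul_inv_cancel_right]
  -- the elements of `Z(Q)` fixed modulo `Z(W)` by `Z(E)` lie in `Z(W)`
  have hfix : ∀ t ∈ cen Q, (∀ b ∈ zOf E, b * t * b⁻¹ * t⁻¹ ∈ cen W) → t ∈ cen W := by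
    intro t ht hb
    have hall : ∀ l ∈ L, t ∈ cen (cj l Q) := by
      intro l hl
      obtain ⟨b, hb', e⟩ := horb l hl
      rw [e, cen_cj]
      refine ⟨b⁻¹ * t * b, ?_, by simp [mul_assoc]⟩
      have h1 := hb b⁻¹ (inv_mem hb')
      rw [inv_inv] at h1
      have h2 := mul_mem (hZle h1) ht
      rwa [inv_mul_cancel_right] at h2
    have hle : W ≤ cen (Subgroup.zpowers t) := by
      rw [← hU]
      refine sSup_le ?_
      rintro _ ⟨l, hl, rfl⟩
      exact Subgroup.le_centralizer_iff.1 (Subgroup.zpowers_le.2 (hall l hl))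
    exact (Subgroup.le_centralizer_iff.1 hle) (Subgroup.mem_zpowers t)
  set Y := W ⊓ cen H with hYdef
  set T := (zOf E ⊓ Y) ⊔ cen W with hTdef
  have hcW : cen W ≤ Y := le_inf hZW (cen_anti (hHQ.trans hQW))
  have hTY : T ≤ Y := sup_le inf_le_right hcW
  have hTcomm : cen W ≤ cen (zOf E ⊓ Y) := cen_anti (inf_le_right.trans inf_le_left)
  have hTset : (T : Set G) = ((zOf E ⊓ Y : Subgroup G) : Set G) * (cen W : Set G) :=
    sup_eq_mul_of_le_cen hTcomm
  have hTab : T ≤ cen T :=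
    isComm_sup (inf_le_left.trans ((inf_le_right.trans (cen_anti inf_le_left)).trans
      (cen_anti inf_le_left))) (hZW.trans (le_cen_cen W)) hTcomm
  have hdec : ∀ x ∈ Y, ∃ t ∈ cen Q, ∃ β ∈ zOf E ⊓ Y, t * β = x := by
    intro x hx
    obtain ⟨t, ht, β, hβ, rfl⟩ := op_cent hQ.1 hE (hWQE hx.1) (cen_anti hQEH hx.2)
    refine ⟨t, ht, β, ⟨hβ, ?_⟩, rfl⟩
    have htY : t ∈ Y := ⟨hQW (hZQ ht), cen_anti hHQ ht⟩
    simpa using mul_mem (inv_mem htY) hx
  have hTfix : ∀ x ∈ T, ∀ b ∈ zOf E, b * x * b⁻¹ * x⁻¹ ∈ cen W := by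
    intro x hx b hb
    rw [← SetLike.mem_coe, hTset] at hx
    obtain ⟨β, hβ, c, hc, rfl⟩ := hx
    have hbb : β * b = b * β :=
      Subgroup.mem_centralizer_iff.1 (show b ∈ cen E from (show b ∈ E ⊓ cen E from hb).2) β (hZE hβ.1)
    have hbc : b * c * b⁻¹ ∈ cen W := by
      have := cj_cen_le_of_le (cj_eq_of_mem_normalizer (hL (hEL (hZE hb))))
      exact this ▸ Subgroup.mem_map_of_mem _ hc
    have hw : β * (b * c * b⁻¹ * c⁻¹) = (b * c * b⁻¹ * c⁻¹) * β :=
      Subgroup.mem_centralizer_iff.1 (mul_mem hbc (inv_mem hc)) β hβ.2.1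
    have : b * (β * c) * b⁻¹ * (β * c)⁻¹ = b * c * b⁻¹ * c⁻¹ := by
      calc b * (β * c) * b⁻¹ * (β * c)⁻¹ = (b * β) * c * b⁻¹ * c⁻¹ * β⁻¹ := by group
        _ = β * (b * c * b⁻¹ * c⁻¹) * β⁻¹ := by rw [← hbb]; group
        _ = b * c * b⁻¹ * c⁻¹ := by rw [hw]; group
    show b * (β * c) * b⁻¹ * (β * c)⁻¹ ∈ _
    rw [this]
    exact mul_mem hbc (inv_mem hc)
  have hTQ : cen Q ⊓ T = cen W :=
    le_antisymm (fun x hx => hfix x hx.1 (hTfix x hx.2)) (le_inf hZle le_sup_right)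
  have hZQY : cen Q ≤ Y := le_inf (hZQ.trans hQW) (cen_anti hHQ)
  have hYset : (Y : Set G) = (cen Q : Set G) * (T : Set G) := by
    apply Set.Subset.antisymm
    · intro x hx
      obtain ⟨t, ht, β, hβ, rfl⟩ := hdec x hx
      exact ⟨t, ht, β, le_sup_left (b := cen W) hβ, rfl⟩
    · exact (mul_subset_sup _ _).trans (SetLike.coe_subset_coe.2 (sup_le hZQY hTY))
  -- `Q = H Z(Q)`
  set K := H ⊔ cen Q with hKdef
  have hKQ : K = Q := by
    have hKl := (large_sup_inf hHl (large_cen (cl_large hQ.1)).1).2.1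
    have hKle : K ≤ Q := sup_le hHQ hZQ
    have hcK : cen K ≤ cen Q ⊔ (T ⊓ Q) := by
      rw [hKdef, cen_sup, (large_cen (cl_large hQ.1)).2]
      rintro x ⟨hxH, hxQ⟩
      have hxY : x ∈ (Y : Set G) := ⟨hQW hxQ, hxH⟩
      rw [hYset] at hxY
      obtain ⟨t, ht, s, hs, rfl⟩ := hxY
      have hsQ : s ∈ Q := by
        have hxQ' : t * s ∈ Q := hxQ
        simpa using mul_mem (inv_mem (hZQ ht)) hxQ'
      exact Subgroup.mul_mem_sup ht ⟨hs, hsQ⟩
    have hab : cen Q ⊔ (T ⊓ Q) ≤ cen (cen Q ⊔ (T ⊓ Q)) :=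
      isComm_sup (hZQ.trans (le_cen_cen Q)) ((inf_le_left.trans hTab).trans (cen_anti inf_le_left))
        (inf_le_right.trans (le_cen_cen Q))
    have hcKK : cen K ≤ K := by
      have h1 : cen K ≤ cen (cen K) := hcK.trans (hab.trans (cen_anti hcK))
      rwa [(large_cen hKl).2] at h1
    exact hQ.2 K hKle (cl_iff.2 ⟨hKl, hcKK⟩)
  have hHT : H ⊓ T = cen W := by
    refine le_antisymm (fun x hx => ?_) (le_inf hZH le_sup_right)
    have hxQ : x ∈ cen Q := by
      rw [← hKQ, hKdef, cen_sup]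
      exact ⟨(hTY hx.2).2, le_cen_cen Q (hHQ hx.1)⟩
    rw [← hTQ]
    exact ⟨hxQ, hx.2⟩
  have hHZ : H ⊓ cen Q = cen W := by
    refine le_antisymm (fun x hx => ?_) (le_inf hZH hZle)
    have hall : ∀ l ∈ L, x ∈ cen (cj l Q) := by
      intro l hl
      have hxl : x ∈ cj l Q := sInf_le (show cj l Q ∈ orbit L Q from ⟨l, hl, rfl⟩) hx.1
      have e : cj l Q = H ⊔ cen (cj l Q) := by
        conv_lhs => rw [← hKQ, hKdef]
        rw [cj, Subgroup.map_sup, cen_cj]
        congr 1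
        exact cj_eq_of_mem_normalizer (hHn hl)
      rw [e, cen_sup]
      exact ⟨cen_anti hHQ hx.2, le_cen_cen _ hxl⟩
    have hle : W ≤ cen (Subgroup.zpowers x) := by
      rw [← hU]
      refine sSup_le ?_
      rintro _ ⟨l, hl, rfl⟩
      exact Subgroup.le_centralizer_iff.1 (Subgroup.zpowers_le.2 (hall l hl))
    exact (Subgroup.le_centralizer_iff.1 hle) (Subgroup.mem_zpowers x)
  -- `T` is in the lattice
  obtain ⟨-, -, hYl, -, hYc⟩ := large_sup_inf (cl_large hW) (large_cen hHl).1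
  have hYc' : cen Y = H := by rw [hYdef, hYc, (large_cen hHl).2, sup_eq_right.2 hZH]
  have hTl : IsCentralizerLarge T := by
    apply large_of_le
    have e1 : Nat.card Y * Nat.card (cen W) = Nat.card (cen Q) * Nat.card T := by
      rw [← hTQ, show Nat.card Y = Nat.card (Y : Set G) from rfl, hYset]
      exact card_mul_set _ _
    have e2 : Nat.card Q * Nat.card (cen W) = Nat.card H * Nat.card (cen Q) := by
      rw [← hHZ, show Nat.card Q = Nat.card (Q : Set G) from rfl,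
        show (Q : Set G) = (H : Set G) * (cen Q : Set G) by
          rw [← sup_eq_mul_of_le_cen (cen_anti hHQ)]; exact congrArg SetLike.coe hKQ.symm]
      exact card_mul_set _ _
    have e3 : Nat.card Y * Nat.card H = maxCentralizerProduct G := by rw [← hYc']; exact hYl
    have e4 : Nat.card Q * Nat.card (cen Q) = maxCentralizerProduct G := cl_large hQ.1
    have hle : H ⊔ T ≤ cen T := sup_le (Subgroup.le_centralizer_iff.1 (hTY.trans inf_le_right)) hTab
    have e5 : Nat.card H * Nat.card T ≤ Nat.card (cen T) * Nat.card (cen W) := by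
      rw [← card_mul_set H T, hHT]
      exact Nat.mul_le_mul_right _ ((card_mul_set_le H T).trans
        (Nat.card_mono (Set.toFinite _) (SetLike.coe_subset_coe.2 hle)))
    have hz : 0 < Nat.card (cen W) := Nat.card_pos
    have hq : 0 < Nat.card (cen Q) := Nat.card_pos
    -- |T| = |Z(Q)|
    have hT : Nat.card T = Nat.card (cen Q) := by
      have hH : 0 < Nat.card H := Nat.card_pos
      refine Nat.eq_of_mul_eq_mul_left (Nat.mul_pos hq hH) ?_
      calc Nat.card (cen Q) * Nat.card H * Nat.card T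
          = (Nat.card (cen Q) * Nat.card T) * Nat.card H := by ring
        _ = (Nat.card Y * Nat.card H) * Nat.card (cen W) := by rw [← e1]; ring
        _ = (Nat.card Q * Nat.card (cen W)) * Nat.card (cen Q) := by rw [e3, ← e4]; ring
        _ = Nat.card (cen Q) * Nat.card H * Nat.card (cen Q) := by rw [e2]; ring
    refine Nat.le_of_mul_le_mul_right (?_ : _ * Nat.card (cen W) ≤ _ * Nat.card (cen W)) hz
    calc maxCentralizerProduct G * Nat.card (cen W)
        = (Nat.card Q * Nat.card (cen W)) * Nat.card (cen Q) := by rw [← e4]; ring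
      _ = (Nat.card H * Nat.card T) * Nat.card T := by rw [e2, hT]
      _ ≤ (Nat.card (cen T) * Nat.card (cen W)) * Nat.card T := Nat.mul_le_mul_right _ e5
      _ = meas T * Nat.card (cen W) := by rw [meas]; ring
  -- an element fixed modulo `Z(W)`
  have hYn : L ≤ Subgroup.normalizer (Y : Set G) := le_normalizer_of_cj_le fun x hx => by
    rw [hYdef, cj, Subgroup.map_inf _ _ _ (MulAut.conj x).injective]
    exact inf_le_inf (cj_eq_of_mem_normalizer (hL hx)).le
      (cj_cen_le_of_le (cj_eq_of_mem_normalizer (hHn hx))).le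
  have hYZ : ¬ Y ≤ cen W := by
    intro h
    apply hne
    refine le_antisymm hQW ?_
    have h1 := cen_anti (hZQY.trans h)
    rwa [(large_cen (cl_large hW)).2, (large_cen (cl_large hQ.1)).2] at h1
  obtain ⟨v, hvY, hvW, hv⟩ := exists_fixed_mod hYZ hYn
  have hvT : v ∈ T := by
    obtain ⟨t, ht, β, hβ, rfl⟩ := hdec v hvY
    have htW : t ∈ cen W := by
      refine hfix t ht fun b hb => ?_
      have hbb : β * b = b * β :=
        Subgroup.mem_centralizer_iff.1 (show b ∈ cen E from (show b ∈ E ⊓ cen E from hb).2) β (hZE hβ.1)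
      have h1 := hv b (hEL (hZE hb))
      have e : b * (t * β) * b⁻¹ * (t * β)⁻¹ = b * t * b⁻¹ * t⁻¹ := by
        calc b * (t * β) * b⁻¹ * (t * β)⁻¹ = b * t * (β * b⁻¹) * β⁻¹ * t⁻¹ := by group
          _ = b * t * (b⁻¹ * (b * β) * b⁻¹) * β⁻¹ * t⁻¹ := by group
          _ = b * t * b⁻¹ * t⁻¹ := by rw [← hbb]; group
      rwa [e] at h1
    exact mul_mem (le_sup_right (a := zOf E ⊓ Y) htW) (le_sup_left (b := cen W) hβ)
  set S := sInf (orbit L T) with hSdef
  have hvS : v ∈ S := by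
    rw [hSdef, Subgroup.mem_sInf]
    rintro _ ⟨l, hl, rfl⟩
    refine ⟨l⁻¹ * v * l, ?_, by simp [mul_assoc]⟩
    have h1 := hv l⁻¹ (inv_mem hl)
    rw [inv_inv] at h1
    have h2 := mul_mem (le_sup_right (a := zOf E ⊓ Y) h1 : _ ∈ T) hvT
    rwa [inv_mul_cancel_right] at h2
  have hST : S ≤ T := sInf_le (mem_orbit_self L T)
  have hSl : IsCentralizerLarge S := large_sInf ⟨T, mem_orbit_self L T⟩ fun _ h => by
    obtain ⟨l, -, rfl⟩ := h
    exact large_cj l hTl
  have hSn : L ≤ Subgroup.normalizer (S : Set G) := orbit_sInf_normal L T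
  refine ⟨W ⊓ cen S, cl_iff.2 ⟨(large_sup_inf (cl_large hW) (large_cen hSl).1).2.2.1, ?_⟩,
    inf_le_left, fun h => hvW ?_, le_normalizer_of_cj_le fun x hx => ?_⟩
  · rw [(large_sup_inf (cl_large hW) (large_cen hSl).1).2.2.2.2, (large_cen hSl).2]
    refine sup_le (le_inf hZW (cen_anti (hST.trans (hTY.trans inf_le_left)))) ?_
    exact le_inf (hST.trans (hTY.trans inf_le_left))
      ((hST.trans hTab).trans (cen_anti hST))
  · exact (Subgroup.le_centralizer_iff.1 (inf_eq_left.1 h)) hvS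
  · rw [cj, Subgroup.map_inf _ _ _ (MulAut.conj x).injective]
    exact inf_le_inf (cj_eq_of_mem_normalizer (hL hx)).le
      (cj_cen_le_of_le (cj_eq_of_mem_normalizer (hSn hx))).le

/-- The statement proved by induction on `W`. -/
theorem exists_normal_mcl_aux (n : ℕ) : ∀ W : Subgroup G, IsCentrallyLarge W → Nat.card W = n →
    ∀ L : Subgroup G, sSup {E | IsOp E ∧ E ≤ L} = L → L ≤ Subgroup.normalizer (W : Set G) →
      ∃ Q : Subgroup G, IsMinimalCentrallyLarge Q ∧ Q ≤ W ∧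
        L ≤ Subgroup.normalizer (Q : Set G) := by
  induction n using Nat.strong_induction_on with
  | _ n ih =>
  intro W hW hcard
  have recW : ∀ V : Subgroup G, IsCentrallyLarge V → V ≤ W → V ≠ W → ∀ L : Subgroup G,
      sSup {E | IsOp E ∧ E ≤ L} = L → L ≤ Subgroup.normalizer (V : Set G) →
      ∃ Q : Subgroup G, IsMinimalCentrallyLarge Q ∧ Q ≤ W ∧
        L ≤ Subgroup.normalizer (Q : Set G) := by
    intro V hV hle hne L hgen hL
    have hlt : Nat.card V < n := by
      subst hcard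
      exact lt_of_le_of_ne (Nat.card_mono (Set.toFinite _) (SetLike.coe_subset_coe.2 hle))
        fun h => hne (Subgroup.eq_of_le_of_card_ge hle h.ge)
    obtain ⟨Q, h1, h2, h3⟩ := ih _ hlt V hV rfl L hgen hL
    exact ⟨Q, h1, h2.trans hle, h3⟩
  intro L₀ hgen₀ hL₀
  set V := sSup {R : Subgroup G | IsMinimalCentrallyLarge R ∧ R ≤ W} with hVdef
  have hVW : V ≤ W := sSup_le fun R h => h.2
  by_cases hVne : V ≠ W
  · obtain ⟨Q₀, hQ₀W, hQ₀⟩ := exists_mcl_le hW
    refine recW V (cl_sSup ⟨Q₀, hQ₀, hQ₀W⟩ fun R h => h.1.1) hVW hVne L₀ hgen₀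
      (le_normalizer_of_cj_le fun x hx => Subgroup.map_le_iff_le_comap.2 (sSup_le fun R h => ?_))
    refine Subgroup.map_le_iff_le_comap.1 (le_sSup ⟨mcl_cj x h.1, ?_⟩)
    exact le_of_le_of_eq (cj_mono x h.2) (cj_eq_of_mem_normalizer (hL₀ hx))
  push Not at hVne
  -- enlarge `L₀` so that it contains `W`
  suffices key : ∀ m, ∀ L : Subgroup G, Nat.card L = m → W ≤ L →
      sSup {E | IsOp E ∧ E ≤ L} = L → L ≤ Subgroup.normalizer (W : Set G) →
      ∃ Q : Subgroup G, IsMinimalCentrallyLarge Q ∧ Q ≤ W ∧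
        L ≤ Subgroup.normalizer (Q : Set G) by
    have hgen : sSup {E | IsOp E ∧ E ≤ L₀ ⊔ W} = L₀ ⊔ W := by
      refine le_antisymm (sSup_le fun E h => h.2) (sup_le ?_ ?_)
      · conv_lhs => rw [← hgen₀]
        exact sSup_le fun E h => le_sSup ⟨h.1, h.2.trans le_sup_left⟩
      · conv_lhs => rw [← hVne, hVdef]
        exact sSup_le fun E h => le_sSup ⟨Or.inl h.1, h.2.trans le_sup_right⟩
    obtain ⟨Q, h1, h2, h3⟩ := key _ _ rfl le_sup_right hgen (sup_le hL₀ Subgroup.le_normalizer)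
    exact ⟨Q, h1, h2, le_sup_left.trans h3⟩
  intro m
  induction m using Nat.strong_induction_on with
  | _ m ihm =>
  intro L hLcard hWL hgen hL
  by_cases hLW : L = W
  · subst hLW
    obtain ⟨Q, hQW, hQ⟩ := exists_mcl_le hW
    by_cases hQe : Q = L
    · exact ⟨Q, hQ, hQW, hQe ▸ Subgroup.le_normalizer⟩
    obtain ⟨N, hQN, hNW, hNne, hNn⟩ := exists_normal_above hQW hQe
    have hUN : sSup (orbit L Q) ≤ N := sSup_le <| by
      rintro _ ⟨l, hl, rfl⟩
      exact le_of_le_of_eq (cj_mono l hQN) (cj_eq_of_mem_normalizer (hNn hl))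
    refine recW (sSup (orbit L Q)) (cl_sSup ⟨Q, mem_orbit_self L Q⟩ fun R h => ?_)
      (hUN.trans hNW) (fun h => hNne (le_antisymm hNW (h.symm.le.trans hUN))) L hgen
      (orbit_sSup_normal L Q)
    obtain ⟨l, -, rfl⟩ := h
    exact cl_cj l hQ.1
  obtain ⟨X, hX⟩ := Set.Finite.exists_maximal
    (Set.toFinite {X : Subgroup G | W ≤ X ∧ X ≤ L ∧ X ≠ L ∧ sSup {E | IsOp E ∧ E ≤ X} = X})
    ⟨W, le_rfl, hWL, Ne.symm hLW, le_antisymm (sSup_le fun E h => h.2) (by
      conv_lhs => rw [← hVne, hVdef]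
      exact sSup_le fun E h => le_sSup ⟨Or.inl h.1, h.2⟩)⟩
  obtain ⟨⟨hWX, hXL, hXne, hXgen⟩, hXmax⟩ := hX
  obtain ⟨N, hXN, hNL, hNne, hNn⟩ := exists_normal_above hXL hXne
  have hXn : L ≤ Subgroup.normalizer (X : Set G) := by
    have hN' : sSup {E | IsOp E ∧ E ≤ N} = X := by
      refine le_antisymm ?_ ?_
      · refine hXmax ⟨?_, (sSup_le fun E h => h.2).trans hNL, ?_, ?_⟩ ?_
        · refine hWX.trans ?_
          conv_lhs => rw [← hXgen]
          exact sSup_le fun E h => le_sSup ⟨h.1, h.2.trans hXN⟩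
        · intro h
          exact hNne (le_antisymm hNL (h.symm.le.trans (sSup_le fun E h => h.2)))
        · exact le_antisymm (sSup_le fun E h => h.2)
            (sSup_le fun E h => le_sSup ⟨h.1, le_sSup h⟩)
        · conv_lhs => rw [← hXgen]
          exact sSup_le fun E h => le_sSup ⟨h.1, h.2.trans hXN⟩
      · conv_lhs => rw [← hXgen]
        exact sSup_le fun E h => le_sSup ⟨h.1, h.2.trans hXN⟩
    refine le_normalizer_of_cj_le fun x hx => ?_
    rw [← hN']
    refine Subgroup.map_le_iff_le_comap.2 (sSup_le fun R h => Subgroup.map_le_iff_le_comap.1 ?_)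
    exact le_sSup ⟨op_cj x h.1,
      le_of_le_of_eq (cj_mono x h.2) (cj_eq_of_mem_normalizer (hNn hx))⟩
  obtain ⟨E, hE, hEL, hEX⟩ : ∃ E, IsOp E ∧ E ≤ L ∧ ¬ E ≤ X := by
    by_contra h
    push Not at h
    apply hXne
    refine le_antisymm hXL ?_
    conv_lhs => rw [← hgen]
    exact sSup_le fun E hE => h E hE.1 hE.2
  have hsup : X ⊔ E = L := by
    by_contra h
    refine hEX (le_sup_right.trans (hXmax ⟨hWX.trans le_sup_left, sup_le hXL hEL, h, ?_⟩ le_sup_left))
    refine le_antisymm (sSup_le fun F hF => hF.2) (sup_le ?_ (le_sSup ⟨hE, le_sup_right⟩))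
    conv_lhs => rw [← hXgen]
    exact sSup_le fun F hF => le_sSup ⟨hF.1, hF.2.trans le_sup_left⟩
  obtain ⟨Q, hQ, hQW, hXQ⟩ := ihm (Nat.card X) (by
    subst hLcard
    exact lt_of_le_of_ne (Nat.card_mono (Set.toFinite _) (SetLike.coe_subset_coe.2 hXL))
      fun h => hXne (Subgroup.eq_of_le_of_card_ge hXL h.ge)) X rfl hWX hXgen (hXL.trans hL)
  by_cases hne : Q = W
  · exact ⟨Q, hQ, hQW, hne ▸ hL⟩
  by_cases hU : sSup (orbit L Q) = W
  · obtain ⟨V', h1, h2, h3, h4⟩ := exists_normal_mcl_step hW hL hWX hE hsup hXn hQ hQW hXQ hU hne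
    exact recW V' h1 h2 h3 L hgen h4
  · refine recW _ (cl_sSup ⟨Q, mem_orbit_self L Q⟩ fun R h => ?_) (sSup_le ?_) hU L hgen
      (orbit_sSup_normal L Q)
    · obtain ⟨l, -, rfl⟩ := h
      exact cl_cj l hQ.1
    · rintro _ ⟨l, hl, rfl⟩
      exact le_of_le_of_eq (cj_mono l hQW) (cj_eq_of_mem_normalizer (hL hl))

theorem exists_normal_mcl : ∃ Q : Subgroup G, IsMinimalCentrallyLarge Q ∧
    thompsonSubgroupA G ≤ Subgroup.normalizer (Q : Set G) ∧
    minimalCentrallyLargeJoin G ≤ Subgroup.normalizer (Q : Set G) := by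
  set M := minimalCentrallyLargeJoin G ⊔ thompsonSubgroupA G with hM
  have hgen : sSup {E | IsOp E ∧ E ≤ M} = M := by
    refine le_antisymm (sSup_le fun E h => h.2) (sup_le (sSup_le ?_) (sSup_le ?_))
    · intro E h
      exact le_sSup ⟨Or.inl h, (le_sSup h : E ≤ minimalCentrallyLargeJoin G).trans le_sup_left⟩
    · intro E h
      exact le_sSup ⟨Or.inr h, (le_sSup h : E ≤ thompsonSubgroupA G).trans le_sup_right⟩
  obtain ⟨Q, h1, -, h3⟩ := exists_normal_mcl_aux _ M
    (cl_sup_sSup_maxAb cl_minimalJoin fun A h => h) rfl M hgen Subgroup.le_normalizer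
  exact ⟨Q, h1, le_sup_right.trans h3, le_sup_left.trans h3⟩

end CfsgLib.LocalEven.CD
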