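import Cfsg.Agent.Lib.PLocal.MaxFamily
import Cfsg.Agent.Lib.LocalEven.StrongEmb3
import Cfsg.Agent.Lib.Fusion.SylowAux
import Cfsg.Agent.Lib.Base.Transport
import Cfsg.Agent.Lib.Coprime.Basic

/-!
The abelian subgroups of largest order of a `p`-subgroup and the subgroup they generate.
-/

set_option autoImplicit false

namespace CfsgLib.LocalEven

open Cfsg CfsgLib.PLocal

universe u

variable {G : Type u} [Group G]

/-- The abelian subgroups of largest order of `R`. -/
def maxAb (R : Subgroup G) : Set (Subgroup G) := maxAbExp 0 R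

/-- `J(R)`, generated by the abelian subgroups of largest order. -/
def jAb (R : Subgroup G) : Subgroup G := sSup (maxAb R)

theorem mem_maxAb {R A : Subgroup G} : A ∈ maxAb R ↔
    A ≤ R ∧ IsMulCommutative A ∧ ∀ B ≤ R, IsMulCommutative B → Nat.card B ≤ Nat.card A := by
  simp [maxAb, maxAbExp, abExp_zero]

theorem thompsonSubgroupAOf_eq_jAb (R : Subgroup G) : thompsonSubgroupAOf R = jAb R := by
  rw [jAb, maxAb, thompsonSubgroupAOf, thompsonSubgroupA, ← image_maxAbelianSubgroups, sSup_image,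
    sSup_eq_iSup, Subgroup.map_iSup]
  simp_rw [Subgroup.map_iSup]

theorem jAb_le (R : Subgroup G) : jAb R ≤ R := sSup_le fun _ hA => (mem_maxAb.1 hA).1

theorem le_jAb {R A : Subgroup G} (hA : A ∈ maxAb R) : A ≤ jAb R := le_sSup hA

theorem le_centralizer_of_isMulCommutative {A : Subgroup G} (hA : IsMulCommutative A) :
    A ≤ Subgroup.centralizer (A : Set G) :=
  fun _ hx _ hy => comm_of_mem hA hy hx

theorem isMulCommutative_of_le_centralizer {A : Subgroup G}
    (h : A ≤ Subgroup.centralizer (A : Set G)) : IsMulCommutative A :=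
  ⟨⟨fun a b => Subtype.ext (h b.2 a a.2)⟩⟩

theorem isMulCommutative_sup {A B : Subgroup G} (hA : IsMulCommutative A) (hB : IsMulCommutative B)
    (h : A ≤ Subgroup.centralizer (B : Set G)) : IsMulCommutative ↥(A ⊔ B) := by
  refine isMulCommutative_of_le_centralizer (Subgroup.le_centralizer_iff.1 (sup_le ?_ ?_))
  · exact Subgroup.le_centralizer_iff.1
      (sup_le (le_centralizer_of_isMulCommutative hA) (Subgroup.le_centralizer_iff.1 h))
  · exact Subgroup.le_centralizer_iff.1 (sup_le h (le_centralizer_of_isMulCommutative hB))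

variable [Finite G]

theorem maxAb_nonempty (R : Subgroup G) : (maxAb R).Nonempty := exists_mem_maxAbExp 0 R

theorem map_conj_mem_maxAb {R A : Subgroup G} (hA : A ∈ maxAb R) {g : G}
    (h : A.map (MulAut.conj g).toMonoidHom ≤ R) : A.map (MulAut.conj g).toMonoidHom ∈ maxAb R := by
  obtain ⟨-, hc, hmax⟩ := mem_maxAb.1 hA
  refine mem_maxAb.2 ⟨h, ?_, fun B hB hBc => (hmax B hB hBc).trans
    (le_of_eq (Subgroup.card_map_of_injective (MulAut.conj g).injective).symm)⟩
  exact abExp_zero.1 ((abExp_map_iff (MulAut.conj g).injective).2 (abExp_zero.2 hc))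

theorem map_conj_jAb (R : Subgroup G) (g : G) :
    (jAb R).map (MulAut.conj g).toMonoidHom = jAb (R.map (MulAut.conj g).toMonoidHom) := by
  have key : ∀ (R : Subgroup G) (g : G),
      (jAb R).map (MulAut.conj g).toMonoidHom ≤ jAb (R.map (MulAut.conj g).toMonoidHom) := by
    intro R g
    rw [Subgroup.map_le_iff_le_comap]
    refine sSup_le fun A hA => Subgroup.map_le_iff_le_comap.1 (le_jAb ?_)
    obtain ⟨hAR, hc, hmax⟩ := mem_maxAb.1 hA
    refine mem_maxAb.2 ⟨Subgroup.map_mono hAR,
      abExp_zero.1 ((abExp_map_iff (MulAut.conj g).injective).2 (abExp_zero.2 hc)), fun B hB hBc => ?_⟩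
    rw [Subgroup.card_map_of_injective (MulAut.conj g).injective]
    refine le_trans (le_of_eq (Subgroup.card_map_of_injective (K := B)
      (f := (MulAut.conj g⁻¹).toMonoidHom) (MulAut.conj g⁻¹).injective).symm) (hmax _ ?_ ?_)
    · refine (Subgroup.map_mono hB).trans ?_
      rw [conj_map_conj_map, inv_mul_cancel, conj_map_one]
    · exact abExp_zero.1 ((abExp_map_iff (MulAut.conj g⁻¹).injective).2 (abExp_zero.2 hBc))
  refine le_antisymm (key R g) ?_
  have h := Subgroup.map_mono (f := (MulAut.conj g).toMonoidHom) (key (R.map (MulAut.conj g).toMonoidHom) g⁻¹)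
  rwa [conj_map_conj_map, mul_inv_cancel, conj_map_one, conj_map_conj_map, inv_mul_cancel,
    conj_map_one] at h

theorem normalizer_le_normalizer_jAb (R : Subgroup G) :
    Subgroup.normalizer (R : Set G) ≤ Subgroup.normalizer (jAb R : Set G) := fun g hg =>
  mem_normalizer_of_conj (by rw [map_conj_jAb, conj_map_eq_of_mem_normalizer hg])

/-- The members inside a subgroup `U` of `R` containing one of them are the members for `U`. -/
theorem mem_maxAb_iff_of_le {R U A : Subgroup G} (hUR : U ≤ R) (hA : A ∈ maxAb R) (hAU : A ≤ U)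
    {B : Subgroup G} : B ∈ maxAb U ↔ B ∈ maxAb R ∧ B ≤ U := by
  rw [mem_maxAb, mem_maxAb]
  obtain ⟨-, hc, hmax⟩ := mem_maxAb.1 hA
  constructor
  · rintro ⟨hBU, hBc, hB⟩
    exact ⟨⟨hBU.trans hUR, hBc, fun C hC hCc => (hmax C hC hCc).trans (hB A hAU hc)⟩, hBU⟩
  · rintro ⟨⟨-, hBc, hB⟩, hBU⟩
    exact ⟨hBU, hBc, fun C hC hCc => hB C (hC.trans hUR) hCc⟩

theorem map_subtype_jAb {N : Subgroup G} (R : Subgroup N) :
    (jAb R).map N.subtype = jAb (R.map N.subtype) := by
  refine le_antisymm ?_ (sSup_le fun B hB => ?_)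
  · rw [Subgroup.map_le_iff_le_comap]
    refine sSup_le fun A hA => Subgroup.map_le_iff_le_comap.1 (le_jAb ?_)
    obtain ⟨hAR, hc, hmax⟩ := mem_maxAb.1 hA
    refine mem_maxAb.2 ⟨Subgroup.map_mono hAR,
      abExp_zero.1 ((abExp_map_iff N.subtype_injective).2 (abExp_zero.2 hc)), fun B hB hBc => ?_⟩
    rw [Subgroup.card_map_of_injective N.subtype_injective]
    refine le_of_eq_of_le (Nat.card_congr (Subgroup.subgroupOfEquivOfLe
      (hB.trans (Subgroup.map_subtype_le _))).toEquiv).symm (hmax _ ?_ ?_)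
    · intro x hx
      obtain ⟨y, hy, e⟩ := hB hx
      exact Subtype.ext e ▸ hy
    · exact abExp_zero.1 ((abExp_map_iff N.subtype_injective).1 (by
        rw [Subgroup.map_subgroupOf_eq_of_le (hB.trans (Subgroup.map_subtype_le _))]
        exact abExp_zero.2 hBc))
  · obtain ⟨hBR, hc, hmax⟩ := mem_maxAb.1 hB
    have hBN : B ≤ N := hBR.trans (Subgroup.map_subtype_le _)
    rw [← Subgroup.map_subgroupOf_eq_of_le hBN]
    refine Subgroup.map_mono (le_jAb (mem_maxAb.2 ⟨?_, ?_, fun C hC hCc => ?_⟩))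
    · intro x hx
      obtain ⟨y, hy, e⟩ := hBR hx
      exact Subtype.ext e ▸ hy
    · exact abExp_zero.1 ((abExp_map_iff N.subtype_injective).1 (by
        rw [Subgroup.map_subgroupOf_eq_of_le hBN]; exact abExp_zero.2 hc))
    · rw [Nat.card_congr (Subgroup.subgroupOfEquivOfLe hBN).toEquiv]
      exact (le_of_eq (Subgroup.card_map_of_injective N.subtype_injective).symm).trans
        (hmax _ (Subgroup.map_mono hC)
          (abExp_zero.1 ((abExp_map_iff N.subtype_injective).2 (abExp_zero.2 hCc))))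

/-- The offender inequality for a member `A` of `maxAb R` on an abelian subgroup `V ≤ R`. -/
theorem card_offender {R A A₀ V : Subgroup G} (hA : A ∈ maxAb R) (hV : IsMulCommutative V)
    (hVR : V ≤ R) (hA₀ : A₀ ≤ A) :
    Nat.card A₀ * Nat.card ↥(V ⊓ Subgroup.centralizer (A₀ : Set G)) ≤
      Nat.card A * Nat.card ↥(V ⊓ Subgroup.centralizer (A : Set G)) := by
  obtain ⟨hAR, hc, hmax⟩ := mem_maxAb.1 hA
  set C := V ⊓ Subgroup.centralizer (A₀ : Set G)
  have hAC : A₀ ≤ Subgroup.centralizer (C : Set G) := Subgroup.le_centralizer_iff.1 inf_le_right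
  have h1 := CfsgLib.Coprime.card_sup_mul_card_inf (H := A₀) (N := C)
    (hAC.trans (Subgroup.centralizer_le_normalizer _))
  have hab : IsMulCommutative ↥(A₀ ⊔ C) := isMulCommutative_sup
    (isMulCommutative_of_le_centralizer ((hA₀.trans (le_centralizer_of_isMulCommutative hc)).trans
      (Subgroup.centralizer_le (SetLike.coe_subset_coe.2 hA₀))))
    (isMulCommutative_of_le_centralizer ((inf_le_left.trans (le_centralizer_of_isMulCommutative hV)).trans
      (Subgroup.centralizer_le (SetLike.coe_subset_coe.2 inf_le_left)))) hAC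
  have h2 := hmax _ (sup_le (hA₀.trans hAR) (inf_le_left.trans hVR)) hab
  have h3 : Nat.card ↥(A₀ ⊓ C) ≤ Nat.card ↥(V ⊓ Subgroup.centralizer (A : Set G)) :=
    Subgroup.card_le_of_le fun y hy =>
      ⟨hy.2.1, le_centralizer_of_isMulCommutative hc (hA₀ hy.1)⟩
  calc Nat.card A₀ * Nat.card C = Nat.card ↥(A₀ ⊔ C) * Nat.card ↥(A₀ ⊓ C) := by
        exact h1.symm
    _ ≤ _ := Nat.mul_le_mul h2 h3

end CfsgLib.LocalEven
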