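import Cfsg.Agent.Lib.LocalEven.WCCore
import Cfsg.Agent.Lib.Transfer.Control
import Cfsg.Agent.Lib.Transfer.NormalPComplement

/-!
`N(J(S))` controls the weak closure of elements: the element form and the `p`-complement criterion.
-/

set_option autoImplicit false

namespace CfsgLib.LocalEven

open Cfsg Equiv

universe u

variable {G : Type u} [Group G] [Finite G] {p : ℕ} [Fact p.Prime]

omit [Fact p.Prime] in
/-- An element of `R` centralised by `R` lies in `J(R)`. -/
theorem mem_jAb_of_le_centralizer {R : Subgroup G} {x : G} (hxR : x ∈ R)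
    (hx : R ≤ Subgroup.centralizer ({x} : Set G)) : x ∈ jAb R := by
  obtain ⟨A, hA⟩ := maxAb_nonempty R
  obtain ⟨hAR, hc, hmax⟩ := mem_maxAb.1 hA
  have hab : IsMulCommutative ↥(A ⊔ Subgroup.zpowers x) := isMulCommutative_sup hc inferInstance
    (Subgroup.le_centralizer_iff.1 (Subgroup.zpowers_le.2 fun a ha =>
      Subgroup.mem_centralizer_singleton_iff.1 (hx (hAR ha))))
  have h := Subgroup.eq_of_le_of_card_ge (le_sup_left : A ≤ A ⊔ Subgroup.zpowers x)
    (hmax _ (sup_le hAR (Subgroup.zpowers_le.2 hxR)) hab)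
  exact le_jAb hA (h.ge (Subgroup.mem_sup_right (Subgroup.mem_zpowers x)))

/-- Normalizers of subgroups of `S` containing `x` centralise `x`. -/
theorem normalizer_le_centralizer_of_mem (S : Sylow p G) {x : G}
    (hJ : Subgroup.normalizer (jAb (S : Subgroup G) : Set G) ≤ Subgroup.centralizer {x})
    (hc : p ≠ 2 ∨ (∃ z ∈ (S : Subgroup G) ⊓ Subgroup.centralizer ((S : Subgroup G) : Set G),
      z ^ p = x) ∨ ¬ Involves (Perm (Fin 4)) G)
    {H : Subgroup G} (hHS : H ≤ (S : Subgroup G)) (hxH : x ∈ H) :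
    Subgroup.normalizer (H : Set G) ≤ Subgroup.centralizer ({x} : Set G) := by
  by_contra hHM
  set M := Subgroup.centralizer ({x} : Set G) with hMdef
  have hSM : (S : Subgroup G) ≤ M :=
    Subgroup.le_normalizer.trans ((normalizer_le_normalizer_jAb _).trans hJ)
  let P : Subgroup G → Prop := fun H =>
    H ≤ (S : Subgroup G) ∧ x ∈ H ∧ ¬ Subgroup.normalizer (H : Set G) ≤ M
  obtain ⟨H, ⟨hHS, hxH, hHM⟩, hmax'⟩ := Set.exists_max_image {H | P H}
    (fun H => Nat.card ↥((S : Subgroup G) ⊓ Subgroup.normalizer (H : Set G)) * (Nat.card G + 1) +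
      Nat.card H) (Set.toFinite _) ⟨H, hHS, hxH, hHM⟩
  set N := Subgroup.normalizer (H : Set G) with hN
  set U := (S : Subgroup G) ⊓ N with hU
  have hmax : ∀ H' : Subgroup G, P H' →
      Nat.card ↥((S : Subgroup G) ⊓ Subgroup.normalizer (H' : Set G)) ≤ Nat.card U := by
    intro H' hP
    by_contra h
    have h1 := hmax' H' hP
    have h2 := Subgroup.card_le_card_group H
    have h3 : (Nat.card U + 1) * (Nat.card G + 1) ≤
        Nat.card ↥((S : Subgroup G) ⊓ Subgroup.normalizer (H' : Set G)) * (Nat.card G + 1) :=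
      Nat.mul_le_mul_right _ (by omega)
    rw [Nat.add_mul, one_mul] at h3
    change _ ≤ Nat.card U * (Nat.card G + 1) + Nat.card H at h1
    omega
  have hHU : H ≤ U := le_inf hHS Subgroup.le_normalizer
  have hUp : IsPGroup p U := S.2.to_le inf_le_left
  have hxU : x ∈ U := hHU hxH
  have hUx : U ≤ M := inf_le_left.trans hSM
  have hbig : ∀ H' : Subgroup G, U < (S : Subgroup G) ⊓ Subgroup.normalizer (H' : Set G) →
      ¬ P H' := fun H' hlt hP =>
    (hmax H' hP).not_gt (CfsgLib.Transfer.card_lt_card_of_lt hlt)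
  have hsylS : CfsgLib.Fusion.IsSylIn p (S : Subgroup G) M :=
    ⟨hSM, S.2, fun C hC hle _ => S.3 hC hle⟩
  have hsylNM : ∀ C : Subgroup G, IsPGroup p C → U ≤ C → C ≤ N → C ≤ M → C = U := by
    intro C hC hUC hCN hCM
    by_contra hne'
    obtain ⟨m, hm, hmC⟩ := hsylS.exists_conj_le hC hCM
    set c := (MulAut.conj m).toMonoidHom
    refine (hmax (H.map c) ⟨?_, ⟨x, hxH, ?_⟩, ?_⟩).not_gt ?_
    · rintro _ ⟨h, hh, rfl⟩; exact hmC h (hUC (hHU hh))
    · change m * x * m⁻¹ = x
      rw [mul_inv_eq_iff_eq_mul]; exact Subgroup.mem_centralizer_singleton_iff.1 hm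
    · intro h
      refine hHM fun n hn => ?_
      have h1 : m * n * m⁻¹ ∈ Subgroup.normalizer (H.map c : Set G) := by
        refine mem_normalizer_of_conj ?_
        rw [conj_map_conj_map, show m * n * m⁻¹ * m = m * n by group, ← conj_map_conj_map,
          conj_map_eq_of_mem_normalizer hn]
      have := M.mul_mem (M.mul_mem (M.inv_mem hm) (h h1)) hm
      simpa [mul_assoc] using this
    · have hlt : Nat.card U < Nat.card C :=
        CfsgLib.Transfer.card_lt_card_of_lt (lt_of_le_of_ne hUC (Ne.symm hne'))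
      refine hlt.trans_le ?_
      rw [← Subgroup.card_map_of_injective (K := C) (f := c) (MulAut.conj m).injective]
      refine Subgroup.card_le_of_le (le_inf ?_ ?_)
      · rintro _ ⟨h, hh, rfl⟩; exact hmC h hh
      · rintro _ ⟨h, hh, rfl⟩
        refine mem_normalizer_of_conj ?_
        change (H.map c).map (MulAut.conj (m * h * m⁻¹)).toMonoidHom = _
        rw [conj_map_conj_map, show m * h * m⁻¹ * m = m * h by group, ← conj_map_conj_map,
          conj_map_eq_of_mem_normalizer (hCN hh)]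
  have hUj : Subgroup.normalizer (U : Set G) ≤ Subgroup.normalizer (jAb U : Set G) :=
    normalizer_le_normalizer_jAb U
  have hsyl : CfsgLib.Fusion.IsSylIn p U N := by
    by_contra h
    obtain ⟨b, hbN, hbU, hbn, k, hk⟩ := CfsgLib.Fusion.exists_normalizing inf_le_right hUp h
    have hbM : b ∈ M := by
      by_contra hbM
      rcases (inf_le_left : U ≤ (S : Subgroup G)).lt_or_eq with hlt | he
      · exact hbig U (CfsgLib.Fusion.lt_inf_normalizer S.2 hlt)
          ⟨inf_le_left, hxU, fun h' => hbM (h' hbn)⟩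
      · rw [he] at hbn
        exact hbM (hJ (normalizer_le_normalizer_jAb _ hbn))
    have hzp : IsPGroup p (Subgroup.zpowers b) := by
      obtain ⟨j, -, hj⟩ := (Nat.dvd_prime_pow Fact.out).1 (orderOf_dvd_of_pow_eq_one hk)
      exact IsPGroup.iff_card.2 ⟨j, by rw [Nat.card_zpowers, hj]⟩
    have hC : U ⊔ Subgroup.zpowers b = U := hsylNM _
      (IsPGroup.to_sup_of_normal_left' hUp hzp (Subgroup.zpowers_le.2 hbn)) le_sup_left
      (sup_le inf_le_right (Subgroup.zpowers_le.2 hbN))
      (sup_le hUx (Subgroup.zpowers_le.2 hbM))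
    exact hbU (hC.le (Subgroup.mem_sup_right (Subgroup.mem_zpowers b)))
  have hNj : N ⊓ Subgroup.normalizer (jAb U : Set G) ≤ M := by
    rcases (inf_le_left : U ≤ (S : Subgroup G)).lt_or_eq with hlt | he
    · by_contra h
      exact hbig (jAb U) ((CfsgLib.Fusion.lt_inf_normalizer S.2 hlt).trans_le
          (inf_le_inf_left _ hUj))
        ⟨(jAb_le U).trans inf_le_left, mem_jAb_of_le_centralizer hxU hUx,
          fun h' => h (inf_le_right.trans h')⟩
    · intro n hn
      exact hJ (show n ∈ Subgroup.normalizer (jAb (S : Subgroup G) : Set G) from he ▸ hn.2)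
  have hSC : ∀ z ∈ (S : Subgroup G) ⊓ Subgroup.centralizer ((S : Subgroup G) : Set G),
      z ∈ Subgroup.centralizer (H : Set G) := fun z hz h hh => hz.2 h (hHS hh)
  set W := H ⊓ Subgroup.centralizer (H : Set G) with hW
  have hxW : x ∈ W :=
    ⟨hxH, fun h hh => Subgroup.mem_centralizer_singleton_iff.1 (hSM (hHS hh))⟩
  refine hHM (wc_sub (W := W)
    (fun R V hn hVc hVR y hy h1 h2 h3 => @wc_central _ _ _ p _ R V hn hVc hVR y hy h1 h2 h3)
    hsyl (isMulCommutative_of_le_centralizer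
      (inf_le_right.trans (Subgroup.centralizer_le inf_le_left)))
    (inf_le_left.trans hHU) (fun n hn => mem_normalizer_of_conj_mem fun y hy =>
      ⟨(Subgroup.mem_normalizer_iff.1 hn y).1 hy.1,
        (Subgroup.mem_normalizer_iff.1 (normalizer_le_normalizer_centralizer _ hn) y).1 hy.2⟩)
    hxW hUx hNj ?_)
  rcases hc with h | ⟨z, hz, hzp⟩ | h
  · exact Or.inl h
  swap
  · exact Or.inr (Or.inl h)
  refine Or.inr (Or.inr ⟨z, ⟨?_, hSC z hz⟩, fun a ha => Subgroup.mem_centralizer_singleton_iff.2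
    (hz.2 a ha.1), hzp⟩)
  -- `z` lies in `H`
  set X := H ⊔ Subgroup.centralizer (H : Set G) with hX
  have hXN : X ≤ N := sup_le Subgroup.le_normalizer (Subgroup.centralizer_le_normalizer _)
  have hXM : X ≤ M := sup_le (hHS.trans hSM) fun g hg =>
    Subgroup.mem_centralizer_singleton_iff.2 (hg x hxH).symm
  have hXn : ∀ n ∈ N, ∀ y ∈ X, n * y * n⁻¹ ∈ X := by
    intro n hn y hy
    have : X ≤ X.comap (MulAut.conj n).toMonoidHom := sup_le
      (fun h hh => Subgroup.mem_sup_left ((Subgroup.mem_normalizer_iff.1 hn h).1 hh))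
      (fun h hh => Subgroup.mem_sup_right
        ((Subgroup.mem_normalizer_iff.1 (normalizer_le_normalizer_centralizer _ hn) h).1 hh))
    exact this hy
  set P₀ := U ⊓ X with hP₀
  have hHP : H ≤ P₀ := le_inf hHU le_sup_left
  have hP₀N : P₀ ≤ N := inf_le_right.trans hXN
  have hUP : U ≤ Subgroup.normalizer (P₀ : Set G) := fun a ha =>
    mem_normalizer_of_conj_mem fun y hy =>
      ⟨U.mul_mem (U.mul_mem ha hy.1) (U.inv_mem ha), hXn a ha.2 y hy.2⟩
  have hP : P P₀ := by
    refine ⟨inf_le_left.trans inf_le_left, hHP hxH, fun hle => hHM fun n hn => ?_⟩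
    have hsylX : CfsgLib.Fusion.IsSylIn p P₀ X := CfsgLib.Fusion.isSylIn_inf hsyl hXN hXn
    obtain ⟨t, ht, hts⟩ := hsylX.exists_conj_le
      ((hsylX.2.1).map (MulAut.conj n).toMonoidHom)
      (by rintro _ ⟨y, hy, rfl⟩; exact hXn n hn y hy.2)
    have htn : t * n ∈ Subgroup.normalizer (P₀ : Set G) := mem_normalizer_of_conj_mem fun y hy => by
      have := hts _ ⟨y, hy, rfl⟩
      simpa [mul_assoc] using this
    have := M.mul_mem (M.inv_mem (hXM ht)) (hle htn)
    simpa using this
  have heq : P₀ = H := by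
    refine (Subgroup.eq_of_le_of_card_ge hHP ?_).symm
    have h1 := hmax' P₀ hP
    have h2 : Nat.card U ≤ Nat.card ↥((S : Subgroup G) ⊓ Subgroup.normalizer (P₀ : Set G)) :=
      Subgroup.card_le_of_le (le_inf inf_le_left hUP)
    have h3 := Nat.mul_le_mul_right (Nat.card G + 1) h2
    change _ ≤ Nat.card U * (Nat.card G + 1) + Nat.card H at h1
    omega
  exact heq.le ⟨⟨hz.1, hXN (Subgroup.mem_sup_right (hSC z hz))⟩, Subgroup.mem_sup_right (hSC z hz)⟩

/-- `N(J(S))` controls the weak closure of elements. -/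
theorem weaklyClosed_of_jAb (S : Sylow p G) {x : G} (hxS : x ∈ (S : Subgroup G))
    (hJ : Subgroup.normalizer (jAb (S : Subgroup G) : Set G) ≤ Subgroup.centralizer {x})
    (hc : p ≠ 2 ∨ (∃ z ∈ (S : Subgroup G) ⊓ Subgroup.centralizer ((S : Subgroup G) : Set G),
      z ^ p = x) ∨ ¬ Involves (Perm (Fin 4)) G) :
    ∀ g : G, g * x * g⁻¹ ∈ (S : Subgroup G) → g * x * g⁻¹ = x := by
  intro g hg
  have key : ∀ (A : Set G) (h : G), CfsgLib.Transfer.FusionChain S A h → x ∈ A → h⁻¹ * x * h = x := by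
    intro A h hch
    induction hch with
    | nil A => intro _; group
    | @cons A h Q n hnN _ _ hA _ ih =>
      intro hxA
      have hn : n⁻¹ * x * n = x := by
        rw [mul_assoc, inv_mul_eq_iff_eq_mul]
        exact (Subgroup.mem_centralizer_singleton_iff.1
          (normalizer_le_centralizer_of_mem S hJ hc inf_le_left (hA hxA) hnN)).symm
      calc (n * h)⁻¹ * x * (n * h) = h⁻¹ * (n⁻¹ * x * n) * h := by group
        _ = x := by rw [hn]; exact ih ⟨x, hxA, hn⟩
  have := key {x} g⁻¹ (CfsgLib.Transfer.fusionChain S (fun a ha => (Set.mem_singleton_iff.1 ha) ▸ hxS)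
    (by simpa using hg)) rfl
  simpa using this

/-- Thompson's criterion with `J` generated by abelian subgroups of largest order. -/
theorem hasNormalPComplement_of_jAb (S : Sylow p G) (h : p ≠ 2 ∨ ¬ Involves (Perm (Fin 4)) G)
    (hC : HasNormalPComplement p ↥(Subgroup.centralizer
      (((S : Subgroup G) ⊓ Subgroup.centralizer ((S : Subgroup G) : Set G) : Subgroup G) : Set G)))
    (hN : HasNormalPComplement p ↥(Subgroup.normalizer (jAb (S : Subgroup G) : Set G))) :
    HasNormalPComplement p G := by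
  set Z := (S : Subgroup G) ⊓ Subgroup.centralizer ((S : Subgroup G) : Set G) with hZ
  set N := Subgroup.normalizer (jAb (S : Subgroup G) : Set G) with hNdef
  have hSN : (S : Subgroup G) ≤ N :=
    Subgroup.le_normalizer.trans (normalizer_le_normalizer_jAb _)
  have hZS : ∀ x ∈ Z, (S : Subgroup G) ≤ Subgroup.centralizer ({x} : Set G) := fun x hx a ha =>
    Subgroup.mem_centralizer_singleton_iff.2 (hx.2 a ha)
  have hNx : ∀ x ∈ Z, N ≤ Subgroup.centralizer ({x} : Set G) := by
    intro x hx n hn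
    set S' : Sylow p N := S.subtype hSN with hS'
    have hbot := (CfsgLib.Transfer.hasNormalPComplement_iff_inf_eq_bot S').1 hN
    have hgen := CfsgLib.Transfer.sup_pResidual_eq_top S'
    have hKn := CfsgLib.Transfer.pResidual_normal (G := N) (p := p)
    have hle : Cfsg.pResidual p N ≤ (Subgroup.centralizer ({x} : Set G)).subgroupOf N := by
      intro k hk
      set x' : N := ⟨x, hSN hx.1⟩
      have hxJ : x ∈ jAb (S : Subgroup G) := mem_jAb_of_le_centralizer hx.1 (hZS x hx)
      have h1 : k * x' * k⁻¹ * x'⁻¹ ∈ (S' : Subgroup N) := by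
        change (k : G) * x * (k : G)⁻¹ * x⁻¹ ∈ (S : Subgroup G)
        exact (S : Subgroup G).mul_mem
          (jAb_le _ ((Subgroup.mem_normalizer_iff.1 k.2 x).1 hxJ)) ((S : Subgroup G).inv_mem hx.1)
      have h2 : k * x' * k⁻¹ * x'⁻¹ ∈ Cfsg.pResidual p N := by
        rw [show k * x' * k⁻¹ * x'⁻¹ = k * (x' * k⁻¹ * x'⁻¹) by group]
        exact (Cfsg.pResidual p N).mul_mem hk (hKn.conj_mem _ ((Cfsg.pResidual p N).inv_mem hk) x')
      have h3 : k * x' * k⁻¹ * x'⁻¹ = 1 :=
        Subgroup.mem_bot.1 (hbot ▸ ⟨h1, h2⟩)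
      rw [mul_inv_eq_one, mul_inv_eq_iff_eq_mul] at h3
      exact Subgroup.mem_centralizer_singleton_iff.2 (congrArg Subtype.val h3 :)
    have hS'le : (S' : Subgroup N) ≤ (Subgroup.centralizer ({x} : Set G)).subgroupOf N :=
      fun a ha => hZS x hx ha
    exact (sup_le hS'le hle) (hgen.ge (Subgroup.mem_top (⟨n, hn⟩ : N)))
  have hfix : ∀ x ∈ Z, ∀ g : G, g * x * g⁻¹ ∈ (S : Subgroup G) → g * x * g⁻¹ = x := fun x hx =>
    weaklyClosed_of_jAb S hx.1 (hNx x hx) (h.imp_right Or.inr)
  have hW : Cfsg.IsWeaklyClosed Z (S : Subgroup G) := by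
    refine ⟨inf_le_left, fun g hg => ?_⟩
    refine Subgroup.eq_of_le_of_card_ge ?_
      (le_of_eq (Subgroup.card_map_of_injective (MulAut.conj g).injective).symm)
    rintro _ ⟨z, hz, rfl⟩
    change g * z * g⁻¹ ∈ Z
    rw [hfix z hz g (hg ⟨z, hz, rfl⟩)]; exact hz
  set C := Subgroup.centralizer (Z : Set G) with hCdef
  have hSC : (S : Subgroup G) ≤ C := Subgroup.le_centralizer_iff.1 inf_le_right
  have hctrl : ∀ x ∈ (S : Subgroup G), ∀ g : G, g * x * g⁻¹ ∈ (S : Subgroup G) →
      ∃ k ∈ C, k * x * k⁻¹ = g * x * g⁻¹ := by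
    intro x hx g hg
    obtain ⟨n, hn, hnA⟩ := CfsgLib.Transfer.exists_mem_normalizer_conj_of_isWeaklyClosed S
      (inf_le_right : Z ≤ _) hW (A := {x}) (Set.singleton_subset_iff.2 hx) (g := g) (by rintro a rfl; exact hg)
    refine ⟨n, fun z hz => ?_, hnA x rfl⟩
    have := hfix z hz n ((Subgroup.mem_normalizer_iff.1 hn z).1 hz).1
    exact (mul_inv_eq_iff_eq_mul.1 this).symm
  rw [CfsgLib.Transfer.hasNormalPComplement_iff_inf_eq_bot S,
    CfsgLib.Transfer.inf_pResidual_eq_of_fusion S hSC hctrl]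
  have hbot := (CfsgLib.Transfer.hasNormalPComplement_iff_inf_eq_bot (S.subtype hSC)).1 hC
  rw [eq_bot_iff]
  rintro _ ⟨hxS, y, hy, rfl⟩
  have hy' : y ∈ (S.subtype hSC : Subgroup C) ⊓ Cfsg.pResidual p C := ⟨hxS, hy⟩
  rw [hbot, Subgroup.mem_bot] at hy'
  exact congrArg Subtype.val hy'

end CfsgLib.LocalEven
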