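import Mathlib
import Cfsg.Prelude.Def_Amalgam

/-!
Basics on `O_p` and on groups of characteristic `p` (`C(O_p) ≤ O_p`).
-/

namespace CfsgLib.LocalEven

variable {G : Type*} [Group G] {p : ℕ}

theorem le_pCore {N : Subgroup G} (hN : N.Normal) (hp : IsPGroup p N) : N ≤ Cfsg.pCore p G :=
  le_sSup ⟨hN, hp⟩

theorem isPGroup_pCore [Finite G] [Fact p.Prime] : IsPGroup p (Cfsg.pCore p G) := by
  let S : Set (Subgroup G) := {N | N.Normal ∧ IsPGroup p N}
  obtain ⟨M, hM, hmax⟩ := S.toFinite.exists_maximalFor id S ⟨⊥, Subgroup.normal_bot, IsPGroup.of_bot⟩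
  have h : Cfsg.pCore p G ≤ M := sSup_le fun N hN => by
    have hn : (M ⊔ N).Normal := by
      have := hM.1; have := hN.1; exact Subgroup.sup_normal M N
    have hp : IsPGroup p ↥(M ⊔ N) := by
      have := hN.1; exact hM.2.to_sup_of_normal_right hN.2
    exact le_sup_right.trans (hmax (show M ⊔ N ∈ S from ⟨hn, hp⟩) le_sup_left)
  exact hM.2.to_le h

instance pCore_characteristic' (p : ℕ) (G : Type*) [Group G] :
    (Cfsg.pCore p G).Characteristic := by
  rw [Subgroup.characteristic_iff_map_le]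
  intro φ
  rw [Subgroup.map_le_iff_le_comap]
  refine sSup_le fun N hN => ?_
  rw [← Subgroup.map_le_iff_le_comap]
  refine le_pCore (Subgroup.Normal.map hN.1 _ φ.surjective) ?_
  exact hN.2.map _

theorem pCore_le_sylow [Finite G] [Fact p.Prime] (S : Sylow p G) :
    Cfsg.pCore p G ≤ (S : Subgroup G) := by
  obtain ⟨T, hT⟩ := (isPGroup_pCore (G := G) (p := p)).exists_le_sylow
  obtain ⟨g, rfl⟩ := MulAction.exists_smul_eq G T S
  intro x hx
  have : g⁻¹ * x * g ∈ Cfsg.pCore p G := by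
    have := (inferInstance : (Cfsg.pCore p G).Normal).conj_mem x hx g⁻¹
    simpa using this
  have h2 := hT this
  rw [Sylow.coe_subgroup_smul, Subgroup.mem_pointwise_smul_iff_inv_smul_mem]
  simpa [MulAut.smul_def] using h2

/-- `O_p(H)` inside the ambient group. -/
theorem pCoreOf_le (p : ℕ) (H : Subgroup G) : Cfsg.pCoreOf p H ≤ H := Subgroup.map_subtype_le _

theorem subgroupOf_pCoreOf (p : ℕ) (H : Subgroup G) :
    (Cfsg.pCoreOf p H).subgroupOf H = Cfsg.pCore p H :=
  Subgroup.comap_map_eq_self_of_injective H.subtype_injective _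

theorem isPGroup_pCoreOf [Fact p.Prime] (H : Subgroup G) [Finite H] :
    IsPGroup p (Cfsg.pCoreOf p H) :=
  isPGroup_pCore.map _

theorem le_pCoreOf {H N : Subgroup G} (hle : N ≤ H) (hnorm : H ≤ Subgroup.normalizer (N : Set G))
    (hN : IsPGroup p N) : N ≤ Cfsg.pCoreOf p H := by
  have h1 : N.subgroupOf H ≤ Cfsg.pCore p H :=
    le_pCore ((Subgroup.normal_subgroupOf_iff_le_normalizer hle).2 hnorm) hN.comap_subtype
  have := Subgroup.map_mono (f := H.subtype) h1
  rwa [Subgroup.map_subgroupOf_eq_of_le hle] at this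

theorem le_normalizer_pCoreOf (p : ℕ) (H : Subgroup G) :
    H ≤ Subgroup.normalizer (Cfsg.pCoreOf p H : Set G) := by
  rw [← Subgroup.normal_subgroupOf_iff_le_normalizer (pCoreOf_le p H), subgroupOf_pCoreOf]
  infer_instance

theorem normalizer_le_normalizer_centralizer (s : Set G) :
    Subgroup.normalizer s ≤ Subgroup.normalizer (Subgroup.centralizer s : Set G) :=
  (Subgroup.normal_subgroupOf_iff_le_normalizer (Subgroup.centralizer_le_normalizer s)).1
    inferInstance

/-- `H` has characteristic `p`, in the ambient group. -/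
theorem charP_iff (H : Subgroup G) :
    Subgroup.centralizer (Cfsg.pCore p H : Set H) ≤ Cfsg.pCore p H ↔
      H ⊓ Subgroup.centralizer (Cfsg.pCoreOf p H : Set G) ≤ Cfsg.pCoreOf p H := by
  constructor
  · rintro h x ⟨hxH, hx⟩
    refine ⟨⟨x, hxH⟩, h ?_, rfl⟩
    intro y hy
    exact Subtype.ext (hx y ⟨y, hy, rfl⟩)
  · intro h x hx
    have hxc : (x : G) ∈ Subgroup.centralizer (Cfsg.pCoreOf p H : Set G) := by
      rintro _ ⟨y, hy, rfl⟩
      exact congrArg Subtype.val (hx y hy)
    obtain ⟨y, hy, hye⟩ := h ⟨x.2, hxc⟩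
    rwa [← Subtype.ext hye]

theorem conj_pow_of_commute {x z c : G} (hx : c * x * c⁻¹ = z * x) (hz : c * z = z * c) (n : ℕ) :
    c ^ n * x * (c ^ n)⁻¹ = z ^ n * x := by
  induction n with
  | zero => simp
  | succ n ih =>
    have hzn : c ^ n * z = z * c ^ n := (Commute.pow_left (show Commute c z from hz) n).eq
    calc c ^ (n + 1) * x * (c ^ (n + 1))⁻¹ = c ^ n * (c * x * c⁻¹) * (c ^ n)⁻¹ := by group
      _ = c ^ n * z * (x * (c ^ n)⁻¹) := by rw [hx]; group
      _ = z * (c ^ n * x * (c ^ n)⁻¹) := by rw [hzn]; group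
      _ = z ^ (n + 1) * x := by rw [ih, ← mul_assoc, ← pow_succ']

/-- If `c` moves the elements of the `p`-group `A` inside a `p`-group `B` which it centralizes,
then a `p`-power of `c` centralizes `A`. -/
theorem exists_pow_mem_centralizer [Finite G] [Fact p.Prime] {A : Set G} {B : Subgroup G}
    (hB : IsPGroup p B) {c : G} (hAB : ∀ x ∈ A, c * x * c⁻¹ * x⁻¹ ∈ B)
    (hc : c ∈ Subgroup.centralizer (B : Set G)) :
    ∃ k, c ^ p ^ k ∈ Subgroup.centralizer A := by
  obtain ⟨k, hk⟩ := IsPGroup.iff_card.1 hB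
  refine ⟨k, fun x hx => ?_⟩
  have hz := hAB x hx
  have h1 : (c * x * c⁻¹ * x⁻¹) ^ p ^ k = 1 := by
    have h3 : (⟨_, hz⟩ : B) ^ Nat.card B = 1 := pow_card_eq_one'
    rw [hk] at h3
    simpa using congrArg Subtype.val h3
  have h2 := conj_pow_of_commute (c := c) (x := x) (z := c * x * c⁻¹ * x⁻¹) (by group)
    ((hc _ hz).symm) (p ^ k)
  rw [h1, one_mul, mul_inv_eq_iff_eq_mul] at h2
  exact h2.symm

theorem isPGroup_of_pow_mem [Fact p.Prime] {C Q : Subgroup G} (hQ : IsPGroup p Q)
    (h : ∀ c ∈ C, ∃ k, c ^ p ^ k ∈ Q) : IsPGroup p C := by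
  intro c
  obtain ⟨k, hk⟩ := h c c.2
  obtain ⟨m, hm⟩ := hQ ⟨_, hk⟩
  refine ⟨k + m, Subtype.ext ?_⟩
  have := congrArg Subtype.val hm
  simpa [pow_add, pow_mul] using this

/-- Quadratic stabilizer lemma: if `C` centralizes a `p`-group `B` and moves `A` only inside `B`,
while `C(A) ≤ Q` for a `p`-group `Q`, then `C` is a `p`-group. -/
theorem isPGroup_of_stab [Finite G] [Fact p.Prime] {A : Set G} {B C Q : Subgroup G}
    (hB : IsPGroup p B) (hQ : IsPGroup p Q) (hAQ : Subgroup.centralizer A ⊓ C ≤ Q)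
    (hC : C ≤ Subgroup.centralizer (B : Set G))
    (hAB : ∀ c ∈ C, ∀ x ∈ A, c * x * c⁻¹ * x⁻¹ ∈ B) : IsPGroup p C :=
  isPGroup_of_pow_mem hQ fun c hc =>
    (exists_pow_mem_centralizer hB (hAB c hc) (hC hc)).imp fun _ hk =>
      hAQ ⟨hk, C.pow_mem hc _⟩

theorem commElem_mem_left {A : Subgroup G} {a b : G} (ha : a ∈ A)
    (hb : b ∈ Subgroup.normalizer (A : Set G)) : b * a * b⁻¹ * a⁻¹ ∈ A :=
  A.mul_mem ((Subgroup.mem_normalizer_iff.1 hb a).1 ha) (A.inv_mem ha)

theorem commElem_mem_right {A : Subgroup G} {a b : G} (ha : a ∈ A)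
    (hb : b ∈ Subgroup.normalizer (A : Set G)) : a * b * a⁻¹ * b⁻¹ ∈ A := by
  have h := (Subgroup.mem_normalizer_iff.1 hb a⁻¹).1 (A.inv_mem ha)
  have := A.mul_mem ha h
  simpa [mul_assoc] using this

/-- A subgroup normalized by `O_p(G)`, for `G` of characteristic `p`, has characteristic `p`. -/
theorem charP_of_pCore_le_normalizer [Finite G] [Fact p.Prime]
    (hG : Subgroup.centralizer (Cfsg.pCore p G : Set G) ≤ Cfsg.pCore p G) (L : Subgroup G)
    (hL : Cfsg.pCore p G ≤ Subgroup.normalizer (L : Set G)) :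
    Subgroup.centralizer (Cfsg.pCore p L : Set L) ≤ Cfsg.pCore p L := by
  rw [charP_iff]
  set P := Cfsg.pCore p G with hP
  have hPn : L ≤ Subgroup.normalizer (P : Set G) := by
    rw [Subgroup.normalizer_eq_top_iff.2 (inferInstance : (Cfsg.pCore p G).Normal)]; exact le_top
  have hB : P ⊓ L ≤ Cfsg.pCoreOf p L := by
    refine le_pCoreOf inf_le_right ?_ (isPGroup_pCore.to_le inf_le_left)
    exact (le_inf hPn Subgroup.le_normalizer).trans Subgroup.inf_normalizer_le_normalizer_inf
  refine le_pCoreOf inf_le_left ?_ ?_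
  · exact (le_inf Subgroup.le_normalizer
      ((le_normalizer_pCoreOf p L).trans (normalizer_le_normalizer_centralizer _))).trans
      Subgroup.inf_normalizer_le_normalizer_inf
  · refine isPGroup_of_stab (A := (P : Set G)) (B := P ⊓ L) (Q := P)
      (isPGroup_pCore.to_le inf_le_left) isPGroup_pCore (inf_le_left.trans hG) ?_ ?_
    · exact inf_le_right.trans (Subgroup.centralizer_le hB)
    · intro c hc x hx
      exact ⟨commElem_mem_left hx (hPn hc.1), commElem_mem_right hc.1 (hL hx)⟩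

end CfsgLib.LocalEven

namespace CfsgLib.LocalEven

theorem mem_normalizer_of_conj {G : Type*} [Group G] {H : Subgroup G} {g : G}
    (h : H.map (MulAut.conj g).toMonoidHom = H) : g ∈ Subgroup.normalizer (H : Set G) := by
  rw [Subgroup.mem_normalizer_iff]
  intro x
  constructor
  · intro hx; rw [← h]; exact ⟨x, hx, rfl⟩
  · intro hx; rw [← h] at hx
    obtain ⟨y, hy, hye⟩ := hx
    have : y = x := by
      apply (MulAut.conj g).injective; exact hye
    exact this ▸ hy

theorem conj_map_eq_of_mem_normalizer {G : Type*} [Group G] {H : Subgroup G} {g : G}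
    (hg : g ∈ Subgroup.normalizer (H : Set G)) : H.map (MulAut.conj g).toMonoidHom = H := by
  ext x
  constructor
  · rintro ⟨y, hy, rfl⟩
    exact (Subgroup.mem_normalizer_iff.1 hg y).1 hy
  · intro hx
    refine ⟨g⁻¹ * x * g, (Subgroup.mem_normalizer_iff.1 hg _).2 ?_, ?_⟩
    · simpa [mul_assoc] using hx
    · simp [mul_assoc]

theorem map_pCoreOf {G H : Type*} [Group G] [Group H] (p : ℕ) (f : G →* H)
    (hf : Function.Injective f) (K : Subgroup G) :
    (Cfsg.pCoreOf p K).map f = Cfsg.pCoreOf p (K.map f) := by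
  let e := K.equivMapOfInjective f hf
  have h : (Cfsg.pCore p K).map e.toMonoidHom = Cfsg.pCore p (K.map f) := by
    refine le_antisymm ?_ ?_
    · rw [Subgroup.map_le_iff_le_comap]
      refine sSup_le fun N hN => ?_
      rw [← Subgroup.map_le_iff_le_comap]
      exact le_pCore (Subgroup.Normal.map hN.1 _ e.surjective) (hN.2.map _)
    · refine sSup_le fun N hN => ?_
      intro y hy
      refine ⟨e.symm y, le_pCore (Subgroup.Normal.map hN.1 _ e.symm.surjective)
        (hN.2.map e.symm.toMonoidHom) ⟨y, hy, rfl⟩, e.apply_symm_apply y⟩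
  rw [Cfsg.pCoreOf, Cfsg.pCoreOf, ← h, Subgroup.map_map, Subgroup.map_map]
  rfl

theorem mem_normalizer_pCoreOf {G : Type*} [Group G] {p : ℕ} {H : Subgroup G} {g : G}
    (hg : g ∈ Subgroup.normalizer (H : Set G)) :
    g ∈ Subgroup.normalizer (Cfsg.pCoreOf p H : Set G) := by
  apply mem_normalizer_of_conj
  rw [map_pCoreOf p _ (MulAut.conj g).injective, conj_map_eq_of_mem_normalizer hg]

end CfsgLib.LocalEven
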