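import Cfsg.Agent.Lib.LocalEven.J3OrderPerfect

/-!
The third Janko group is simple: a normal subgroup of the triple cover either contains the elements
of order nineteen, and is then everything by Frattini's argument, or is centralised by them.
-/

set_option autoImplicit false
set_option maxRecDepth 100000

namespace CfsgLib.LocalEven.J3Lines

open Cfsg Cfsg.Spor Matrix
open scoped MatrixGroups Pointwise

attribute [local irreducible] bits1 bits2 bitsV el1 el2 getB getW app genCols genWords vec1 vec2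
  par1 par2 loTbl hiTbl parTbl genOrd orbsTbl owordsTbl patsTbl witU witKey base baseCoef cycCoef

variable {F : Type*} [Field F] [Fintype F] {ω : F}

theorem exists_nineteen (h : Four F ω) : ∃ x : threeJ3 F ω, orderOf x = 19 ∧
    ((x : GL F9 F) : Matrix F9 F9 F) = wordMat F ω w19 := by
  haveI : Fact (Nat.Prime 19) := ⟨by norm_num⟩
  obtain ⟨g, hg, e⟩ := exists_word h w19 w19_lt
  refine ⟨⟨g, selGrp_le h hg⟩, orderOf_eq_prime ?_ fun e1 => ?_, e⟩
  · refine Subtype.ext (Units.ext ?_)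
    show ((g ^ 19 : GL F9 F) : Matrix F9 F9 F) = 1
    rw [Units.val_pow_eq_pow_val, e, (ordWord_pow h w19_mem).2]
  · have h1 : g = 1 := congrArg Subtype.val e1
    rw [h1, Units.val_one] at e
    have h2 := (appWord_spec h w19 w19_lt 1 (by norm_num)).2
    rw [← e, Matrix.one_mulVec] at h2
    have h3 := dec_inj h (by norm_num) (appWord_spec h w19 w19_lt 1 (by norm_num)).1 h2
    exact Nat.ne_of_beq_eq_false w19_ne h3.symm

theorem comm_order (h : Four F ω) {x y : threeJ3 F ω}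
    (hx : ((x : GL F9 F) : Matrix F9 F9 F) = wordMat F ω w19) (hc : y * x = x * y) :
    y ^ 513 = 1 := by
  have e1 : y ^ 262144 = y := by
    refine Subtype.ext (Units.ext ?_)
    show (((y : GL F9 F) ^ 262144 : GL F9 F) : Matrix F9 F9 F) = _
    rw [Units.val_pow_eq_pow_val]
    refine centralizer_pow h ?_
    rw [← hx, ← Units.val_mul, ← Units.val_mul]
    exact congrArg (fun z : threeJ3 F ω => ((z : GL F9 F) : Matrix F9 F9 F)) hc
  have e2 : y ^ 262143 = 1 := by
    rw [show (262144 : ℕ) = 262143 + 1 by norm_num, pow_succ] at e1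
    exact mul_eq_right.1 e1
  have e3 : y ^ 150698880 = 1 := by rw [← card_threeJ3 h]; exact pow_card_eq_one'
  have := (pow_gcd_eq_one (a := y)).2 ⟨e2, e3⟩
  rwa [show Nat.gcd 262143 150698880 = 513 by norm_num] at this

theorem normalizer_order (h : Four F ω) {x y : threeJ3 F ω} (h19 : orderOf x = 19)
    (hx : ((x : GL F9 F) : Matrix F9 F9 F) = wordMat F ω w19)
    (hy : y * x * y⁻¹ ∈ Subgroup.zpowers x) : y ^ 4617 = 1 := by
  classical
  obtain ⟨k, hk⟩ := (mem_powers_iff_mem_zpowers.2 hy)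
  have hk' : y * x * y⁻¹ = x ^ (k % 19) := by rw [← h19, pow_mod_orderOf]; exact hk.symm
  have hiter : ∀ j, y ^ j * x * (y ^ j)⁻¹ = x ^ (k % 19) ^ j := by
    intro j
    induction j with
    | zero => simp
    | succ j ih =>
      calc y ^ (j + 1) * x * (y ^ (j + 1))⁻¹ = y * (y ^ j * x * (y ^ j)⁻¹) * y⁻¹ := by
            rw [pow_succ']; group
        _ = y * x ^ (k % 19) ^ j * y⁻¹ := by rw [ih]
        _ = (y * x * y⁻¹) ^ (k % 19) ^ j := conj_pow.symm
        _ = x ^ (k % 19) ^ (j + 1) := by rw [hk', ← pow_mul, pow_succ']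
  have h9 : ∀ m : Fin 19, (m : ℕ) ^ 9 % 19 = 0 ∧ (m : ℕ) = 0 ∨ (m : ℕ) ^ 9 % 19 = 1 ∨
      (m : ℕ) ^ 9 % 19 = 18 := by decide
  have hnine := hiter 9
  rw [← pow_mod_orderOf x ((k % 19) ^ 9), h19] at hnine
  rcases h9 ⟨k % 19, Nat.mod_lt _ (by norm_num)⟩ with ⟨-, e⟩ | e | e
  · simp only at e
    rw [e, pow_zero] at hk'
    have : x = 1 := by simpa [mul_inv_eq_one] using hk'
    rw [this, orderOf_one] at h19
    exact absurd h19 (by norm_num)
  · simp only at e
    rw [e, pow_one] at hnine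
    have := comm_order h hx (mul_inv_eq_iff_eq_mul.1 hnine)
    rwa [← pow_mul] at this
  · simp only at e
    rw [e] at hnine
    exfalso
    refine trace_ne h ?_
    have e2 := congrArg (fun z : threeJ3 F ω => Matrix.trace ((z : GL F9 F) : Matrix F9 F9 F)) hnine
    simp only [Subgroup.coe_mul, InvMemClass.coe_inv, Units.val_mul, SubmonoidClass.coe_pow,
      Units.val_pow_eq_pow_val, hx] at e2
    rw [← Units.val_pow_eq_pow_val, Matrix.trace_units_conj] at e2
    exact e2

theorem nineteen_dvd (h : Four F ω) : Nat.card (threeJ3 F ω) = 19 * 7931520 ∧ ¬ 19 ∣ 7931520 :=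
  ⟨by rw [card_threeJ3 h], by norm_num⟩

theorem exists_sylow (h : Four F ω) {y : threeJ3 F ω} (hy : orderOf y = 19) :
    ∃ P : Sylow 19 (threeJ3 F ω), (P : Subgroup (threeJ3 F ω)) = Subgroup.zpowers y := by
  haveI : Fact (Nat.Prime 19) := ⟨by norm_num⟩
  refine ⟨Sylow.ofCard (Subgroup.zpowers y) ?_, rfl⟩
  rw [Nat.card_zpowers, hy, (nineteen_dvd h).1, Nat.factorization_mul (by norm_num) (by norm_num),
    Finsupp.add_apply, Nat.Prime.factorization_self (by norm_num),
    Nat.factorization_eq_zero_of_not_dvd (nineteen_dvd h).2, pow_one]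

theorem conj_nineteen (h : Four F ω) {x y : threeJ3 F ω} (hx : orderOf x = 19) (hy : orderOf y = 19) :
    ∃ g, g * y * g⁻¹ ∈ Subgroup.zpowers x ∧ g⁻¹ * x * g ∈ Subgroup.zpowers y := by
  haveI : Fact (Nat.Prime 19) := ⟨by norm_num⟩
  obtain ⟨P, hP⟩ := exists_sylow h hx
  obtain ⟨Q, hQ⟩ := exists_sylow h hy
  obtain ⟨g, hg⟩ := MulAction.exists_smul_eq (threeJ3 F ω) Q P
  have hset : MulAut.conj g • Subgroup.zpowers y = Subgroup.zpowers x := by
    rw [← hP, ← hQ, ← hg]
    rfl
  refine ⟨g, ?_, ?_⟩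
  · rw [← hset, Subgroup.mem_pointwise_smul_iff_inv_smul_mem]
    simp [mul_assoc]
  · have : x ∈ MulAut.conj g • Subgroup.zpowers y := hset ▸ Subgroup.mem_zpowers x
    rw [Subgroup.mem_pointwise_smul_iff_inv_smul_mem] at this
    simpa [mul_assoc] using this

theorem top_of_nineteen (h : Four F ω) (N : Subgroup (threeJ3 F ω)) [N.Normal]
    (h19 : 19 ∣ Nat.card N) : N = ⊤ := by
  haveI : Fact (Nat.Prime 19) := ⟨by norm_num⟩
  haveI : Fact (Nat.Prime 3) := ⟨by norm_num⟩
  obtain ⟨x, hx19, hx⟩ := exists_nineteen h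
  obtain ⟨P, hP⟩ := exists_sylow h hx19
  obtain ⟨y, hy⟩ := exists_prime_orderOf_dvd_card' (G := N) 19 h19
  rw [← Subgroup.orderOf_coe] at hy
  obtain ⟨g, -, hg⟩ := conj_nineteen h hx19 hy
  have hPN : (P : Subgroup (threeJ3 F ω)) ≤ N := by
    rw [hP, Subgroup.zpowers_le]
    have h1 : g⁻¹ * x * g ∈ N := Subgroup.zpowers_le.2 y.2 hg
    have := ‹N.Normal›.conj_mem _ h1 g
    simpa [mul_assoc] using this
  have hsup := Sylow.normalizer_sup_eq_top' P hPN
  by_contra hN
  haveI : Nontrivial (threeJ3 F ω ⧸ N) := by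
    rw [← not_subsingleton_iff_nontrivial]
    exact fun hs => hN (QuotientGroup.subgroup_eq_top_of_subsingleton N hs)
  have hidx : ¬ 19 ∣ N.index := by
    intro hd
    have h2 : 19 * 19 ∣ Nat.card N * N.index := Nat.mul_dvd_mul h19 hd
    rw [Subgroup.card_mul_index, (nineteen_dvd h).1] at h2
    exact (nineteen_dvd h).2 (Nat.dvd_of_mul_dvd_mul_left (by norm_num) h2)
  have hp : IsPGroup 3 (threeJ3 F ω ⧸ N) := by
    intro q
    refine ⟨5, ?_⟩
    obtain ⟨a, rfl⟩ := QuotientGroup.mk'_surjective N q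
    obtain ⟨b, hb, n, hn, rfl⟩ := Subgroup.mem_sup_of_normal_right.1
      (hsup.symm ▸ Subgroup.mem_top a)
    have hbn : QuotientGroup.mk' N (b * n) = QuotientGroup.mk' N b := by
      rw [map_mul, show QuotientGroup.mk' N n = 1 from (QuotientGroup.eq_one_iff n).2 hn, mul_one]
    have hb' : b * x * b⁻¹ ∈ Subgroup.zpowers x := by
      have := (Subgroup.mem_normalizer_iff.1 hb x).1 (hP.symm ▸ Subgroup.mem_zpowers x)
      rwa [← hP]
    have e1 : QuotientGroup.mk' N (b * n) ^ 4617 = 1 := by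
      rw [hbn, ← map_pow, normalizer_order h hx19 hx hb', map_one]
    have e2 : QuotientGroup.mk' N (b * n) ^ N.index = 1 := by
      rw [Subgroup.index_eq_card]; exact pow_card_eq_one'
    have e3 := (pow_gcd_eq_one).2 ⟨e1, e2⟩
    have hdvd : Nat.gcd 4617 N.index ∣ 243 := by
      have hco : Nat.Coprime (Nat.gcd 4617 N.index) 19 :=
        Nat.Coprime.coprime_dvd_left (Nat.gcd_dvd_right _ _)
          ((Nat.Prime.coprime_iff_not_dvd (by norm_num)).2 hidx).symm
      exact hco.dvd_of_dvd_mul_right (show _ ∣ 243 * 19 from Nat.gcd_dvd_left _ _)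
    obtain ⟨c, hc⟩ := hdvd
    rw [show (3 : ℕ) ^ 5 = Nat.gcd 4617 N.index * c by rw [← hc]; norm_num, pow_mul, e3, one_pow]
  have := hp.isNilpotent
  have hlt := IsSolvable.commutator_lt_top_of_nontrivial (G := threeJ3 F ω ⧸ N)
  have hc : commutator (threeJ3 F ω ⧸ N) = ⊤ := by
    rw [← derivedSeries_one, ← map_derivedSeries_eq (QuotientGroup.mk'_surjective N) 1,
      derivedSeries_one, perfect h]
    exact Subgroup.map_top_of_surjective _ (QuotientGroup.mk'_surjective N)
  exact hlt.ne hc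

theorem pow_modEq_eq {q : ℕ} (hq : q = 2 ∨ q = 3 ∨ q = 5 ∨ q = 17) {a b : ℕ} (hba : b ≤ a)
    (ha : q ^ a ∣ 150698880) (e : q ^ a ≡ q ^ b [MOD 19]) : a = b := by
  have hbound : a ≤ 7 := by
    by_contra hc
    have h8 : q ^ 8 ∣ 150698880 := (pow_dvd_pow q (show 8 ≤ a by omega)).trans ha
    rcases hq with rfl | rfl | rfl | rfl <;> norm_num at h8
  rcases hq with rfl | rfl | rfl | rfl <;> interval_cases a <;> interval_cases b <;>
    first
      | rfl
      | (exfalso; norm_num at ha; done)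
      | (exfalso; exact absurd e (by decide))

theorem exists_fixed_sylow (h : Four F ω) (N : Subgroup (threeJ3 F ω)) [N.Normal]
    (h19 : ¬ 19 ∣ Nat.card N) {x : threeJ3 F ω} (hx19 : orderOf x = 19) (q : ℕ) [Fact q.Prime] :
    ∃ Q : Subgroup (threeJ3 F ω), Q ≤ N ∧ Nat.card Q = q ^ (Nat.card N).factorization q ∧
      ∀ a ∈ Q, x * a * x⁻¹ ∈ Q := by
  haveI : Fact (Nat.Prime 19) := ⟨by norm_num⟩
  let Q₀ : Sylow q N := default
  set A := Subgroup.normalizer (((Q₀ : Subgroup N).map N.subtype : Subgroup (threeJ3 F ω)) : Set (threeJ3 F ω))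
  have hsup : A ⊔ N = ⊤ := Sylow.normalizer_sup_eq_top Q₀
  have hsurj : Function.Surjective ((QuotientGroup.mk' N).comp A.subtype) := by
    intro q'
    obtain ⟨a, rfl⟩ := QuotientGroup.mk'_surjective N q'
    obtain ⟨b, hb, n, hn, rfl⟩ := Subgroup.mem_sup_of_normal_right.1
      (hsup.symm ▸ Subgroup.mem_top a)
    exact ⟨⟨b, hb⟩, by simp [(QuotientGroup.eq_one_iff n).2 hn]⟩
  have hA : 19 ∣ Nat.card A := by
    refine dvd_trans ?_ (Subgroup.card_dvd_of_surjective _ hsurj)
    rw [← Subgroup.index_eq_card]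
    have h2 : 19 ∣ Nat.card N * N.index := by
      rw [Subgroup.card_mul_index, (nineteen_dvd h).1]; exact dvd_mul_right _ _
    exact ((Nat.Prime.dvd_mul (by norm_num)).1 h2).resolve_left h19
  obtain ⟨y, hy⟩ := exists_prime_orderOf_dvd_card' (G := A) 19 hA
  rw [← Subgroup.orderOf_coe] at hy
  obtain ⟨g, -, hg⟩ := conj_nineteen h hx19 hy
  refine ⟨((Q₀ : Subgroup N).map N.subtype).map (MulAut.conj g).toMonoidHom, ?_, ?_, ?_⟩
  · rintro _ ⟨a, ⟨b, -, rfl⟩, rfl⟩
    exact ‹N.Normal›.conj_mem _ b.2 g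
  · rw [Subgroup.card_map_of_injective (MulEquiv.injective _),
      Subgroup.card_map_of_injective N.subtype_injective]
    exact Q₀.card_eq_multiplicity
  · rintro _ ⟨a, ha, rfl⟩
    have hmem : g⁻¹ * x * g ∈ A := Subgroup.zpowers_le.2 y.2 hg
    have := (Subgroup.mem_normalizer_iff.1 hmem a).1 ha
    exact ⟨_, this, by simp [mul_assoc]⟩

/-- conjugation of a group by a cyclic subgroup normalising it -/
theorem card_centralized_modEq {G : Type*} [Group G] [Finite G] {p : ℕ} [Fact p.Prime] (x : G)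
    (hx : orderOf x = p) (Q : Subgroup G) (hQ : ∀ a ∈ Q, x * a * x⁻¹ ∈ Q) :
    Nat.card Q ≡ Nat.card ↥(Q ⊓ Subgroup.centralizer ({x} : Set G)) [MOD p] := by
  have hnorm : ∀ y : Subgroup.zpowers x, ∀ a ∈ Q, (y : G) * a * (y : G)⁻¹ ∈ Q := by
    rintro ⟨y, hy⟩ a ha
    obtain ⟨k, rfl⟩ := mem_powers_iff_mem_zpowers.2 hy
    induction k generalizing a with
    | zero => simpa using ha
    | succ k ih =>
      have := ih (x * a * x⁻¹) (hQ a ha)
      simp only [pow_succ] at this ⊢
      simpa [mul_assoc] using this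
  letI : MulAction (Subgroup.zpowers x) Q :=
    { smul := fun y a => ⟨(y : G) * a * (y : G)⁻¹, hnorm y a a.2⟩
      one_smul := fun a => Subtype.ext (show (1 : G) * a * (1 : G)⁻¹ = a by simp)
      mul_smul := fun y z a => Subtype.ext
        (show ((y : G) * z) * a * ((y : G) * z)⁻¹ = y * (z * a * (z : G)⁻¹) * (y : G)⁻¹ by group) }
  have hP : IsPGroup p (Subgroup.zpowers x) :=
    IsPGroup.of_card (n := 1) (by rw [Nat.card_zpowers, hx, pow_one])
  refine (hP.card_modEq_card_fixedPoints Q).trans (congrArg (· % p) ?_)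
  refine Nat.card_congr ⟨fun a => ⟨a.1.1, a.1.2, ?_⟩, fun a => ⟨⟨a.1, a.2.1⟩, ?_⟩, fun _ => rfl,
    fun _ => rfl⟩
  · refine Subgroup.mem_centralizer_singleton_iff.2 ?_
    have := congrArg Subtype.val (a.2 ⟨x, Subgroup.mem_zpowers x⟩)
    exact (mul_inv_eq_iff_eq_mul.1 this).symm
  · rintro ⟨y, hy⟩
    refine Subtype.ext (mul_inv_eq_iff_eq_mul.2 ?_)
    obtain ⟨k, rfl⟩ := hy
    exact (Commute.zpow_left (show Commute x (a.1 : G) from
      (Subgroup.mem_centralizer_singleton_iff.1 a.2.2).symm) k).eq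

theorem center_of_not_nineteen (h : Four F ω) (N : Subgroup (threeJ3 F ω)) [N.Normal]
    (h19 : ¬ 19 ∣ Nat.card N) : N ≤ Subgroup.center (threeJ3 F ω) := by
  obtain ⟨x, hx19, hx⟩ := exists_nineteen h
  haveI : Fact (Nat.Prime 19) := ⟨by norm_num⟩
  have hdvdN : Nat.card N ∣ 150698880 := card_threeJ3 h ▸ Subgroup.card_subgroup_dvd_card N
  have hNpos : Nat.card N ≠ 0 := Nat.card_pos.ne'
  have hfix : ∀ q, q.Prime → q ∣ Nat.card N → ∃ Q : Subgroup (threeJ3 F ω), Q ≤ N ∧
      Nat.card Q = q ^ (Nat.card N).factorization q ∧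
      Q ≤ Subgroup.centralizer ({x} : Set (threeJ3 F ω)) ∧ q = 3 := by
    intro q hq hqN
    haveI : Fact q.Prime := ⟨hq⟩
    have hq' : q = 2 ∨ q = 3 ∨ q = 5 ∨ q = 17 := by
      have h1 : q ∣ 2 ^ 7 * 3 ^ 6 * 5 * 17 * 19 := hqN.trans (hdvdN.trans (by norm_num))
      have h2 : ∀ r, r.Prime → q ∣ r → q = r := fun r hr hd => (Nat.prime_dvd_prime_iff_eq hq hr).1 hd
      rcases (Nat.Prime.dvd_mul hq).1 h1 with h1 | h1
      · rcases (Nat.Prime.dvd_mul hq).1 h1 with h1 | h1
        · rcases (Nat.Prime.dvd_mul hq).1 h1 with h1 | h1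
          · rcases (Nat.Prime.dvd_mul hq).1 h1 with h1 | h1
            · exact Or.inl (h2 2 Nat.prime_two (hq.dvd_of_dvd_pow h1))
            · exact Or.inr (Or.inl (h2 3 Nat.prime_three (hq.dvd_of_dvd_pow h1)))
          · exact Or.inr (Or.inr (Or.inl (h2 5 (by norm_num) h1)))
        · exact Or.inr (Or.inr (Or.inr (h2 17 (by norm_num) h1)))
      · exact absurd ((h2 19 (by norm_num) h1) ▸ hqN) h19
    obtain ⟨Q, hQN, hQc, hQx⟩ := exists_fixed_sylow h N h19 hx19 q
    have hmod := card_centralized_modEq x hx19 Q hQx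
    have hle : Q ⊓ Subgroup.centralizer ({x} : Set (threeJ3 F ω)) ≤ Q := inf_le_left
    obtain ⟨b, hb, hbc⟩ := (Nat.dvd_prime_pow hq).1 (hQc ▸ Subgroup.card_dvd_of_le hle)
    rw [hQc, hbc] at hmod
    have hab := pow_modEq_eq hq' hb ((Nat.ordProj_dvd _ _).trans hdvdN) hmod
    have heq : Q ⊓ Subgroup.centralizer ({x} : Set (threeJ3 F ω)) = Q :=
      Subgroup.eq_of_le_of_card_ge hle (by rw [hbc, hQc, hab])
    have hQC : Q ≤ Subgroup.centralizer ({x} : Set (threeJ3 F ω)) := heq ▸ inf_le_right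
    refine ⟨Q, hQN, hQc, hQC, ?_⟩
    have hpos : 0 < (Nat.card N).factorization q := hq.factorization_pos_of_dvd hNpos hqN
    obtain ⟨z, hz⟩ := exists_prime_orderOf_dvd_card' (G := Q) q (hQc ▸ dvd_pow_self q hpos.ne')
    rw [← Subgroup.orderOf_coe] at hz
    have h513 : q ∣ 513 := hz ▸ orderOf_dvd_of_pow_eq_one
      (comm_order h hx (Subgroup.mem_centralizer_singleton_iff.1 (hQC z.2)))
    rcases hq' with rfl | rfl | rfl | rfl <;> first | rfl | norm_num at h513
  have hC : N ≤ Subgroup.centralizer ({x} : Set (threeJ3 F ω)) := by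
    by_cases h1 : Nat.card N = 1
    · rw [Subgroup.card_eq_one] at h1
      rw [h1]; exact bot_le
    · obtain ⟨q, hq, hqN⟩ := Nat.exists_prime_and_dvd h1
      obtain ⟨Q, hQN, hQc, hQC, rfl⟩ := hfix q hq hqN
      have h3 : Nat.card N = 3 ^ (Nat.card N).factorization 3 := by
        have := Nat.eq_prime_pow_of_unique_prime_dvd hNpos
          (p := 3) fun {d} hd hdN => (hfix d hd hdN).choose_spec.2.2.2
        conv_rhs => rw [this, Nat.factorization_pow_self hq]
        exact this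
      exact (Subgroup.eq_of_le_of_card_ge hQN (by rw [hQc, ← h3])) ▸ hQC
  have hxC : x ∈ Subgroup.centralizer (N : Set (threeJ3 F ω)) :=
    Subgroup.mem_centralizer_iff.2 fun n hn => Subgroup.mem_centralizer_singleton_iff.1 (hC hn)
  have htop := top_of_nineteen h (Subgroup.centralizer (N : Set (threeJ3 F ω))) (by
    rw [← hx19, ← Nat.card_zpowers]
    exact Subgroup.card_dvd_of_le (Subgroup.zpowers_le.2 hxC))
  intro n hn
  refine Subgroup.mem_center_iff.2 fun g => ?_
  have := Subgroup.mem_centralizer_iff.1 (htop.symm ▸ Subgroup.mem_top g) n hn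
  exact this.symm

theorem card_J3 (h : Four F ω) : Nat.card (J3 F ω) = 50232960 := by
  have h1 := Subgroup.card_eq_card_quotient_mul_card_subgroup (Subgroup.center (threeJ3 F ω))
  rw [card_threeJ3 h, card_center h] at h1
  show Nat.card (threeJ3 F ω ⧸ Subgroup.center (threeJ3 F ω)) = _
  omega

theorem simple_J3 (h : Four F ω) : IsSimpleGroup (J3 F ω) := by
  haveI : Nontrivial (threeJ3 F ω ⧸ Subgroup.center (threeJ3 F ω)) :=
    Finite.one_lt_card_iff_nontrivial.1
      (by rw [show Nat.card (threeJ3 F ω ⧸ Subgroup.center (threeJ3 F ω)) = _ from card_J3 h]; norm_num)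
  refine ⟨fun M hM => ?_⟩
  set π := QuotientGroup.mk' (Subgroup.center (threeJ3 F ω))
  haveI : (M.comap π).Normal := hM.comap π
  have hmap : (M.comap π).map π = M :=
    Subgroup.map_comap_eq_self_of_surjective (QuotientGroup.mk'_surjective _) M
  by_cases h19 : 19 ∣ Nat.card (M.comap π)
  · right
    rw [← hmap, top_of_nineteen h _ h19]
    exact Subgroup.map_top_of_surjective _ (QuotientGroup.mk'_surjective _)
  · left
    rw [← hmap, Subgroup.map_eq_bot_iff, QuotientGroup.ker_mk']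
    exact center_of_not_nineteen h _ h19

end CfsgLib.LocalEven.J3Lines
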