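import Cfsg.Agent.Lib.LocalEven.J3OrderSimple
import Cfsg.Prelude.Def_Classical
import Cfsg.Prelude.Def_Sporadic

/-!
The triple cover of the third Janko group inside the special unitary group of degree nine over the
field with four elements.
-/

set_option autoImplicit false
set_option maxRecDepth 100000

namespace CfsgLib.LocalEven.J3Lines

open Cfsg Cfsg.Spor Matrix
open scoped MatrixGroups

attribute [local irreducible] bits1 bits2 bitsV el1 el2 getB getW app genCols genWords vec1 vec2
  par1 par2 loTbl hiTbl parTbl genOrd orbsTbl owordsTbl patsTbl witU witKey base baseCoef cycCoef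

variable {F : Type*} [Field F] [Fintype F] {ω : F}

theorem exists_four : ∃ (F : Type) (_ : Field F) (_ : Fintype F) (ω : F), Four F ω := by
  classical
  haveI : Fact (Nat.Prime 2) := ⟨Nat.prime_two⟩
  let F := GaloisField 2 2
  letI : Fintype F := Fintype.ofFinite F
  have hF : Fintype.card F = 4 := by
    rw [← Nat.card_eq_fintype_card]
    exact (GaloisField.card 2 2 two_ne_zero).trans (by norm_num)
  obtain ⟨x, hx⟩ : ∃ x : F, x ∉ ({0, 1} : Finset F) := by
    by_contra hc
    push Not at hc
    have := Finset.card_le_card (s := Finset.univ) fun x _ => hc x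
    rw [Finset.card_univ, hF] at this
    exact absurd (this.trans Finset.card_le_two) (by norm_num)
  simp only [Finset.mem_insert, Finset.mem_singleton, not_or] at hx
  have h3 : x ^ 3 = 1 := by
    have := FiniteField.pow_card_sub_one_eq_one x hx.1
    rwa [hF] at this
  refine ⟨F, inferInstance, inferInstance, x, hF, ?_⟩
  exact (mul_eq_zero.1 (show (x - 1) * (x ^ 2 + x + 1) = 0 by linear_combination h3)).resolve_left
    (sub_ne_zero.2 hx.2)

theorem hermitian_inv (h : Four F ω) {g : GL F9 F} (hg : g ∈ threeJ3 F ω) :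
    ∀ u v : F9 → F, ∑ w, ((g : Matrix F9 F9 F) *ᵥ u) w * ((g : Matrix F9 F9 F) *ᵥ v) w ^ 2 =
      ∑ w, u w * v w ^ 2 := by
  haveI := charTwo h
  haveI : Fact (Nat.Prime 2) := ⟨Nat.prime_two⟩
  rw [← selGrp_eq h] at hg
  induction hg using Subgroup.closure_induction with
  | mem g hg =>
    obtain ⟨j, hj, e⟩ := hg
    intro u v
    rw [e]
    simp only [Matrix.mulVec, dotProduct]
    calc ∑ w, (∑ a, selMat F ω j w a * u a) * (∑ b, selMat F ω j w b * v b) ^ 2
        = ∑ w, ∑ a, ∑ b, (selMat F ω j w a * selMat F ω j w b ^ 2) * (u a * v b ^ 2) := by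
          refine Finset.sum_congr rfl fun w _ => ?_
          rw [sum_pow_char, Finset.sum_mul_sum]
          refine Finset.sum_congr rfl fun a _ => Finset.sum_congr rfl fun b _ => ?_
          ring
      _ = ∑ a, ∑ b, (if a = b then 1 else 0) * (u a * v b ^ 2) := by
          rw [Finset.sum_comm]
          refine Finset.sum_congr rfl fun a _ => ?_
          rw [Finset.sum_comm]
          refine Finset.sum_congr rfl fun b _ => ?_
          rw [← Finset.sum_mul, selMat_gram h hj]
      _ = ∑ w, u w * v w ^ 2 := by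
          refine Finset.sum_congr rfl fun a _ => ?_
          simp
  | one => intro u v; simp
  | mul a b _ _ ha hb =>
    intro u v
    rw [Units.val_mul, ← Matrix.mulVec_mulVec, ← Matrix.mulVec_mulVec, ha, hb]
  | inv a _ ha =>
    intro u v
    rw [← ha]
    simp only [Matrix.mulVec_mulVec, Units.mul_inv, Matrix.one_mulVec]

theorem det_one (h : Four F ω) (g : threeJ3 F ω) : ((g : GL F9 F) : Matrix F9 F9 F).det = 1 := by
  let d : threeJ3 F ω →* Fˣ := Matrix.GeneralLinearGroup.det.comp (threeJ3 F ω).subtype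
  have hd : g ∈ d.ker :=
    Abelianization.commutator_subset_ker d (by rw [perfect h]; exact Subgroup.mem_top g)
  have h1 := congrArg Units.val (MonoidHom.mem_ker.1 hd)
  simpa only [d, MonoidHom.comp_apply, Subgroup.coe_subtype, Matrix.GeneralLinearGroup.val_det_apply, Units.val_one] using h1

theorem unitary_realization : ∃ (F : Type) (_ : Field F) (_ : Fintype F), Fintype.card F = 4 ∧
    ∃ H : Subgroup (SU 9 F 2), Nat.card (Subgroup.center H) = 3 ∧ IsJ3 (H ⧸ Subgroup.center H) := by
  classical
  obtain ⟨F, iF, iFt, ω, h⟩ := exists_four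
  refine ⟨F, iF, iFt, h.card, ?_⟩
  let e : F9 ≃ Fin 9 := Fintype.equivFinOfCardEq (by simp)
  have hmul : ∀ (M : Matrix F9 F9 F) (u : Fin 9 → F),
      Matrix.reindex e e M *ᵥ u = (M *ᵥ (u ∘ e)) ∘ e.symm := fun M u => by
    rw [Matrix.reindex_apply, Matrix.submatrix_mulVec_equiv]
    rfl
  let ψ₀ : threeJ3 F ω →* Matrix.SpecialLinearGroup (Fin 9) F :=
    { toFun := fun g => ⟨Matrix.reindex e e ((g : GL F9 F) : Matrix F9 F9 F),
        by rw [Matrix.det_reindex_self]; exact det_one h g⟩
      map_one' := Subtype.ext (by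
        show Matrix.reindex e e (1 : Matrix F9 F9 F) = 1
        rw [Matrix.reindex_apply, Matrix.submatrix_one_equiv])
      map_mul' := fun a b => Subtype.ext (by
        show Matrix.reindex e e (((a : GL F9 F) : Matrix F9 F9 F) * ((b : GL F9 F) : Matrix F9 F9 F)) =
          Matrix.reindex e e _ * Matrix.reindex e e _
        simp only [Matrix.reindex_apply, Matrix.submatrix_mul_equiv]) }
  have hmem : ∀ g, ψ₀ g ∈ SU 9 F 2 := by
    intro g u v
    show hermForm 9 F 2 (Matrix.reindex e e ((g : GL F9 F) : Matrix F9 F9 F) *ᵥ u)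
      (Matrix.reindex e e ((g : GL F9 F) : Matrix F9 F9 F) *ᵥ v) = hermForm 9 F 2 u v
    rw [hmul, hmul, hermForm, hermForm]
    rw [← e.sum_comp, ← e.sum_comp (fun i => u i * v i ^ 2)]
    simp only [Function.comp_apply, Equiv.symm_apply_apply]
    exact hermitian_inv h g.2 (u ∘ e) (v ∘ e)
  let ψ : threeJ3 F ω →* SU 9 F 2 := ψ₀.codRestrict _ hmem
  have hψ : Function.Injective ψ := fun a b hab => by
    have h1 := congrArg (fun s : SU 9 F 2 => (s : Matrix.SpecialLinearGroup (Fin 9) F).1) hab
    exact Subtype.ext (Units.ext ((Matrix.reindex e e).injective h1))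
  let E : threeJ3 F ω ≃* ψ.range := MonoidHom.ofInjective hψ
  refine ⟨ψ.range, ?_, ?_⟩
  · exact ((Nat.card_congr (Subgroup.centerCongr E).toEquiv).symm.trans (card_center h))
  · have hmap : (Subgroup.center (threeJ3 F ω)).map E.toMonoidHom = Subgroup.center ψ.range := by
      ext x
      simp only [Subgroup.mem_map, MulEquiv.coe_toMonoidHom, Subgroup.mem_center_iff]
      constructor
      · rintro ⟨y, hy, rfl⟩ z
        obtain ⟨w, rfl⟩ := E.surjective z
        rw [← map_mul, hy w, map_mul]
      · intro hx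
        refine ⟨E.symm x, fun w => E.injective ?_, E.apply_symm_apply x⟩
        rw [map_mul, map_mul, E.apply_symm_apply, hx]
    let Q : J3 F ω ≃* ψ.range ⧸ Subgroup.center ψ.range := QuotientGroup.congr _ _ E hmap
    haveI := simple_J3 h
    exact ⟨MulEquiv.isSimpleGroup Q.symm, by rw [← Nat.card_congr Q.toEquiv]; exact card_J3 h⟩

end CfsgLib.LocalEven.J3Lines
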