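import Cfsg.Agent.Lib.LocalEven.J3OutCode

/-!
The finite checks for the automorphisms of the third Janko group.
-/

set_option autoImplicit false
set_option maxRecDepth 100000

namespace CfsgLib.LocalEven.J3Lines

open Cfsg Cfsg.Spor

theorem xPows_ok : (eqL (xPows.getD 0 []) idCols && eqL (xPows.getD 1 []) (wordCols w19) &&
    (List.range 18).all fun k =>
      eqL (mulL (xPows.getD 1 []) (xPows.getD k [])) (xPows.getD (k + 1) [])) = true := by
  decide +kernel

theorem bCols_ok : (bWord.all (fun j => Nat.blt j 7) && eqL bCols (wordCols bWord) &&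
    eqL (repC bIndex) bCols && Nat.blt bIndex 1377 && Nat.blt tPlace.1 1377 && Nat.blt tPlace.2 19 &&
    eqL (mulL tCols (xPows.getD tPlace.2 [])) (mulL (xPows.getD tPlace.2 []) (repC tPlace.1))) = true := by
  decide +kernel

theorem genInv_ok : ((List.range 7).all fun j =>
    eqL (genFwdCols.getD j []) (wordCols [j]) &&
    eqL (genInvCols.getD j []) (wordCols (List.replicate (genOrd.getD j 0 - 1) j))) = true := by
  decide +kernel

theorem rel_fail : ((List.range 1377).all fun i => Nat.beq i bIndex ||
    relFails 1 3 (repC i) || relFails 6 8 (repC i)) = true := by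
  decide +kernel

theorem rel_hold : ((List.range 18).all fun i =>
    Nat.beq (relIter 1 bCols 3 (2 ^ i)) (wPow 0 (2 ^ i)) &&
      Nat.beq (relIter 6 bCols 8 (2 ^ i)) (wPow 1 (2 ^ i))) = true := by
  decide +kernel

theorem selExp_ok : ((List.range 7).all fun j =>
    (selExp.getD j []).all (fun e => Nat.blt e 19) && !(selExp.getD j []).isEmpty &&
    (List.range 18).all fun i =>
      Nat.beq (expApp (selExp.getD j []) (2 ^ i)) (appWord [j] (2 ^ i))) = true := by
  decide +kernel

theorem yWord_ok : (yWord.all (fun j => Nat.blt j 7) &&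
    eqL (mulL (wordCols yWord) (xPows.getD 1 [])) (mulL (xPows.getD 4 []) (wordCols yWord))) = true := by
  decide +kernel

theorem tau_ok : ((List.range 7).all fun j =>
    (tauWords.getD j []).all (fun a => Nat.blt a 7) &&
    zs.all fun z => zs.all fun w =>
      Nat.beq (cd (appWord (tauWords.getD j []) (2 ^ (2 * kk z))) w) (tauEntry j w z)) = true := by
  decide +kernel

theorem squares_mod : ∀ k : Fin 19, (k : ℕ) = 0 ∨
    (∃ a : Fin 9, (4 : ℕ) ^ (a : ℕ) % 19 = (k : ℕ)) ∨ (∃ a : Fin 9, (4 : ℕ) ^ (a : ℕ) * 18 % 19 = (k : ℕ)) := by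
  decide

end CfsgLib.LocalEven.J3Lines
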