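import Cfsg.Agent.Lib.LocalEven.J3OutCode

/-!
Each representative of the involutions of the third Janko group is a conjugate of an earlier one.
-/

set_option autoImplicit false
set_option maxRecDepth 100000

namespace CfsgLib.LocalEven.J3Lines

open Cfsg Cfsg.Spor

theorem par_0 : allT parOK 8 0 = true := by
  decide +kernel

theorem par_1 : allT parOK 8 256 = true := by
  decide +kernel

theorem par_2 : allT parOK 8 512 = true := by
  decide +kernel

theorem par_3 : allT parOK 8 768 = true := by
  decide +kernel

theorem par_4 : allT parOK 8 1024 = true := by
  decide +kernel

theorem par_5 : allT parOK 8 1280 = true := by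
  decide +kernel

theorem par_ok : ∀ i, i < 1536 → parOK i = true := by
  intro i hi
  by_cases h0 : i < 256
  · exact allT_imp par_0 i (by omega) (by omega)
  by_cases h1 : i < 512
  · exact allT_imp par_1 i (by omega) (by omega)
  by_cases h2 : i < 768
  · exact allT_imp par_2 i (by omega) (by omega)
  by_cases h3 : i < 1024
  · exact allT_imp par_3 i (by omega) (by omega)
  by_cases h4 : i < 1280
  · exact allT_imp par_4 i (by omega) (by omega)
  exact allT_imp par_5 i (by omega) (by omega)

end CfsgLib.LocalEven.J3Lines
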