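import Cfsg.Agent.Lib.LocalEven.J3OutCode

/-!
The table of the involutions of the third Janko group, ordered by the images of two probes.
-/

set_option autoImplicit false
set_option maxRecDepth 100000

namespace CfsgLib.LocalEven.J3Lines

open Cfsg Cfsg.Spor

theorem cls_0 : allT clsOK 11 0 = true := by
  decide +kernel

theorem cls_1 : allT clsOK 11 2048 = true := by
  decide +kernel

theorem cls_2 : allT clsOK 11 4096 = true := by
  decide +kernel

theorem cls_3 : allT clsOK 11 6144 = true := by
  decide +kernel

theorem cls_4 : allT clsOK 11 8192 = true := by
  decide +kernel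

theorem cls_5 : allT clsOK 11 10240 = true := by
  decide +kernel

theorem cls_6 : allT clsOK 11 12288 = true := by
  decide +kernel

theorem cls_7 : allT clsOK 11 14336 = true := by
  decide +kernel

theorem cls_8 : allT clsOK 11 16384 = true := by
  decide +kernel

theorem cls_9 : allT clsOK 11 18432 = true := by
  decide +kernel

theorem cls_10 : allT clsOK 11 20480 = true := by
  decide +kernel

theorem cls_11 : allT clsOK 11 22528 = true := by
  decide +kernel

theorem cls_12 : allT clsOK 11 24576 = true := by
  decide +kernel

theorem cls_ok : ∀ i, i < 26624 → clsOK i = true := by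
  intro i hi
  by_cases h0 : i < 2048
  · exact allT_imp cls_0 i (by omega) (by omega)
  by_cases h1 : i < 4096
  · exact allT_imp cls_1 i (by omega) (by omega)
  by_cases h2 : i < 6144
  · exact allT_imp cls_2 i (by omega) (by omega)
  by_cases h3 : i < 8192
  · exact allT_imp cls_3 i (by omega) (by omega)
  by_cases h4 : i < 10240
  · exact allT_imp cls_4 i (by omega) (by omega)
  by_cases h5 : i < 12288
  · exact allT_imp cls_5 i (by omega) (by omega)
  by_cases h6 : i < 14336
  · exact allT_imp cls_6 i (by omega) (by omega)
  by_cases h7 : i < 16384
  · exact allT_imp cls_7 i (by omega) (by omega)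
  by_cases h8 : i < 18432
  · exact allT_imp cls_8 i (by omega) (by omega)
  by_cases h9 : i < 20480
  · exact allT_imp cls_9 i (by omega) (by omega)
  by_cases h10 : i < 22528
  · exact allT_imp cls_10 i (by omega) (by omega)
  by_cases h11 : i < 24576
  · exact allT_imp cls_11 i (by omega) (by omega)
  exact allT_imp cls_12 i (by omega) (by omega)

end CfsgLib.LocalEven.J3Lines
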