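import Cfsg.Agent.Lib.LocalEven.J3Invol
import Cfsg.Agent.Lib.LocalEven.J3OutChecks
import Cfsg.Agent.Lib.LocalEven.J3OutTable
import Cfsg.Agent.Lib.LocalEven.J3OutParents
import Cfsg.Prelude.Def_KGroupFacts

/-!
The automorphisms of the third Janko group: an element of order nineteen and an involution generate
it, and such a pair is determined up to conjugation and the field automorphism.
-/

set_option autoImplicit false
set_option maxRecDepth 100000

namespace CfsgLib.LocalEven.J3Lines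

open Cfsg Cfsg.Spor Matrix
open scoped MatrixGroups

attribute [local irreducible] bits1 bits2 bitsV el1 el2 getB getW app genCols genWords vec1 vec2
  par1 par2 loTbl hiTbl parTbl genOrd orbsTbl owordsTbl patsTbl witU witKey base baseCoef cycCoef
  xPows bCols bWord invReps clsTbl selExp yWord tauWords probe1 probe2 tCols genFwdCols genInvCols
  invPar

variable {F : Type*} [Field F] [Fintype F] {ω : F}

/-- the pair of generators and the data attached to it -/
structure Pair (F : Type*) [Field F] (ω : F) (X B : threeJ3 F ω) : Prop where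
  xOrd : orderOf X = 19
  xMat : ((X : GL F9 F) : Matrix F9 F9 F) = wordMat F ω w19
  xPow : ∀ k < 19, Cols F ω (((X ^ k : threeJ3 F ω) : GL F9 F) : Matrix F9 F9 F) (xPows.getD k [])
  bMat : Cols F ω ((B : GL F9 F) : Matrix F9 F9 F) bCols

theorem exists_pair (h : Four F ω) : ∃ X B : threeJ3 F ω, Pair F ω X B := by
  obtain ⟨X, hX19, hX⟩ := exists_nineteen h
  have hx := xPows_ok
  simp only [Bool.and_eq_true, List.all_eq_true, List.mem_range, eqL_iff] at hx
  obtain ⟨⟨h0, h1⟩, hs⟩ := hx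
  have hX1 : Cols F ω ((X : GL F9 F) : Matrix F9 F9 F) (xPows.getD 1 []) := by
    rw [h1, hX]; exact Cols.word h w19_lt
  have hpow : ∀ k < 19, Cols F ω (((X ^ k : threeJ3 F ω) : GL F9 F) : Matrix F9 F9 F)
      (xPows.getD k []) := by
    intro k
    induction k with
    | zero =>
      intro _
      rw [h0, pow_zero, Subgroup.coe_one, Units.val_one]
      exact Cols.one
    | succ k ih =>
      intro hk
      rw [← hs k (by omega), pow_succ', Subgroup.coe_mul, Units.val_mul]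
      exact hX1.mul h (ih (by omega))
  have hb := bCols_ok
  simp only [Bool.and_eq_true, List.all_eq_true, Nat.blt_eq, eqL_iff] at hb
  obtain ⟨g, hg, hge⟩ := exists_word h bWord hb.1.1.1.1.1.1
  exact ⟨X, ⟨g, selGrp_le h hg⟩, hX19, hX, hpow, by
    show Cols F ω (g : Matrix F9 F9 F) bCols
    rw [hb.1.1.1.1.1.2, hge]; exact Cols.word h hb.1.1.1.1.1.1⟩

theorem expApp_spec (h : Four F ω) {X B : threeJ3 F ω} (hP : Pair F ω X B) :
    ∀ es : List ℕ, (∀ e ∈ es, e < 19) → ∀ v, v < 262144 →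
      ∃ g ∈ Subgroup.closure ({X, B} : Set (threeJ3 F ω)), expApp es v < 262144 ∧
        ∀ w, w < 262144 → ((g : GL F9 F) : Matrix F9 F9 F) *ᵥ dec F ω w = dec F ω (expApp es w)
  | [], _, v, hv => ⟨1, one_mem _, by simpa [expApp] using hv, fun w _ => by simp [expApp]⟩
  | [e], he, v, hv => by
    have hX := hP.xPow e (he e List.mem_cons_self)
    exact ⟨X ^ e, pow_mem (Subgroup.subset_closure (by simp)) e, by rw [expApp, imgF_eq]; exact (hX.app h hv).1,
      fun w hw => by rw [expApp, imgF_eq]; exact (hX.app h hw).2⟩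
  | e :: e' :: es, he, v, hv => by
    have hX := hP.xPow e (he e List.mem_cons_self)
    obtain ⟨g, hg, hlt, hgw⟩ := expApp_spec h hP (e' :: es)
      (fun x hx => he x (List.mem_cons_of_mem _ hx)) v hv
    have hlt' : ∀ w, w < 262144 → expApp (e' :: es) w < 262144 := fun w hw => by
      obtain ⟨_, _, h1, _⟩ := expApp_spec h hP (e' :: es)
        (fun x hx => he x (List.mem_cons_of_mem _ hx)) w hw
      exact h1
    refine ⟨X ^ e * B * g, mul_mem (mul_mem (pow_mem (Subgroup.subset_closure (by simp)) e)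
      (Subgroup.subset_closure (by simp))) hg, ?_, fun w hw => ?_⟩
    · rw [expApp, imgF_eq, imgF_eq]
      exact (hX.app h (hP.bMat.app h hlt).1).1
    · rw [expApp, imgF_eq, imgF_eq, Subgroup.coe_mul, Subgroup.coe_mul, Units.val_mul, Units.val_mul,
        ← Matrix.mulVec_mulVec, ← Matrix.mulVec_mulVec, hgw w hw, (hP.bMat.app h (hlt' w hw)).2,
        (hX.app h (hP.bMat.app h (hlt' w hw)).1).2]

theorem closure_pair (h : Four F ω) {X B : threeJ3 F ω} (hP : Pair F ω X B) :
    Subgroup.closure ({X, B} : Set (threeJ3 F ω)) = ⊤ := by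
  set K := Subgroup.closure ({X, B} : Set (threeJ3 F ω)) with hK
  have hsel : selGrp F ω ≤ K.map (threeJ3 F ω).subtype := by
    refine (Subgroup.closure_le _).2 ?_
    rintro g ⟨j, hj, hg⟩
    have hs := selExp_ok
    simp only [List.all_eq_true, List.mem_range, Bool.and_eq_true, Nat.beq_eq, Nat.blt_eq] at hs
    obtain ⟨⟨he, -⟩, hv⟩ := hs j hj
    obtain ⟨a, ha, -, haw⟩ := expApp_spec h hP _ he 0 (by norm_num)
    refine ⟨a, ha, Units.ext (mat_ext h fun i hi => ?_)⟩
    show ((a : GL F9 F) : Matrix F9 F9 F) *ᵥ _ = _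
    rw [haw _ (two_pow_lt hi), hv i hi, hg]
    have := (appWord_spec h [j] (by simpa using hj) _ (two_pow_lt hi)).2
    rw [wordMat, wordMat, mul_one] at this
    exact this.symm
  rw [eq_top_iff]
  intro g _
  obtain ⟨a, ha, hae⟩ := hsel ((selGrp_eq h).symm ▸ g.2 : (g : GL F9 F) ∈ selGrp F ω)
  exact (Subtype.ext hae : a = g) ▸ ha

theorem Pair.pow_neg (_ : Four F ω) {X B : threeJ3 F ω} (hP : Pair F ω X B) {m : ℕ} (hm : m < 19) :
    X ^ ((19 - m) % 19) = (X ^ m)⁻¹ := by
  refine eq_inv_of_mul_eq_one_left ?_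
  rw [← pow_add, ← pow_mod_orderOf, hP.xOrd, show ((19 - m) % 19 + m) % 19 = 0 by omega, pow_zero]

/-- the columns of an element of the cover -/
abbrev ColsG (F : Type*) [Field F] (ω : F) (g : threeJ3 F ω) (c : List ℕ) : Prop :=
  Cols F ω ((g : GL F9 F) : Matrix F9 F9 F) c

theorem ColsG.mul (h : Four F ω) {g k : threeJ3 F ω} {a b : List ℕ} (ha : ColsG F ω g a)
    (hb : ColsG F ω k b) : ColsG F ω (g * k) (mulL a b) := by
  show Cols F ω _ _
  rw [Subgroup.coe_mul, Units.val_mul]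
  exact Cols.mul h ha hb

theorem ColsG.unique (h : Four F ω) {g k : threeJ3 F ω} {a : List ℕ} (ha : ColsG F ω g a)
    (hb : ColsG F ω k a) : g = k :=
  Subtype.ext (Units.ext (Cols.eq h ha hb))

theorem wordMat_replicate (j : ℕ) : ∀ n, wordMat F ω (List.replicate n j) = selMat F ω j ^ n
  | 0 => by simp [wordMat]
  | n + 1 => by rw [List.replicate_succ, wordMat, wordMat_replicate j n, pow_succ']

theorem exists_gen (h : Four F ω) {j : ℕ} (hj : j < 7) : ∃ g : threeJ3 F ω,
    ColsG F ω g (genFwdCols.getD j []) ∧ ColsG F ω g⁻¹ (genInvCols.getD j []) := by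
  have hg := genInv_ok
  simp only [List.all_eq_true, List.mem_range, Bool.and_eq_true, eqL_iff] at hg
  obtain ⟨h1, h2⟩ := hg j hj
  obtain ⟨a, ha, hae⟩ := exists_sel h hj
  have ho := orders_ok
  simp only [List.all_eq_true, List.mem_range, Bool.and_eq_true, Nat.beq_eq, Nat.blt_eq] at ho
  obtain ⟨hpos, hfix⟩ := ho j hj
  have hpow : selMat F ω j ^ genOrd.getD j 0 = 1 := mat_ext h fun i hi => by
    rw [(appIter_spec h hj (two_pow_lt hi) _).2, Matrix.one_mulVec, hfix i hi]
  have hw1 : ∀ x ∈ [j], x < 7 := by simpa using hj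
  have hw2 : ∀ x ∈ List.replicate (genOrd.getD j 0 - 1) j, x < 7 := fun x hx => by
    rw [List.eq_of_mem_replicate hx]; exact hj
  refine ⟨⟨a, ha⟩, ?_, ?_⟩
  · show Cols F ω (a : Matrix F9 F9 F) _
    rw [h1, hae]
    have := Cols.word h hw1
    rwa [wordMat, wordMat, mul_one] at this
  · have e : (⟨a, ha⟩ : threeJ3 F ω)⁻¹ = ⟨a, ha⟩ ^ (genOrd.getD j 0 - 1) := by
      refine inv_eq_of_mul_eq_one_left (Subtype.ext (Units.ext ?_))
      show ((a ^ (genOrd.getD j 0 - 1) * a : GL F9 F) : Matrix F9 F9 F) = 1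
      rw [← pow_succ, Nat.sub_add_cancel hpos, Units.val_pow_eq_pow_val, hae, hpow]
    show Cols F ω _ _
    rw [h2, e, SubmonoidClass.coe_pow, Units.val_pow_eq_pow_val,
      show ((⟨a, ha⟩ : threeJ3 F ω) : GL F9 F) = a from rfl, hae, ← wordMat_replicate]
    exact Cols.word h hw2

theorem exists_T (h : Four F ω) : ∃ T : threeJ3 F ω, T * T = 1 ∧ T ≠ 1 ∧ ColsG F ω T tCols ∧
    Nat.card (Subgroup.centralizer ({T} : Set (threeJ3 F ω))) = 5760 := by
  obtain ⟨lq, -, -⟩ := grp_len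
  obtain ⟨SQ, EQ, hSQ, -⟩ := exists_tGrp h qGrp_ok (by omega)
  have htC : Cols F ω (EQ 5 : Matrix F9 F9 F) tCols := by
    rw [eqL_iff.1 tCols_ok.2]; exact hSQ.cols_eq 5 (by omega)
  have htt : EQ 5 * EQ 5 = 1 := by
    have hs := q_square
    simp only [List.all_eq_true, List.mem_range, Bool.or_eq_true, Nat.beq_eq] at hs
    obtain ⟨-, e⟩ := hSQ.mul 5 (by omega) 5 (by omega)
    rcases hs 5 (by norm_num) with e' | e' <;> rw [e'] at e
    · rw [← e, hSQ.one]
    · exact absurd (hSQ.inj h qCols_nodup (by omega) (by omega)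
        ((mul_eq_right.1 e.symm).trans hSQ.one.symm)) (by norm_num)
  refine ⟨⟨EQ 5, hSQ.le (hSQ.mem 5 (by omega))⟩, Subtype.ext htt, fun e => ?_, htC, ?_⟩
  · exact absurd (hSQ.inj h qCols_nodup (by omega) (by omega)
      ((congrArg Subtype.val e).trans hSQ.one.symm) : (5 : ℕ) = 0) (by norm_num)
  · rw [← card_cent h (hSQ.le (hSQ.mem 5 (by omega))) htC htt]
    exact Nat.card_congr
      ⟨fun g => ⟨g.1.1, g.1.2, Subgroup.mem_centralizer_singleton_iff.2
          (congrArg Subtype.val (Subgroup.mem_centralizer_singleton_iff.1 g.2))⟩,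
        fun g => ⟨⟨g.1, g.2.1⟩, Subgroup.mem_centralizer_singleton_iff.2
          (Subtype.ext (Subgroup.mem_centralizer_singleton_iff.1 g.2.2))⟩, fun _ => rfl, fun _ => rfl⟩

theorem involution_conj (h : Four F ω) {a b : threeJ3 F ω} (ha : a * a = 1) (ha1 : a ≠ 1)
    (hb : b * b = 1) (hb1 : b ≠ 1) : IsConj a b := by
  obtain ⟨hone, -⟩ := involutions h
  let π : threeJ3 F ω →* J3 F ω := QuotientGroup.mk' (Subgroup.center (threeJ3 F ω))
  have hord : ∀ {a : threeJ3 F ω}, a * a = 1 → a ≠ 1 → orderOf (π a) = 2 := fun {a} ha ha1 => by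
    haveI : Fact (Nat.Prime 2) := ⟨Nat.prime_two⟩
    refine orderOf_eq_prime (by rw [pow_two, ← map_mul, ha, map_one]) fun e => ha1 ?_
    obtain ⟨e3, -⟩ := center_scalar h ((QuotientGroup.eq_one_iff a).1 e)
    exact eq_one_of_three e3 (by rw [pow_two]; exact ha) (by norm_num)
  obtain ⟨c, hc⟩ := isConj_iff.1 (hone _ _ (hord ha ha1) (hord hb hb1))
  obtain ⟨g, rfl⟩ := QuotientGroup.mk'_surjective _ c
  have hz : g * a * g⁻¹ * b⁻¹ ∈ Subgroup.center (threeJ3 F ω) := by
    rw [← QuotientGroup.eq_one_iff]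
    show π (g * a * g⁻¹ * b⁻¹) = 1
    rw [map_mul, map_mul, map_mul, map_inv, map_inv, show π g * π a * (π g)⁻¹ = π b from hc,
      mul_inv_cancel]
  obtain ⟨z3, -⟩ := center_scalar h hz
  refine isConj_iff.2 ⟨g, mul_inv_eq_one.1 (eq_one_of_three z3 (n := 2) ?_ (by norm_num))⟩
  have hzb : Commute (g * a * g⁻¹ * b⁻¹) b := (Subgroup.mem_center_iff.1 hz b).symm
  have h7 : (g * a * g⁻¹ * b⁻¹ * b) ^ 2 = 1 := by
    rw [inv_mul_cancel_right, conj_pow, pow_two, ha]; group
  rwa [hzb.mul_pow, pow_two b, hb, mul_one] at h7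

theorem probe_lt : probe1 < 262144 ∧ probe2 < 262144 := by
  have : (Nat.blt probe1 262144 && Nat.blt probe2 262144) = true := by decide +kernel
  simpa [Bool.and_eq_true, Nat.blt_eq] using this

theorem reps_conj (h : Four F ω) {X B : threeJ3 F ω} (hP : Pair F ω X B) {T : threeJ3 F ω}
    (hT : ColsG F ω T tCols) :
    ∀ j < 1377, ∃ R : threeJ3 F ω, IsConj T R ∧ ColsG F ω R (repC j) := by
  intro j
  induction j using Nat.strong_induction_on with
  | h j ih =>
    intro hj
    have hp := par_ok j (by omega)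
    simp only [parOK, Bool.or_eq_true, Bool.and_eq_true, Nat.beq_eq, Nat.ble_eq, Nat.blt_eq,
      eqL_iff, mulF_eq] at hp
    rcases hp with (rfl | hbig) | ⟨⟨⟨⟨hpj, hg⟩, ha⟩, hm⟩, hc⟩
    · have hb := bCols_ok
      simp only [Bool.and_eq_true, List.all_eq_true, Nat.blt_eq, eqL_iff] at hb
      have ht := hb.2
      have hx : tPlace = (0, 0) := by decide +kernel
      have h1 := hP.xPow 0 (by norm_num)
      rw [pow_zero] at h1
      rw [hx] at ht
      refine ⟨T, IsConj.refl T, ?_⟩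
      have e1 : mulL tCols (xPows.getD 0 []) = tCols :=
        Cols.unique h (ColsG.mul h hT h1) (by rw [mul_one]; exact hT)
      show Cols F ω _ _
      have e2 : mulL (xPows.getD 0 []) (repC 0) = repC 0 := by decide +kernel
      simp only at ht
      rw [e1, e2] at ht
      exact ht ▸ hT
    · omega
    · obtain ⟨R, hR, hRc⟩ := ih _ hpj (by omega)
      obtain ⟨g, hg1, hg2⟩ := exists_gen h hg
      refine ⟨(X ^ parOK.parM j)⁻¹ * (g * (X ^ parOK.parA j * (R * ((X ^ parOK.parA j)⁻¹ *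
        (g⁻¹ * X ^ parOK.parM j))))), hR.trans (isConj_iff.2
          ⟨(X ^ parOK.parM j)⁻¹ * g * X ^ parOK.parA j, by group⟩), ?_⟩
      rw [hc]
      refine ColsG.mul h ?_ (ColsG.mul h hg1 (ColsG.mul h (hP.xPow _ ha) (ColsG.mul h hRc
        (ColsG.mul h ?_ (ColsG.mul h hg2 (hP.xPow _ hm))))))
      · rw [← hP.pow_neg h hm]; exact hP.xPow _ (Nat.mod_lt _ (by norm_num))
      · rw [← hP.pow_neg h ha]; exact hP.xPow _ (Nat.mod_lt _ (by norm_num))

/-- every involution is conjugate to a representative by a power of the element of order nineteen -/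
theorem invol_cover (h : Four F ω) {X B : threeJ3 F ω} (hP : Pair F ω X B) {u : threeJ3 F ω}
    (hu : u * u = 1) (hu1 : u ≠ 1) :
    ∃ i < 1377, ∃ m < 19, ∃ R, ColsG F ω R (repC i) ∧ u = X ^ m * R * (X ^ m)⁻¹ := by
  classical
  obtain ⟨T, hTT, hT1, hTc, hcent⟩ := exists_T h
  choose R hRc hRcols using reps_conj h hP hTc
  have hclass : Nat.card (conjugatesOf T) = 26163 := by
    have e := (MulAction.stabilizer (ConjAct (threeJ3 F ω)) T).card_mul_index
    rw [MulAction.index_stabilizer] at e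
    have hst : Nat.card (MulAction.stabilizer (ConjAct (threeJ3 F ω)) T) = 5760 := by
      rw [← hcent]
      exact Nat.card_congr
        ⟨fun g => ⟨ConjAct.ofConjAct g.1, Subgroup.mem_centralizer_singleton_iff.2
            (mul_inv_eq_iff_eq_mul.1 g.2)⟩,
          fun g => ⟨ConjAct.toConjAct g.1,
            mul_inv_eq_iff_eq_mul.2 (Subgroup.mem_centralizer_singleton_iff.1 g.2)⟩,
          fun _ => rfl, fun _ => rfl⟩
    have horb : MulAction.orbit (ConjAct (threeJ3 F ω)) T = conjugatesOf T := by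
      ext x
      rw [ConjAct.mem_orbit_conjAct]
      exact ⟨fun e => e.symm, fun e => (e : IsConj T x).symm⟩
    rw [hst, horb, Nat.card_congr ConjAct.ofConjAct.toEquiv, card_threeJ3 h,
      ← Nat.card_coe_set_eq] at e
    omega
  have hq : ∀ q : Fin 26163, clsI q < 1377 ∧ clsM q < 19 ∧
      clsAt q / 65536 = probeC (clsI q) (clsM q) ∧
      ((q : ℕ) + 1 < 26163 → clsAt q / 65536 < clsAt (q + 1) / 65536) := by
    intro q
    have hc := cls_ok q (by omega)
    simp only [clsOK, Bool.or_eq_true, Bool.and_eq_true, Nat.ble_eq, Nat.beq_eq, Nat.blt_eq] at hc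
    obtain ⟨⟨⟨a, b⟩, c⟩, d⟩ := hc.resolve_left (by omega)
    exact ⟨a, b, c, fun hlt => d.resolve_left (by omega)⟩
  let f : Fin 26163 → conjugatesOf T := fun q =>
    ⟨X ^ clsM q * R (clsI q) (hq q).1 * (X ^ clsM q)⁻¹,
      (hRc _ (hq q).1).trans (isConj_iff.2 ⟨X ^ clsM q, rfl⟩)⟩
  have hprobe : ∀ q : Fin 26163, ∀ v < 262144,
      ((((f q : threeJ3 F ω) : GL F9 F)) : Matrix F9 F9 F) *ᵥ dec F ω v =
        dec F ω (conjApp (clsI q) (clsM q) v) ∧ conjApp (clsI q) (clsM q) v < 262144 := by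
    intro q v hv
    have hx := hP.xPow _ (hq q).2.1
    have hxi := hP.xPow _ (Nat.mod_lt (19 - clsM q) (show 19 > 0 by norm_num))
    rw [hP.pow_neg h (hq q).2.1] at hxi
    obtain ⟨l1, e1⟩ := Cols.app h hxi hv
    obtain ⟨l2, e2⟩ := Cols.app h (hRcols _ (hq q).1) l1
    obtain ⟨l3, e3⟩ := Cols.app h hx l2
    rw [conjApp, imgF_eq, imgF_eq, imgF_eq]
    refine ⟨?_, l3⟩
    show ((((X ^ clsM q * R (clsI q) (hq q).1 * (X ^ clsM q)⁻¹ : threeJ3 F ω)) : GL F9 F) :
      Matrix F9 F9 F) *ᵥ _ = _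
    rw [Subgroup.coe_mul, Subgroup.coe_mul, Units.val_mul, Units.val_mul, ← Matrix.mulVec_mulVec,
      ← Matrix.mulVec_mulVec, e1, e2, e3]
  have hmono : StrictMono fun q : Fin 26163 => clsAt q / 65536 :=
    Fin.strictMono_iff_lt_succ.2 fun q => by
      simpa using (hq q.castSucc).2.2.2 (by simp only [Fin.val_castSucc]; omega)
  have hinj : Function.Injective f := by
    intro q q' e
    refine hmono.injective ?_
    show clsAt q / 65536 = clsAt q' / 65536
    rw [(hq q).2.2.1, (hq q').2.2.1, probeC, probeC]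
    have key : ∀ v < 262144, conjApp (clsI q) (clsM q) v = conjApp (clsI q') (clsM q') v := by
      intro v hv
      obtain ⟨e1, l1⟩ := hprobe q v hv
      obtain ⟨e2, l2⟩ := hprobe q' v hv
      rw [e] at e1
      exact dec_inj h l1 l2 (e1.symm.trans e2)
    rw [key _ probe_lt.1, key _ probe_lt.2]
  have hbij := (Nat.bijective_iff_injective_and_card f).2 ⟨hinj, by rw [hclass, Nat.card_fin]⟩
  obtain ⟨q, hqe⟩ := hbij.2 ⟨u, involution_conj h hTT hT1 hu hu1⟩
  exact ⟨_, (hq q).1, _, (hq q).2.1, _, hRcols _ (hq q).1, (congrArg Subtype.val hqe).symm⟩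

theorem relIter_spec (h : Four F ω) {X B : threeJ3 F ω} (hP : Pair F ω X B) {R : threeJ3 F ω}
    {r : List ℕ} (hR : ColsG F ω R r) {k : ℕ} (hk : k < 19) {v : ℕ} (hv : v < 262144) :
    ∀ n, relIter k r n v < 262144 ∧
      ((((X ^ k * R) ^ n : threeJ3 F ω) : GL F9 F) : Matrix F9 F9 F) *ᵥ dec F ω v =
        dec F ω (relIter k r n v)
  | 0 => by simp [relIter, hv]
  | n + 1 => by
    obtain ⟨l, e⟩ := relIter_spec h hP hR hk hv n
    obtain ⟨l1, e1⟩ := Cols.app h hR l
    obtain ⟨l2, e2⟩ := Cols.app h (hP.xPow k hk) l1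
    rw [relIter, imgF_eq, imgF_eq]
    refine ⟨l2, ?_⟩
    rw [pow_succ', Subgroup.coe_mul, Units.val_mul, Subgroup.coe_mul, Units.val_mul,
      ← Matrix.mulVec_mulVec, ← Matrix.mulVec_mulVec, e, e1, e2]

theorem wPow_one {c : ℕ} (hc : c < 3) : wPow c 1 = 1 ∨ wPow c 1 = 2 ∨ wPow c 1 = 3 := by
  interval_cases c <;> decide

theorem pair_relations (h : Four F ω) {X B : threeJ3 F ω} (hP : Pair F ω X B) :
    (X * B) ^ 3 ∈ Subgroup.center (threeJ3 F ω) ∧
      (X ^ 6 * B) ^ 8 ∈ Subgroup.center (threeJ3 F ω) := by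
  have hr := rel_hold
  simp only [List.all_eq_true, List.mem_range, Bool.and_eq_true, Nat.beq_eq] at hr
  have key : ∀ {g : threeJ3 F ω} (c : ℕ), (∀ i < 18, ((g : GL F9 F) : Matrix F9 F9 F) *ᵥ
      dec F ω (2 ^ i) = dec F ω (wPow c (2 ^ i))) → g ∈ Subgroup.center (threeJ3 F ω) := by
    intro g c hg
    have e : ((g : GL F9 F) : Matrix F9 F9 F) = ω ^ c • (1 : Matrix F9 F9 F) :=
      mat_ext h fun i hi => by rw [hg i hi, dec_wPow h, Matrix.smul_mulVec, Matrix.one_mulVec]
    exact Subgroup.mem_center_iff.2 fun a => Subtype.ext (Units.ext (by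
      rw [Subgroup.coe_mul, Subgroup.coe_mul, Units.val_mul, Units.val_mul, e]; simp))
  refine ⟨key 0 fun i hi => ?_, key 1 fun i hi => ?_⟩
  · have := (relIter_spec h hP hP.bMat (show 1 < 19 by norm_num) (two_pow_lt hi) 3).2
    rwa [pow_one, (hr i hi).1] at this
  · have := (relIter_spec h hP hP.bMat (show 6 < 19 by norm_num) (two_pow_lt hi) 8).2
    rwa [(hr i hi).2] at this

theorem pair_unique (h : Four F ω) {X B : threeJ3 F ω} (hP : Pair F ω X B) {u : threeJ3 F ω}
    (hu : u * u = 1) (hu1 : u ≠ 1) (h3 : (X * u) ^ 3 ∈ Subgroup.center (threeJ3 F ω))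
    (h8 : (X ^ 6 * u) ^ 8 ∈ Subgroup.center (threeJ3 F ω)) :
    ∃ m : ℕ, u = X ^ m * B * (X ^ m)⁻¹ := by
  obtain ⟨i, hi, m, -, R, hR, rfl⟩ := invol_cover h hP hu hu1
  have hrel : ∀ k n : ℕ, k < 19 →
      (X ^ k * (X ^ m * R * (X ^ m)⁻¹)) ^ n ∈ Subgroup.center (threeJ3 F ω) →
      relFails k n (repC i) = false := by
    intro k n hk hc
    have e : (X ^ k * (X ^ m * R * (X ^ m)⁻¹)) ^ n = X ^ m * (X ^ k * R) ^ n * (X ^ m)⁻¹ := by
      rw [← conj_pow]
      congr 1
      rw [← mul_assoc, ← mul_assoc, ← mul_assoc, ← pow_add, ← pow_add, add_comm]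
    rw [e] at hc
    have hc' : (X ^ k * R) ^ n ∈ Subgroup.center (threeJ3 F ω) := by
      have := (Subgroup.Normal.conj_mem inferInstance _ hc (X ^ m)⁻¹)
      simpa [mul_assoc] using this
    obtain ⟨-, c, hc3, hcc⟩ := center_scalar h hc'
    obtain ⟨l, e1⟩ := relIter_spec h hP hR hk (show 1 < 262144 by norm_num) n
    have e2 : (idCols.map (wPow c)).getD 0 0 = wPow c 1 := by simp [idCols]
    obtain ⟨l2, e3⟩ := hcc.2 0 (by norm_num)
    rw [pow_zero] at e3
    rw [e2] at l2 e3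
    have := dec_inj h l l2 (e1.symm.trans e3)
    rw [relFails, this]
    rcases wPow_one hc3 with e | e | e <;> rw [e] <;> rfl
  have hf := rel_fail
  simp only [List.all_eq_true, List.mem_range, Bool.or_eq_true, Nat.beq_eq] at hf
  rcases hf i hi with (rfl | e) | e
  · have hb := bCols_ok
    simp only [Bool.and_eq_true, List.all_eq_true, Nat.blt_eq, eqL_iff] at hb
    refine ⟨m, ?_⟩
    rw [ColsG.unique h hR (hb.1.1.1.1.2 ▸ hP.bMat)]
  · rw [hrel 1 3 (by norm_num) (by rwa [pow_one])] at e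
    exact absurd e (by simp)
  · rw [hrel 6 8 (by norm_num) h8] at e
    exact absurd e (by simp)

/-- the map to the simple group -/
def prj (F : Type*) [Field F] (ω : F) : threeJ3 F ω →* J3 F ω :=
  QuotientGroup.mk' (Subgroup.center (threeJ3 F ω))

theorem prj_surj : Function.Surjective (prj F ω) := QuotientGroup.mk'_surjective _

theorem prj_one {x : threeJ3 F ω} : prj F ω x = 1 ↔ x ∈ Subgroup.center (threeJ3 F ω) :=
  QuotientGroup.eq_one_iff x

theorem prj_pow19 {X B : threeJ3 F ω} (hP : Pair F ω X B) : (prj F ω X) ^ 19 = 1 := by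
  rw [← map_pow, ← hP.xOrd, pow_orderOf_eq_one, map_one]

theorem conj_cases (h : Four F ω) {X B : threeJ3 F ω} (hP : Pair F ω X B) (φ : MulAut (J3 F ω)) :
    IsConj (prj F ω X) (φ (prj F ω X)) ∨ IsConj (prj F ω X)⁻¹ (φ (prj F ω X)) := by
  haveI : Fact (Nat.Prime 19) := ⟨by norm_num⟩
  have ha : prj F ω X ≠ 1 := fun e => by
    obtain ⟨e3, -⟩ := center_scalar h (prj_one.1 e)
    have := orderOf_dvd_of_pow_eq_one e3
    rw [hP.xOrd] at this
    norm_num at this
  obtain ⟨y₀, hy₀⟩ := prj_surj (φ (prj F ω X))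
  have hy19 : prj F ω y₀ ^ 19 = 1 := by rw [hy₀, ← map_pow, prj_pow19 hP, map_one]
  have hπy : prj F ω (y₀ ^ 39) = φ (prj F ω X) := by
    rw [map_pow, show 39 = 19 * 2 + 1 by norm_num, pow_succ, pow_mul, hy19, one_pow, one_mul, hy₀]
  have hy : orderOf (y₀ ^ 39) = 19 := by
    refine orderOf_eq_prime ?_ fun e => ha ?_
    · obtain ⟨e3, -⟩ := center_scalar h (prj_one.1 (by rw [map_pow, hy19] : prj F ω (y₀ ^ 19) = 1))
      rw [← pow_mul, show 39 * 19 = 19 * 3 * 13 by norm_num, pow_mul, pow_mul, e3, one_pow]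
    · rw [e, map_one] at hπy
      exact φ.map_eq_one_iff.1 hπy.symm
  obtain ⟨g, hg, -⟩ := conj_nineteen h hP.xOrd hy
  obtain ⟨k, hk⟩ := mem_powers_iff_mem_zpowers.2 hg
  simp only at hk
  rw [← pow_mod_orderOf, hP.xOrd] at hk
  have hck : IsConj (prj F ω X ^ (k % 19)) (φ (prj F ω X)) := by
    refine (isConj_iff.2 ⟨prj F ω g, ?_⟩ : IsConj (φ (prj F ω X)) _).symm
    rw [← hπy, ← map_inv, ← map_mul, ← map_mul, ← map_pow, hk]
  have hY := yWord_ok
  simp only [Bool.and_eq_true, List.all_eq_true, Nat.blt_eq, eqL_iff] at hY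
  obtain ⟨y, hy', hye⟩ := exists_word h yWord hY.1
  set Y : threeJ3 F ω := ⟨y, selGrp_le h hy'⟩
  have hYc : ColsG F ω Y (wordCols yWord) := by
    show Cols F ω (y : Matrix F9 F9 F) _
    rw [hye]; exact Cols.word h hY.1
  have h1 := hP.xPow 1 (by norm_num)
  rw [pow_one] at h1
  have e4 : Y * X = X ^ 4 * Y :=
    ColsG.unique h (hY.2 ▸ ColsG.mul h hYc h1) (ColsG.mul h (hP.xPow 4 (by norm_num)) hYc)
  have hstep : ∀ n : ℕ, IsConj (prj F ω X) (prj F ω X ^ 4 ^ n) := by
    intro n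
    induction n with
    | zero => rw [pow_zero, pow_one]
    | succ n ih =>
      refine ih.trans (isConj_iff.2 ⟨prj F ω Y, ?_⟩)
      rw [← map_pow, ← map_inv, ← map_mul, ← map_mul, ← conj_pow, e4, mul_inv_cancel_right, ← pow_mul,
        map_pow, ← pow_succ']
  have hmod : ∀ n, prj F ω X ^ n = prj F ω X ^ (n % 19) := fun n => by
    conv_lhs => rw [← Nat.div_add_mod n 19, pow_add, pow_mul, prj_pow19 hP, one_pow, one_mul]
  rcases squares_mod ⟨k % 19, Nat.mod_lt _ (by norm_num)⟩ with e | ⟨a, e⟩ | ⟨a, e⟩ <;> simp only at e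
  · rw [e, pow_zero] at hck
    exact absurd (φ.map_eq_one_iff.1 (isConj_one_right.1 hck)) ha
  · left
    have := hstep a
    rw [hmod, e] at this
    exact this.trans hck
  · right
    have h18 : prj F ω X ^ 18 = (prj F ω X)⁻¹ :=
      eq_inv_of_mul_eq_one_left (by rw [← pow_succ, prj_pow19 hP])
    obtain ⟨c, hc⟩ := isConj_iff.1 (hstep a)
    refine IsConj.trans (isConj_iff.2 ⟨c, ?_⟩) hck
    rw [← h18, ← conj_pow, hc, ← pow_mul, hmod, e]

theorem inner_of_conj (h : Four F ω) {X B : threeJ3 F ω} (hP : Pair F ω X B) (φ : MulAut (J3 F ω))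
    (hc : IsConj (prj F ω X) (φ (prj F ω X))) : φ ∈ Inn (J3 F ω) := by
  obtain ⟨c, hc⟩ := isConj_iff.1 hc
  set ψ : MulAut (J3 F ω) := MulAut.conj c⁻¹ * φ with hψ
  have hψa : ψ (prj F ω X) = prj F ω X := by
    rw [hψ, MulAut.mul_apply, MulAut.conj_apply, ← hc]; group
  have hb := bCols_ok
  simp only [Bool.and_eq_true, List.all_eq_true, Nat.blt_eq, eqL_iff] at hb
  obtain ⟨T, hTT, hT1, hTc, -⟩ := exists_T h
  obtain ⟨R, hR, hRc⟩ := reps_conj h hP hTc bIndex hb.1.1.1.2
  obtain rfl : R = B := ColsG.unique h hRc (hb.1.1.1.1.2 ▸ hP.bMat)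
  obtain ⟨g, hg⟩ := isConj_iff.1 hR
  have hB2 : R * R = 1 := by
    rw [← hg, show g * T * g⁻¹ * (g * T * g⁻¹) = g * (T * T) * g⁻¹ by group, hTT]; group
  have hB1 : prj F ω R ≠ 1 := fun e => by
    obtain ⟨e3, -⟩ := center_scalar h (prj_one.1 e)
    exact hT1 (conj_eq_one_iff.1 (hg.trans (eq_one_of_three e3 (n := 2)
      (by rw [pow_two, hB2]) (by norm_num))))
  obtain ⟨u₀, hu₀⟩ := prj_surj (ψ (prj F ω R))
  have hu2' : prj F ω u₀ ^ 2 = 1 := by
    rw [hu₀, ← map_pow, ← map_pow, pow_two, hB2, map_one, map_one]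
  set u := u₀ ^ 3 with hu
  have hπu : prj F ω u = ψ (prj F ω R) := by
    rw [hu, map_pow, pow_succ, hu2', one_mul, hu₀]
  have huu : u * u = 1 := by
    obtain ⟨e6, -⟩ := center_scalar h (prj_one.1 (by rw [map_pow, hu2'] : prj F ω (u₀ ^ 2) = 1))
    rw [hu, ← pow_add, show 3 + 3 = 2 * 3 by norm_num, pow_mul, e6]
  have hu1 : u ≠ 1 := fun e => hB1 <| by
    rw [e, map_one] at hπu
    exact ψ.map_eq_one_iff.1 hπu.symm
  obtain ⟨r3, r8⟩ := pair_relations h hP
  have h3 : (X * u) ^ 3 ∈ Subgroup.center (threeJ3 F ω) := by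
    rw [← prj_one, map_pow, map_mul, hπu, ← hψa, ← map_mul, ← map_pow, ← map_mul, ← map_pow,
      prj_one.2 r3, map_one]
  have h8 : (X ^ 6 * u) ^ 8 ∈ Subgroup.center (threeJ3 F ω) := by
    rw [← prj_one, map_pow, map_mul, map_pow, hπu, ← hψa, ← map_pow ψ, ← map_mul, ← map_pow,
      ← map_pow, ← map_mul, ← map_pow, prj_one.2 r8, map_one]
  obtain ⟨m, hm⟩ := pair_unique h hP huu hu1 h3 h8
  have hgen : ψ = MulAut.conj (prj F ω X ^ m) := by
    have hle : Subgroup.closure ({X, R} : Set (threeJ3 F ω)) ≤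
        MonoidHom.eqLocus (ψ.toMonoidHom.comp (prj F ω))
          ((MulAut.conj (prj F ω X ^ m)).toMonoidHom.comp (prj F ω)) := by
      refine (Subgroup.closure_le _).2 ?_
      rintro g (rfl | rfl)
      · show ψ (prj F ω g) = MulAut.conj (prj F ω g ^ m) (prj F ω g)
        rw [hψa, MulAut.conj_apply, (Commute.self_pow (prj F ω g) m).symm.eq, mul_inv_cancel_right]
      · show ψ (prj F ω g) = MulAut.conj (prj F ω X ^ m) (prj F ω g)
        rw [← hπu, hm, MulAut.conj_apply, map_mul, map_mul, map_inv, map_pow]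
    refine MulEquiv.ext fun y => ?_
    obtain ⟨g, rfl⟩ := prj_surj y
    exact hle ((closure_pair h hP).symm ▸ Subgroup.mem_top g)
  refine ⟨c * prj F ω X ^ m, ?_⟩
  rw [map_mul, ← hgen, hψ, ← mul_assoc, ← map_mul, mul_inv_cancel, map_one, one_mul]

/-! ### The field automorphism -/

/-- the field automorphism on matrices, with the conjugation of the index field -/
def frobM (F : Type*) [Field F] [CharP F 2] : Matrix F9 F9 F →* Matrix F9 F9 F where
  toFun M := (M.map (frobenius F 2)).submatrix cj9 cj9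
  map_one' := by
    rw [Matrix.map_one _ (map_zero _) (map_one _)]
    exact Matrix.submatrix_one _ (Function.Involutive.injective fun z => by simp [cj9])
  map_mul' M N := by
    rw [Matrix.map_mul]
    exact (Matrix.submatrix_mul _ _ _ _ _ (Function.Involutive.bijective fun z => by simp [cj9]))

theorem frob_toF (h : Four F ω) [CharP F 2] {c : ℕ} (hc : c < 4) :
    frobenius F 2 (toF F ω c) = toF F ω (frobC c) := by
  obtain ⟨v0, v1, v2, v3⟩ := toF_vals (F := F) (ω := ω)
  have h2 := h.two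
  have hw := h.root
  rw [frobenius_def]
  interval_cases c <;> simp only [frobC, v0, v1, v2, v3] <;> norm_num [v0, v1, v2, v3]
  · linear_combination hw - (1 + ω) * h2
  · linear_combination hw

theorem frobM_sel (h : Four F ω) [CharP F 2] {j : ℕ} (hj : j < 7) :
    frobM F (selMat F ω j) = wordMat F ω (tauWords.getD j []) := by
  have ht := tau_ok
  simp only [List.all_eq_true, List.mem_range, Bool.and_eq_true, Nat.beq_eq, Nat.blt_eq] at ht
  obtain ⟨hw, he⟩ := ht j hj
  have hz : ∀ z : F9, cd (2 ^ (2 * kk z)) z = 1 ∧ ∀ w, w ≠ z → cd (2 ^ (2 * kk z)) w = 0 := by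
    decide +kernel
  ext w z
  have e1 : dec F ω (2 ^ (2 * kk z)) = Pi.single z 1 := by
    funext u
    by_cases hu : u = z
    · subst hu; simp [dec, (hz u).1, toF_vals.2.1]
    · simp [dec, (hz z).2 u hu, toF_vals.1, hu]
  have h2 : 2 ^ (2 * kk z) < 262144 := two_pow_lt (by have := kk_lt z; omega)
  have e3 := congrFun (appWord_spec h _ hw _ h2).2 w
  rw [e1, Matrix.mulVec_single_one] at e3
  change _ = toF F ω (cd _ w) at e3
  rw [he z (zs_nodup.2 z) w (zs_nodup.2 w)] at e3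
  refine Eq.trans ?_ e3.symm
  show frobenius F 2 (selMat F ω j (cj9 w) (cj9 z)) = _
  rw [selMat, mat_eq h, frob_toF h (sel_gMat_lt ⟨j, hj⟩ _ _)]
  rfl

theorem exists_tau (h : Four F ω) : ∃ τ : MulAut (J3 F ω), τ ∉ Inn (J3 F ω) := by
  haveI := charTwo h
  haveI : Fact (Nat.Prime 2) := ⟨Nat.prime_two⟩
  let T : GL F9 F →* GL F9 F := Units.map (frobM F)
  have hT : Function.Injective T := by
    intro a b e
    refine Units.ext (Matrix.ext fun w z => ?_)
    have := congrFun (congrFun (congrArg (fun a : GL F9 F => (a : Matrix F9 F9 F)) e) (cj9 w)) (cj9 z)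
    have hcc : ∀ z : F9, cj9 (cj9 z) = z := fun z => by simp [cj9]
    simp only [T, Units.coe_map, frobM, MonoidHom.coe_mk, OneHom.coe_mk, Matrix.submatrix_apply,
      Matrix.map_apply, hcc] at this
    exact frobenius_inj F 2 this
  have hle : threeJ3 F ω ≤ (threeJ3 F ω).comap T := by
    conv_lhs => rw [← selGrp_eq h]
    refine (Subgroup.closure_le _).2 ?_
    rintro g ⟨j, hj, hg⟩
    have hw : ∀ a ∈ tauWords.getD j [], a < 7 := by
      have ht := tau_ok
      simp only [List.all_eq_true, List.mem_range, Bool.and_eq_true, Nat.blt_eq] at ht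
      exact (ht j hj).1
    obtain ⟨a, ha, hae⟩ := exists_word h _ hw
    show T g ∈ threeJ3 F ω
    rw [show T g = a from Units.ext (by rw [hae, Units.coe_map, hg, frobM_sel h hj])]
    exact selGrp_le h ha
  let τ₀ : threeJ3 F ω →* threeJ3 F ω :=
    (T.comp (threeJ3 F ω).subtype).codRestrict _ fun g => hle g.2
  have hτ₀ : Function.Bijective τ₀ := by
    refine (Finite.injective_iff_bijective).1 fun a b e => Subtype.ext (hT ?_)
    exact congrArg Subtype.val e
  let τ₁ : threeJ3 F ω ≃* threeJ3 F ω := MulEquiv.ofBijective τ₀ hτ₀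
  let τ : MulAut (J3 F ω) := QuotientGroup.congr _ _ τ₁
    (Subgroup.characteristic_iff_map_eq.1 inferInstance τ₁)
  refine ⟨τ, ?_⟩
  obtain ⟨X, B, hP⟩ := exists_pair h
  rintro ⟨c, hc⟩
  obtain ⟨g, rfl⟩ := prj_surj c
  have e : prj F ω (τ₁ X) = prj F ω (g * X * g⁻¹) := by
    show τ (prj F ω X) = _
    rw [← hc, MulAut.conj_apply, map_mul, map_mul, map_inv]
  have hz : τ₁ X * (g * X * g⁻¹)⁻¹ ∈ Subgroup.center (threeJ3 F ω) := by
    rw [← prj_one, map_mul, map_inv, e, mul_inv_cancel]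
  obtain ⟨z3, -⟩ := center_scalar h hz
  have hX19 : X ^ 19 = 1 := by rw [← hP.xOrd, pow_orderOf_eq_one]
  have hz19 : (τ₁ X * (g * X * g⁻¹)⁻¹) ^ 19 = 1 := by
    have hcm : Commute (τ₁ X * (g * X * g⁻¹)⁻¹) (g * X * g⁻¹) :=
      (Subgroup.mem_center_iff.1 hz _).symm
    have h7 : (τ₁ X * (g * X * g⁻¹)⁻¹ * (g * X * g⁻¹)) ^ 19 = 1 := by
      rw [inv_mul_cancel_right, ← map_pow, hX19, map_one]
    rwa [hcm.mul_pow, conj_pow, hX19, mul_one, mul_inv_cancel, mul_one] at h7
  have heq := mul_inv_eq_one.1 (eq_one_of_three z3 hz19 (by norm_num))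
  have htr := congrArg (fun a : threeJ3 F ω => Matrix.trace ((a : GL F9 F) : Matrix F9 F9 F)) heq
  simp only [Subgroup.coe_mul, InvMemClass.coe_inv, Units.val_mul, Matrix.trace_units_conj,
    hP.xMat] at htr
  have hcb : Function.Involutive cj9 := fun z => by simp [cj9]
  have htau : Matrix.trace (((τ₁ X : threeJ3 F ω) : GL F9 F) : Matrix F9 F9 F) =
      frobenius F 2 (Matrix.trace (wordMat F ω w19)) := by
    show Matrix.trace (frobM F ((X : GL F9 F) : Matrix F9 F9 F)) = _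
    rw [hP.xMat, Matrix.trace, Matrix.trace, map_sum]
    exact Function.Bijective.sum_comp hcb.bijective
      (fun z => frobenius F 2 (wordMat F ω w19 z z))
  rw [htau, trace_word h w19_lt, trace_ok.1, frob_toF h (by norm_num)] at htr
  exact absurd (toF_inj h (by norm_num [frobC]) (by norm_num) htr) (by norm_num [frobC])

theorem card_out (h : Four F ω) : Nat.card (Out (J3 F ω)) = 2 := by
  obtain ⟨X, B, hP⟩ := exists_pair h
  obtain ⟨τ, hτ⟩ := exists_tau h
  have hnot : ¬ IsConj (prj F ω X) (τ (prj F ω X)) := fun e => hτ (inner_of_conj h hP τ e)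
  have hτ' := (conj_cases h hP τ).resolve_left hnot
  rw [Nat.card_eq_two_iff]
  refine ⟨1, (τ : Out (J3 F ω)), fun e => hτ ((QuotientGroup.eq_one_iff τ).1 e.symm), ?_⟩
  refine Set.eq_univ_of_forall fun q => ?_
  obtain ⟨φ, rfl⟩ := QuotientGroup.mk_surjective q
  rcases conj_cases h hP φ with e | e
  · exact Or.inl ((QuotientGroup.eq_one_iff φ).2 (inner_of_conj h hP φ e))
  · refine Or.inr (QuotientGroup.eq.2 (inner_of_conj h hP _ ?_))
    have h2 := (φ⁻¹ : MulAut (J3 F ω)).toMonoidHom.map_isConj (e.symm.trans hτ')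
    simpa using h2

end CfsgLib.LocalEven.J3Lines
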