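import Cfsg.Agent.Lib.Small.OrderTools

/-!
# A group of order 175560 is simple or has a normal Sylow 19-subgroup

A simple group whose order is a multiple of 19 properly dividing 175560 is excluded by a sieve on
the Sylow data of the odd primes, the mutual centralizers of two of them, an element count, and
the centralizer of an involution commuting with a Sylow 19-subgroup.
-/

set_option autoImplicit false
set_option linter.unusedSectionVars false

open Subgroup CfsgLib.Small
open scoped Nat Pointwise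

namespace CfsgLib.LocalEven.J1Order

universe u

/-- Sylow data: the prime, then `(n, e, k)` -/
abbrev Datum := ℕ × ℕ × ℕ × ℕ

/-- for each order the admissible Sylow data of some primes -/
def table : List (ℕ × List (ℕ × List (ℕ × ℕ × ℕ))) := [
  (76, [(19, [])]),
  (152, [(19, [])]),
  (228, [(19, [])]),
  (380, [(19, [])]),
  (456, [(19, [])]),
  (532, [(19, [])]),
  (760, [(19, [])]),
  (836, [(19, [])]),
  (1064, [(19, [])]),
  (1140, [(5, [])]),
  (1596, [(19, [])]),
  (1672, [(19, [])]),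
  (2280, [(19, [])]),
  (2508, [(19, [])]),
  (2660, [(19, [])]),
  (3192, [(19, [])]),
  (4180, [(19, [])]),
  (5016, [(19, [])]),
  (5320, [(19, [])]),
  (5852, [(19, [(77, 2, 2)]),
    (11, [(133, 2, 2)]),
    (7, [(22, 2, 19)])]),
  (7980, [(19, [(210, 2, 1)]),
    (7, [(57, 2, 10), (190, 2, 3), (190, 3, 2), (190, 6, 1)]),
    (5, [(21, 2, 38), (21, 4, 19), (266, 2, 3)]),
    (3, [(70, 2, 19), (133, 2, 10), (190, 2, 7), (1330, 2, 1)])]),
  (8360, [(19, [])]),
  (11704, [(7, [])]),
  (12540, [(19, [])]),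
  (15960, [(19, [(210, 2, 2)]),
    (7, [(57, 2, 20), (190, 2, 6), (190, 3, 4), (190, 6, 2)]),
    (5, [(21, 2, 76), (21, 4, 38), (76, 2, 21), (266, 2, 6), (266, 4, 3), (1596, 2, 1)]),
    (3, [(28, 2, 95), (70, 2, 38), (76, 2, 35), (133, 2, 20), (190, 2, 14), (532, 2, 5), (1330, 2, 2)])]),
  (17556, [(19, [(77, 2, 6), (77, 3, 4), (77, 6, 2)]),
    (11, [(133, 2, 6)]),
    (7, [(22, 2, 57), (22, 6, 19), (1254, 2, 1)]),
    (3, [(22, 2, 133), (133, 2, 22), (154, 2, 19), (418, 2, 7), (2926, 2, 1)])]),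
  (25080, [(19, [])]),
  (29260, [(19, [])]),
  (35112, [(19, [(77, 2, 12), (77, 3, 8), (77, 6, 4)]),
    (11, [(133, 2, 12), (1596, 2, 1)]),
    (7, [(1254, 2, 2)]),
    (3, [(22, 2, 266), (76, 2, 77), (133, 2, 44), (154, 2, 38), (418, 2, 14), (532, 2, 11), (2926, 2, 2)])]),
  (58520, [(19, [(1540, 2, 1)]),
    (11, [(56, 5, 19), (133, 2, 20), (133, 5, 8), (133, 10, 4)]),
    (7, [(190, 2, 22), (4180, 2, 1)]),
    (5, [(76, 2, 77), (266, 2, 22), (266, 4, 11), (836, 2, 7), (2926, 2, 2), (2926, 4, 1)])]),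
  (87780, [(19, [(210, 2, 11), (1540, 3, 1)]),
    (11, [(133, 2, 30), (133, 5, 12), (133, 10, 6), (210, 2, 19), (1596, 5, 1)]),
    (7, [(190, 2, 33), (190, 3, 22), (190, 6, 11), (330, 2, 19), (1254, 2, 5), (4180, 3, 1)]),
    (5, [(66, 2, 133), (231, 2, 38), (231, 4, 19), (266, 2, 33), (2926, 2, 3)]),
    (3, [(22, 2, 665), (55, 2, 266), (70, 2, 209), (133, 2, 110), (154, 2, 95), (190, 2, 77), (385, 2, 38), (418, 2, 35), (1045, 2, 14), (1330, 2, 11), (2926, 2, 5), (7315, 2, 2)])])]

/-- possible numbers of subgroups of order `q` centralizing one of order `p` -/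
def sList (p k q : ℕ) : List ℕ :=
  ((List.range (p * k / q / q + 1)).map fun i => 1 + q * i).filter fun s => p * k / q % s == 0

/-- two data are compatible -/
def pairOK : Datum → Datum → Bool
  | (p, n, _, k), (q, n', _, k') =>
    ((k % q == 0) == (k' % p == 0)) &&
      (k % q != 0 || (sList p k q).any fun s => (sList q k' p).any fun s' => n * s == n' * s')

/-- lower bounds for the numbers of elements of orders products of two primes -/
def pairTerms : List Datum → List (ℕ × ℕ)
  | [] => []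
  | (p, n, _, k) :: t =>
    (t.flatMap fun y => if k % y.1 == 0 then [(p * y.1, max n y.2.1 * (p - 1) * (y.1 - 1))] else []) ++
      pairTerms t

/-- lower bounds for the numbers of elements of some orders -/
def terms (acc : List Datum) : List (ℕ × ℕ) :=
  [(1, 1), (2, 1)] ++ acc.map (fun x => (x.1, x.2.1 * (x.1 - 1))) ++ pairTerms acc

/-- the data are inconsistent with a simple group of order `N` -/
def reject (N : ℕ) (acc : List Datum) : Bool :=
  (decide ((terms acc).map Prod.fst).Nodup && Nat.blt N ((terms acc).map Prod.snd).sum) ||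
    acc.any fun x => x.1 == 19 && x.2.2.2 % 2 == 0 &&
      ((19 * x.2.2.2 * x.2.2.1) % (if N % 8 == 0 then 8 else 4) != 0 ||
        acc.any fun y => y.2.2.2 % 2 == 0 && (19 * x.2.2.2 * x.2.2.1) % y.1 != 0)

/-- every choice of data is inconsistent -/
def sieve (N : ℕ) : List (ℕ × List (ℕ × ℕ × ℕ)) → List Datum → Bool
  | [], acc => reject N acc
  | (p, opts) :: rest, acc => opts.all fun o =>
      !(acc.all fun y => pairOK (p, o) y) || sieve N rest ((p, o) :: acc)

/-- a row of the table is usable -/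
def rowOK (row : ℕ × List (ℕ × List (ℕ × ℕ × ℕ))) : Bool :=
  decide (row.2.map Prod.fst).Nodup && row.2.all fun x => [3, 5, 7, 11, 19].contains x.1 &&
    row.1 % x.1 == 0 && row.1 / x.1 % x.1 != 0 &&
    (primeOptions row.1 x.1 (row.1 / x.1)).all fun o => x.2.contains o

theorem table_ok : table.all (fun row => rowOK row && sieve row.1 row.2 []) = true := by
  decide +kernel

theorem table_complete : ((List.range 2311).all fun i => Nat.beq i 2310 || !(9240 % (4 * i) == 0) ||
    table.any fun row => Nat.beq row.1 (19 * (4 * i))) = true := by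
  decide +kernel

/-! ### Counting elements -/

variable {G : Type u} [Group G] [Finite G]

theorem zpowers_eq_sylow {p : ℕ} [hp : Fact p.Prime] {x : G} (hx : orderOf x = p)
    (h1 : ∀ Q : Sylow p G, Nat.card (Q : Subgroup G) = p) :
    ∃ Q : Sylow p G, (Q : Subgroup G) = zpowers x := by
  obtain ⟨Q, hQ⟩ := (IsPGroup.of_card (p := p) (n := 1)
    (by rw [pow_one, Nat.card_zpowers, hx] : Nat.card (zpowers x) = p ^ 1)).exists_le_sylow
  exact ⟨Q, (eq_of_le_of_card_ge hQ (by rw [h1, Nat.card_zpowers, hx])).symm⟩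

theorem card_orderOf_prime {p : ℕ} [hp : Fact p.Prime] (h1 : ∀ Q : Sylow p G, Nat.card (Q : Subgroup G) = p) :
    Nat.card {x : G // orderOf x = p} = Nat.card (Sylow p G) * (p - 1) := by
  classical
  haveI := Fintype.ofFinite (Sylow p G)
  let f : (Σ Q : Sylow p G, {y : (Q : Subgroup G) // y ≠ 1}) → {x : G // orderOf x = p} := fun z =>
    ⟨(z.2.1 : G), by
      rw [Subgroup.orderOf_coe]
      rcases hp.out.eq_one_or_self_of_dvd _ (h1 z.1 ▸ orderOf_dvd_natCard z.2.1) with h | h
      · exact absurd (orderOf_eq_one_iff.1 h) z.2.2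
      · exact h⟩
  have hf : Function.Bijective f := by
    constructor
    · rintro ⟨Q, ⟨y, hy⟩, hy1⟩ ⟨R, ⟨w, hw⟩, hw1⟩ e
      obtain rfl : y = w := congrArg Subtype.val e
      have ho : orderOf y = p := (f ⟨Q, ⟨y, hy⟩, hy1⟩).2
      obtain rfl : Q = R := by
        refine Sylow.ext ?_
        rw [← eq_of_le_of_card_ge (zpowers_le.2 hy) (by rw [h1, Nat.card_zpowers, ho]),
          ← eq_of_le_of_card_ge (zpowers_le.2 hw) (by rw [h1, Nat.card_zpowers, ho])]
      rfl
    · rintro ⟨x, hx⟩
      obtain ⟨Q, hQ⟩ := zpowers_eq_sylow hx h1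
      refine ⟨⟨Q, ⟨x, hQ ▸ mem_zpowers x⟩, fun e => ?_⟩, rfl⟩
      rw [show x = 1 from congrArg Subtype.val e, orderOf_one] at hx
      exact hp.out.one_lt.ne hx
  rw [← Nat.card_eq_of_bijective f hf, Nat.card_sigma]
  have hfib : ∀ Q : Sylow p G, Nat.card {y : (Q : Subgroup G) // y ≠ 1} = p - 1 := fun Q => by
    haveI := Fintype.ofFinite (Q : Subgroup G)
    rw [Nat.card_eq_fintype_card, Fintype.card_subtype_compl, Fintype.card_subtype_eq,
      ← Nat.card_eq_fintype_card, h1]
  rw [Finset.sum_congr rfl fun Q _ => hfib Q, Finset.sum_const, Finset.card_univ, smul_eq_mul,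
    Nat.card_eq_fintype_card]

/-- `p` divides the order exactly once, with data `(n, e, k)` -/
def Real (G : Type u) [Group G] : Datum → Prop
  | (p, n, e, k) => p.Prime ∧ p ≠ 2 ∧ p ∣ Nat.card G ∧ ¬ p ^ 2 ∣ Nat.card G ∧
      Nat.card (Sylow p G) = n ∧
      ∀ P : Sylow p G, Nat.card (P : Subgroup G) = p ∧
        Nat.card (centralizer ((P : Subgroup G) : Set G)) = p * k ∧
        Nat.card (normalizer ((P : Subgroup G) : Set G)) = p * k * e

theorem card_sylow_of_sq {p : ℕ} [hp : Fact p.Prime] (hd : p ∣ Nat.card G) (h2 : ¬ p ^ 2 ∣ Nat.card G)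
    (P : Sylow p G) : Nat.card (P : Subgroup G) = p := by
  obtain ⟨m, hm⟩ := hd
  have hpm : ¬ p ∣ m := fun ⟨c, hc⟩ => h2 ⟨c, by rw [hm, hc]; ring⟩
  simpa using card_sylow_eq (p := p) 1 m (by rw [hm, pow_one]) hpm P

/-- the elements of order `q` centralizing a given one of order `p` -/
theorem card_commute_eq {p q : ℕ} [Fact p.Prime] (h1 : ∀ Q : Sylow p G, Nat.card (Q : Subgroup G) = p)
    {x : G} (hx : orderOf x = p) (P : Sylow p G) :
    Nat.card {y : G // orderOf y = q ∧ Commute x y} =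
      Nat.card {y : centralizer ((P : Subgroup G) : Set G) // orderOf y = q} := by
  obtain ⟨Q, hQ⟩ := zpowers_eq_sylow hx h1
  obtain ⟨g, rfl⟩ := MulAction.exists_smul_eq G P Q
  have hmem : ∀ y : G, Commute x (MulAut.conj g y) ↔ y ∈ centralizer ((P : Subgroup G) : Set G) := by
    intro y
    rw [mem_centralizer_iff]
    constructor
    · intro h z hz
      have hz' : MulAut.conj g z ∈ zpowers x := hQ ▸ by
        rw [Sylow.coe_subgroup_smul]; exact ⟨z, hz, rfl⟩
      obtain ⟨i, hi⟩ := hz'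
      have h2 := (h.zpow_left i).eq
      rw [show x ^ i = MulAut.conj g z from hi, ← map_mul, ← map_mul] at h2
      exact (MulAut.conj g).injective h2
    · intro h
      have hx' : x ∈ ((g • P : Sylow p G) : Subgroup G) := hQ ▸ mem_zpowers x
      rw [Sylow.coe_subgroup_smul] at hx'
      obtain ⟨z, hz, rfl⟩ := hx'
      exact Commute.map (h z hz) (MulAut.conj g)
  exact (Nat.card_congr
    { toFun := fun y => ⟨MulAut.conj g y.1.1,
        (orderOf_injective (MulAut.conj g).toMonoidHom (MulAut.conj g).injective _).trans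
          ((Subgroup.orderOf_coe _).trans y.2), (hmem _).2 y.1.2⟩
      invFun := fun y => ⟨⟨(MulAut.conj g).symm y.1, (hmem _).1 (by rw [MulEquiv.apply_symm_apply]; exact y.2.2)⟩, by
        rw [← Subgroup.orderOf_coe]
        exact (orderOf_injective (MulAut.conj g).symm.toMonoidHom (MulAut.conj g).symm.injective _).trans
          y.2.1⟩
      left_inv := fun y => Subtype.ext (Subtype.ext ((MulAut.conj g).symm_apply_apply _))
      right_inv := fun y => Subtype.ext ((MulAut.conj g).apply_symm_apply _) }).symm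

theorem sylow_count_in {p k q : ℕ} [Fact p.Prime] [hq : Fact q.Prime] (C : Subgroup G)
    (hC : Nat.card C = p * k) (hd : q ∣ p * k) (h2 : ¬ q ^ 2 ∣ Nat.card G) :
    Nat.card {y : C // orderOf y = q} = Nat.card (Sylow q C) * (q - 1) ∧
      Nat.card (Sylow q C) ∈ sList p k q := by
  have hd' : q ∣ Nat.card C := hC ▸ hd
  have h2' : ¬ q ^ 2 ∣ Nat.card C := fun h => h2 (h.trans (card_subgroup_dvd_card C))
  have h1 : ∀ Q : Sylow q C, Nat.card (Q : Subgroup C) = q := card_sylow_of_sq hd' h2'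
  refine ⟨card_orderOf_prime h1, ?_⟩
  have hmod : Nat.card (Sylow q C) % q = 1 :=
    Eq.trans (card_sylow_modEq_one q C) (Nat.mod_eq_of_lt hq.out.one_lt)
  obtain ⟨P⟩ := (inferInstance : Nonempty (Sylow q C))
  have hdvd : Nat.card (Sylow q C) ∣ p * k / q := by
    have h3 := P.card_dvd_index
    have h4 := (P : Subgroup C).card_mul_index
    rw [h1, hC] at h4
    rwa [← h4, Nat.mul_div_cancel_left _ hq.out.pos]
  have hpos : 0 < p * k / q := Nat.div_pos (Nat.le_of_dvd (hC ▸ Nat.card_pos) hd) hq.out.pos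
  simp only [sList, List.mem_filter, List.mem_map, List.mem_range, beq_iff_eq]
  refine ⟨⟨Nat.card (Sylow q C) / q, Nat.lt_succ_of_le (Nat.div_le_div_right (Nat.le_of_dvd hpos hdvd)),
    ?_⟩, Nat.dvd_iff_mod_eq_zero.1 hdvd⟩
  have := Nat.mod_add_div (Nat.card (Sylow q C)) q
  omega

theorem pair_facts {p q n e k n' e' k' : ℕ} (hx : Real G (p, n, e, k)) (hy : Real G (q, n', e', k'))
    (hpq : p ≠ q) :
    pairOK (p, n, e, k) (q, n', e', k') = true ∧
      (k % q = 0 → max n n' * (p - 1) * (q - 1) ≤ Nat.card {g : G // orderOf g = p * q}) := by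
  classical
  obtain ⟨hp, -, hpd, hp2, hn, hP⟩ := hx
  obtain ⟨hq, -, hqd, hq2, hn', hQ⟩ := hy
  haveI := Fact.mk hp
  haveI := Fact.mk hq
  obtain ⟨P⟩ := (inferInstance : Nonempty (Sylow p G))
  obtain ⟨Q⟩ := (inferInstance : Nonempty (Sylow q G))
  have hiff : q ∣ k ↔ p ∣ k' := by
    constructor <;> intro h
    · have h1 := dvd_centralizer_symm P (hP P).1 Q (hQ Q).1 ((hP P).2.1 ▸ h.mul_left p)
      rw [(hQ Q).2.1] at h1
      exact (hp.dvd_mul.mp h1).resolve_left fun h' => hpq ((Nat.prime_dvd_prime_iff_eq hp hq).mp h')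
    · have h1 := dvd_centralizer_symm Q (hQ Q).1 P (hP P).1 ((hQ Q).2.1 ▸ h.mul_left q)
      rw [(hP P).2.1] at h1
      exact (hq.dvd_mul.mp h1).resolve_left fun h' => hpq ((Nat.prime_dvd_prime_iff_eq hq hp).mp h').symm
  have key : q ∣ k → ∃ s ∈ sList p k q, ∃ s' ∈ sList q k' p, 0 < s ∧ 0 < s' ∧ n * s = n' * s' ∧
      n * s * (p - 1) * (q - 1) ≤ Nat.card {g : G // orderOf g = p * q} := by
    intro h
    obtain ⟨hc, hs⟩ := sylow_count_in (centralizer ((P : Subgroup G) : Set G)) (hP P).2.1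
      (h.mul_left p) hq2
    obtain ⟨hc', hs'⟩ := sylow_count_in (centralizer ((Q : Subgroup G) : Set G)) (hQ Q).2.1
      ((hiff.1 h).mul_left q) hp2
    set s := Nat.card (Sylow q (centralizer ((P : Subgroup G) : Set G)))
    set s' := Nat.card (Sylow p (centralizer ((Q : Subgroup G) : Set G)))
    haveI := Fintype.ofFinite G
    have hE : Nat.card (Σ x : {x : G // orderOf x = p}, {y : G // orderOf y = q ∧ Commute x.1 y}) =
        n * (p - 1) * (s * (q - 1)) := by
      rw [Nat.card_sigma, Finset.sum_congr rfl fun x _ =>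
        (card_commute_eq (fun Q => (hP Q).1) x.2 P).trans hc, Finset.sum_const, Finset.card_univ,
        smul_eq_mul, ← Nat.card_eq_fintype_card, card_orderOf_prime (fun Q => (hP Q).1), hn]
    have hE' : Nat.card (Σ y : {y : G // orderOf y = q}, {x : G // orderOf x = p ∧ Commute y.1 x}) =
        n' * (q - 1) * (s' * (p - 1)) := by
      rw [Nat.card_sigma, Finset.sum_congr rfl fun y _ =>
        (card_commute_eq (fun Q => (hQ Q).1) y.2 Q).trans hc', Finset.sum_const, Finset.card_univ,
        smul_eq_mul, ← Nat.card_eq_fintype_card, card_orderOf_prime (fun Q => (hQ Q).1), hn']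
    have heq : n * (p - 1) * (s * (q - 1)) = n' * (q - 1) * (s' * (p - 1)) := by
      rw [← hE, ← hE']
      exact Nat.card_congr
        { toFun := fun z => ⟨⟨z.2.1, z.2.2.1⟩, z.1.1, z.1.2, z.2.2.2.symm⟩
          invFun := fun z => ⟨⟨z.2.1, z.2.2.1⟩, z.1.1, z.1.2, z.2.2.2.symm⟩
          left_inv := fun _ => rfl
          right_inv := fun _ => rfl }
    have hcop : Nat.Coprime p q := (Nat.coprime_primes hp hq).2 hpq
    refine ⟨s, hs, s', hs', Nat.card_pos, Nat.card_pos, ?_, ?_⟩
    · have h0 : 0 < (p - 1) * (q - 1) :=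
        Nat.mul_pos (by have := hp.two_le; omega) (by have := hq.two_le; omega)
      refine Nat.eq_of_mul_eq_mul_right h0 ?_
      calc n * s * ((p - 1) * (q - 1)) = n * (p - 1) * (s * (q - 1)) := by ring
        _ = n' * (q - 1) * (s' * (p - 1)) := heq
        _ = n' * s' * ((p - 1) * (q - 1)) := by ring
    · rw [show n * s * (p - 1) * (q - 1) = n * (p - 1) * (s * (q - 1)) by ring, ← hE]
      refine Nat.card_le_card_of_injective
        (fun z => ⟨z.1.1 * z.2.1, by
          rw [z.2.2.2.orderOf_mul_eq_mul_orderOf_of_coprime (by rw [z.1.2, z.2.2.1]; exact hcop),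
            z.1.2, z.2.2.1]⟩) ?_
      rintro ⟨⟨x, hx⟩, y, hy, hc1⟩ ⟨⟨x', hx'⟩, y', hy', hc2⟩ e
      have e1 : x * y = x' * y' := congrArg Subtype.val e
      have e2 : x ^ q = x' ^ q := by
        have : (x * y) ^ q = (x' * y') ^ q := by rw [e1]
        rwa [hc1.mul_pow, hc2.mul_pow, ← hy, pow_orderOf_eq_one, hy, ← hy', pow_orderOf_eq_one,
          mul_one, mul_one, hy'] at this
      have e3 : x = x' := by
        have h1 : x' ^ p = 1 := hx' ▸ pow_orderOf_eq_one x'
        obtain ⟨b, -, hb⟩ := Nat.exists_mul_mod_eq_one_of_coprime hcop.symm hp.one_lt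
        have hq1 : ∀ w : G, orderOf w = p → (w ^ q) ^ b = w := fun w hw => by
          rw [← pow_mul, ← pow_mod_orderOf, hw, hb, pow_one]
        rw [← hq1 x hx, ← hq1 x' hx', e2]
      subst e3
      obtain rfl : y = y' := mul_left_cancel e1
      rfl
  refine ⟨?_, fun h => ?_⟩
  · simp only [pairOK, Bool.and_eq_true, Bool.or_eq_true, beq_iff_eq, bne_iff_ne, List.any_eq_true]
    refine ⟨by rw [Bool.eq_iff_iff, beq_iff_eq, beq_iff_eq, ← Nat.dvd_iff_mod_eq_zero,
      ← Nat.dvd_iff_mod_eq_zero, hiff], ?_⟩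
    by_cases h : k % q = 0
    · obtain ⟨s, hs, s', hs', -, -, he, -⟩ := key (Nat.dvd_of_mod_eq_zero h)
      exact Or.inr ⟨s, hs, s', hs', he⟩
    · exact Or.inl h
  · obtain ⟨s, -, s', -, hs0, hs0', he, hle⟩ := key (Nat.dvd_of_mod_eq_zero h)
    refine le_trans (Nat.mul_le_mul_right _ (Nat.mul_le_mul_right _ ?_)) hle
    exact max_le (Nat.le_mul_of_pos_right n hs0) (he ▸ Nat.le_mul_of_pos_right n' hs0')

theorem sum_terms_le (L : List (ℕ × ℕ)) (hnd : (L.map Prod.fst).Nodup)
    (h : ∀ t ∈ L, t.2 ≤ Nat.card {g : G // orderOf g = t.1}) :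
    (L.map Prod.snd).sum ≤ Nat.card G := by
  classical
  haveI := Fintype.ofFinite G
  have key : ∀ L : List (ℕ × ℕ), (L.map Prod.fst).Nodup →
      (∀ t ∈ L, t.2 ≤ Nat.card {g : G // orderOf g = t.1}) →
      (L.map Prod.snd).sum ≤ (Finset.univ.filter fun g : G => orderOf g ∈ L.map Prod.fst).card := by
    intro L
    induction L with
    | nil => simp
    | cons t L ih =>
      intro hnd h
      rw [List.map_cons, List.nodup_cons] at hnd
      rw [List.map_cons, List.sum_cons]
      have h1 := h t List.mem_cons_self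
      rw [Nat.card_eq_fintype_card, Fintype.card_subtype] at h1
      refine le_trans (Nat.add_le_add h1 (ih hnd.2 fun s hs => h s (List.mem_cons_of_mem _ hs))) ?_
      rw [← Finset.card_union_of_disjoint (Finset.disjoint_left.2 fun g hg hg' => hnd.1 (by
        rw [← (Finset.mem_filter.1 hg).2]; exact (Finset.mem_filter.1 hg').2))]
      refine Finset.card_le_card fun g hg => ?_
      simp only [List.map_cons, List.mem_cons, Finset.mem_filter, Finset.mem_univ, true_and,
        Finset.mem_union] at hg ⊢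
      exact hg
  refine le_trans (key L hnd h) ?_
  rw [Nat.card_eq_fintype_card]
  exact Finset.card_le_univ _

/-! ### Involutions -/

variable [IsSimpleGroup G]

/-- a subgroup of twice odd index contains a conjugate of every involution -/
theorem exists_conj_mem (hG : ¬ IsMulCommutative G) (M : Subgroup G) (hM : M.index % 4 = 2) {u : G}
    (hu : u ^ 2 = 1) : ∃ g : G, g⁻¹ * u * g ∈ M := by
  classical
  haveI := Fintype.ofFinite (G ⧸ M)
  set f := MulAction.toPermHom G (G ⧸ M)
  have h4 := involution_fixed_mod_four hG f hu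
  have hne : (f u).support ≠ Finset.univ := by
    intro h
    rw [h, Finset.card_univ, ← Nat.card_eq_fintype_card] at h4
    change 4 ∣ M.index at h4
    omega
  obtain ⟨q, hq⟩ : ∃ q, q ∉ (f u).support := by
    by_contra h
    push Not at h
    exact hne (Finset.eq_univ_iff_forall.2 h)
  obtain ⟨g, rfl⟩ := QuotientGroup.mk_surjective q
  rw [Equiv.Perm.notMem_support] at hq
  have hq' : (QuotientGroup.mk (u * g) : G ⧸ M) = QuotientGroup.mk g := hq
  rw [QuotientGroup.eq] at hq'
  refine ⟨g, ?_⟩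
  have hu' : u⁻¹ = u := inv_eq_of_mul_eq_one_right (by rw [← pow_two, hu])
  have e : g⁻¹ * u * g = (u * g)⁻¹ * g := by rw [mul_inv_rev, hu']
  rwa [e]

/-- all involutions are conjugate when the Sylow 2-subgroups have order 4 or 8 -/
theorem isConj_involution (hG : ¬ IsMulCommutative G) {v : ℕ} (hv : v = 2 ∨ v = 3)
    (hd : 2 ^ v ∣ Nat.card G) (hnd : ¬ 2 ^ (v + 1) ∣ Nat.card G) {a b : G} (ha : orderOf a = 2)
    (hb : orderOf b = 2) : IsConj a b := by
  classical
  haveI := Fact.mk Nat.prime_two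
  obtain ⟨m, hm⟩ := hd
  have hm2 : ¬ 2 ∣ m := fun ⟨c, hc⟩ => hnd ⟨c, by rw [hm, hc, pow_succ]; ring⟩
  obtain ⟨S⟩ := (inferInstance : Nonempty (Sylow 2 G))
  have hS : Nat.card (S : Subgroup G) = 2 ^ v := card_sylow_eq v m hm hm2 S
  -- conjugates of all involutions lie in every subgroup of index two of `S`
  have hin : ∀ M : Subgroup G, Nat.card M * 2 = 2 ^ v → ∀ u : G, orderOf u = 2 →
      ∃ w ∈ M, orderOf w = 2 ∧ IsConj u w := by
    intro M hM u hu
    have hidx : M.index % 4 = 2 := by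
      have h := M.card_mul_index
      rw [hm, ← hM, mul_assoc] at h
      rw [Nat.eq_of_mul_eq_mul_left Nat.card_pos h]
      omega
    obtain ⟨g, hg⟩ := exists_conj_mem hG M hidx (u := u) (hu ▸ pow_orderOf_eq_one u)
    have hc : IsConj u (g⁻¹ * u * g) := isConj_iff.2 ⟨g⁻¹, by group⟩
    refine ⟨_, hg, ?_, hc⟩
    have := orderOf_injective (MulAut.conj g⁻¹).toMonoidHom (MulAut.conj g⁻¹).injective u
    simpa [hu] using this
  -- a subgroup of order `2 ^ (v - 1)` with a single class of involutions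
  suffices H : ∃ M : Subgroup G, Nat.card M * 2 = 2 ^ v ∧
      ∀ x ∈ M, ∀ y ∈ M, orderOf x = 2 → orderOf y = 2 → IsConj x y by
    obtain ⟨M, hM, hMc⟩ := H
    obtain ⟨x, hx, hx2, hax⟩ := hin M hM a ha
    obtain ⟨y, hy, hy2, hby⟩ := hin M hM b hb
    exact (hax.trans (hMc x hx y hy hx2 hy2)).trans hby.symm
  by_cases hcyc : ∃ x ∈ (S : Subgroup G), orderOf x * 2 = 2 ^ v
  · obtain ⟨x, -, hx⟩ := hcyc
    refine ⟨zpowers x, by rw [Nat.card_zpowers, hx], fun y hy z hz hy2 hz2 => ?_⟩
    have huniq : y = z := by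
      have h1 : ∀ w ∈ zpowers x, orderOf w = 2 → w = x ^ (orderOf x / 2) := by
        intro w hw hw2
        obtain ⟨i0, hi0'⟩ := (isOfFinOrder_of_finite x).mem_powers_iff_mem_zpowers.2 hw
        obtain ⟨i, hi, rfl⟩ : ∃ i < orderOf x, x ^ i = w :=
          ⟨i0 % orderOf x, Nat.mod_lt _ (orderOf_pos x), by rw [pow_mod_orderOf]; exact hi0'⟩
        have hd : orderOf x ∣ i * 2 := orderOf_dvd_of_pow_eq_one (by
          rw [pow_mul]; exact hw2 ▸ pow_orderOf_eq_one (x ^ i))
        have hi0 : i ≠ 0 := fun h => by rw [h, pow_zero, orderOf_one] at hw2; omega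
        obtain ⟨c, hc⟩ := hd
        have : c = 1 := by
          rcases Nat.lt_or_ge c 2 with h | h
          · rcases Nat.eq_zero_or_pos c with rfl | h'
            · omega
            · omega
          · have := Nat.mul_le_mul_left (orderOf x) h
            omega
        subst this
        rw [show orderOf x / 2 = i by omega]
      rw [h1 y hy hy2, h1 z hz hz2]
    exact huniq ▸ IsConj.refl y
  -- otherwise `S` is elementary of order eight
  push Not at hcyc
  have ho : ∀ x ∈ (S : Subgroup G), x ^ 2 = 1 := by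
    intro x hx
    obtain ⟨j, hjv, hj⟩ := (Nat.dvd_prime_pow Nat.prime_two).1
      (hS ▸ Subgroup.orderOf_dvd_natCard _ hx)
    have hne : j + 1 ≠ v := fun h => hcyc x hx (by rw [hj, ← pow_succ, h])
    rcases Nat.lt_or_ge j 2 with hj2 | hj2
    · exact orderOf_dvd_iff_pow_eq_one.1 (hj ▸ by simpa using pow_dvd_pow 2 (show j ≤ 1 by omega))
    · exfalso
      have : j = v := by omega
      refine hcyc (x ^ 2) (pow_mem hx 2) ?_
      rw [orderOf_pow' _ two_ne_zero, hj, this]
      rcases hv with rfl | rfl <;> norm_num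
  have hord : ∀ x ∈ (S : Subgroup G), x ≠ 1 → orderOf x = 2 := fun x hx h1 =>
    orderOf_eq_prime (ho x hx) h1
  rcases hv with rfl | rfl
  · exfalso
    obtain ⟨x, hx, hx1⟩ : ∃ x ∈ (S : Subgroup G), x ≠ 1 := by
      by_contra h
      push Not at h
      rw [(Subgroup.eq_bot_iff_forall _).2 h, card_bot] at hS
      norm_num at hS
    exact hcyc x hx (by rw [hord x hx hx1]; norm_num)
  have hcomm : ∀ x ∈ (S : Subgroup G), ∀ y ∈ (S : Subgroup G), x * y = y * x := by
    intro x hx y hy
    have h1 : x⁻¹ = x := inv_eq_of_mul_eq_one_right (by rw [← pow_two, ho x hx])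
    have h2 : y⁻¹ = y := inv_eq_of_mul_eq_one_right (by rw [← pow_two, ho y hy])
    have h3 : (x * y)⁻¹ = x * y :=
      inv_eq_of_mul_eq_one_right (by rw [← pow_two, ho _ (mul_mem hx hy)])
    rw [← h3, mul_inv_rev, h1, h2]
  haveI := Fintype.ofFinite (S : Subgroup G)
  have hS8 : Fintype.card (S : Subgroup G) = 8 := by rw [← Nat.card_eq_fintype_card, hS]; norm_num
  -- three independent elements
  have hmore : ∀ T : Finset (S : Subgroup G), T.card < 8 → ∃ x, x ∉ T := fun T hT => by
    by_contra h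
    push Not at h
    have := Finset.card_le_card (fun x _ => h x : Finset.univ ⊆ T)
    rw [Finset.card_univ] at this
    omega
  obtain ⟨x, hx⟩ := hmore {1} (by simp)
  obtain ⟨y, hy⟩ := hmore {1, x} (lt_of_le_of_lt Finset.card_le_two (by norm_num))
  obtain ⟨z, hz⟩ := hmore {1, x, y, x * y} (lt_of_le_of_lt Finset.card_le_four (by norm_num))
  simp only [Finset.mem_insert, Finset.mem_singleton, not_or] at hx hy hz
  have sq : ∀ w : (S : Subgroup G), w * w = 1 := fun w => Subtype.ext (by
    simpa [pow_two] using ho w w.2)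
  have cm : ∀ u w : (S : Subgroup G), u * w = w * u := fun u w => Subtype.ext (hcomm u u.2 w w.2)
  have sq' : ∀ u w : (S : Subgroup G), u * (u * w) = w := fun u w => by
    rw [← mul_assoc, sq, one_mul]
  have nxy : x * y ≠ 1 := fun h => hy.2 (by rw [← sq' x y, h, mul_one])
  have nxz : x * z ≠ 1 := fun h => hz.2.1 (by rw [← sq' x z, h, mul_one])
  have nyz : y * z ≠ 1 := fun h => hz.2.2.1 (by rw [← sq' y z, h, mul_one])
  have nxyz : x * y * z ≠ 1 := fun h => hz.2.2.2 (by rw [← sq' (x * y) z, h, mul_one])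
  -- a monochromatic subgroup of order four for the predicate `IsConj a`
  let A : ↥(S : Subgroup G) → Prop := fun w => IsConj a (w : G)
  have main : ∃ p q : (S : Subgroup G), p ≠ 1 ∧ q ≠ 1 ∧ p ≠ q ∧ (A p ↔ A q) ∧ (A p ↔ A (p * q)) := by
    have e1 : x * (x * y) = y := sq' x y
    have e2 : y * (x * y) = x := by rw [cm x y, sq']
    have e3 : (x * z) * (y * z) = x * y := by
      rw [mul_assoc, cm y z, ← mul_assoc z, sq, one_mul]
    have e4 : x * (y * z) = x * y * z := (mul_assoc _ _ _).symm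
    have e5 : y * (x * z) = x * y * z := by rw [← mul_assoc, cm y x]
    have e6 : z * (x * y) = x * y * z := cm _ _
    have col : ∀ a b c ab ac bc abc : Bool, (a = b ∧ a = ab) ∨ (a = c ∧ a = ac) ∨ (b = c ∧ b = bc) ∨
        (a = bc ∧ a = abc) ∨ (b = ac ∧ b = abc) ∨ (c = ab ∧ c = abc) ∨ (ac = bc ∧ ac = ab) := by
      decide
    rcases col (decide (A x)) (decide (A y)) (decide (A z)) (decide (A (x * y)))
        (decide (A (x * z))) (decide (A (y * z))) (decide (A (x * y * z))) with
      h | h | h | h | h | h | h <;> simp only [decide_eq_decide] at h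
    · exact ⟨x, y, hx, hy.1, Ne.symm hy.2, h⟩
    · exact ⟨x, z, hx, hz.1, Ne.symm hz.2.1, h⟩
    · exact ⟨y, z, hy.1, hz.1, Ne.symm hz.2.2.1, h⟩
    · exact ⟨x, y * z, hx, nyz, fun e => nxyz (by rw [mul_assoc, ← e, sq]), by rwa [e4]⟩
    · exact ⟨y, x * z, hy.1, nxz, fun e => nxyz (by rw [← e5, ← e, sq]), by rwa [e5]⟩
    · exact ⟨z, x * y, hz.1, nxy, fun e => hz.2.2.2 e, by rwa [e6]⟩
    · exact ⟨x * z, y * z, nxz, nyz, fun e => hy.2 (mul_right_cancel e).symm, by rwa [e3]⟩
  obtain ⟨p, q, hp1, hq1, hpq, hA1, hA2⟩ := main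
  let M : Subgroup (S : Subgroup G) :=
    { carrier := {1, p, q, p * q}
      one_mem' := by simp
      mul_mem' := by
        have e1 : p * (p * q) = q := sq' p q
        have e2 : q * (p * q) = p := by rw [cm p q, sq']
        intro u w hu hw
        simp only [Set.mem_insert_iff, Set.mem_singleton_iff] at hu hw ⊢
        rcases hu with h | h | h | h <;> rcases hw with h' | h' | h' | h' <;>
          simp [h, h', sq, cm q p, cm (p * q) p, cm (p * q) q, e1, e2]
      inv_mem' := by
        intro u hu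
        rwa [inv_eq_of_mul_eq_one_right (sq u)] }
  have hpq1 : p * q ≠ 1 := fun h => hpq (by rw [← sq' p q, h, mul_one])
  have hMc : Nat.card M = 4 := by
    change Nat.card ({1, p, q, p * q} : Set (S : Subgroup G)) = 4
    rw [Nat.card_coe_set_eq, Set.ncard_insert_of_notMem (by
        simp [Ne.symm hp1, Ne.symm hq1, Ne.symm hpq1]),
      Set.ncard_insert_of_notMem (by
        simp only [Set.mem_insert_iff, Set.mem_singleton_iff, not_or]
        exact ⟨hpq, fun h => hq1 (mul_eq_left.1 h.symm)⟩),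
      Set.ncard_pair fun h => hp1 (mul_eq_right.1 h.symm)]
  refine ⟨M.map (S : Subgroup G).subtype, ?_, ?_⟩
  · rw [card_map_of_injective (Subgroup.subtype_injective _), hMc]; norm_num
  have hAll : ∀ w ∈ M, w ≠ 1 → (A w ↔ A p) := by
    intro w hw h1
    rcases hw with rfl | rfl | rfl | rfl
    · exact absurd rfl h1
    · rfl
    · exact hA1.symm
    · exact hA2.symm
  have hAp : A p := by
    obtain ⟨w, hw, hw2, haw⟩ := hin (M.map (S : Subgroup G).subtype)
      (by rw [card_map_of_injective (Subgroup.subtype_injective _), hMc]; norm_num) a ha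
    obtain ⟨w, hwM, rfl⟩ := hw
    exact (hAll w hwM fun e => by
      rw [e, map_one, orderOf_one] at hw2
      omega).1 haw
  rintro _ ⟨u, hu, rfl⟩ _ ⟨w, hw, rfl⟩ hu2 hw2
  have hne : ∀ u : (S : Subgroup G), orderOf ((S : Subgroup G).subtype u) = 2 → u ≠ 1 := fun u h e => by
    rw [e, map_one, orderOf_one] at h
    omega
  exact ((hAll u hu (hne u hu2)).2 hAp).symm.trans ((hAll w hw (hne w hw2)).2 hAp)

/-- the centralizer of an involution in the centralizer of a Sylow 19-subgroup -/
theorem even_facts (hG : ¬ IsMulCommutative G) (h4 : 4 ∣ Nat.card G) (h16 : ¬ 16 ∣ Nat.card G)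
    (hnorm : ∀ H : Subgroup G, H ≠ ⊤ → 19 ∣ Nat.card H → ∀ Q : Sylow 19 H, (Q : Subgroup H).Normal)
    {n e k : ℕ} (hx : Real G (19, n, e, k)) (hk : k % 2 = 0) :
    (19 * k * e) % (if Nat.card G % 8 == 0 then 8 else 4) = 0 ∧
      ∀ p n' e' k' : ℕ, Real G (p, n', e', k') → k' % 2 = 0 → (19 * k * e) % p = 0 := by
  obtain ⟨-, -, -, -, -, hP⟩ := hx
  haveI : Fact (Nat.Prime 19) := ⟨by norm_num⟩
  haveI := Fact.mk Nat.prime_two
  obtain ⟨P⟩ := (inferInstance : Nonempty (Sylow 19 G))
  obtain ⟨hPc, hPC, hPN⟩ := hP P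
  obtain ⟨t, ht⟩ := exists_prime_orderOf_dvd_card' (G := centralizer ((P : Subgroup G) : Set G)) 2
    (hPC ▸ dvd_mul_of_dvd_right (Nat.dvd_of_mod_eq_zero hk) 19)
  have hto : orderOf (t : G) = 2 := by rw [Subgroup.orderOf_coe, ht]
  set C := centralizer ({(t : G)} : Set G) with hC
  have hCne : C ≠ ⊤ := centralizer_singleton_ne_top hG fun h => by
    rw [h, orderOf_one] at hto; omega
  have hPle : (P : Subgroup G) ≤ C := fun z hz =>
    mem_centralizer_singleton_iff.2 (mem_centralizer_iff.1 t.2 z hz)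
  have hCN : C ≤ normalizer ((P : Subgroup G) : Set G) := by
    have hd : 19 ∣ Nat.card C := hPc ▸ card_dvd_of_le hPle
    have hQ : ((P.subtype hPle : Sylow 19 C) : Subgroup C).Normal := hnorm C hCne hd _
    intro c hc
    rw [mem_normalizer_iff]
    intro z
    constructor
    · intro hz
      exact hQ.conj_mem ⟨z, hPle hz⟩ hz ⟨c, hc⟩
    · intro hz
      have := hQ.conj_mem ⟨c * z * c⁻¹, hPle hz⟩ hz ⟨c⁻¹, inv_mem hc⟩
      simpa [Sylow.coe_subtype, Subgroup.mem_subgroupOf, mul_assoc] using this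
  have hCdvd : Nat.card C ∣ 19 * k * e := hPN ▸ card_dvd_of_le hCN
  obtain ⟨v, hv, hvd, hvn, hval⟩ : ∃ v, (v = 2 ∨ v = 3) ∧ 2 ^ v ∣ Nat.card G ∧
      ¬ 2 ^ (v + 1) ∣ Nat.card G ∧ (if Nat.card G % 8 == 0 then 8 else 4) = 2 ^ v := by
    by_cases h8 : Nat.card G % 8 = 0
    · exact ⟨3, Or.inr rfl, Nat.dvd_of_mod_eq_zero h8, h16, by rw [if_pos (by simpa using h8)]; rfl⟩
    · exact ⟨2, Or.inl rfl, h4, fun h => h8 (Nat.mod_eq_zero_of_dvd h) |>.elim,
        by rw [if_neg (by simpa using h8)]; rfl⟩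
  -- centralizers of involutions have the order of `C`
  have hcard : ∀ u : G, orderOf u = 2 → Nat.card (centralizer ({u} : Set G)) = Nat.card C := by
    intro u hu
    obtain ⟨c, hc⟩ := isConj_iff.1 (isConj_involution hG hv hvd hvn hto hu)
    subst hc
    refine Nat.card_congr ((MulAut.conj c⁻¹).toEquiv.subtypeEquiv fun y => ?_)
    rw [mem_centralizer_singleton_iff, mem_centralizer_singleton_iff]
    show y * (c * t * c⁻¹) = c * t * c⁻¹ * y ↔ c⁻¹ * y * c⁻¹⁻¹ * t = t * (c⁻¹ * y * c⁻¹⁻¹)
    constructor <;> intro h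
    · apply (MulAut.conj c).injective
      simpa [MulAut.conj_apply, mul_assoc] using h
    · have h' := congrArg (MulAut.conj c) h
      simpa [MulAut.conj_apply, mul_assoc] using h'
  refine ⟨?_, fun p n' e' k' hy hk' => ?_⟩
  · rw [hval]
    refine Nat.mod_eq_zero_of_dvd (dvd_trans ?_ hCdvd)
    obtain ⟨S⟩ := (inferInstance : Nonempty (Sylow 2 G))
    obtain ⟨m, hm⟩ := hvd
    have hm2 : ¬ 2 ∣ m := fun ⟨c, hc⟩ => hvn ⟨c, by rw [hm, hc, pow_succ]; ring⟩
    have hS : Nat.card (S : Subgroup G) = 2 ^ v := card_sylow_eq v m hm hm2 S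
    haveI : Nontrivial (S : Subgroup G) := Finite.one_lt_card_iff_nontrivial.1 (by
      rw [hS]; exact Nat.one_lt_two_pow (by omega))
    haveI := S.isPGroup'.center_nontrivial
    have h2 : 2 ∣ Nat.card (center (S : Subgroup G)) := by
      obtain ⟨j, hj⟩ := (S.isPGroup'.to_subgroup (center (S : Subgroup G))).exists_card_eq
      have h1 : 1 < Nat.card (center (S : Subgroup G)) := Finite.one_lt_card_iff_nontrivial.2 inferInstance
      rcases j with _ | j
      · rw [hj] at h1; simp at h1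
      · rw [hj, pow_succ]; exact dvd_mul_left _ _
    obtain ⟨z, hz⟩ := exists_prime_orderOf_dvd_card' (G := center (S : Subgroup G)) 2 h2
    have hzo : orderOf ((z : (S : Subgroup G)) : G) = 2 := by
      rw [Subgroup.orderOf_coe, Subgroup.orderOf_coe, hz]
    rw [← hcard _ hzo, ← hS]
    refine card_dvd_of_le fun w hw => mem_centralizer_singleton_iff.2 ?_
    exact congrArg Subtype.val (mem_center_iff.1 z.2 ⟨w, hw⟩)
  · obtain ⟨hp, -, -, -, -, hQ⟩ := hy
    haveI := Fact.mk hp
    obtain ⟨Q⟩ := (inferInstance : Nonempty (Sylow p G))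
    obtain ⟨hQc, hQC, -⟩ := hQ Q
    obtain ⟨s, hs⟩ := exists_prime_orderOf_dvd_card' (G := centralizer ((Q : Subgroup G) : Set G)) 2
      (hQC ▸ dvd_mul_of_dvd_right (Nat.dvd_of_mod_eq_zero hk') p)
    refine Nat.mod_eq_zero_of_dvd (dvd_trans ?_ hCdvd)
    rw [← hcard (s : G) (by rw [Subgroup.orderOf_coe, hs])]
    exact (dvd_of_eq hQc.symm).trans <| card_dvd_of_le fun z hz =>
      mem_centralizer_singleton_iff.2 (mem_centralizer_iff.1 s.2 z hz)

/-! ### The sieve -/

theorem pairTerms_le : ∀ acc : List Datum, (acc.map Prod.fst).Nodup → (∀ x ∈ acc, Real G x) →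
    ∀ t ∈ pairTerms acc, t.2 ≤ Nat.card {g : G // orderOf g = t.1}
  | [], _, _ => by simp [pairTerms]
  | (p, n, e, k) :: rest, hnd, h => by
    rw [List.map_cons, List.nodup_cons] at hnd
    intro t ht
    rw [pairTerms, List.mem_append, List.mem_flatMap] at ht
    rcases ht with ⟨⟨q, n', e', k'⟩, hy, ht⟩ | ht
    · simp only at ht
      by_cases hk : k % q = 0
      · rw [if_pos (by simpa using hk), List.mem_singleton] at ht
        subst ht
        exact (pair_facts (h _ List.mem_cons_self) (h _ (List.mem_cons_of_mem _ hy))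
          fun e => hnd.1 (e ▸ List.mem_map.2 ⟨_, hy, rfl⟩)).2 hk
      · rw [if_neg (by simpa using hk)] at ht
        exact absurd ht List.not_mem_nil
    · exact pairTerms_le rest hnd.2 (fun x hx => h x (List.mem_cons_of_mem _ hx)) t ht

theorem false_of_sieve (hG : ¬ IsMulCommutative G) (h4 : 4 ∣ Nat.card G) (h16 : ¬ 16 ∣ Nat.card G)
    (hnorm : ∀ H : Subgroup G, H ≠ ⊤ → 19 ∣ Nat.card H → ∀ Q : Sylow 19 H, (Q : Subgroup H).Normal)
    {N : ℕ} (hN : Nat.card G = N) :
    ∀ (rows : List (ℕ × List (ℕ × ℕ × ℕ))) (acc : List Datum),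
      (∀ row ∈ rows, ∃ o ∈ row.2, Real G (row.1, o)) → (∀ x ∈ acc, Real G x) →
      (rows.map Prod.fst ++ acc.map Prod.fst).Nodup → sieve N rows acc = true → False
  | [], acc, _, hacc, hnd, hs => by
    rw [sieve, reject, Bool.or_eq_true] at hs
    rcases hs with hs | hs
    · rw [Bool.and_eq_true, decide_eq_true_eq, Nat.blt_eq] at hs
      refine absurd (sum_terms_le (G := G) (terms acc) hs.1 fun t ht => ?_) (by rw [hN]; omega)
      simp only [terms, List.mem_append, List.mem_cons, List.not_mem_nil, or_false, List.mem_map] at ht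
      rcases ht with ((rfl | rfl) | ⟨⟨p, n, e, k⟩, hx, rfl⟩) | ht
      · haveI : Nonempty {g : G // orderOf g = 1} := ⟨⟨1, orderOf_one⟩⟩
        exact Nat.card_pos
      · haveI := Fact.mk Nat.prime_two
        obtain ⟨u, hu⟩ := exists_prime_orderOf_dvd_card' (G := G) 2 (dvd_trans (by norm_num) h4)
        haveI : Nonempty {g : G // orderOf g = 2} := ⟨⟨u, hu⟩⟩
        exact Nat.card_pos
      · obtain ⟨hp, -, hd, h2, hn, -⟩ := hacc _ hx
        haveI := Fact.mk hp
        simp only
        rw [card_orderOf_prime (card_sylow_of_sq hd h2), hn]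
      · exact pairTerms_le acc (by simpa using hnd) hacc t ht
    · rw [List.any_eq_true] at hs
      obtain ⟨⟨p, n, e, k⟩, hx, hc⟩ := hs
      simp only [Bool.and_eq_true, Bool.or_eq_true, beq_iff_eq, bne_iff_ne, List.any_eq_true] at hc
      obtain ⟨⟨rfl, hk⟩, hc⟩ := hc
      obtain ⟨hf1, hf2⟩ := even_facts hG h4 h16 hnorm (hacc _ hx) hk
      rcases hc with hc | ⟨⟨q, n', e', k'⟩, hy, hk', hc⟩
      · simp only [beq_iff_eq, hN] at hf1
        exact hc hf1
      · exact hc (hf2 q n' e' k' (hacc _ hy) hk')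
  | (p, opts) :: rest, acc, hrows, hacc, hnd, hs => by
    obtain ⟨o, ho, hreal⟩ := hrows (p, opts) List.mem_cons_self
    simp only [sieve, List.all_eq_true, Bool.or_eq_true, Bool.not_eq_true'] at hs
    have hnd' : (rest.map Prod.fst ++ ((p, o) :: acc).map Prod.fst).Nodup := by
      refine List.Perm.nodup ?_ hnd
      simpa using (List.perm_middle (a := p) (l₁ := rest.map Prod.fst) (l₂ := acc.map Prod.fst)).symm
    rcases hs o ho with h | h
    · rw [← Bool.not_eq_true, List.all_eq_true] at h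
      push Not at h
      obtain ⟨⟨q, n', e', k'⟩, hy, hne⟩ := h
      obtain ⟨n, e, k⟩ := o
      refine hne (pair_facts hreal (hacc _ hy) fun he => ?_).1
      simp only [List.map_cons, List.cons_append, List.nodup_cons] at hnd
      exact hnd.1 (List.mem_append_right _ (List.mem_map.2 ⟨_, hy, he.symm⟩))
    · exact false_of_sieve hG h4 h16 hnorm hN rest ((p, o) :: acc)
        (fun row hrow => hrows row (List.mem_cons_of_mem _ hrow))
        (fun x hx => by
          rcases List.mem_cons.1 hx with rfl | hx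
          · exact hreal
          · exact hacc x hx) hnd' h

theorem false_of_row (hG : ¬ IsMulCommutative G) (h4 : 4 ∣ Nat.card G) (h16 : ¬ 16 ∣ Nat.card G)
    (hnorm : ∀ H : Subgroup G, H ≠ ⊤ → 19 ∣ Nat.card H → ∀ Q : Sylow 19 H, (Q : Subgroup H).Normal)
    {row : ℕ × List (ℕ × List (ℕ × ℕ × ℕ))} (hrow : row ∈ table) (hN : Nat.card G = row.1) :
    False := by
  have h := table_ok
  simp only [List.all_eq_true, Bool.and_eq_true] at h
  obtain ⟨hok, hs⟩ := h row hrow
  simp only [rowOK, Bool.and_eq_true, decide_eq_true_eq, List.all_eq_true, beq_iff_eq, bne_iff_ne,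
    List.contains_iff_mem] at hok
  refine false_of_sieve hG h4 h16 hnorm hN row.2 [] (fun x hx => ?_) (by simp) (by simpa using hok.1) hs
  obtain ⟨⟨⟨hpm, hd⟩, hnd⟩, hopt⟩ := hok.2 x hx
  obtain ⟨p, opts⟩ := x
  have hp : p.Prime ∧ p ≠ 2 := by
    simp only [List.mem_cons, List.not_mem_nil, or_false] at hpm
    rcases hpm with rfl | rfl | rfl | rfl | rfl <;> norm_num
  haveI := Fact.mk hp.1
  have hdvd : p ∣ row.1 := Nat.dvd_of_mod_eq_zero hd
  have hnd' : ¬ p ∣ row.1 / p := fun h => hnd (Nat.mod_eq_zero_of_dvd h)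
  obtain ⟨P, n, e, k, hPc, hn, hmem, -, hC, hNo, -⟩ :=
    exists_prime_option hG hN p (row.1 / p) (Nat.mul_div_cancel' hdvd).symm hnd' hp.2
  refine ⟨(n, e, k), hopt _ hmem, hp.1, hp.2, hN ▸ hdvd, fun h => ?_, hn, fun Q => ?_⟩
  · rw [hN] at h
    obtain ⟨c, hc⟩ := h
    refine hnd' ⟨c, ?_⟩
    rw [hc, pow_two, mul_assoc, Nat.mul_div_cancel_left _ hp.1.pos]
  · refine ⟨(Q.card_eq_multiplicity.trans P.card_eq_multiplicity.symm).trans hPc,
      (card_centralizer_sylow_eq Q P).trans hC, ?_⟩
    obtain ⟨g, rfl⟩ := MulAction.exists_smul_eq G P Q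
    rw [← hNo, Sylow.coe_subgroup_smul]
    refine (Nat.card_congr ((MulAut.conj g).toEquiv.subtypeEquiv fun w => ?_)).symm
    rw [mem_normalizer_iff, mem_normalizer_iff]
    have hm : ∀ z : G, MulAut.conj g z ∈ MulAut.conj g • (P : Subgroup G) ↔ z ∈ (P : Subgroup G) := by
      intro z
      exact Subgroup.smul_mem_pointwise_smul_iff
    constructor
    · intro h z
      obtain ⟨z, rfl⟩ := (MulAut.conj g).surjective z
      show MulAut.conj g z ∈ _ ↔ MulAut.conj g w * MulAut.conj g z * (MulAut.conj g w)⁻¹ ∈ _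
      rw [← map_inv, ← map_mul, ← map_mul, hm, hm]
      exact h z
    · intro h z
      have h1 := h (MulAut.conj g z)
      change MulAut.conj g z ∈ _ ↔ MulAut.conj g w * MulAut.conj g z * (MulAut.conj g w)⁻¹ ∈ _ at h1
      rwa [← map_inv, ← map_mul, ← map_mul, hm, hm] at h1

end CfsgLib.LocalEven.J1Order

namespace CfsgLib.LocalEven.J1Order

universe v

/-- a Sylow 19-subgroup normal in a group is invariant there, for subgroups of order 19 -/
theorem eq_of_card_nineteen {G : Type v} [Group G] [Finite G] {P Q : Subgroup G}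
    (hP : Nat.card P = 19) (hQ : Nat.card Q = 19) {H : Subgroup G} (hPH : P ≤ H) (hQH : Q ≤ H)
    (h19 : ¬ 19 ^ 2 ∣ Nat.card H)
    (hn : ∀ S : Sylow 19 H, (S : Subgroup H).Normal) : P = Q := by
  haveI : Fact (Nat.Prime 19) := ⟨by norm_num⟩
  have mk : ∀ R : Subgroup G, Nat.card R = 19 → R ≤ H →
      ∃ S : Sylow 19 H, (S : Subgroup H) = R.subgroupOf H := by
    intro R hR hRH
    have hc : Nat.card (R.subgroupOf H) = 19 ^ 1 := by
      rw [Nat.card_congr (Subgroup.subgroupOfEquivOfLe hRH).toEquiv, hR, pow_one]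
    refine ⟨(IsPGroup.of_card hc).toSylow ?_, rfl⟩
    intro h
    obtain ⟨c, hc'⟩ := h
    refine h19 ⟨c, ?_⟩
    rw [← (R.subgroupOf H).card_mul_index, hc, hc']
    ring
  obtain ⟨S, hS⟩ := mk P hP hPH
  obtain ⟨S', hS'⟩ := mk Q hQ hQH
  haveI := Sylow.unique_of_normal S (hn S)
  have e : P.subgroupOf H = Q.subgroupOf H := by
    rw [← hS, ← hS', Subsingleton.elim S S']
  rw [← Subgroup.map_subgroupOf_eq_of_le hPH, ← Subgroup.map_subgroupOf_eq_of_le hQH, e]

/-- an action of a group of order 19 on a normal subgroup of order prime to 19 is trivial -/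
theorem le_centralizer_normal {G : Type v} [Group G] [Finite G] {P N : Subgroup G} [N.Normal]
    (hP : Nat.card P = 19) (hN : Nat.card N ∣ 9240) : N ≤ centralizer (P : Set G) := by
  haveI : Fact (Nat.Prime 19) := ⟨by norm_num⟩
  set K := (N ⊓ centralizer (P : Set G)) with hK
  suffices h : Nat.card N ∣ Nat.card K by
    have := Subgroup.eq_of_le_of_card_ge (inf_le_left : K ≤ N) (Nat.le_of_dvd Nat.card_pos h)
    exact this ▸ inf_le_right
  rw [← Nat.factorization_le_iff_dvd Nat.card_pos.ne' Nat.card_pos.ne']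
  intro r
  by_cases hr : r.Prime
  swap
  · rw [Nat.factorization_eq_zero_of_not_prime _ hr]; exact Nat.zero_le _
  haveI := Fact.mk hr
  obtain ⟨R⟩ := (inferInstance : Nonempty (Sylow r N))
  -- a fixed Sylow subgroup of `N`
  have hr19 : ∀ S : Sylow r N, Nat.card (Sylow r N) % 19 ≠ 0 := fun S h => by
    have h1 : Nat.card (Sylow r N) ∣ 9240 := (S.card_dvd_index.trans
      ((S : Subgroup N).index_dvd_card)).trans hN
    exact absurd ((Nat.dvd_of_mod_eq_zero h).trans h1) (by norm_num)
  let c : ↥P →* MulAut ↥N :=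
    (MulAut.conjNormal (H := N)).comp P.subtype
  letI : MulAction ↥P (Sylow r N) := MulAction.compHom (Sylow r N) c
  have hPg : IsPGroup 19 ↥P := IsPGroup.of_card (n := 1) (by rw [hP, pow_one])
  obtain ⟨S, hS⟩ := hPg.nonempty_fixed_point_of_prime_not_dvd_card (Sylow r N)
    (fun h => hr19 R (Nat.mod_eq_zero_of_dvd h))
  set M : Subgroup G := (S : Subgroup N).map N.subtype with hM
  have hMc : Nat.card M = r ^ (Nat.card N).factorization r := by
    rw [hM, Subgroup.card_map_of_injective N.subtype_injective, S.card_eq_multiplicity]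
  have hPM : P ≤ normalizer (M : Set G) := by
    intro x hx
    rw [mem_normalizer_iff]
    have key : ∀ y : ↥P, ∀ z ∈ M, (y : G) * z * (y : G)⁻¹ ∈ M := by
      rintro y _ ⟨w, hw, rfl⟩
      have h1 : c y • S = S := hS y
      refine ⟨c y w, ?_, ?_⟩
      · rw [← h1]
        exact ⟨w, hw, rfl⟩
      · exact MulAut.conjNormal_apply _ _
    intro z
    refine ⟨key ⟨x, hx⟩ z, fun h => ?_⟩
    have := key ⟨x⁻¹, inv_mem hx⟩ _ h
    simpa [mul_assoc] using this
  have hsmall : Nat.card M < 19 := by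
    have hd : Nat.card M ∣ 9240 := (hM ▸ card_map_of_injective N.subtype_injective ▸
      (S : Subgroup N).card_subgroup_dvd_card).trans hN
    rw [hMc] at hd ⊢
    set a := (Nat.card N).factorization r with ha
    rcases Nat.eq_zero_or_pos a with h0 | hpos
    · rw [h0, pow_zero]; norm_num
    have hmem : r ∈ [2, 3, 5, 7, 11] := by
      have h1 : r ∈ Nat.primeFactors 9240 :=
        Nat.mem_primeFactors.2 ⟨hr, (dvd_pow_self r hpos.ne').trans hd, by norm_num⟩
      have h2 : r ∣ 2 ^ 3 * 3 * 5 * 7 * 11 := (dvd_pow_self r hpos.ne').trans hd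
      simp only [List.mem_cons, List.not_mem_nil, or_false]
      rcases hr.dvd_mul.1 h2 with h | h
      · rcases hr.dvd_mul.1 h with h | h
        · rcases hr.dvd_mul.1 h with h | h
          · rcases hr.dvd_mul.1 h with h | h
            · exact Or.inl ((Nat.prime_dvd_prime_iff_eq hr Nat.prime_two).1 (hr.dvd_of_dvd_pow h))
            · exact Or.inr (Or.inl ((Nat.prime_dvd_prime_iff_eq hr Nat.prime_three).1 h))
          · exact Or.inr (Or.inr (Or.inl ((Nat.prime_dvd_prime_iff_eq hr Nat.prime_five).1 h)))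
        · exact Or.inr (Or.inr (Or.inr (Or.inl
            ((Nat.prime_dvd_prime_iff_eq hr (by norm_num)).1 h))))
      · exact Or.inr (Or.inr (Or.inr (Or.inr
          ((Nat.prime_dvd_prime_iff_eq hr (by norm_num)).1 h))))
    have ha4 : a ≤ 3 := by
      by_contra h
      exact (by
        simp only [List.mem_cons, List.not_mem_nil, or_false] at hmem
        rcases hmem with rfl | rfl | rfl | rfl | rfl <;> norm_num :
        ¬ r ^ 4 ∣ 9240) ((pow_dvd_pow r (show 4 ≤ a by omega)).trans hd)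
    simp only [List.mem_cons, List.not_mem_nil, or_false] at hmem
    rcases hmem with rfl | rfl | rfl | rfl | rfl <;> interval_cases a <;>
      first | (norm_num; done) | (norm_num at hd)
  have hle : M ≤ centralizer (P : Set G) := by
    intro z hz
    rw [mem_centralizer_iff]
    intro x hx
    -- the orbit of `z` under `P` is a single point
    letI : MulAction ↥P ↥M :=
      { smul := fun y w => ⟨(y : G) * w * (y : G)⁻¹, (mem_normalizer_iff.1 (hPM y.2) w).1 w.2⟩
        one_smul := fun w => Subtype.ext (by show (1 : G) * w * (1 : G)⁻¹ = w; simp)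
        mul_smul := fun u v w => Subtype.ext (by
          show ((u * v : ↥P) : G) * w * ((u * v : ↥P) : G)⁻¹ = u * (v * w * (v : G)⁻¹) * (u : G)⁻¹
          simp [mul_assoc]) }
    obtain ⟨j, hj⟩ := hPg.card_orbit (⟨z, hz⟩ : ↥M)
    have hbound : Nat.card (MulAction.orbit ↥P (⟨z, hz⟩ : ↥M)) ≤ Nat.card M :=
      Nat.card_le_card_of_injective _ Subtype.val_injective
    have hj0 : j = 0 := by
      rcases Nat.eq_zero_or_pos j with h | h
      · exact h
      · have := Nat.le_of_dvd (by positivity) (dvd_pow_self 19 h.ne')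
        omega
    rw [hj0, pow_zero, Nat.card_eq_one_iff_unique] at hj
    have := congrArg (fun w : MulAction.orbit ↥P (⟨z, hz⟩ : ↥M) => ((w : ↥M) : G))
      (@Subsingleton.elim _ hj.1
        ⟨(⟨x, hx⟩ : ↥P) • (⟨z, hz⟩ : ↥M), MulAction.mem_orbit _ _⟩
        ⟨⟨z, hz⟩, MulAction.mem_orbit_self _⟩)
    change x * z * x⁻¹ = z at this
    rw [mul_inv_eq_iff_eq_mul] at this
    exact this
  have hMK : M ≤ K := le_inf (Subgroup.map_subtype_le _) hle
  have hd := Subgroup.card_dvd_of_le hMK
  rw [hMc] at hd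
  exact (hr.pow_dvd_iff_le_factorization Nat.card_pos.ne').1 hd

/-- the step of the induction for groups that are not simple -/
theorem normal_of_not_simple {G : Type v} [Group G] [Finite G] {n : ℕ} (hn : Nat.card G = n)
    (hdvd : n ∣ 175560) (h19 : 19 ∣ n) (hsimple : ¬ IsSimpleGroup G)
    (ih : ∀ (H : Type v) [Group H] [Finite H], Nat.card H < n → Nat.card H ∣ 175560 →
      19 ∣ Nat.card H → ∀ Q : Sylow 19 H, (Q : Subgroup H).Normal) (P : Sylow 19 G) :
    (P : Subgroup G).Normal := by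
  haveI : Fact (Nat.Prime 19) := ⟨by norm_num⟩
  have hsq : ¬ 19 ^ 2 ∣ Nat.card G := fun h => absurd (h.trans (hn ▸ hdvd)) (by norm_num)
  have hPc : ∀ Q : Sylow 19 G, Nat.card (Q : Subgroup G) = 19 :=
    fun Q => card_sylow_of_sq (hn ▸ h19) hsq Q
  have hsub : ∀ H : Subgroup G, H ≠ ⊤ → 19 ∣ Nat.card H →
      ∀ Q : Sylow 19 H, (Q : Subgroup H).Normal := fun H hH h =>
    ih H (hn ▸ lt_of_le_of_ne (Subgroup.card_le_card_group H)
      fun e => hH (Subgroup.eq_top_of_card_eq H e))
      (((card_subgroup_dvd_card H).trans (dvd_of_eq hn)).trans hdvd) h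
  -- a proper non-trivial normal subgroup
  obtain ⟨N, hN, hNb, hNt⟩ : ∃ N : Subgroup G, N.Normal ∧ N ≠ ⊥ ∧ N ≠ ⊤ := by
    haveI : Nontrivial G := Finite.one_lt_card_iff_nontrivial.1 (by
      rw [hn]
      exact lt_of_lt_of_le (by norm_num : 1 < 19) (Nat.le_of_dvd (hn ▸ Nat.card_pos) h19))
    by_contra h
    push Not at h
    refine hsimple ⟨fun H hH => ?_⟩
    by_cases hb : H = ⊥
    · exact Or.inl hb
    · exact Or.inr (h H hH hb)
  have hlt : Nat.card N < n := hn ▸ lt_of_le_of_ne (Subgroup.card_le_card_group N)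
    fun e => hNt (Subgroup.eq_top_of_card_eq N e)
  -- every conjugate of `P` lies in a proper subgroup with a normal Sylow subgroup
  suffices hone : ∀ Q : Sylow 19 G, (Q : Subgroup G) = P by
    refine ⟨fun a ha g => ?_⟩
    have h := hone (g • P)
    rw [Sylow.coe_subgroup_smul] at h
    rw [← h]
    exact Subgroup.smul_mem_pointwise_smul a (MulAut.conj g) _ ha
  by_cases hNd : 19 ∣ Nat.card N
  · intro Q
    have hle : ∀ R : Sylow 19 G, (R : Subgroup G) ≤ N := by
      intro R
      obtain ⟨R'⟩ := (inferInstance : Nonempty (Sylow 19 N))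
      obtain ⟨R₂, hR₂⟩ := (R'.isPGroup'.map N.subtype).exists_le_sylow
      obtain ⟨g, rfl⟩ := MulAction.exists_smul_eq G R₂ R
      have he : (R' : Subgroup N).map N.subtype = (R₂ : Subgroup G) := by
        refine eq_of_le_of_card_ge hR₂ ?_
        rw [hPc, card_map_of_injective N.subtype_injective, card_sylow_of_sq hNd
          (fun h => hsq (h.trans (card_subgroup_dvd_card N))) R']
      rw [Sylow.coe_subgroup_smul, ← he]
      rintro _ ⟨_, ⟨w, -, rfl⟩, rfl⟩
      exact hN.conj_mem _ w.2 g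
    exact eq_of_card_nineteen (hPc Q) (hPc P) (hle Q) (hle P)
      (fun h => hsq (h.trans (card_subgroup_dvd_card N))) (hsub N hNt hNd)
  · -- `P` centralizes `N`
    have hN9 : Nat.card N ∣ 9240 := by
      have h1 : Nat.card N ∣ 19 * 9240 := ((card_subgroup_dvd_card N).trans (dvd_of_eq hn)).trans hdvd
      exact ((Nat.Prime.coprime_iff_not_dvd (by norm_num : Nat.Prime 19)).2 hNd).symm.dvd_of_dvd_mul_left h1
    have hcent : ∀ Q : Sylow 19 G, N ≤ centralizer ((Q : Subgroup G) : Set G) := fun Q =>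
      le_centralizer_normal (hPc Q) hN9
    intro Q
    -- in the quotient the images coincide
    set π := QuotientGroup.mk' N with hπ
    have hq : Nat.card (G ⧸ N) * Nat.card N = n := by
      rw [← hn, ← Subgroup.card_eq_card_quotient_mul_card_subgroup]
    have hq19 : 19 ∣ Nat.card (G ⧸ N) :=
      ((Nat.Prime.coprime_iff_not_dvd (by norm_num : Nat.Prime 19)).2 hNd).dvd_of_dvd_mul_right
        (hq ▸ h19)
    have hNpos : 1 < Nat.card N := (Subgroup.one_lt_card_iff_ne_bot N).2 hNb
    have hqlt : Nat.card (G ⧸ N) < n := by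
      rw [← hq]
      exact lt_mul_of_one_lt_right Nat.card_pos hNpos
    have hqd : Nat.card (G ⧸ N) ∣ 175560 := (Dvd.intro _ hq).trans hdvd
    have himg : ∀ R : Sylow 19 G, Nat.card ((R : Subgroup G).map π) = 19 := by
      intro R
      rcases (Nat.dvd_prime (by norm_num : Nat.Prime 19)).1
        ((hPc R) ▸ Subgroup.card_map_dvd (R : Subgroup G) π) with h | h
      · exfalso
        rw [Subgroup.card_eq_one, Subgroup.map_eq_bot_iff, QuotientGroup.ker_mk'] at h
        exact hNd (hPc R ▸ card_dvd_of_le h)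
      · exact h
    have he : (Q : Subgroup G).map π = (P : Subgroup G).map π :=
      eq_of_card_nineteen (himg Q) (himg P) le_top le_top
        (fun h => absurd ((h.trans (dvd_of_eq Subgroup.card_top)).trans hqd) (by norm_num))
        fun S => ih ↥(⊤ : Subgroup (G ⧸ N)) (by rw [Subgroup.card_top]; exact hqlt)
          (by rw [Subgroup.card_top]; exact hqd) (by rw [Subgroup.card_top]; exact hq19) S
    refine Subgroup.eq_of_le_of_card_ge (fun x hx => ?_) (by rw [hPc, hPc])
    obtain ⟨p, hp, hpx⟩ : π x ∈ (P : Subgroup G).map π := he ▸ Subgroup.mem_map_of_mem π hx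
    have hm : p⁻¹ * x ∈ N := QuotientGroup.eq.1 hpx
    have hcm : Commute p (p⁻¹ * x) := mem_centralizer_iff.1 (hcent P hm) p hp
    have hpow : ∀ {R : Sylow 19 G} {w : G}, w ∈ (R : Subgroup G) → w ^ 19 = 1 := fun {R w} hw =>
      orderOf_dvd_iff_pow_eq_one.1 (hPc R ▸ Subgroup.orderOf_dvd_natCard _ hw)
    have h1 : (p⁻¹ * x) ^ 19 = 1 := by
      have h2 : (p * (p⁻¹ * x)) ^ 19 = 1 := by rw [mul_inv_cancel_left]; exact hpow hx
      rwa [hcm.mul_pow, hpow hp, one_mul] at h2
    have h2 : p⁻¹ * x = 1 := by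
      by_contra h3
      exact hNd (orderOf_eq_prime h1 h3 ▸ Subgroup.orderOf_dvd_natCard _ hm)
    rwa [← inv_mul_eq_one.1 h2]

/-- a group of order properly dividing 175560 has a normal Sylow 19-subgroup, if any -/
theorem normal_nineteen : ∀ (n : ℕ) (G : Type v) [Group G] [Finite G], Nat.card G = n →
    n ∣ 175560 → n ≠ 175560 → 19 ∣ n → ∀ P : Sylow 19 G, (P : Subgroup G).Normal := by
  haveI : Fact (Nat.Prime 19) := ⟨by norm_num⟩
  intro n
  induction n using Nat.strong_induction_on with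
  | _ n ih =>
    intro G _ _ hn hdvd hne h19 P
    have hsq : ¬ 19 ^ 2 ∣ Nat.card G := fun h => absurd (h.trans (hn ▸ hdvd)) (by norm_num)
    have hPc : ∀ Q : Sylow 19 G, Nat.card (Q : Subgroup G) = 19 :=
      fun Q => card_sylow_of_sq (hn ▸ h19) hsq Q
    have hsub : ∀ H : Subgroup G, H ≠ ⊤ → 19 ∣ Nat.card H →
        ∀ Q : Sylow 19 H, (Q : Subgroup H).Normal := by
      intro H hH h Q
      have hlt : Nat.card H < n := hn ▸ lt_of_le_of_ne (Subgroup.card_le_card_group H)
        fun e => hH (Subgroup.eq_top_of_card_eq H e)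
      have hd : Nat.card H ∣ 175560 := ((card_subgroup_dvd_card H).trans (dvd_of_eq hn)).trans hdvd
      refine ih _ hlt H rfl hd ?_ h Q
      have := Nat.le_of_dvd (by norm_num) hdvd
      omega
    by_cases hsimple : IsSimpleGroup G
    · by_cases hG : IsMulCommutative G
      · exact ⟨fun a ha g => by
          rwa [hG.is_comm.comm g a, mul_assoc, mul_inv_cancel, mul_one]⟩
      exfalso
      obtain ⟨d, hd⟩ := h19
      have hd' : d ∣ 9240 := by
        have : 19 * d ∣ 19 * 9240 := hd ▸ hdvd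
        exact Nat.dvd_of_mul_dvd_mul_left (by norm_num) this
      have hdne : d ≠ 9240 := fun e => hne (by rw [hd, e])
      -- four divides the order
      have h4 : 4 ∣ Nat.card G := by
        by_contra h4
        have hsqf : Squarefree (Nat.card G) := by
          rw [Nat.squarefree_iff_prime_squarefree]
          intro q hq hqd
          have hd2 : q * q ∣ 2 ^ 3 * (3 * 5 * 7 * 11 * 19) := hqd.trans (hn ▸ hdvd)
          by_cases hq2 : q = 2
          · subst hq2; exact h4 hqd
          · have hc : (q * q).Coprime (2 ^ 3) := by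
              have := (Nat.coprime_primes hq Nat.prime_two).2 hq2
              exact (Nat.Coprime.mul_left this this).pow_right 3
            have h5 : q * q ∣ 3 * 5 * 7 * 11 * 19 := hc.dvd_of_dvd_mul_left hd2
            have : Squarefree (3 * 5 * 7 * 11 * 19 : ℕ) := by decide +kernel
            exact hq.one_lt.ne' (Nat.isUnit_iff.1 (this q h5))
        haveI := IsZGroup.of_squarefree hsqf
        exact hG ⟨⟨fun a b => IsSimpleGroup.comm_iff_isSolvable.2 inferInstance a b⟩⟩
      have h16 : ¬ 16 ∣ Nat.card G := fun h => absurd (h.trans (hn ▸ hdvd)) (by norm_num)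
      obtain ⟨i, rfl⟩ : 4 ∣ d := (Nat.Coprime.dvd_of_dvd_mul_left (by norm_num : Nat.Coprime 4 19)
        (by rw [← hd, ← hn]; exact h4))
      have hi : i ≤ 2310 := by
        have := Nat.le_of_dvd (by norm_num) hd'
        omega
      have hc := table_complete
      simp only [List.all_eq_true, List.mem_range, Bool.or_eq_true, Nat.beq_eq, List.any_eq_true,
        Bool.not_eq_true', beq_eq_false_iff_ne] at hc
      rcases hc i (by omega) with (h | h) | ⟨row, hrow, he⟩
      · exact hdne (by omega)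
      · exact h (Nat.mod_eq_zero_of_dvd hd')
      · exact false_of_row hG h4 h16 (fun H hH h => hsub H hH h) hrow (by rw [hn, hd, he])
    · refine normal_of_not_simple hn hdvd h19 hsimple (fun H _ _ hlt hd h => ?_) P
      refine ih _ hlt H rfl hd ?_ h
      have := Nat.le_of_dvd (by norm_num) hdvd
      omega

theorem normal_nineteen_of_not_simple {G : Type v} [Group G] [Finite G]
    (hG : Nat.card G = 175560) (hs : ¬ IsSimpleGroup G) (P : Sylow 19 G) :
    (P : Subgroup G).Normal :=
  normal_of_not_simple hG dvd_rfl (by norm_num) hs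
    (fun H _ _ hlt hd h => normal_nineteen _ H rfl hd hlt.ne h) P

end CfsgLib.LocalEven.J1Order
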