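import Cfsg.Agent.Lib.PGroups.Critical
import Cfsg.Agent.Lib.Transfer.ZJElementary
import Cfsg.Agent.Lib.Transfer.Alperin
import Cfsg.Agent.Lib.LocalEven.CharP
import Cfsg.Agent.Lib.Components.LocalLayer
import Cfsg.Agent.Lib.Base.Transport
import Cfsg.Prelude.Def_CaseTheorems

/-!
# Central `Ω₁` and normal `p`-complements
-/

namespace CfsgLib.LocalEven.OmegaCentral

open Cfsg Subgroup
open scoped commutatorElement

variable {G : Type*} [Group G] [Finite G] {p : ℕ} [Fact p.Prime]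

theorem mem_centralizer_of_normal (hp2 : p ≠ 2) {Q : Subgroup G} [hQn : Q.Normal]
    (hQ : IsPGroup p Q) {g : G} (hg : (orderOf g).Coprime p)
    (hfix : g ∈ centralizer (omegaOne p Q : Set G)) : g ∈ centralizer (Q : Set G) := by
  obtain ⟨H, hHc, -, hHQ, hCH⟩ := CfsgLib.PGroups.exists_critical hQ
  haveI := hHc
  set B := H.map Q.subtype with hB
  haveI hBn : B.Normal := by
    rw [← normalizer_eq_top_iff]
    refine top_le_iff.1 ?_
    have h1 := CfsgLib.Base.normalizer_le_normalizer_map_subtype Q H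
    rwa [normalizer_eq_top_iff.2 hQn] at h1
  have hBQ : B ≤ Q := map_subtype_le _
  have hcl : CfsgLib.Transfer.ClassTwo B := by
    rintro _ ⟨u, hu, rfl⟩ _ ⟨v, hv, rfl⟩ _ ⟨w, hw, rfl⟩
    have h1 := hHQ (commutator_mem_commutator hu (mem_top v))
    have h2 : w * ⁅u, v⁆ = ⁅u, v⁆ * w := mem_centralizer_iff.1 h1.2 w hw
    rw [← map_commutatorElement]
    show Q.subtype ⁅u, v⁆ * Q.subtype w = Q.subtype w * Q.subtype ⁅u, v⁆
    rw [← map_mul, ← map_mul, h2]
  have hgB : g ∈ centralizer (B : Set G) := by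
    refine hcl.mem_centralizer_of_omegaOne hp2 (hQ.to_le hBQ) hg ?_
    exact centralizer_le (SetLike.coe_subset_coe.2
      ((closure_mono fun x hx => ⟨hBQ hx.1, hx.2⟩ : omegaOne p B ≤ omegaOne p Q))) hfix
  have hstab : ∀ q ∈ (Q : Set G), g * q * g⁻¹ * q⁻¹ ∈ B := by
    intro q hq
    have hwQ : g * q * g⁻¹ * q⁻¹ ∈ Q := mul_mem (hQn.conj_mem q hq g) (inv_mem hq)
    set w : Q := ⟨g * q * g⁻¹ * q⁻¹, hwQ⟩
    refine ⟨w, hCH ?_, rfl⟩
    rw [mem_centralizer_iff]
    intro b hb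
    have hbB : (b : G) ∈ B := ⟨b, hb, rfl⟩
    have h1 := mem_centralizer_iff.1 hgB _ (hBn.conj_mem _ hbB q⁻¹)
    have h2 := mem_centralizer_iff.1 hgB _ hbB
    apply Subtype.ext
    show (b : G) * (g * q * g⁻¹ * q⁻¹) = g * q * g⁻¹ * q⁻¹ * b
    calc (b : G) * (g * q * g⁻¹ * q⁻¹) = (b * g) * q * g⁻¹ * q⁻¹ := by group
      _ = g * q * ((q⁻¹ * b * q⁻¹⁻¹) * g⁻¹) * q⁻¹ := by rw [h2]; group
      _ = g * q * (g⁻¹ * (q⁻¹ * b * q⁻¹⁻¹)) * q⁻¹ := by
          rw [show q⁻¹ * (b : G) * q⁻¹⁻¹ * g⁻¹ = g⁻¹ * (q⁻¹ * b * q⁻¹⁻¹) from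
            ((show Commute (q⁻¹ * (b : G) * q⁻¹⁻¹) g from h1).inv_right).eq]
      _ = g * q * g⁻¹ * q⁻¹ * b := by group
  obtain ⟨k, hk⟩ := exists_pow_mem_centralizer (hQ.to_le hBQ) hstab hgB
  have hmem : g ∈ zpowers (g ^ p ^ k) := by
    have hc : (p ^ k).Coprime (orderOf g) := (hg.pow_right k).symm
    obtain ⟨m, hm⟩ := exists_pow_eq_self_of_coprime hc
    exact mem_zpowers_iff.2 ⟨(m : ℤ), by rw [zpow_natCast]; exact hm⟩
  exact zpowers_le.2 hk hmem

theorem mem_centralizer (hp2 : p ≠ 2) {Q : Subgroup G} (hQ : IsPGroup p Q) {g : G}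
    (hgn : g ∈ normalizer (Q : Set G)) (hg : (orderOf g).Coprime p)
    (hfix : g ∈ centralizer (omegaOne p Q : Set G)) : g ∈ centralizer (Q : Set G) := by
  set N := normalizer (Q : Set G) with hN
  have hQN : Q ≤ N := le_normalizer
  haveI : (Q.subgroupOf N).Normal := (normal_subgroupOf_iff_le_normalizer hQN).2 le_rfl
  have h := mem_centralizer_of_normal hp2 (Q := Q.subgroupOf N) (g := ⟨g, hgn⟩)
    (hQ.of_equiv (subgroupOfEquivOfLe hQN).symm) (by rwa [Subgroup.orderOf_mk])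
    (by
      rw [mem_centralizer_iff]
      intro x hx
      apply Subtype.ext
      refine mem_centralizer_iff.1 hfix (x : G) ?_
      have h1 : (x : G) ∈ (omegaOne p (Q.subgroupOf N)).map N.subtype := ⟨x, hx, rfl⟩
      rw [omegaOne, MonoidHom.map_closure] at h1
      refine closure_mono ?_ h1
      rintro _ ⟨y, ⟨hy, hyp⟩, rfl⟩
      exact ⟨hy, by simpa using congrArg Subtype.val hyp⟩)
  rw [mem_centralizer_iff]
  intro q hq
  exact congrArg Subtype.val (mem_centralizer_iff.1 h ⟨q, hQN hq⟩ hq)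

theorem normalPComplement (hp2 : p ≠ 2) (hdiv : p ∣ Nat.card G) (P : Sylow p G)
    (hZ : omegaOne p (P : Subgroup G) ≤ center G) :
    HasNormalPComplement p G ∧ ¬ IsQuasisimple G := by
  have h1 : HasNormalPComplement p G := by
    rw [CfsgLib.Transfer.hasNormalPComplement_iff_forall_centralizing P]
    intro Q hQ g hg hcop
    refine mem_centralizer hp2 (P.2.to_le hQ) hg hcop (mem_centralizer_iff.2 fun x hx => ?_)
    have hle : omegaOne p Q ≤ omegaOne p (P : Subgroup G) :=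
      closure_mono fun y hy => ⟨hQ hy.1, hy.2⟩
    exact ((mem_center_iff.1 (hZ (hle hx))) g).symm
  refine ⟨h1, fun hq => ?_⟩
  have h2 := (CfsgLib.Transfer.hasNormalPComplement_iff_inf_eq_bot P).1 h1
  rw [CfsgLib.Components.pResidual_eq_top_of_perfect hq.1, inf_top_eq] at h2
  have := P.dvd_card_of_dvd_card hdiv
  rw [h2, card_bot] at this
  exact (Fact.out : p.Prime).ne_one (Nat.dvd_one.1 this)

end CfsgLib.LocalEven.OmegaCentral
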