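import Mathlib

/-!
Subgroups isomorphic to `A₄` in `GL₂(ℤ/2ᵏ)`.
-/

set_option autoImplicit false

namespace CfsgLib.LocalEven.AltFourGL

abbrev MatTwo := Matrix (Fin 2) (Fin 2) (ZMod 2)

theorem alt_three : ∀ x g : ↥(alternatingGroup (Fin 4)), x ^ 3 = 1 → x ≠ 1 → g ^ 2 = 1 →
    g * (x * g * x⁻¹) * (x ^ 2 * g * (x ^ 2)⁻¹) = 1 := by decide +kernel

theorem alt_cover : ∀ x : ↥(alternatingGroup (Fin 4)), x ^ 3 = 1 → x ≠ 1 → ∀ h,
    ∃ g : ↥(alternatingGroup (Fin 4)), g ^ 2 = 1 ∧ (h = g ∨ h = g * x ∨ h = g * x ^ 2) := by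
  decide +kernel

theorem alt_count :
    (Finset.univ.filter fun g : ↥(alternatingGroup (Fin 4)) => g ^ 2 = 1).card = 4 := by decide +kernel

theorem alt_exists : ∃ x : ↥(alternatingGroup (Fin 4)), x ^ 3 = 1 ∧ x ≠ 1 := by decide +kernel

theorem matTwo_triple : ∀ x g : MatTwo, x * x * x = 1 → x ≠ 1 → g * g = 1 →
    g * (x * g * (x * x)) * (x * x * g * x) = 1 → g = 1 := by decide +kernel

theorem matTwo_count : ∀ x : MatTwo, x * x * x = 1 → x ≠ 1 →
    (Finset.univ.filter fun A : MatTwo => A + x * A * (x * x) + x * x * A * x = 0).card ≤ 4 := by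
  decide +kernel

theorem matTwo_three : ∀ x y : MatTwo, x * x * x = 1 → x ≠ 1 → y * y * y = 1 → y ≠ 1 →
    y ≠ x → y = x * x := by decide +kernel

variable {k : ℕ}

abbrev MatK (k : ℕ) := Matrix (Fin 2) (Fin 2) (ZMod (2 ^ k))

/-- Reduction modulo two. -/
def red (hk : 1 ≤ k) : MatK k →+* MatTwo :=
  (ZMod.castHom (dvd_pow_self 2 (by omega : k ≠ 0)) (ZMod 2)).mapMatrix

theorem two_dvd_of_cast_eq_zero (hk : 1 ≤ k) {z : ZMod (2 ^ k)}
    (h : ZMod.castHom (dvd_pow_self 2 (by omega : k ≠ 0)) (ZMod 2) z = 0) : ∃ w, z = 2 * w := by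
  obtain ⟨n, rfl⟩ : ∃ n : ℕ, (n : ZMod (2 ^ k)) = z := ⟨z.val, ZMod.natCast_zmod_val z⟩
  rw [map_natCast, ZMod.natCast_eq_zero_iff] at h
  obtain ⟨m, rfl⟩ := h
  exact ⟨(m : ZMod (2 ^ k)), by push_cast; rfl⟩

theorem exists_of_red_eq_one (hk : 1 ≤ k) {g : MatK k} (h : red hk g = 1) :
    ∃ A : MatK k, g = 1 + (2 : ZMod (2 ^ k)) • A := by
  have : ∀ i j, ∃ w, (g - 1) i j = 2 * w := fun i j => two_dvd_of_cast_eq_zero hk (by
    have := congrArg (fun M : MatTwo => M i j) (show red hk (g - 1) = 0 by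
      rw [map_sub, h, map_one, sub_self])
    simpa [red] using this)
  choose A hA using this
  refine ⟨Matrix.of A, ?_⟩
  have e : g - 1 = (2 : ZMod (2 ^ k)) • Matrix.of A := by
    ext i j
    rw [hA i j]
    rfl
  rw [← e]
  abel

theorem pow_two_pow (A : MatK k) : ∀ j : ℕ,
    ∃ B : MatK k, (1 + (2 : ZMod (2 ^ k)) • A) ^ (2 ^ j) = 1 + (2 : ZMod (2 ^ k)) ^ (j + 1) • B := by
  intro j
  induction j with
  | zero => exact ⟨A, by simp⟩
  | succ j ih =>
    obtain ⟨B, hB⟩ := ih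
    refine ⟨B + (2 : ZMod (2 ^ k)) ^ j • (B * B), ?_⟩
    rw [pow_succ 2 j, pow_mul, hB, sq, add_mul, mul_add, mul_add, one_mul, one_mul, mul_one,
      Matrix.smul_mul, Matrix.mul_smul, smul_smul, smul_add, smul_smul, ← pow_add, ← pow_add]
    rw [show j + 1 + (j + 1) = j + 1 + 1 + j by omega]
    generalize (2 : ZMod (2 ^ k)) ^ (j + 1 + 1 + j) • (B * B) = Z
    rw [pow_succ (2 : ZMod (2 ^ k)) (j + 1), mul_comm, mul_smul, two_smul]
    abel

theorem red_ne_one (hk : 1 ≤ k) {x : MatK k} (h3 : x ^ 3 = 1) (h1 : x ≠ 1) : red hk x ≠ 1 := by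
  intro h
  obtain ⟨A, rfl⟩ := exists_of_red_eq_one hk h
  obtain ⟨B, hB⟩ := pow_two_pow A k
  have h0 : (2 : ZMod (2 ^ k)) ^ k = 0 := by
    have := ZMod.natCast_self (2 ^ k)
    push_cast at this
    exact this
  rw [pow_succ, h0, zero_mul, zero_smul, add_zero] at hB
  have := pow_gcd_eq_one.2 ⟨h3, hB⟩
  rw [Nat.Coprime.gcd_eq_one (Nat.Coprime.pow_right _ (by norm_num)), pow_one] at this
  exact h1 this

theorem triple_eq_one (hk : 2 ≤ k) {x g : MatK k} (h3 : x ^ 3 = 1) (h1 : x ≠ 1) (hg : g * g = 1)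
    (hp : g * (x * g * x ^ 2) * (x ^ 2 * g * x) = 1) :
    (2 : ZMod (2 ^ k)) • (g - 1) = 0 ∧
      (g - 1) + x * (g - 1) * x ^ 2 + x ^ 2 * (g - 1) * x = 0 := by
  have hk1 : 1 ≤ k := by omega
  have hx3 : x * x ^ 2 = 1 := by rw [← pow_succ']; exact h3
  have hx3' : x ^ 2 * x = 1 := by rw [← pow_succ]; exact h3
  have hred : red hk1 g = 1 := by
    refine matTwo_triple (red hk1 x) (red hk1 g) ?_ (red_ne_one hk1 h3 h1) ?_ ?_
    · rw [← pow_three', ← map_pow, h3, map_one]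
    · rw [← map_mul, hg, map_one]
    · rw [← map_mul (red hk1) x x, ← sq, ← map_mul, ← map_mul, ← map_mul, ← map_mul, ← map_mul,
        ← map_mul, hp, map_one]
  obtain ⟨A, hA⟩ := exists_of_red_eq_one hk1 hred
  -- the trace is twice a unit
  have ht : ∃ u : ZMod (2 ^ k), IsUnit u ∧ g 0 0 + g 1 1 = 2 * u := by
    set B := x * A * x ^ 2 with hB
    set C := x ^ 2 * A * x with hC
    have e1 : x * g * x ^ 2 = 1 + (2 : ZMod (2 ^ k)) • B := by
      rw [hA, mul_add, add_mul, mul_one, hx3, Matrix.mul_smul, Matrix.smul_mul]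
    have e2 : x ^ 2 * g * x = 1 + (2 : ZMod (2 ^ k)) • C := by
      rw [hA, mul_add, add_mul, mul_one, hx3', Matrix.mul_smul, Matrix.smul_mul]
    rw [e1, e2, hA] at hp
    have e3 : (2 : ZMod (2 ^ k)) • (A + B + C + (2 : ZMod (2 ^ k)) • (A * B + A * C + B * C) +
        (4 : ZMod (2 ^ k)) • (A * B * C)) = 0 := by
      have := sub_eq_zero.2 hp
      rw [← this]
      simp only [mul_add, add_mul, one_mul, mul_one, Matrix.smul_mul, Matrix.mul_smul, smul_add,
        smul_smul]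
      norm_num
      abel
    have e4 := congrArg Matrix.trace e3
    simp only [Matrix.trace_smul, Matrix.trace_add, Matrix.trace_zero, smul_eq_mul] at e4
    have hBt : Matrix.trace B = Matrix.trace A := by
      rw [hB, Matrix.trace_mul_cycle, hx3', one_mul]
    have hCt : Matrix.trace C = Matrix.trace A := by
      rw [hC, Matrix.trace_mul_cycle, hx3, one_mul]
    rw [hBt, hCt] at e4
    refine ⟨1 + Matrix.trace A, ?_, ?_⟩
    · obtain ⟨n, hn⟩ : ∃ n : ℕ, (n : ZMod (2 ^ k)) = Matrix.trace A :=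
        ⟨_, ZMod.natCast_zmod_val _⟩
      have h4 := congrArg (ZMod.castHom (show 2 ^ 2 ∣ 2 ^ k from pow_dvd_pow 2 hk) (ZMod (2 ^ 2))) e4
      simp only [map_mul, map_add, map_zero, map_ofNat, ← hn, map_natCast] at h4
      have h4' : ((6 * n : ℕ) : ZMod (2 ^ 2)) = 0 := by
        rw [← h4, show (4 : ZMod (2 ^ 2)) = 0 by decide]
        push_cast
        ring_nf
        rw [show (4 : ZMod (2 ^ 2)) = 0 by decide]
        ring
      rw [ZMod.natCast_eq_zero_iff] at h4'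
      rw [← hn, show (1 : ZMod (2 ^ k)) + (n : ZMod (2 ^ k)) = ((1 + n : ℕ) : ZMod (2 ^ k)) by
        push_cast; rfl, ZMod.isUnit_iff_coprime]
      refine Nat.Coprime.pow_right _ (Nat.coprime_two_right.2 ?_)
      norm_num at h4'
      exact Nat.odd_iff.2 (by omega)
    · rw [hA, Matrix.trace_fin_two]
      simp
      ring
  obtain ⟨u, hu, htu⟩ := ht
  have hker : ∀ z : ZMod (2 ^ k), (g 0 0 + g 1 1) * z = 0 → 2 * z = 0 := by
    intro z hz
    rw [htu, mul_comm 2 u, mul_assoc] at hz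
    exact hu.mul_right_eq_zero.1 hz
  have g00 := congrArg (fun M : MatK k => M 0 0) hg
  have g01 := congrArg (fun M : MatK k => M 0 1) hg
  have g10 := congrArg (fun M : MatK k => M 1 0) hg
  have g11 := congrArg (fun M : MatK k => M 1 1) hg
  simp [Matrix.mul_apply, Fin.sum_univ_two] at g00 g01 g10 g11
  -- scalar part plus an element killed by two
  set c := g 0 0 with hc
  set N := g - c • (1 : MatK k) with hN
  have hN2 : (2 : ZMod (2 ^ k)) • N = 0 := by
    have h01 := hker (g 0 1) (by linear_combination g01)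
    have h10 := hker (g 1 0) (by linear_combination g10)
    have h11 := hker (g 1 1 - c) (by linear_combination g11 - g00)
    ext i j
    fin_cases i <;> fin_cases j <;> simp [hN, h01, h10, h11, ← hc]
  have hA00 : c = 1 + 2 * A 0 0 := by rw [hc, hA]; simp
  have hfix : ∀ M : MatK k, (2 : ZMod (2 ^ k)) • M = 0 → c • M = M := by
    intro M hM
    rw [hA00, add_smul, one_smul, mul_comm, mul_smul, hM, smul_zero, add_zero]
  have hzero : ∀ M M' : MatK k, (2 : ZMod (2 ^ k)) • M = 0 → (2 : ZMod (2 ^ k)) • M' = 0 →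
      M * M' = 0 := by
    intro M M' hM hM'
    ext i j
    rw [Matrix.mul_apply]
    refine Finset.sum_eq_zero fun l _ => ?_
    have key : ∀ z : ZMod (2 ^ k), 2 * z = 0 → ∃ w, z = 2 ^ (k - 1) * w := by
      intro z hz
      obtain ⟨n, rfl⟩ : ∃ n : ℕ, (n : ZMod (2 ^ k)) = z := ⟨_, ZMod.natCast_zmod_val _⟩
      have : ((2 * n : ℕ) : ZMod (2 ^ k)) = 0 := by push_cast; exact hz
      rw [ZMod.natCast_eq_zero_iff, show k = k - 1 + 1 by omega, pow_succ'] at this
      obtain ⟨m, rfl⟩ := Nat.dvd_of_mul_dvd_mul_left two_pos this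
      exact ⟨m, by push_cast; rfl⟩
    obtain ⟨a, ha⟩ := key (M i l) (by simpa using congrArg (fun X : MatK k => X i l) hM)
    have hb : 2 * M' l j = 0 := by simpa using congrArg (fun X : MatK k => X l j) hM'
    rw [ha, show k - 1 = k - 2 + 1 by omega, pow_succ]
    linear_combination ((2 : ZMod (2 ^ k)) ^ (k - 2) * a) * hb
  have hNx : (2 : ZMod (2 ^ k)) • (x * N * x ^ 2) = 0 := by
    rw [← Matrix.smul_mul, ← Matrix.mul_smul, hN2, mul_zero, zero_mul]
  have hNx2 : (2 : ZMod (2 ^ k)) • (x ^ 2 * N * x) = 0 := by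
    rw [← Matrix.smul_mul, ← Matrix.mul_smul, hN2, mul_zero, zero_mul]
  have eg : g = c • (1 : MatK k) + N := by rw [hN]; abel
  have e1 : x * g * x ^ 2 = c • (1 : MatK k) + x * N * x ^ 2 := by
    rw [eg, mul_add, add_mul, Matrix.mul_smul, Matrix.smul_mul, mul_one, hx3]
  have e2 : x ^ 2 * g * x = c • (1 : MatK k) + x ^ 2 * N * x := by
    rw [eg, mul_add, add_mul, Matrix.mul_smul, Matrix.smul_mul, mul_one, hx3']
  have hmulc : ∀ (a b : ZMod (2 ^ k)) (M M' : MatK k), (2 : ZMod (2 ^ k)) • M = 0 →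
      (2 : ZMod (2 ^ k)) • M' = 0 → (a • (1 : MatK k) + M) * (b • (1 : MatK k) + M') =
        (a * b) • (1 : MatK k) + (b • M + a • M') := by
    intro a b M M' hM hM'
    rw [add_mul, mul_add, mul_add, hzero M M' hM hM', Matrix.smul_mul, one_mul, smul_smul,
      Matrix.smul_mul, one_mul, Matrix.mul_smul, mul_one]
    abel
  have hNS : (2 : ZMod (2 ^ k)) • (N + x * N * x ^ 2) = 0 := by rw [smul_add, hN2, hNx, add_zero]
  have hprod : g * (x * g * x ^ 2) * (x ^ 2 * g * x) =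
      (c * c * c) • (1 : MatK k) + (N + x * N * x ^ 2 + x ^ 2 * N * x) := by
    rw [e1, e2, eg, hmulc c c N _ hN2 hNx, hfix N hN2, hfix _ hNx, hmulc _ c _ _ hNS hNx2,
      hfix _ hNS, mul_smul c c (x ^ 2 * N * x), hfix _ hNx2, hfix _ hNx2]
  rw [hprod] at hp
  have hc3 : 2 * (c * c * c) = 2 := by
    have := congrArg (fun M : MatK k => (2 : ZMod (2 ^ k)) • M) hp
    simp only [smul_add, hN2, hNx, hNx2, add_zero] at this
    simpa using congrArg (fun M : MatK k => M 0 0) this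
  have hcc2 : 2 * (c * c) = 2 := by
    linear_combination 2 * g00 - (g 1 0) * hker (g 0 1) (by linear_combination g01)
  have hc2 : 2 * c = 2 := by linear_combination hc3 - c * hcc2
  have hd : (c - 1) * (c - 1) = 0 := by
    rw [show (c - 1) * (c - 1) = (2 * c - 2) * A 0 0 by rw [hA00]; ring, hc2, sub_self, zero_mul]
  have hgN : g - 1 = N + (c - 1) • (1 : MatK k) := by
    rw [hN, sub_smul, one_smul]; abel
  have hg2 : (2 : ZMod (2 ^ k)) • (g - 1) = 0 := by
    rw [hgN, smul_add, hN2, zero_add, smul_smul, mul_sub, hc2, mul_one, sub_self, zero_smul]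
  refine ⟨hg2, ?_⟩
  have hS : N + x * N * x ^ 2 + x ^ 2 * N * x = (1 - c * c * c) • (1 : MatK k) := by
    rw [sub_smul, one_smul, eq_sub_iff_add_eq', hp]
  rw [hgN]
  simp only [mul_add, add_mul, Matrix.mul_smul, Matrix.smul_mul, mul_one, hx3, hx3']
  calc N + (c - 1) • (1 : MatK k) + (x * N * x ^ 2 + (c - 1) • 1) + (x ^ 2 * N * x + (c - 1) • 1)
      = (N + x * N * x ^ 2 + x ^ 2 * N * x) + ((c - 1) + (c - 1) + (c - 1)) • (1 : MatK k) := by
        rw [add_smul, add_smul]; abel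
    _ = 0 := by
        rw [hS, ← add_smul, show 1 - c * c * c + (c - 1 + (c - 1) + (c - 1)) = 0 by
          linear_combination (-3 - (c - 1)) * hd, zero_smul]

/-- Embedding of `ℤ/2` as the elements killed by two. -/
def iota (a : ZMod 2) : ZMod (2 ^ k) := (a.val : ZMod (2 ^ k)) * 2 ^ (k - 1)

theorem half_twice (hk : 1 ≤ k) : (2 : ZMod (2 ^ k)) * 2 ^ (k - 1) = 0 := by
  rw [← pow_succ', show k - 1 + 1 = k by omega]
  have := ZMod.natCast_self (2 ^ k)
  push_cast at this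
  exact this

theorem iota_cast (hk : 1 ≤ k) (z : ZMod (2 ^ k)) :
    iota (ZMod.castHom (dvd_pow_self 2 (by omega : k ≠ 0)) (ZMod 2) z) =
      z * (2 : ZMod (2 ^ k)) ^ (k - 1) := by
  obtain ⟨n, rfl⟩ : ∃ n : ℕ, (n : ZMod (2 ^ k)) = z := ⟨_, ZMod.natCast_zmod_val _⟩
  rw [map_natCast, iota, ZMod.val_natCast]
  conv_rhs => rw [← Nat.div_add_mod n 2]
  push_cast
  linear_combination -((n / 2 : ℕ) : ZMod (2 ^ k)) * half_twice hk

theorem count_le (hk : 1 ≤ k) {x : MatK k} (h3 : x ^ 3 = 1) (h1 : x ≠ 1) :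
    ∃ s : Finset (MatK k), s.card ≤ 4 ∧ ∀ g : MatK k, (2 : ZMod (2 ^ k)) • (g - 1) = 0 →
      (g - 1) + x * (g - 1) * x ^ 2 + x ^ 2 * (g - 1) * x = 0 → g ∈ s := by
  classical
  have hx : red hk x * red hk x * red hk x = 1 := by rw [← pow_three', ← map_pow, h3, map_one]
  set f : MatTwo → MatK k := fun A => 1 + A.map iota
  refine ⟨(Finset.univ.filter fun A : MatTwo =>
    A + red hk x * A * (red hk x * red hk x) + red hk x * red hk x * A * red hk x = 0).image f,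
    Finset.card_image_le.trans (matTwo_count _ hx (red_ne_one hk h3 h1)), fun g hg2 hgs => ?_⟩
  have key : ∀ z : ZMod (2 ^ k), 2 * z = 0 → ∃ w, z = w * 2 ^ (k - 1) := by
    intro z hz
    obtain ⟨n, rfl⟩ : ∃ n : ℕ, (n : ZMod (2 ^ k)) = z := ⟨_, ZMod.natCast_zmod_val _⟩
    have : ((2 * n : ℕ) : ZMod (2 ^ k)) = 0 := by push_cast; exact hz
    rw [ZMod.natCast_eq_zero_iff, show k = k - 1 + 1 by omega, pow_succ'] at this
    obtain ⟨m, rfl⟩ := Nat.dvd_of_mul_dvd_mul_left two_pos this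
    exact ⟨m, by push_cast; ring⟩
  choose w hw using fun i j => key ((g - 1) i j)
    (by simpa using congrArg (fun X : MatK k => X i j) hg2)
  set W : MatK k := Matrix.of w
  have hgW : g - 1 = (2 : ZMod (2 ^ k)) ^ (k - 1) • W := by
    ext i j
    rw [hw i j, Matrix.smul_apply, smul_eq_mul, mul_comm]
    rfl
  have hmap : ∀ X : MatK k, (red hk X).map iota = (2 : ZMod (2 ^ k)) ^ (k - 1) • X := by
    intro X
    ext i j
    simp only [red, RingHom.mapMatrix_apply, Matrix.map_apply, Matrix.smul_apply, smul_eq_mul]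
    rw [iota_cast hk, mul_comm]
  refine Finset.mem_image.2 ⟨red hk W, Finset.mem_filter.2 ⟨Finset.mem_univ _, ?_⟩, ?_⟩
  · have e : red hk W + red hk x * red hk W * (red hk x * red hk x) +
        red hk x * red hk x * red hk W * red hk x = red hk (W + x * W * x ^ 2 + x ^ 2 * W * x) := by
      simp only [map_add, map_mul, sq]
    rw [e]
    rw [hgW, Matrix.mul_smul, Matrix.smul_mul, Matrix.mul_smul, Matrix.smul_mul, ← smul_add,
      ← smul_add, ← hmap] at hgs
    ext i j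
    have h0 := congrArg (fun X : MatK k => X i j) hgs
    simp only [Matrix.map_apply, Matrix.zero_apply, iota] at h0
    generalize red hk (W + x * W * x ^ 2 + x ^ 2 * W * x) i j = a at h0 ⊢
    have ha := ZMod.val_lt a
    have h01 : a.val = 0 ∨ a.val = 1 := by omega
    rcases h01 with ha0 | ha1
    · rw [Matrix.zero_apply]; exact (ZMod.val_eq_zero a).1 ha0
    · rw [ha1, Nat.cast_one, one_mul] at h0
      have : ((2 ^ (k - 1) : ℕ) : ZMod (2 ^ k)) = 0 := by push_cast; exact h0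
      rw [ZMod.natCast_eq_zero_iff, Nat.pow_dvd_pow_iff_le_right (by norm_num)] at this
      omega
  · show 1 + (red hk W).map iota = g
    rw [hmap, ← hgW]; abel

/-- In a group isomorphic to `A₄`, described by an element of order three. -/
theorem alt_data {G : Type*} [Group G] {H : Subgroup G}
    (e : ↥H ≃* ↥(alternatingGroup (Fin 4))) {x : G} (hxH : x ∈ H) (h3 : x ^ 3 = 1) (h1 : x ≠ 1) :
    (∀ g ∈ H, g ^ 2 = 1 → g * (x * g * x⁻¹) * (x ^ 2 * g * (x ^ 2)⁻¹) = 1) ∧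
      (∀ h ∈ H, ∃ g ∈ H, g ^ 2 = 1 ∧ (h = g ∨ h = g * x ∨ h = g * x ^ 2)) ∧
        Nat.card {g : G // g ∈ H ∧ g ^ 2 = 1} = 4 := by
  have hX3 : e ⟨x, hxH⟩ ^ 3 = 1 := by
    rw [← map_pow, show (⟨x, hxH⟩ : H) ^ 3 = 1 from Subtype.ext h3, map_one]
  have hX1 : e ⟨x, hxH⟩ ≠ 1 := fun h =>
    h1 (congrArg Subtype.val (e.injective (h.trans (map_one e).symm)))
  refine ⟨fun g hg hg2 => ?_, fun h hh => ?_, ?_⟩
  · have := alt_three (e ⟨x, hxH⟩) (e ⟨g, hg⟩) hX3 hX1
      (by rw [← map_pow, show (⟨g, hg⟩ : H) ^ 2 = 1 from Subtype.ext hg2, map_one])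
    simp only [← map_mul, ← map_inv, ← map_pow] at this
    exact congrArg Subtype.val (e.injective (this.trans (map_one e).symm))
  · obtain ⟨g', hg2, hcase⟩ := alt_cover (e ⟨x, hxH⟩) hX3 hX1 (e ⟨h, hh⟩)
    obtain ⟨g, rfl⟩ := e.surjective g'
    simp only [← map_mul, ← map_pow, e.injective.eq_iff] at hcase
    rw [← map_pow, map_eq_one_iff e e.injective] at hg2
    refine ⟨g, g.2, congrArg Subtype.val hg2, ?_⟩
    rcases hcase with h' | h' | h'
    · exact Or.inl (congrArg Subtype.val h')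
    · exact Or.inr (Or.inl (congrArg Subtype.val h'))
    · exact Or.inr (Or.inr (congrArg Subtype.val h'))
  · rw [← alt_count, ← Fintype.card_subtype, ← Nat.card_eq_fintype_card]
    exact Nat.card_congr
      { toFun := fun g => ⟨e ⟨g.1, g.2.1⟩, by
          rw [← map_pow, show (⟨g.1, g.2.1⟩ : H) ^ 2 = 1 from Subtype.ext g.2.2, map_one]⟩
        invFun := fun g => ⟨(e.symm g.1).1, (e.symm g.1).2,
          congrArg Subtype.val (show e.symm g.1 ^ 2 = 1 by rw [← map_pow, g.2, map_one])⟩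
        left_inv := fun g => by simp
        right_inv := fun g => by simp }

theorem le_of_common (hk : 2 ≤ k) {H H' : Subgroup (Matrix.GeneralLinearGroup (Fin 2) (ZMod (2 ^ k)))}
    (e : ↥H ≃* ↥(alternatingGroup (Fin 4))) (e' : ↥H' ≃* ↥(alternatingGroup (Fin 4)))
    {x : Matrix.GeneralLinearGroup (Fin 2) (ZMod (2 ^ k))} (hxH : x ∈ H) (hxH' : x ∈ H')
    (h3 : x ^ 3 = 1) (h1 : x ≠ 1) : H ≤ H' := by
  classical
  have hv3 : (x.val : MatK k) ^ 3 = 1 := by rw [← Units.val_pow_eq_pow_val, h3, Units.val_one]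
  have hv1 : (x.val : MatK k) ≠ 1 := fun h => h1 (Units.ext h)
  have hxi : x⁻¹ = x ^ 2 := inv_eq_of_mul_eq_one_right (by rw [← pow_succ', h3])
  obtain ⟨s, hs, hmem⟩ := count_le (k := k) (by omega) hv3 hv1
  have hin : ∀ (K : Subgroup (Matrix.GeneralLinearGroup (Fin 2) (ZMod (2 ^ k))))
      (f : ↥K ≃* ↥(alternatingGroup (Fin 4))), x ∈ K →
      ∀ g ∈ K, g ^ 2 = 1 → (g.val : MatK k) ∈ s := by
    intro K f hxK g hg hg2
    have hp := (alt_data f hxK h3 h1).1 g hg hg2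
    rw [hxi, show (x ^ 2)⁻¹ = x from inv_eq_of_mul_eq_one_right (by rw [← pow_succ, h3])] at hp
    have := triple_eq_one hk hv3 hv1 (by rw [← Units.val_mul, ← sq, hg2, Units.val_one])
      (by rw [← Units.val_pow_eq_pow_val, ← Units.val_mul, ← Units.val_mul, ← Units.val_mul,
        ← Units.val_mul, ← Units.val_mul, ← Units.val_mul, hp, Units.val_one])
    exact hmem _ this.1 this.2
  have hfull : ∀ m ∈ s, ∃ g ∈ H', g ^ 2 = 1 ∧ (g.val : MatK k) = m := by
    intro m hm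
    let ι : {g // g ∈ H' ∧ g ^ 2 = 1} → s := fun g => ⟨g.1.val, hin H' e' hxH' g.1 g.2.1 g.2.2⟩
    have hinj : Function.Injective ι := fun a b hab =>
      Subtype.ext (Units.ext (congrArg Subtype.val hab))
    have hbij : Function.Bijective ι := hinj.bijective_of_nat_card_le (by
      rw [(alt_data e' hxH' h3 h1).2.2, Nat.card_eq_fintype_card, Fintype.card_coe]; exact hs)
    obtain ⟨g, hg⟩ := hbij.2 ⟨m, hm⟩
    exact ⟨g.1, g.2.1, g.2.2, congrArg Subtype.val hg⟩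
  have hinvol : ∀ g ∈ H, g ^ 2 = 1 → g ∈ H' := by
    intro g hg hg2
    obtain ⟨g', hg', -, he⟩ := hfull _ (hin H e hxH g hg hg2)
    rwa [← Units.ext he]
  intro h hh
  obtain ⟨g, hg, hg2, hcase⟩ := (alt_data e hxH h3 h1).2.1 h hh
  rcases hcase with rfl | rfl | rfl
  · exact hinvol _ hg hg2
  · exact mul_mem (hinvol g hg hg2) hxH'
  · exact mul_mem (hinvol g hg hg2) (pow_mem hxH' 2)

/-- All subgroups isomorphic to `A₄` are conjugate. -/
theorem main (k : ℕ) (hk : 2 ≤ k) (H₁ H₂ : Subgroup (Matrix.GeneralLinearGroup (Fin 2) (ZMod (2 ^ k))))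
    (h₁ : Nonempty (↥H₁ ≃* ↥(alternatingGroup (Fin 4))))
    (h₂ : Nonempty (↥H₂ ≃* ↥(alternatingGroup (Fin 4)))) :
    ∃ g : Matrix.GeneralLinearGroup (Fin 2) (ZMod (2 ^ k)),
      H₂ = H₁.map (MulAut.conj g).toMonoidHom := by
  obtain ⟨e₁⟩ := h₁
  obtain ⟨e₂⟩ := h₂
  have hk1 : 1 ≤ k := by omega
  have hget : ∀ (H : Subgroup (Matrix.GeneralLinearGroup (Fin 2) (ZMod (2 ^ k)))),
      (↥H ≃* ↥(alternatingGroup (Fin 4))) → ∃ x ∈ H, x ^ 3 = 1 ∧ x ≠ 1 := by
    intro H e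
    obtain ⟨a, ha3, ha1⟩ := alt_exists
    refine ⟨(e.symm a).1, (e.symm a).2, congrArg Subtype.val
      (show e.symm a ^ 3 = 1 by rw [← map_pow, ha3, map_one]), fun h => ha1 ?_⟩
    exact (map_eq_one_iff e.symm e.symm.injective).1 (Subtype.ext h)
  obtain ⟨x, hxH, hx3, hx1⟩ := hget H₂ e₂
  obtain ⟨y₀, hyH₀, hy₀3, hy₀1⟩ := hget H₁ e₁
  have hr : ∀ z : Matrix.GeneralLinearGroup (Fin 2) (ZMod (2 ^ k)), z ^ 3 = 1 → z ≠ 1 →
      red hk1 z.val * red hk1 z.val * red hk1 z.val = 1 ∧ red hk1 z.val ≠ 1 := by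
    intro z hz3 hz1
    have hv : (z.val : MatK k) ^ 3 = 1 := by rw [← Units.val_pow_eq_pow_val, hz3, Units.val_one]
    exact ⟨by rw [← pow_three', ← map_pow, hv, map_one],
      red_ne_one hk1 hv fun h => hz1 (Units.ext h)⟩
  obtain ⟨y, hyH, hy3, hy1, hyx⟩ : ∃ y ∈ H₁, y ^ 3 = 1 ∧ y ≠ 1 ∧
      red hk1 y.val = red hk1 x.val := by
    have hx' := hr x hx3 hx1
    have hy' := hr y₀ hy₀3 hy₀1
    by_cases hne : red hk1 y₀.val = red hk1 x.val
    · exact ⟨y₀, hyH₀, hy₀3, hy₀1, hne⟩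
    · have h := matTwo_three _ _ hx'.1 hx'.2 hy'.1 hy'.2 hne
      refine ⟨y₀ ^ 2, pow_mem hyH₀ 2, by rw [← pow_mul, mul_comm, pow_mul, hy₀3, one_pow],
        fun h2 => hy₀1 ?_, ?_⟩
      · rw [pow_succ, h2, one_mul] at hy₀3
        exact hy₀3
      · rw [Units.val_pow_eq_pow_val, map_pow, h, sq, ← mul_assoc, hx'.1, one_mul]
  -- averaging
  set X : MatK k := x.val with hX
  set Y : MatK k := y.val with hY
  have hX3 : X ^ 3 = 1 := by rw [hX, ← Units.val_pow_eq_pow_val, hx3, Units.val_one]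
  have hY3 : Y ^ 3 = 1 := by rw [hY, ← Units.val_pow_eq_pow_val, hy3, Units.val_one]
  set C : MatK k := 1 + X * Y ^ 2 + X ^ 2 * Y with hC
  have hcomm : X * C = C * Y := by
    have e1 : X * (X ^ 2 * Y) = Y := by rw [← mul_assoc, ← pow_succ', hX3, one_mul]
    have e2 : X * Y ^ 2 * Y = X := by rw [mul_assoc, ← pow_succ, hY3, mul_one]
    rw [hC, mul_add, mul_add, add_mul, add_mul, mul_one, one_mul, e1, e2, ← mul_assoc, ← sq,
      mul_assoc (X ^ 2) Y Y, ← sq]
    abel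
  have hredC : red hk1 C = 1 := by
    have h := (hr x hx3 hx1).1
    rw [← hX] at h
    rw [hC, map_add, map_add, map_one, map_mul, map_mul, map_pow, map_pow, hyx, sq, ← mul_assoc,
      h, show (1 : MatTwo) + 1 + 1 = 1 by decide]
  have hdet : IsUnit C.det := by
    have := RingHom.map_det (ZMod.castHom (dvd_pow_self 2 (by omega : k ≠ 0)) (ZMod 2)) C
    rw [show (ZMod.castHom _ (ZMod 2)).mapMatrix C = red hk1 C from rfl, hredC, Matrix.det_one] at this
    obtain ⟨n, hn⟩ : ∃ n : ℕ, (n : ZMod (2 ^ k)) = C.det := ⟨_, ZMod.natCast_zmod_val _⟩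
    rw [← hn, map_natCast] at this
    rw [← hn, ZMod.isUnit_iff_coprime]
    refine Nat.Coprime.pow_right _ (Nat.coprime_two_right.2 (Nat.odd_iff.2 ?_))
    have h2 := congrArg ZMod.val this
    rw [ZMod.val_natCast, ZMod.val_one] at h2
    exact h2
  obtain ⟨c, hc⟩ := (Matrix.isUnit_iff_isUnit_det C).2 hdet
  have hxy : c * y * c⁻¹ = x := by
    rw [mul_inv_eq_iff_eq_mul]
    exact Units.ext (by rw [Units.val_mul, Units.val_mul, hc, hcomm])
  refine ⟨c, ?_⟩
  set H₁' := H₁.map (MulAut.conj c).toMonoidHom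
  have e₁' : ↥H₁' ≃* ↥(alternatingGroup (Fin 4)) :=
    ((H₁.equivMapOfInjective (MulAut.conj c).toMonoidHom (MulAut.conj c).injective).symm).trans e₁
  have hxH' : x ∈ H₁' := ⟨y, hyH, by simpa using hxy⟩
  exact le_antisymm (le_of_common hk e₂ e₁' hxH hxH' hx3 hx1)
    (le_of_common hk e₁' e₂ hxH' hxH hx3 hx1)

end CfsgLib.LocalEven.AltFourGL
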