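import Cfsg.Agent.Lib.LocalEven.PReduced2

/-!
The coset graph of a pair of subgroups: connectivity, stabilizers, transitivity.
-/

namespace CfsgLib.LocalEven

open Cfsg

variable {X : Type*} [Group X] {M₁ M₂ : Subgroup X}

theorem cosetGraph_adj_iff {a b : CosetVertex M₁ M₂} :
    (cosetGraph M₁ M₂).Adj a b ↔ ∃ x : X,
      (a = Sum.inl (x : X ⧸ M₁) ∧ b = Sum.inr (x : X ⧸ M₂)) ∨
      (a = Sum.inr (x : X ⧸ M₂) ∧ b = Sum.inl (x : X ⧸ M₁)) := by
  rw [cosetGraph, SimpleGraph.fromRel_adj]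
  constructor
  · rintro ⟨-, ⟨x, hx⟩ | ⟨x, hx⟩⟩
    · exact ⟨x, Or.inl hx⟩
    · exact ⟨x, Or.inr ⟨hx.2, hx.1⟩⟩
  · rintro ⟨x, ⟨ha, hb⟩ | ⟨ha, hb⟩⟩
    · exact ⟨by rw [ha, hb]; simp, Or.inl ⟨x, ha, hb⟩⟩
    · exact ⟨by rw [ha, hb]; simp, Or.inr ⟨x, hb, ha⟩⟩

theorem smul_cosetVertex_inl (g x : X) :
    g • (Sum.inl (x : X ⧸ M₁) : CosetVertex M₁ M₂) = Sum.inl ((g * x : X) : X ⧸ M₁) := rfl

theorem smul_cosetVertex_inr (g x : X) :
    g • (Sum.inr (x : X ⧸ M₂) : CosetVertex M₁ M₂) = Sum.inr ((g * x : X) : X ⧸ M₂) := rfl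

theorem cosetGraph_adj_smul (g : X) {a b : CosetVertex M₁ M₂} (h : (cosetGraph M₁ M₂).Adj a b) :
    (cosetGraph M₁ M₂).Adj (g • a) (g • b) := by
  obtain ⟨x, ⟨rfl, rfl⟩ | ⟨rfl, rfl⟩⟩ := cosetGraph_adj_iff.1 h <;>
    refine cosetGraph_adj_iff.2 ⟨g * x, ?_⟩
  · exact Or.inl ⟨rfl, rfl⟩
  · exact Or.inr ⟨rfl, rfl⟩

/-- Left multiplication as a graph endomorphism. -/
def cosetGraphHom (g : X) : cosetGraph M₁ M₂ →g cosetGraph M₁ M₂ :=
  ⟨fun a => g • a, fun h => cosetGraph_adj_smul g h⟩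

theorem cosetGraph_reachable_smul (g : X) {a b : CosetVertex M₁ M₂}
    (h : (cosetGraph M₁ M₂).Reachable a b) : (cosetGraph M₁ M₂).Reachable (g • a) (g • b) :=
  h.map (cosetGraphHom g)

theorem exists_smul_of_adj {a b : CosetVertex M₁ M₂} (h : (cosetGraph M₁ M₂).Adj a b) :
    ∃ g : X,
      (a = g • (Sum.inl ((1 : X) : X ⧸ M₁)) ∧ b = g • (Sum.inr ((1 : X) : X ⧸ M₂))) ∨
      (a = g • (Sum.inr ((1 : X) : X ⧸ M₂)) ∧ b = g • (Sum.inl ((1 : X) : X ⧸ M₁))) := by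
  obtain ⟨x, h⟩ := cosetGraph_adj_iff.1 h
  refine ⟨x, ?_⟩
  simpa only [smul_cosetVertex_inl, smul_cosetVertex_inr, mul_one] using h

theorem exists_adj (a : CosetVertex M₁ M₂) : ∃ b, (cosetGraph M₁ M₂).Adj a b := by
  rcases a with a | a <;> induction a using QuotientGroup.induction_on with
  | H x => first
    | exact ⟨Sum.inr (x : X ⧸ M₂), cosetGraph_adj_iff.2 ⟨x, Or.inl ⟨rfl, rfl⟩⟩⟩
    | exact ⟨Sum.inl (x : X ⧸ M₁), cosetGraph_adj_iff.2 ⟨x, Or.inr ⟨rfl, rfl⟩⟩⟩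

theorem cosetGraph_connected (hgen : M₁ ⊔ M₂ = ⊤) : (cosetGraph M₁ M₂).Connected := by
  set o : CosetVertex M₁ M₂ := Sum.inl ((1 : X) : X ⧸ M₁)
  have hlr : ∀ g : X, (cosetGraph M₁ M₂).Reachable (Sum.inl (g : X ⧸ M₁)) (Sum.inr (g : X ⧸ M₂)) :=
    fun g => (cosetGraph_adj_iff.2 ⟨g, Or.inl ⟨rfl, rfl⟩⟩).reachable
  have key : ∀ g : X, (cosetGraph M₁ M₂).Reachable o (g • o) := by
    intro g
    have hg : g ∈ Subgroup.closure ((M₁ : Set X) ∪ M₂) := by
      rw [Subgroup.closure_union, Subgroup.closure_eq, Subgroup.closure_eq, hgen]; trivial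
    induction hg using Subgroup.closure_induction with
    | mem x hx =>
      rcases hx with hx | hx
      · rw [smul_cosetVertex_inl, mul_one, QuotientGroup.eq.2 (show x⁻¹ * 1 ∈ M₁ by simpa using hx)]
      · rw [smul_cosetVertex_inl, mul_one]
        refine (hlr 1).trans ?_
        rw [QuotientGroup.eq.2 (show (1 : X)⁻¹ * x ∈ M₂ by simpa using hx)]
        exact (hlr x).symm
    | one => rw [one_smul]
    | mul x y _ _ hx hy =>
      rw [mul_smul]; exact hx.trans (cosetGraph_reachable_smul x hy)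
    | inv x _ hx =>
      have := cosetGraph_reachable_smul x⁻¹ hx
      rw [inv_smul_smul] at this
      exact this.symm
  have all : ∀ v, (cosetGraph M₁ M₂).Reachable o v := by
    rintro (v | v) <;> induction v using QuotientGroup.induction_on with
    | H x =>
      have := key x
      rw [smul_cosetVertex_inl, mul_one] at this
      first | exact this | exact this.trans (hlr x)
  have : Nonempty (CosetVertex M₁ M₂) := ⟨o⟩
  exact ⟨fun a b => (all a).symm.trans (all b)⟩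

theorem stabilizer_inl_one :
    MulAction.stabilizer X (Sum.inl ((1 : X) : X ⧸ M₁) : CosetVertex M₁ M₂) = M₁ := by
  ext g
  rw [MulAction.mem_stabilizer_iff, smul_cosetVertex_inl, mul_one]
  constructor
  · intro h; simpa using QuotientGroup.eq.1 (Sum.inl_injective h)
  · intro h; exact congrArg Sum.inl (QuotientGroup.eq.2 (by simpa using h))

theorem stabilizer_inr_one :
    MulAction.stabilizer X (Sum.inr ((1 : X) : X ⧸ M₂) : CosetVertex M₁ M₂) = M₂ := by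
  ext g
  rw [MulAction.mem_stabilizer_iff, smul_cosetVertex_inr, mul_one]
  constructor
  · intro h; simpa using QuotientGroup.eq.1 (Sum.inr_injective h)
  · intro h; exact congrArg Sum.inr (QuotientGroup.eq.2 (by simpa using h))

theorem stabilizer_inl (x : X) :
    MulAction.stabilizer X (Sum.inl (x : X ⧸ M₁) : CosetVertex M₁ M₂) =
      M₁.map (MulAut.conj x).toMonoidHom := by
  have h : (Sum.inl (x : X ⧸ M₁) : CosetVertex M₁ M₂) = x • Sum.inl ((1 : X) : X ⧸ M₁) := by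
    rw [smul_cosetVertex_inl, mul_one]
  rw [h, MulAction.stabilizer_smul_eq_stabilizer_map_conj, stabilizer_inl_one]

theorem stabilizer_inr (x : X) :
    MulAction.stabilizer X (Sum.inr (x : X ⧸ M₂) : CosetVertex M₁ M₂) =
      M₂.map (MulAut.conj x).toMonoidHom := by
  have h : (Sum.inr (x : X ⧸ M₂) : CosetVertex M₁ M₂) = x • Sum.inr ((1 : X) : X ⧸ M₂) := by
    rw [smul_cosetVertex_inr, mul_one]
  rw [h, MulAction.stabilizer_smul_eq_stabilizer_map_conj, stabilizer_inr_one]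

theorem edgeStabilizer_smul (g : X) (a b : CosetVertex M₁ M₂) :
    edgeStabilizer (g • a) (g • b) = (edgeStabilizer a b).map (MulAut.conj g).toMonoidHom := by
  rw [edgeStabilizer, edgeStabilizer, MulAction.stabilizer_smul_eq_stabilizer_map_conj,
    MulAction.stabilizer_smul_eq_stabilizer_map_conj,
    Subgroup.map_inf _ _ _ (MulAut.conj g).injective]

theorem exists_stabilizer_transitive {δ μ μ' : CosetVertex M₁ M₂}
    (hμ : (cosetGraph M₁ M₂).Adj δ μ) (hμ' : (cosetGraph M₁ M₂).Adj δ μ') :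
    ∃ g ∈ MulAction.stabilizer X δ, g • μ = μ' := by
  obtain ⟨g, h⟩ := exists_smul_of_adj hμ
  obtain ⟨g', h'⟩ := exists_smul_of_adj hμ'
  refine ⟨g' * g⁻¹, ?_⟩
  rcases h with ⟨h1, h2⟩ | ⟨h1, h2⟩ <;> rcases h' with ⟨h1', h2'⟩ | ⟨h1', h2'⟩
  · refine ⟨?_, ?_⟩
    · rw [MulAction.mem_stabilizer_iff, mul_smul]
      conv_rhs => rw [h1']
      rw [h1, inv_smul_smul]
    · rw [mul_smul, h2, inv_smul_smul, h2']
  · simp [h1, smul_cosetVertex_inl, smul_cosetVertex_inr] at h1'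
  · simp [h1, smul_cosetVertex_inl, smul_cosetVertex_inr] at h1'
  · refine ⟨?_, ?_⟩
    · rw [MulAction.mem_stabilizer_iff, mul_smul]
      conv_rhs => rw [h1']
      rw [h1, inv_smul_smul]
    · rw [mul_smul, h2, inv_smul_smul, h2']

theorem eq_bot_of_fix_all (h : ∀ N : Subgroup X, N ≤ M₁ ⊓ M₂ → N.Normal → N = ⊥) {T : Subgroup X}
    (hT : ∀ t ∈ T, ∀ v : CosetVertex M₁ M₂, t • v = v) : T = ⊥ := by
  set K := (MulAction.toPermHom X (CosetVertex M₁ M₂)).ker
  have hK : K = ⊥ := h K (fun g hg => by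
    have hv : ∀ v : CosetVertex M₁ M₂, g • v = v := fun v => Equiv.ext_iff.1 hg v
    refine ⟨?_, ?_⟩
    · rw [← stabilizer_inl_one (M₁ := M₁) (M₂ := M₂)]; exact hv _
    · rw [← stabilizer_inr_one (M₁ := M₁) (M₂ := M₂)]; exact hv _) inferInstance
  rw [eq_bot_iff, ← hK]
  exact fun t ht => Equiv.ext (hT t ht)

theorem toPermHom_injective (h : ∀ N : Subgroup X, N ≤ M₁ ⊓ M₂ → N.Normal → N = ⊥) :
    Function.Injective (MulAction.toPermHom X (CosetVertex M₁ M₂)) := by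
  rw [← MonoidHom.ker_eq_bot_iff]
  exact eq_bot_of_fix_all h fun t ht v => Equiv.ext_iff.1 ht v

/-- A subgroup of an edge stabilizer with normalizer transitive on both neighbourhoods is trivial. -/
theorem eq_bot_of_transitive (h : IsAmalgamPair M₁ M₂) {δ μ : CosetVertex M₁ M₂}
    (hμ : (cosetGraph M₁ M₂).Adj δ μ) {T : Subgroup X} (hT : T ≤ edgeStabilizer δ μ)
    (hδ : ∀ ν ν' : CosetVertex M₁ M₂, (cosetGraph M₁ M₂).Adj δ ν → (cosetGraph M₁ M₂).Adj δ ν' →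
      ∃ g ∈ Subgroup.normalizer (T : Set X) ⊓ MulAction.stabilizer X δ, g • ν = ν')
    (hμ' : ∀ ν ν' : CosetVertex M₁ M₂, (cosetGraph M₁ M₂).Adj μ ν → (cosetGraph M₁ M₂).Adj μ ν' →
      ∃ g ∈ Subgroup.normalizer (T : Set X) ⊓ MulAction.stabilizer X μ, g • ν = ν') : T = ⊥ := by
  have hconn := cosetGraph_connected h.1
  have orb : ∀ a b : CosetVertex M₁ M₂, (cosetGraph M₁ M₂).Walk a b →
      (∃ n ∈ Subgroup.normalizer (T : Set X), a = n • δ ∨ a = n • μ) →
      ∃ n ∈ Subgroup.normalizer (T : Set X), b = n • δ ∨ b = n • μ := by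
    intro a b w
    induction w with
    | nil => exact id
    | @cons a c b hac _ ih =>
      rintro ⟨n, hn, rfl | rfl⟩ <;> apply ih <;>
        have hac' := cosetGraph_adj_smul n⁻¹ hac <;> rw [inv_smul_smul] at hac'
      · obtain ⟨g, hg, he⟩ := hδ _ _ hμ hac'
        exact ⟨n * g, Subgroup.mul_mem _ hn hg.1, Or.inr (by rw [mul_smul, he, smul_inv_smul])⟩
      · obtain ⟨g, hg, he⟩ := hμ' _ _ hμ.symm hac'
        exact ⟨n * g, Subgroup.mul_mem _ hn hg.1, Or.inl (by rw [mul_smul, he, smul_inv_smul])⟩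
  refine eq_bot_of_fix_all h.2.2.2 fun t ht v => ?_
  obtain ⟨n, hn, hv⟩ := orb δ v (hconn δ v).some ⟨1, Subgroup.one_mem _, Or.inl (one_smul _ _).symm⟩
  have htn : n⁻¹ * t * n ∈ T := by
    have := (Subgroup.mem_normalizer_iff.1 (Subgroup.inv_mem _ hn) t).1 ht
    simpa using this
  have e : ∀ u : CosetVertex M₁ M₂, t • n • u = n • (n⁻¹ * t * n) • u := fun u => by
    simp [smul_smul, mul_assoc]
  rcases hv with rfl | rfl <;> rw [e]
  · rw [MulAction.mem_stabilizer_iff.1 (hT htn).1]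
  · rw [MulAction.mem_stabilizer_iff.1 (hT htn).2]

end CfsgLib.LocalEven
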