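import Cfsg.Agent.Lib.LocalEven.AmalgamSpe
import Cfsg.Agent.Lib.Transfer.NormalPComplement
import Cfsg.Agent.Lib.PLocal.Thompson
import Cfsg.Agent.Lib.PLocal.Stable
import Cfsg.Prelude.Def_LocalStructure

/-!
The iterated subgroups `V^(n)` on the coset graph of an amalgam: noncentral factors.
-/

set_option autoImplicit false

namespace CfsgLib.LocalEven.Iter

open Cfsg
open scoped commutatorElement

variable {X : Type*} [Group X] {p : ℕ} [Fact p.Prime] {M₁ M₂ : Subgroup X}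

theorem map_vertexZ_le (h : IsCharPAmalgamPair p M₁ M₂) (g : X) (ν : CosetVertex M₁ M₂) :
    (vertexZ p ν).map (MulAut.conj g).toMonoidHom ≤ vertexZ p (g • ν) := by
  haveI := finite_stabilizer h ν
  haveI := finite_stabilizer h (g • ν)
  rw [vertexZ, sylowCenterClosure, Subgroup.map_iSup]
  refine iSup_le fun S => ?_
  have hf : Function.Injective (MulAut.conj g).toMonoidHom := (MulAut.conj g).injective
  rw [CfsgLib.PLocal.map_omegaOne hf, CfsgLib.PLocal.map_inf_centralizer hf]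
  refine IsMaxPSub.omegaCenter_le_closure ?_
  rw [MulAction.stabilizer_smul_eq_stabilizer_map_conj]
  exact (isMaxPSub_sylow S).map_equiv (MulAut.conj g)

theorem dist_smul_le (h : IsCharPAmalgamPair p M₁ M₂) (g : X) (a b : CosetVertex M₁ M₂) :
    (cosetGraph M₁ M₂).dist (g • a) (g • b) ≤ (cosetGraph M₁ M₂).dist a b := by
  obtain ⟨w, hw⟩ := (cosetGraph_connected h.1.1).exists_walk_length_eq_dist a b
  rw [← hw, ← SimpleGraph.Walk.length_map (cosetGraphHom g) w]
  exact SimpleGraph.dist_le (w.map (cosetGraphHom g))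

theorem map_iter_le (h : IsCharPAmalgamPair p M₁ M₂) (g : X) (n : ℕ) (a : CosetVertex M₁ M₂) :
    (vertexVIter p M₁ M₂ n a).map (MulAut.conj g).toMonoidHom ≤ vertexVIter p M₁ M₂ n (g • a) := by
  rw [vertexVIter, Subgroup.map_iSup]
  exact iSup_le fun ν => (map_vertexZ_le h g ν.1).trans
    (le_iSup_of_le (⟨g • ν.1, (dist_smul_le h g a ν.1).trans ν.2⟩ :
      {μ : CosetVertex M₁ M₂ // (cosetGraph M₁ M₂).dist (g • a) μ ≤ n}) le_rfl)

theorem map_iter (h : IsCharPAmalgamPair p M₁ M₂) (g : X) (n : ℕ) (a : CosetVertex M₁ M₂) :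
    (vertexVIter p M₁ M₂ n a).map (MulAut.conj g).toMonoidHom = vertexVIter p M₁ M₂ n (g • a) := by
  refine le_antisymm (map_iter_le h g n a) fun x hx => ⟨g⁻¹ * x * g, ?_, by simp [mul_assoc]⟩
  have := map_iter_le h g⁻¹ n (g • a) ⟨x, hx, rfl⟩
  rw [inv_smul_smul] at this
  simpa using this

theorem stabilizer_le_normalizer (h : IsCharPAmalgamPair p M₁ M₂) (n : ℕ) (a : CosetVertex M₁ M₂) :
    MulAction.stabilizer X a ≤ Subgroup.normalizer (vertexVIter p M₁ M₂ n a : Set X) := by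
  intro g hg
  refine Subgroup.mem_normalizer_iff_map_conj_eq.2 ?_
  exact (map_iter h g n a).trans (by rw [MulAction.mem_stabilizer_iff.1 hg])

theorem iter_le_succ (h : IsCharPAmalgamPair p M₁ M₂) {n m : ℕ} {a b : CosetVertex M₁ M₂}
    (hle : (cosetGraph M₁ M₂).dist b a + m ≤ n) :
    vertexVIter p M₁ M₂ m a ≤ vertexVIter p M₁ M₂ n b := by
  refine iSup_le fun ν => le_iSup_of_le (⟨ν.1, ?_⟩ :
    {μ : CosetVertex M₁ M₂ // (cosetGraph M₁ M₂).dist b μ ≤ n}) le_rfl
  have h1 := (cosetGraph_connected h.1.1).dist_triangle (u := b) (v := a) (w := ν.1)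
  have h2 := ν.2
  omega

/-- `V^(n)` is generated by the `V^(n-1)` of the neighbours. -/
theorem iter_le_iSup (h : IsCharPAmalgamPair p M₁ M₂) {n : ℕ} (hn : 1 ≤ n) (a : CosetVertex M₁ M₂)
    {S : Subgroup X} (hS : ∀ μ, (cosetGraph M₁ M₂).Adj a μ → vertexVIter p M₁ M₂ (n - 1) μ ≤ S) :
    vertexVIter p M₁ M₂ n a ≤ S := by
  refine iSup_le fun ν => ?_
  by_cases h0 : (cosetGraph M₁ M₂).dist a ν.1 = 0
  · rw [← (cosetGraph_connected h.1.1).dist_eq_zero_iff.1 h0]
    obtain ⟨μ, hμ⟩ := exists_adj a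
    haveI := finite_stabilizer h a
    refine iSup_le fun P => ?_
    obtain ⟨T, hT⟩ := exists_maxPSub_edge h a μ
    obtain ⟨hTa, hTμ⟩ := maxPSub_edge h hμ hT
    obtain ⟨S₀, hS₀⟩ := hTa.exists_sylow
    obtain ⟨k, hk⟩ := MulAction.exists_smul_eq ↥(MulAction.stabilizer X a) S₀ P
    have hadj : (cosetGraph M₁ M₂).Adj a ((k : X) • μ) := by
      have := cosetGraph_adj_smul (k : X) hμ
      rwa [MulAction.mem_stabilizer_iff.1 k.2] at this
    have hmax : IsMaxPSub p ((P : Subgroup (MulAction.stabilizer X a)).map (MulAction.stabilizer X a).subtype)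
        (MulAction.stabilizer X ((k : X) • μ)) := by
      have h1 := hTμ.map_equiv (MulAut.conj (k : X))
      rw [← MulAction.stabilizer_smul_eq_stabilizer_map_conj] at h1
      rw [← hk, ← conj_sylow_map, hS₀]
      exact h1
    haveI := finite_stabilizer h ((k : X) • μ)
    refine (IsMaxPSub.omegaCenter_le_closure hmax).trans (le_trans ?_ (hS _ hadj))
    exact le_iSup_of_le (⟨(k : X) • μ, by rw [SimpleGraph.dist_self]; exact Nat.zero_le _⟩ :
      {μ' : CosetVertex M₁ M₂ // (cosetGraph M₁ M₂).dist ((k : X) • μ) μ' ≤ n - 1}) le_rfl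
  · obtain ⟨c, hac, hd⟩ := exists_adj_dist_succ (cosetGraph_connected h.1.1) h0
    refine le_trans ?_ (hS c hac)
    exact le_iSup_of_le (⟨ν.1, by have := ν.2; omega⟩ :
      {μ' : CosetVertex M₁ M₂ // (cosetGraph M₁ M₂).dist c μ' ≤ n - 1}) le_rfl

theorem vertexZ_ne_bot (h : IsCharPAmalgamPair p M₁ M₂) (a : CosetVertex M₁ M₂) : vertexZ p a ≠ ⊥ := by
  haveI := finite_stabilizer h a
  have hdvd : p ∣ Nat.card (MulAction.stabilizer X a) := by
    rcases a with q | q <;> induction q using QuotientGroup.induction_on with | _ x => ?_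
    · rw [stabilizer_inl, Subgroup.card_map_of_injective (f := (MulAut.conj x).toMonoidHom) (MulAut.conj x).injective]
      exact h.2.2.2.1
    · rw [stabilizer_inr, Subgroup.card_map_of_injective (f := (MulAut.conj x).toMonoidHom) (MulAut.conj x).injective]
      exact h.2.2.2.2.1
  obtain ⟨P⟩ : Nonempty (Sylow p (MulAction.stabilizer X a)) := inferInstance
  intro hbot
  have hne : (P : Subgroup (MulAction.stabilizer X a)) ≠ ⊥ := P.ne_bot_of_dvd_card hdvd
  haveI : Nontrivial (P : Subgroup (MulAction.stabilizer X a)) := (Subgroup.nontrivial_iff_ne_bot _).2 hne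
  haveI := P.2.center_nontrivial
  obtain ⟨⟨z, hz⟩, hz1⟩ := exists_ne (1 : Subgroup.center (P : Subgroup (MulAction.stabilizer X a)))
  obtain ⟨k, hk⟩ := P.2 z
  obtain ⟨j, hj, hlast⟩ : ∃ j, z ^ p ^ j ≠ 1 ∧ (z ^ p ^ j) ^ p = 1 := by
    classical
    have hex : ∃ j, z ^ p ^ j = 1 := ⟨k, hk⟩
    obtain ⟨j, hj⟩ : ∃ j, Nat.find hex = j + 1 := by
      refine Nat.exists_eq_succ_of_ne_zero fun h0 => hz1 (Subtype.ext ?_)
      have := Nat.find_spec hex
      rw [h0, pow_zero, pow_one] at this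
      exact this
    refine ⟨j, Nat.find_min hex (by omega), ?_⟩
    rw [← pow_mul, ← pow_succ, ← hj]
    exact Nat.find_spec hex
  have hmem : (((z ^ p ^ j : (P : Subgroup (MulAction.stabilizer X a))) : MulAction.stabilizer X a) : X) ∈
      vertexZ p a := by
    refine Subgroup.mem_iSup_of_mem P (Subgroup.subset_closure ⟨⟨⟨_, (z ^ p ^ j).2, rfl⟩, ?_⟩, ?_⟩)
    · refine Subgroup.mem_centralizer_iff.2 ?_
      rintro _ ⟨y, hy, rfl⟩
      have := Subgroup.mem_center_iff.1 (pow_mem hz (p ^ j)) ⟨y, hy⟩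
      exact congrArg (fun t : (P : Subgroup (MulAction.stabilizer X a)) =>
        ((t : MulAction.stabilizer X a) : X)) this
    · have := congrArg (fun t : (P : Subgroup (MulAction.stabilizer X a)) =>
        ((t : MulAction.stabilizer X a) : X)) hlast
      simpa using this
  rw [hbot, Subgroup.mem_bot] at hmem
  exact hj (Subtype.ext (Subtype.ext hmem))

/-- The residual of `O^{p'}` is transitive on the neighbours. -/
theorem residual_transitive (h : IsSpeAmalgamPair p M₁ M₂) {δ μ ν : CosetVertex M₁ M₂}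
    (hadj : (cosetGraph M₁ M₂).Adj δ μ) (hν : (cosetGraph M₁ M₂).Adj δ ν) :
    ∃ l ∈ (pResidual p ↥(pElementClosure p (MulAction.stabilizer X δ))).map
      (pElementClosure p (MulAction.stabilizer X δ)).subtype,
      l • μ = ν ∧ l • δ = δ := by
  obtain ⟨T, hT⟩ := exists_maxPSub_edge h.1 δ μ
  obtain ⟨hTδ, -⟩ := maxPSub_edge h.1 hadj hT
  haveI := finite_stabilizer h.1 δ
  set K := pElementClosure p (MulAction.stabilizer X δ) with hK
  have hKH : K ≤ MulAction.stabilizer X δ := (Subgroup.closure_le _).2 fun x hx => hx.1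
  haveI : Finite K := Finite.of_injective _ (Subgroup.inclusion_injective hKH)
  have hTK : T ≤ K := le_pElementClosure_of_isPGroup hTδ.2.1 hTδ.1
  obtain ⟨P, hP⟩ := (hTδ.of_le hTK hKH).exists_sylow
  obtain ⟨g, hg, hgμ⟩ := pElementClosure_transitive h hadj hT hν
  obtain ⟨l, hl, t, ht, hlt⟩ : ∃ l ∈ pResidual p ↥K, ∃ t ∈ (P : Subgroup ↥K), l * t = ⟨g, hg⟩ := by
    haveI : (pResidual p ↥K).Normal := CfsgLib.Transfer.pResidual_normal
    have : (⟨g, hg⟩ : ↥K) ∈ pResidual p ↥K ⊔ (P : Subgroup ↥K) := by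
      rw [sup_comm, CfsgLib.Transfer.sup_pResidual_eq_top P]; exact Subgroup.mem_top _
    exact Subgroup.mem_sup_of_normal_left.1 this
  refine ⟨l, ⟨l, hl, rfl⟩, ?_, MulAction.mem_stabilizer_iff.1 (hKH l.2)⟩
  have htT : (t : X) ∈ T := hP ▸ ⟨t, ht, rfl⟩
  have htμ : (t : X) • μ = μ := (hT.1 htT).2
  rw [← hgμ, show g = (l : X) * (t : X) from (congrArg Subtype.val hlt).symm, mul_smul, htμ]

/-- A subgroup normalized by both ends of an edge in `Q_δ` equal to `V^(n)` is impossible. -/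
theorem not_stable (h : IsSpeAmalgamPair p M₁ M₂) {lam μ : CosetVertex M₁ M₂} {n : ℕ}
    (hμ : (cosetGraph M₁ M₂).Adj lam μ) (hVQ : vertexVIter p M₁ M₂ n lam ≤ vertexQ p lam)
    (heq : vertexVIter p M₁ M₂ (n - 1) μ = vertexVIter p M₁ M₂ n lam) : False := by
  have hbot : vertexVIter p M₁ M₂ n lam = ⊥ := by
    refine eq_bot_of_transitive h.1.1 hμ ?_ ?_ ?_
    · have hQ := hVQ.trans (vertexQ_le_neighbourKernel h.1 lam)
      exact le_inf (hQ.trans inf_le_left)
        (hQ.trans (inf_le_right.trans ((iInf_le _ μ).trans (iInf_le _ hμ))))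
    · intro ν ν' hν hν'
      obtain ⟨g, hg, e⟩ := exists_stabilizer_transitive hν hν'
      exact ⟨g, ⟨stabilizer_le_normalizer h.1 n lam hg, hg⟩, e⟩
    · intro ν ν' hν hν'
      obtain ⟨g, hg, e⟩ := exists_stabilizer_transitive hν hν'
      exact ⟨g, ⟨heq ▸ stabilizer_le_normalizer h.1 (n - 1) μ hg, hg⟩, e⟩
  refine vertexZ_ne_bot h.1 lam (eq_bot_iff.2 (hbot ▸ ?_))
  exact le_iSup_of_le (⟨lam, by rw [SimpleGraph.dist_self]; exact Nat.zero_le _⟩ :
    {μ' : CosetVertex M₁ M₂ // (cosetGraph M₁ M₂).dist lam μ' ≤ n}) le_rfl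

/-- If the residual fixes `V^(n)` modulo `W`, each neighbour's part generates modulo `W`. -/
theorem iter_le_sup (h : IsSpeAmalgamPair p M₁ M₂) {lam μ : CosetVertex M₁ M₂} {n : ℕ} (hn : 1 ≤ n)
    (hμ : (cosetGraph M₁ M₂).Adj lam μ) {W : Subgroup X}
    (hW : ⁅vertexVIter p M₁ M₂ n lam, (pResidual p ↥(pElementClosure p (MulAction.stabilizer X lam))).map
      (pElementClosure p (MulAction.stabilizer X lam)).subtype⁆ ≤ W) :
    vertexVIter p M₁ M₂ n lam ≤ vertexVIter p M₁ M₂ (n - 1) μ ⊔ W := by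
  refine iter_le_iSup h.1 hn lam fun ν hν => ?_
  obtain ⟨l, hl, hlμ, -⟩ := residual_transitive h hμ hν
  rw [← hlμ, ← map_iter h.1]
  rintro _ ⟨x, hx, rfl⟩
  have hxV : x ∈ vertexVIter p M₁ M₂ n lam :=
    iter_le_succ h.1 (by rw [SimpleGraph.dist_eq_one_iff_adj.2 hμ]; omega) hx
  show l * x * l⁻¹ ∈ _
  rw [show l * x * l⁻¹ = ⁅x, l⁆⁻¹ * x by rw [commutatorElement_def]; group]
  exact mul_mem (Subgroup.mem_sup_right (inv_mem (hW (Subgroup.commutator_mem_commutator hxV hl))))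
    (Subgroup.mem_sup_left hx)

/-- A subgroup covering `V` modulo `[V, Q]` is everything. -/
theorem le_of_le_sup_commutator {Q V A : Subgroup X} [Group.IsNilpotent Q] (hVQ : V ≤ Q)
    (hQV : Q ≤ Subgroup.normalizer (V : Set X)) (hAV : A ≤ V) (hQA : Q ≤ Subgroup.normalizer (A : Set X))
    (hsup : V ≤ A ⊔ ⁅V, Q⁆) : V ≤ A := by
  let K : ℕ → Subgroup X := fun i => Nat.rec V (fun _ W => ⁅W, Q⁆) i
  have hKs : ∀ i, K (i + 1) = ⁅K i, Q⁆ := fun i => rfl
  have hKQ : ∀ i, Q ≤ Subgroup.normalizer (SetLike.coe (K i)) ∧ K i ≤ Q.lowerCentralSeries i := by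
    intro i
    induction i with
    | zero => exact ⟨hQV, hVQ⟩
    | succ i ih =>
      rw [hKs]
      refine ⟨fun q hq => ?_, Subgroup.commutator_mono ih.2 le_rfl⟩
      rw [Subgroup.mem_normalizer_iff_map_conj_eq, Subgroup.map_commutator,
        Subgroup.mem_normalizer_iff_map_conj_eq.1 (ih.1 hq),
        Subgroup.mem_normalizer_iff_map_conj_eq.1 (Subgroup.le_normalizer hq)]
  have key : ∀ i, V ≤ A ⊔ K i := by
    intro i
    induction i with
    | zero => exact le_sup_right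
    | succ i ih =>
      refine hsup.trans (sup_le le_sup_left ?_)
      rw [hKs, Subgroup.commutator_le]
      intro v hv q hq
      have hv' : v ∈ A ⊔ K i := ih hv
      rw [← SetLike.mem_coe, Subgroup.coe_mul_of_left_le_normalizer_right _ _
        ((hAV.trans hVQ).trans (hKQ i).1)] at hv'
      obtain ⟨a, ha, k, hk, rfl⟩ := hv'
      have haA : ⁅a, q⁆ ∈ A := by
        rw [commutatorElement_def, show a * q * a⁻¹ * q⁻¹ = a * (q * a⁻¹ * q⁻¹) by group]
        exact mul_mem ha ((Subgroup.mem_normalizer_iff.1 (hQA hq) a⁻¹).1 (inv_mem ha))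
      rw [show ⁅a * k, q⁆ = a * ⁅k, q⁆ * a⁻¹ * ⁅a, q⁆ by simp only [commutatorElement_def]; group]
      exact mul_mem (mul_mem (mul_mem (Subgroup.mem_sup_left ha)
        (Subgroup.mem_sup_right (Subgroup.commutator_mem_commutator hk hq))) (Subgroup.mem_sup_left (inv_mem ha)))
        (Subgroup.mem_sup_left haA)
  obtain ⟨c, hc⟩ := (Subgroup.isNilpotent_iff_lowerCentralSeries Q).1 ‹_›
  have := key c
  rwa [le_bot_iff.1 ((hKQ c).2.trans hc.le), sup_bot_eq] at this

end CfsgLib.LocalEven.Iter
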