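import Cfsg.Agent.Lib.LocalEven.AmalgamSylow

/-!
Consequences of the standing hypothesis on rank two amalgams.
-/

namespace CfsgLib.LocalEven

open Cfsg

variable {X : Type*} [Group X] {p : ℕ} [Fact p.Prime] {M₁ M₂ : Subgroup X}

omit [Fact p.Prime] in
theorem le_pElementClosure_of_isPGroup [Fact p.Prime] {P H : Subgroup X} (hP : IsPGroup p P)
    (hle : P ≤ H) : P ≤ pElementClosure p H := fun x hx => by
  obtain ⟨k, hk⟩ := IsPGroup.iff_orderOf.1 hP ⟨x, hx⟩
  exact Subgroup.subset_closure ⟨hle hx, k, by rw [← hk, Subgroup.orderOf_mk]⟩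

omit [Fact p.Prime] in
theorem le_normalizer_pElementClosure (p : ℕ) (H : Subgroup X) :
    H ≤ Subgroup.normalizer (pElementClosure p H : Set X) := by
  have key : ∀ g ∈ H, (pElementClosure p H).map (MulAut.conj g).toMonoidHom ≤ pElementClosure p H := by
    intro g hg
    rw [pElementClosure, MonoidHom.map_closure, Subgroup.closure_le]
    rintro _ ⟨x, ⟨hx, k, hk⟩, rfl⟩
    refine Subgroup.subset_closure ⟨?_, k, ?_⟩
    · exact H.mul_mem (H.mul_mem hg hx) (H.inv_mem hg)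
    · rw [← hk]
      exact orderOf_injective (MulAut.conj g).toMonoidHom (MulAut.conj g).injective x
  intro g hg
  rw [Subgroup.mem_normalizer_iff]
  refine fun x => ⟨fun hx => key g hg ⟨x, hx, rfl⟩, fun hx => ?_⟩
  have := key g⁻¹ (H.inv_mem hg) ⟨_, hx, rfl⟩
  simpa [mul_assoc] using this

/-- `N_{G_δ}(T) ≤ G_μ`. -/
theorem stabilizer_inf_normalizer_le (h : IsSpeAmalgamPair p M₁ M₂) {δ μ : CosetVertex M₁ M₂}
    (hadj : (cosetGraph M₁ M₂).Adj δ μ) {T : Subgroup X} (hT : IsMaxPSub p T (edgeStabilizer δ μ)) :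
    MulAction.stabilizer X δ ⊓ Subgroup.normalizer (T : Set X) ≤ MulAction.stabilizer X μ := by
  obtain ⟨hch, hS, -, -⟩ := h
  have : Finite (M₁ ⊓ M₂ : Subgroup X) := have := hch.2.1
    Finite.of_injective _ (Subgroup.inclusion_injective (inf_le_left : M₁ ⊓ M₂ ≤ M₁))
  obtain ⟨g, hg⟩ := exists_smul_of_adj hadj
  intro x hx
  have hT0 := hT.map_equiv (MulAut.conj g⁻¹)
  rw [← edgeStabilizer_smul] at hT0
  have hxn : g⁻¹ * x * g ∈
      Subgroup.normalizer ((T.map (MulAut.conj g⁻¹).toMonoidHom : Subgroup X) : Set X) := by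
    apply mem_normalizer_of_conj
    have hxT := conj_map_eq_of_mem_normalizer hx.2
    conv_rhs => rw [← hxT]
    rw [Subgroup.map_map, Subgroup.map_map]
    congr 1
    ext y
    simp [mul_assoc]
  have hxs : g⁻¹ * x * g ∈ MulAction.stabilizer X (g⁻¹ • δ) := by
    rw [MulAction.mem_stabilizer_iff, mul_smul, mul_smul, smul_inv_smul,
      MulAction.mem_stabilizer_iff.1 hx.1]
  have goal : g⁻¹ * x * g ∈ MulAction.stabilizer X (g⁻¹ • μ) := by
    rcases hg with ⟨rfl, rfl⟩ | ⟨rfl, rfl⟩ <;> rw [inv_smul_smul] at hxs ⊢ <;>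
      rw [inv_smul_smul, inv_smul_smul, edgeStabilizer, stabilizer_inl_one, stabilizer_inr_one] at hT0 <;>
      rw [stabilizer_inl_one, stabilizer_inr_one] at *
    · obtain ⟨S, hS'⟩ := hT0.exists_sylow
      exact ((hS S).2 ⟨hxs, by rw [hS']; exact hxn⟩).2
    · rw [inf_comm] at hT0
      obtain ⟨S, hS'⟩ := hT0.exists_sylow
      exact ((hS S).2 ((hS S).1.ge ⟨hxs, by rw [hS']; exact hxn⟩)).1
  rw [MulAction.mem_stabilizer_iff, mul_smul, mul_smul, smul_inv_smul] at goal
  exact smul_left_cancel _ goal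

theorem pElementClosure_transitive (h : IsSpeAmalgamPair p M₁ M₂) {δ μ ν : CosetVertex M₁ M₂}
    (hadj : (cosetGraph M₁ M₂).Adj δ μ) {T : Subgroup X} (hT : IsMaxPSub p T (edgeStabilizer δ μ))
    (hν : (cosetGraph M₁ M₂).Adj δ ν) :
    ∃ g ∈ pElementClosure p (MulAction.stabilizer X δ), g • μ = ν := by
  have hmax := (maxPSub_edge h.1 hadj hT).1
  have := finite_stabilizer h.1 δ
  obtain ⟨g, hg, rfl⟩ := exists_stabilizer_transitive hadj hν
  set H := MulAction.stabilizer X δ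
  obtain ⟨S, hS⟩ := hmax.exists_sylow
  set K := pElementClosure p H
  have hKH : K ≤ H := (Subgroup.closure_le _).2 fun x hx => hx.1
  have hKn : (K.subgroupOf H).Normal :=
    (Subgroup.normal_subgroupOf_iff_le_normalizer hKH).2 (le_normalizer_pElementClosure p H)
  have hSK : (S : Subgroup H) ≤ K.subgroupOf H := fun s hs =>
    le_pElementClosure_of_isPGroup hmax.2.1 hmax.1 (hS ▸ ⟨s, hs, rfl⟩)
  have hgH : (⟨g, hg⟩ : H)⁻¹ ∈
      Subgroup.normalizer ((S : Subgroup H) : Set H) ⊔ K.subgroupOf H := by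
    have e := Sylow.normalizer_sup_eq_top' S hSK
    exact e.ge (Subgroup.mem_top _)
  obtain ⟨a, ha, b, hb, hab⟩ := Subgroup.mem_sup_of_normal_right.1 hgH
  refine ⟨(b : X)⁻¹, K.inv_mem hb, ?_⟩
  have hav : (a : X) ∈ H ⊓ Subgroup.normalizer (T : Set X) := by
    refine ⟨a.2, mem_normalizer_of_conj ?_⟩
    have e : a • S = S := Sylow.smul_eq_iff_mem_normalizer.2 ha
    rw [← hS, conj_sylow_map, e]
  have e2 : g = (b : X)⁻¹ * (a : X)⁻¹ := by
    have := congrArg (fun z : H => (z : X)⁻¹) hab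
    simpa using this.symm
  rw [e2, mul_smul, MulAction.mem_stabilizer_iff.1
    (Subgroup.inv_mem _ (stabilizer_inf_normalizer_le h hadj hT hav))]

end CfsgLib.LocalEven
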