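import Cfsg.Agent.Lib.LocalEven.CharP

/-!
Inheritance of characteristic `p` and stability of series.
-/

namespace CfsgLib.LocalEven

variable {G : Type*} [Group G] {p : ℕ}

theorem map_pCore_le_of_surjective {H : Type*} [Group H] (f : G →* H) (hf : Function.Surjective f) :
    (Cfsg.pCore p G).map f ≤ Cfsg.pCore p H := by
  rw [Subgroup.map_le_iff_le_comap]
  refine sSup_le fun N hN => ?_
  rw [← Subgroup.map_le_iff_le_comap]
  exact le_pCore (Subgroup.Normal.map hN.1 _ hf) (hN.2.map _)

theorem map_pCore_equiv {H : Type*} [Group H] (e : G ≃* H) :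
    (Cfsg.pCore p G).map e.toMonoidHom = Cfsg.pCore p H := by
  refine le_antisymm (map_pCore_le_of_surjective _ e.surjective) fun y hy => ?_
  exact ⟨e.symm y, map_pCore_le_of_surjective (p := p) e.symm.toMonoidHom e.symm.surjective
    ⟨y, hy, rfl⟩, e.apply_symm_apply y⟩

/-- Characteristic `p` is invariant under isomorphisms. -/
theorem charP_equiv {H : Type*} [Group H] (e : G ≃* H)
    (h : Subgroup.centralizer (Cfsg.pCore p G : Set G) ≤ Cfsg.pCore p G) :
    Subgroup.centralizer (Cfsg.pCore p H : Set H) ≤ Cfsg.pCore p H := by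
  intro y hy
  rw [← map_pCore_equiv e] at hy ⊢
  refine ⟨e.symm y, h ?_, e.apply_symm_apply y⟩
  intro x hx
  apply e.injective
  simpa using hy (e x) ⟨x, hx, rfl⟩

/-- Normal subgroups inherit characteristic `p`. -/
theorem charP_normal [Finite G] [Fact p.Prime]
    (hG : Subgroup.centralizer (Cfsg.pCore p G : Set G) ≤ Cfsg.pCore p G) {N : Subgroup G}
    (hN : N.Normal) : Subgroup.centralizer (Cfsg.pCore p N : Set N) ≤ Cfsg.pCore p N :=
  charP_of_pCore_le_normalizer hG N (by rw [Subgroup.normalizer_eq_top_iff.2 hN]; exact le_top)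

/-- Subnormal subgroups inherit characteristic `p`. -/
theorem charP_subnormal [Finite G] [Fact p.Prime]
    (hG : Subgroup.centralizer (Cfsg.pCore p G : Set G) ≤ Cfsg.pCore p G) {N : Subgroup G}
    (hN : N.IsSubnormal) : Subgroup.centralizer (Cfsg.pCore p N : Set N) ≤ Cfsg.pCore p N := by
  induction hN with
  | top => exact charP_equiv Subgroup.topEquiv.symm hG
  | step A B hle hB hAB ih =>
    exact charP_equiv (Subgroup.subgroupOfEquivOfLe hle) (charP_normal ih hAB)

theorem commutator_comm_mem {A L : Subgroup G} {x l : G} (hx : x ∈ A) (hl : l ∈ L) :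
    l * x * l⁻¹ * x⁻¹ ∈ ⁅A, L⁆ := by
  have h := Subgroup.commutator_mem_commutator hx hl
  rw [commutatorElement_def] at h
  have := Subgroup.inv_mem _ h
  simpa [mul_assoc] using this

/-- Stability of a series: if `L` centralizes the factors of a series from `⊥` up to `A n`, all
inside a `p`-group, then a `p`-power of each element of `L` centralizes `A n`. -/
theorem exists_pow_mem_centralizer_series [Finite G] [Fact p.Prime] {P : Subgroup G}
    (hP : IsPGroup p P) {L : Subgroup G} (n : ℕ) (A : ℕ → Subgroup G) (h0 : A 0 = ⊥)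
    (hAP : ∀ i < n, A i ≤ P)
    (hc : ∀ i < n, ⁅A (i + 1), L⁆ ≤ A i) {l : G} (hl : l ∈ L) :
    ∃ k, l ^ p ^ k ∈ Subgroup.centralizer (A n : Set G) := by
  induction n with
  | zero =>
    refine ⟨0, ?_⟩
    intro x hx
    have : x = 1 := by rw [h0] at hx; exact hx
    simp [this]
  | succ n ih =>
    obtain ⟨k, hk⟩ := ih (fun i hi => hAP i (by omega)) (fun i hi => hc i (by omega))
    obtain ⟨m, hm⟩ := exists_pow_mem_centralizer (A := (A (n + 1) : Set G)) (c := l ^ p ^ k)
      (hP.to_le (hAP n (by omega)))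
      (fun x hx => hc n (by omega) (commutator_comm_mem hx (L.pow_mem hl _))) hk
    exact ⟨k + m, by rwa [pow_add, pow_mul]⟩

/-- If `L` stabilizes a series of the `p`-group `R` and `C(R) ≤ Q`, a `p`-group, then `L` is a
`p`-group. -/
theorem isPGroup_of_series [Finite G] [Fact p.Prime] {P Q : Subgroup G} (hP : IsPGroup p P)
    (hQ : IsPGroup p Q) {L : Subgroup G} (n : ℕ) (A : ℕ → Subgroup G) (h0 : A 0 = ⊥)
    (hAP : ∀ i < n, A i ≤ P) (hc : ∀ i < n, ⁅A (i + 1), L⁆ ≤ A i)
    (hQA : L ⊓ Subgroup.centralizer (A n : Set G) ≤ Q) : IsPGroup p L :=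
  isPGroup_of_pow_mem hQ fun _ hl =>
    (exists_pow_mem_centralizer_series hP n A h0 hAP hc hl).imp fun _ hk =>
      hQA ⟨L.pow_mem hl _, hk⟩

theorem iterCommutator_le {R L : Subgroup G} (hL : L ≤ Subgroup.normalizer (R : Set G)) :
    ∀ i, Cfsg.iterCommutator R L i ≤ R
  | 0 => le_rfl
  | i + 1 => by
    refine Subgroup.commutator_le.2 fun a ha b hb => ?_
    rw [commutatorElement_def]
    have := commElem_mem_left (iterCommutator_le hL i ha) (hL hb)
    simpa [mul_assoc] using R.inv_mem this

/-- A group acting nilpotently on a self-centralizing `p`-subgroup is a `p`-group. -/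
theorem isPGroup_of_nilpotent_action [Finite G] [Fact p.Prime] {R L : Subgroup G}
    (hR : IsPGroup p R) (hC : L ⊓ Subgroup.centralizer (R : Set G) ≤ R)
    (hL : L ≤ Subgroup.normalizer (R : Set G)) {n : ℕ} (hn : Cfsg.iterCommutator R L n = ⊥) :
    IsPGroup p L := by
  refine isPGroup_of_series hR hR n (fun i => Cfsg.iterCommutator R L (n - i)) (by simpa using hn)
    (fun i _ => iterCommutator_le hL _) ?_ (by simpa [Cfsg.iterCommutator] using hC)
  intro i hi
  have : n - i = n - (i + 1) + 1 := by omega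
  rw [this, Cfsg.iterCommutator]

end CfsgLib.LocalEven
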