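import Cfsg.Agent.Lib.LocalEven.AmalgamGraph
import Cfsg.Agent.Lib.LocalEven.CharP2
import Cfsg.Agent.Lib.Base.Cores

/-!
Sylow subgroups of edge and vertex stabilizers of a characteristic `p` amalgam.
-/

namespace CfsgLib.LocalEven

open Cfsg

/-- `P` is a `p`-subgroup of `H` of largest possible order. -/
def IsMaxPSub {G : Type*} [Group G] (p : ℕ) (P H : Subgroup G) : Prop :=
  P ≤ H ∧ IsPGroup p P ∧ ∀ Q : Subgroup G, Q ≤ H → IsPGroup p Q → Nat.card Q ≤ Nat.card P

section
variable {G : Type*} [Group G] {p : ℕ} [Fact p.Prime] {H K P P' : Subgroup G}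

theorem isMaxPSub_sylow [Finite H] (S : Sylow p H) :
    IsMaxPSub p ((S : Subgroup H).map H.subtype) H := by
  refine ⟨Subgroup.map_subtype_le _, S.isPGroup'.map _, fun Q hQ hp => ?_⟩
  obtain ⟨R, hR⟩ := hp.comap_subtype (K := H) |>.exists_le_sylow
  calc Nat.card Q = Nat.card (Q.subgroupOf H) :=
        (Nat.card_congr (Subgroup.subgroupOfEquivOfLe hQ).toEquiv).symm
    _ ≤ Nat.card (R : Subgroup H) := Subgroup.card_le_of_le hR
    _ = Nat.card (S : Subgroup H) := by
        rw [Sylow.card_eq_multiplicity, Sylow.card_eq_multiplicity]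
    _ = Nat.card ((S : Subgroup H).map H.subtype) :=
        (Subgroup.card_map_of_injective H.subtype_injective).symm

theorem IsMaxPSub.exists_sylow [Finite H] (h : IsMaxPSub p P H) :
    ∃ S : Sylow p H, (S : Subgroup H).map H.subtype = P := by
  obtain ⟨S, hS⟩ := h.2.1.comap_subtype (K := H) |>.exists_le_sylow
  refine ⟨S, ?_⟩
  have hle : P ≤ (S : Subgroup H).map H.subtype := by
    have := Subgroup.map_mono (f := H.subtype) hS
    exact (Subgroup.map_subgroupOf_eq_of_le h.1).symm.le.trans this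
  have : Finite ((S : Subgroup H).map H.subtype) :=
    Finite.of_equiv _ ((S : Subgroup H).equivMapOfInjective _ H.subtype_injective).toEquiv
  exact (Subgroup.eq_of_le_of_card_ge hle
    (h.2.2 _ (Subgroup.map_subtype_le _) (S.isPGroup'.map _))).symm

omit [Fact p.Prime] in
theorem IsMaxPSub.map_equiv (h : IsMaxPSub p P H) {G' : Type*} [Group G'] (e : G ≃* G') :
    IsMaxPSub p (P.map e.toMonoidHom) (H.map e.toMonoidHom) := by
  refine ⟨Subgroup.map_mono h.1, h.2.1.map _, fun Q hQ hp => ?_⟩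
  have h1 : Q.map e.symm.toMonoidHom ≤ H := by
    rintro _ ⟨q, hq, rfl⟩
    obtain ⟨x, hx, rfl⟩ := hQ hq
    simpa using hx
  calc Nat.card Q = Nat.card (Q.map e.symm.toMonoidHom) :=
        (Subgroup.card_map_of_injective e.symm.injective).symm
    _ ≤ Nat.card P := h.2.2 _ h1 (hp.map _)
    _ = Nat.card (P.map e.toMonoidHom) := (Subgroup.card_map_of_injective e.injective).symm

omit [Fact p.Prime] in
theorem IsMaxPSub.of_le (h : IsMaxPSub p P H) (hPK : P ≤ K) (hKH : K ≤ H) : IsMaxPSub p P K :=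
  ⟨hPK, h.2.1, fun Q hQ hp => h.2.2 Q (hQ.trans hKH) hp⟩

omit [Fact p.Prime] in
theorem IsMaxPSub.extend (h : IsMaxPSub p P H) (hPK : P ≤ K) (hKH : K ≤ H)
    (h' : IsMaxPSub p P' K) : IsMaxPSub p P' H :=
  ⟨h'.1.trans hKH, h'.2.1, fun Q hQ hp => (h.2.2 Q hQ hp).trans (h'.2.2 P hPK h.2.1)⟩

theorem IsMaxPSub.pCoreOf_le [Finite H] (h : IsMaxPSub p P H) : pCoreOf p H ≤ P := by
  obtain ⟨S, rfl⟩ := h.exists_sylow
  exact Subgroup.map_mono (pCore_le_sylow S)

theorem IsMaxPSub.exists_conj [Finite H] (h : IsMaxPSub p P H) (h' : IsMaxPSub p P' H) :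
    ∃ g ∈ H, P.map (MulAut.conj g).toMonoidHom = P' := by
  obtain ⟨S, rfl⟩ := h.exists_sylow
  obtain ⟨S', rfl⟩ := h'.exists_sylow
  obtain ⟨g, rfl⟩ := MulAction.exists_smul_eq H S S'
  exact ⟨g, g.2, conj_sylow_map S g⟩

theorem IsMaxPSub.omegaCenter_le_closure [Finite H] (h : IsMaxPSub p P H) :
    omegaOne p (P ⊓ Subgroup.centralizer (P : Set G)) ≤ sylowCenterClosure p H := by
  obtain ⟨S, rfl⟩ := h.exists_sylow
  exact le_iSup_of_le S le_rfl

end

variable {X : Type*} [Group X] {p : ℕ} [Fact p.Prime] {M₁ M₂ : Subgroup X}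

omit [Fact p.Prime] in
theorem finite_map {H : Subgroup X} [Finite H] (f : X →* X) : Finite (H.map f) :=
  Finite.of_surjective (f.subgroupMap H) (f.subgroupMap_surjective H)

omit [Fact p.Prime] in
theorem finite_stabilizer (h : IsCharPAmalgamPair p M₁ M₂) (δ : CosetVertex M₁ M₂) :
    Finite (MulAction.stabilizer X δ) := by
  have := h.2.1
  have := h.2.2.1
  rcases δ with δ | δ <;> induction δ using QuotientGroup.induction_on with
  | H x => first
    | (rw [stabilizer_inl]; exact finite_map _)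
    | (rw [stabilizer_inr]; exact finite_map _)

omit [Fact p.Prime] in
theorem charP_map_equiv {G G' : Type*} [Group G] [Group G'] {H : Subgroup G} (f : G →* G')
    (hf : Function.Injective f) (h : Subgroup.centralizer (pCore p H : Set H) ≤ pCore p H) :
    Subgroup.centralizer (pCore p (H.map f) : Set (H.map f)) ≤ pCore p (H.map f) :=
  charP_equiv (H.equivMapOfInjective f hf) h

omit [Fact p.Prime] in
theorem charP_stabilizer (h : IsCharPAmalgamPair p M₁ M₂) (δ : CosetVertex M₁ M₂) :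
    Subgroup.centralizer (pCore p (MulAction.stabilizer X δ) : Set (MulAction.stabilizer X δ)) ≤
      pCore p (MulAction.stabilizer X δ) := by
  obtain ⟨-, -, -, -, -, -, h1, h2⟩ := h
  rcases δ with δ | δ <;> induction δ using QuotientGroup.induction_on with
  | H x => first
    | (rw [stabilizer_inl]; exact charP_map_equiv _ (MulAut.conj x).injective h1)
    | (rw [stabilizer_inr]; exact charP_map_equiv _ (MulAut.conj x).injective h2)

theorem exists_maxPSub_inf (h : IsCharPAmalgamPair p M₁ M₂) {P : Subgroup X}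
    (hP : IsMaxPSub p P (M₁ ⊓ M₂)) : IsMaxPSub p P M₁ ∧ IsMaxPSub p P M₂ := by
  obtain ⟨-, f1, f2, -, -, hS, -, -⟩ := h
  have : Finite (M₁ ⊓ M₂ : Subgroup X) :=
    Finite.of_injective _ (Subgroup.inclusion_injective (inf_le_left : M₁ ⊓ M₂ ≤ M₁))
  obtain ⟨S, hSP⟩ := hP.exists_sylow
  obtain ⟨P₁⟩ : Nonempty (Sylow p M₁) := inferInstance
  obtain ⟨P₂⟩ : Nonempty (Sylow p M₂) := inferInstance
  obtain ⟨e1, e2⟩ := hS S P₁ P₂
  have hc : Nat.card P = Nat.card (S : Subgroup (M₁ ⊓ M₂ : Subgroup X)) := by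
    rw [← hSP]; exact Subgroup.card_map_of_injective (Subgroup.subtype_injective _)
  refine ⟨⟨hP.1.trans inf_le_left, hP.2.1, fun Q hQ hp => ?_⟩,
    ⟨hP.1.trans inf_le_right, hP.2.1, fun Q hQ hp => ?_⟩⟩
  · refine ((isMaxPSub_sylow P₁).2.2 Q hQ hp).trans (le_of_eq ?_)
    rw [hc, Subgroup.card_map_of_injective (Subgroup.subtype_injective _)]
    exact e1.symm
  · refine ((isMaxPSub_sylow P₂).2.2 Q hQ hp).trans (le_of_eq ?_)
    rw [hc, Subgroup.card_map_of_injective (Subgroup.subtype_injective _)]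
    exact e2.symm

omit [Fact p.Prime] in
theorem finite_edgeStabilizer (h : IsCharPAmalgamPair p M₁ M₂) (δ μ : CosetVertex M₁ M₂) :
    Finite (edgeStabilizer δ μ) :=
  have := finite_stabilizer h δ
  Finite.of_injective _ (Subgroup.inclusion_injective (inf_le_left :
    edgeStabilizer δ μ ≤ MulAction.stabilizer X δ))

/-- A Sylow subgroup of an edge stabilizer is a Sylow subgroup of both vertex stabilizers. -/
theorem maxPSub_edge (h : IsCharPAmalgamPair p M₁ M₂) {δ μ : CosetVertex M₁ M₂}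
    (hadj : (cosetGraph M₁ M₂).Adj δ μ) {P : Subgroup X}
    (hP : IsMaxPSub p P (edgeStabilizer δ μ)) :
    IsMaxPSub p P (MulAction.stabilizer X δ) ∧ IsMaxPSub p P (MulAction.stabilizer X μ) := by
  have : Finite (M₁ ⊓ M₂ : Subgroup X) := have := h.2.1
    Finite.of_injective _ (Subgroup.inclusion_injective (inf_le_left : M₁ ⊓ M₂ ≤ M₁))
  obtain ⟨S₀⟩ : Nonempty (Sylow p (M₁ ⊓ M₂ : Subgroup X)) := inferInstance
  have hb := isMaxPSub_sylow S₀
  obtain ⟨hb1, hb2⟩ := exists_maxPSub_inf h hb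
  have hb0 : (S₀ : Subgroup (M₁ ⊓ M₂ : Subgroup X)).map (M₁ ⊓ M₂).subtype ≤ M₁ ⊓ M₂ := hb.1
  obtain ⟨g, ⟨rfl, rfl⟩ | ⟨rfl, rfl⟩⟩ := exists_smul_of_adj hadj
  · have k1 := hb1.map_equiv (MulAut.conj g)
    have k2 := hb2.map_equiv (MulAut.conj g)
    have k0 := Subgroup.map_mono (f := (MulAut.conj g).toMonoidHom) hb0
    rw [edgeStabilizer_smul] at hP
    simp only [MulAction.stabilizer_smul_eq_stabilizer_map_conj, edgeStabilizer, stabilizer_inl_one,
      stabilizer_inr_one] at hP ⊢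
    exact ⟨k1.extend k0 (Subgroup.map_mono inf_le_left) hP,
      k2.extend k0 (Subgroup.map_mono inf_le_right) hP⟩
  · have k1 := hb1.map_equiv (MulAut.conj g)
    have k2 := hb2.map_equiv (MulAut.conj g)
    have k0 := Subgroup.map_mono (f := (MulAut.conj g).toMonoidHom) hb0
    rw [edgeStabilizer_smul] at hP
    simp only [MulAction.stabilizer_smul_eq_stabilizer_map_conj, edgeStabilizer, stabilizer_inl_one,
      stabilizer_inr_one] at hP ⊢
    rw [inf_comm] at hP
    exact ⟨k2.extend k0 (Subgroup.map_mono inf_le_right) hP,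
      k1.extend k0 (Subgroup.map_mono inf_le_left) hP⟩

theorem exists_maxPSub_edge (h : IsCharPAmalgamPair p M₁ M₂) (δ μ : CosetVertex M₁ M₂) :
    ∃ P, IsMaxPSub p P (edgeStabilizer δ μ) := by
  have := finite_edgeStabilizer h δ μ
  obtain ⟨S⟩ : Nonempty (Sylow p (edgeStabilizer δ μ)) := inferInstance
  exact ⟨_, isMaxPSub_sylow S⟩

theorem vertexQ_le_neighbourKernel (h : IsCharPAmalgamPair p M₁ M₂) (δ : CosetVertex M₁ M₂) :
    vertexQ p δ ≤ neighbourKernel δ := by
  refine le_inf (pCoreOf_le p _) (le_iInf fun μ => le_iInf fun hμ => ?_)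
  obtain ⟨P, hP⟩ := exists_maxPSub_edge h δ μ
  have := finite_stabilizer h δ
  exact (maxPSub_edge h hμ hP).1.pCoreOf_le.trans (hP.1.trans inf_le_right)

theorem vertexZ_le_vertexQ (h : IsCharPAmalgamPair p M₁ M₂) (δ : CosetVertex M₁ M₂) :
    vertexZ p δ ≤ vertexQ p δ := by
  have := finite_stabilizer h δ
  exact iSup_le fun S => (omegaCenter_sylow_le (charP_stabilizer h δ) S).trans
    ((omegaOne_le p _).trans inf_le_left)

omit [Fact p.Prime] in
theorem stabilizer_le_normalizer_vertexZ (δ : CosetVertex M₁ M₂) :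
    MulAction.stabilizer X δ ≤ Subgroup.normalizer (vertexZ p δ : Set X) :=
  le_normalizer_sylowCenterClosure _

omit [Fact p.Prime] in
theorem vertexZ_le_neighbourKernel_of_dist_lt {δ μ : CosetVertex M₁ M₂}
    (h : (cosetGraph M₁ M₂).dist δ μ < criticalDistance p M₁ M₂) :
    vertexZ p δ ≤ neighbourKernel μ := by
  by_contra hn
  exact not_le.2 h (Nat.sInf_le ⟨δ, μ, rfl, hn⟩)

theorem criticalDistance_pos (h : IsCharPAmalgamPair p M₁ M₂) {α α' : CosetVertex M₁ M₂}
    (hc : IsCriticalPair p α α') : 0 < criticalDistance p M₁ M₂ := by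
  rw [Nat.pos_iff_ne_zero]
  intro h0
  obtain ⟨hn, hd⟩ := hc
  rw [h0, (cosetGraph_connected h.1.1).dist_eq_zero_iff] at hd
  subst hd
  exact hn ((vertexZ_le_vertexQ h α).trans (vertexQ_le_neighbourKernel h α))

omit [Fact p.Prime] in
theorem exists_adj_dist_succ (hconn : (cosetGraph M₁ M₂).Connected) {a b : CosetVertex M₁ M₂}
    (hne : (cosetGraph M₁ M₂).dist a b ≠ 0) :
    ∃ c, (cosetGraph M₁ M₂).Adj a c ∧
      (cosetGraph M₁ M₂).dist c b + 1 = (cosetGraph M₁ M₂).dist a b := by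
  obtain ⟨w, hw⟩ := hconn.exists_walk_length_eq_dist a b
  cases w with
  | nil => exact absurd hw.symm hne
  | @cons _ c _ hac w =>
    refine ⟨c, hac, le_antisymm ?_ ?_⟩
    · rw [← hw, SimpleGraph.Walk.length_cons]
      exact Nat.add_le_add_right (SimpleGraph.dist_le w) 1
    · have h1 := hconn.dist_triangle (u := a) (v := c) (w := b)
      rw [SimpleGraph.dist_eq_one_iff_adj.2 hac] at h1
      omega

theorem vertexZ_le_stabilizer_of_dist_le (h : IsCharPAmalgamPair p M₁ M₂)
    (hb : 0 < criticalDistance p M₁ M₂) {δ μ : CosetVertex M₁ M₂}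
    (hd : (cosetGraph M₁ M₂).dist δ μ ≤ criticalDistance p M₁ M₂) :
    vertexZ p δ ≤ MulAction.stabilizer X μ := by
  rcases lt_or_eq_of_le hd with hd | hd
  · exact (vertexZ_le_neighbourKernel_of_dist_lt hd).trans inf_le_left
  · obtain ⟨c, hc, hcd⟩ := exists_adj_dist_succ (cosetGraph_connected h.1.1) (a := μ) (b := δ)
      (by rw [SimpleGraph.dist_comm]; omega)
    have h2 : (cosetGraph M₁ M₂).dist δ c < criticalDistance p M₁ M₂ := by
      have e1 : (cosetGraph M₁ M₂).dist c δ = (cosetGraph M₁ M₂).dist δ c := SimpleGraph.dist_comm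
      have e2 : (cosetGraph M₁ M₂).dist μ δ = (cosetGraph M₁ M₂).dist δ μ := SimpleGraph.dist_comm
      omega
    exact (vertexZ_le_neighbourKernel_of_dist_lt h2).trans
      (inf_le_right.trans ((iInf_le _ μ).trans (iInf_le _ hc.symm)))

end CfsgLib.LocalEven
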