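import Cfsg.Agent.Lib.LocalEven.HFamily
import Cfsg.Agent.Lib.Base.Wielandt
import Cfsg.Agent.Lib.Base.Nilpotent
import Cfsg.Agent.Lib.Base.Cores
import Cfsg.Agent.Lib.PLocal.Constrained

/-!
The L-lemma for asymmetric `Y`: let `R` be a weakly closed `p`-subgroup of `H` containing and
centralising the abelian subgroup `Y`, with `N(R) ≤ N(Y)`, where `H` has characteristic `p`,
`Y ≰ O_p(H)` and `Y ≤ O_p(P)` for all proper subgroups `P` of `H` over `R`.  If `L ≤ H` is minimal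
over `Y` with `Y ≰ O_p(L)`, then `N_L(Y)` is the unique maximal subgroup of `L` over `Y` and
`Y ∩ O_p(L) ≤ O_p(H)`.
-/

set_option autoImplicit false
set_option linter.style.haveILetI false
set_option linter.unusedSectionVars false

namespace CfsgLib.LocalEven.AsymL

open Cfsg Subgroup
open CfsgLib.LocalEven.WeakClosureFactor
open scoped commutatorElement Pointwise

variable {G : Type*} [Group G] [Finite G] {p : ℕ} [Fact p.Prime]

/-- The conjugate `gXg⁻¹`. -/
abbrev cj (g : G) (X : Subgroup G) : Subgroup G := X.map (MulAut.conj g).toMonoidHom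

theorem mem_cj {g x : G} {X : Subgroup G} : x ∈ cj g X ↔ g⁻¹ * x * g ∈ X := by
  constructor
  · rintro ⟨y, hy, rfl⟩
    simpa [mul_assoc] using hy
  · exact fun h => ⟨_, h, by simp [mul_assoc]⟩

theorem cj_one (X : Subgroup G) : cj (1 : G) X = X := by
  ext x; simp [mem_cj]

theorem cj_cj (a b : G) (X : Subgroup G) : cj a (cj b X) = cj (a * b) X := by
  ext x; simp [mem_cj, mul_assoc]

theorem cj_of_mem {g : G} {X : Subgroup G} (hg : g ∈ normalizer (X : Set G)) : cj g X = X := by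
  ext x
  rw [mem_cj]
  have h := Subgroup.mem_normalizer_iff.1 (inv_mem hg) x
  simp only [inv_inv] at h
  exact h.symm

theorem cj_mono {X X' : Subgroup G} (g : G) (h : X ≤ X') : cj g X ≤ cj g X' := Subgroup.map_mono h

theorem cj_le {H X : Subgroup G} {g : G} (hg : g ∈ H) (h : X ≤ H) : cj g X ≤ H :=
  (cj_mono g h).trans (cj_of_mem (le_normalizer hg)).le

theorem cj_normalizer (g : G) (X : Subgroup G) :
    cj g (normalizer (X : Set G)) = normalizer ((cj g X : Subgroup G) : Set G) :=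
  Subgroup.map_equiv_normalizer_eq X (MulAut.conj g)

/-! ### Centralizers of sections -/

/-- The elements normalising `A` and `B` which centralise `A` modulo `B`. -/
def sect (A B : Subgroup G) : Subgroup G where
  carrier := {x | x ∈ normalizer (A : Set G) ∧ x ∈ normalizer (B : Set G) ∧
    ∀ a ∈ A, x * a * x⁻¹ * a⁻¹ ∈ B}
  one_mem' := ⟨one_mem _, one_mem _, fun a _ => by simp⟩
  mul_mem' := by
    rintro x y ⟨hxA, hxB, hx⟩ ⟨hyA, hyB, hy⟩
    refine ⟨mul_mem hxA hyA, mul_mem hxB hyB, fun a ha => ?_⟩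
    have h1 := B.mul_mem (hx _ ((Subgroup.mem_normalizer_iff.1 hyA a).1 ha)) (hy a ha)
    simpa [mul_assoc] using h1
  inv_mem' := by
    rintro x ⟨hxA, hxB, hx⟩
    refine ⟨inv_mem hxA, inv_mem hxB, fun a ha => ?_⟩
    have ha' : x⁻¹ * a * x ∈ A := by
      have h := (Subgroup.mem_normalizer_iff.1 (inv_mem hxA) a).1 ha
      simpa using h
    have h1 := B.inv_mem (hx _ ha')
    simpa [mul_assoc] using h1

theorem mem_sect {A B : Subgroup G} {x : G} : x ∈ sect A B ↔
    x ∈ normalizer (A : Set G) ∧ x ∈ normalizer (B : Set G) ∧ ∀ a ∈ A, x * a * x⁻¹ * a⁻¹ ∈ B :=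
  Iff.rfl

theorem conj_mem_sect {A B : Subgroup G} {n x : G} (hA : n ∈ normalizer (A : Set G))
    (hB : n ∈ normalizer (B : Set G)) (hx : x ∈ sect A B) : n * x * n⁻¹ ∈ sect A B := by
  obtain ⟨hxA, hxB, hx⟩ := hx
  refine ⟨mul_mem (mul_mem hA hxA) (inv_mem hA), mul_mem (mul_mem hB hxB) (inv_mem hB),
    fun a ha => ?_⟩
  have ha' : n⁻¹ * a * n ∈ A := by
    have h := (Subgroup.mem_normalizer_iff.1 (inv_mem hA) a).1 ha
    simpa using h
  have h1 := (Subgroup.mem_normalizer_iff.1 hB _).1 (hx _ ha')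
  simpa [mul_assoc] using h1

/-- An element of order prime to `p` centralising a `p`-group `B` and `A` modulo `B` centralises
`A`. -/
theorem mem_centralizer_of_stab {A B : Subgroup G} (hB : IsPGroup p B) {d : G}
    (hd : (orderOf d).Coprime p) (hdB : d ∈ centralizer (B : Set G))
    (hdA : ∀ a ∈ A, d * a * d⁻¹ * a⁻¹ ∈ B) : d ∈ centralizer (A : Set G) := by
  obtain ⟨k, hk⟩ := exists_pow_mem_centralizer (A := (A : Set G)) hB hdA hdB
  obtain ⟨m, hm⟩ := exists_pow_eq_self_of_coprime (hd.symm.pow_left k)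
  rw [← hm]
  exact pow_mem hk m

/-- In a `p`-group, `V ≤ [V, R] W` forces `V ≤ W` for normal `V`, `W`. -/
theorem le_of_le_commutator_sup {X : Type*} [Group X] [Finite X] (hX : IsPGroup p X)
    (V W R : Subgroup X) [V.Normal] [W.Normal] (h : V ≤ ⁅V, R⁆ ⊔ W) : V ≤ W := by
  set π := QuotientGroup.mk' W with hπ
  haveI := (hX.to_quotient W).isNilpotent
  have h1 : V.map π ≤ ⁅V.map π, (⊤ : Subgroup (X ⧸ W))⁆ := by
    refine (Subgroup.map_mono h).trans ?_
    rw [Subgroup.map_sup, Subgroup.map_commutator,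
      show W.map π = ⊥ by rw [Subgroup.map_eq_bot_iff, hπ, QuotientGroup.ker_mk'], sup_bot_eq]
    exact commutator_mono le_rfl le_top
  have h2 : V.map π = ⊥ := by
    obtain ⟨n, hn⟩ := Subgroup.nilpotent_iff_lowerCentralSeries.1 ‹Group.IsNilpotent (X ⧸ W)›
    have hle : ∀ m, V.map π ≤ (⊤ : Subgroup (X ⧸ W)).lowerCentralSeries m := by
      intro m
      induction m with
      | zero => exact le_top
      | succ m ih => exact h1.trans (commutator_mono ih le_rfl)
    exact le_bot_iff.1 (hn ▸ hle n)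
  rw [Subgroup.map_eq_bot_iff, hπ, QuotientGroup.ker_mk'] at h2
  exact h2

/-! ### Hypotheses -/

/-- The hypotheses on `H`, `R`, `Y`. -/
structure Setup (p : ℕ) (H R Y : Subgroup G) : Prop where
  Rp : IsPGroup p R
  YR : Y ≤ R
  RcY : R ≤ centralizer (Y : Set G)
  wc : IsWeaklyClosedSubgroup p R
  NR : normalizer (R : Set G) ≤ normalizer (Y : Set G)
  asym : ¬ IsSymmetricIn Y
  charP : H ⊓ centralizer (pCoreOf p H : Set G) ≤ pCoreOf p H
  RH : R ≤ H
  YH : ¬ Y ≤ pCoreOf p H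
  min : ∀ P : Subgroup G, R ≤ P → P < H → Y ≤ pCoreOf p P

/-- The hypotheses on `L`. -/
structure LMin (p : ℕ) (H Y L : Subgroup G) : Prop where
  LH : L ≤ H
  YL : Y ≤ L
  YO : ¬ Y ≤ pCoreOf p L
  min : ∀ X : Subgroup G, X ≤ L → Y ≤ X → ¬ Y ≤ pCoreOf p X → X = L

variable {H R Y L : Subgroup G}

namespace Setup

theorem Yp (s : Setup p H R Y) : IsPGroup p Y := s.Rp.to_le s.YR

theorem Ycomm (s : Setup p H R Y) {y y' : G} (hy : y ∈ Y) (hy' : y' ∈ Y) : y * y' = y' * y :=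
  (mem_centralizer_iff.1 (s.RcY (s.YR hy')) y hy)

theorem HQ (_s : Setup p H R Y) : H ≤ normalizer (pCoreOf p H : Set G) := le_normalizer_pCoreOf p H

theorem QR (s : Setup p H R Y) : pCoreOf p H ≤ normalizer (R : Set G) :=
  wc_normalized_le_normalizer s.wc (isPGroup_pCoreOf H) (s.RH.trans s.HQ)

theorem QY (s : Setup p H R Y) : pCoreOf p H ≤ normalizer (Y : Set G) := s.QR.trans s.NR

theorem RNY (s : Setup p H R Y) : R ≤ normalizer (Y : Set G) := Subgroup.le_normalizer.trans s.NR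

theorem YHle (s : Setup p H R Y) : Y ≤ H := s.YR.trans s.RH

theorem comm_mem (s : Setup p H R Y) {q y : G} (hq : q ∈ pCoreOf p H) (hy : y ∈ Y) :
    y * q * y⁻¹ * q⁻¹ ∈ Y ⊓ pCoreOf p H :=
  ⟨commElem_mem_right hy (s.QY hq), commElem_mem_left hq (s.HQ (s.YHle hy))⟩

/-- The group `Y ∩ O_p(H)` of a conjugate. -/
theorem cj_inf (s : Setup p H R Y) {h : G} (hh : h ∈ H) :
    cj h (Y ⊓ pCoreOf p H) = cj h Y ⊓ pCoreOf p H := by
  show Subgroup.map _ _ = _
  rw [Subgroup.map_inf _ _ _ (MulAut.conj h).injective]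
  exact congrArg _ (cj_of_mem (s.HQ hh))

theorem cj_QY (s : Setup p H R Y) {h : G} (hh : h ∈ H) :
    pCoreOf p H ≤ normalizer ((cj h Y : Subgroup G) : Set G) := by
  rw [← cj_normalizer]
  exact (cj_of_mem (s.HQ hh)).ge.trans (cj_mono h s.QY)

theorem commutator_le_centralizer (s : Setup p H R Y) :
    ⁅pCoreOf p H, R⁆ ≤ centralizer (Y : Set G) := by
  refine Subgroup.commutator_le.2 fun q hq r hr => mem_centralizer_iff.2 fun y hy => ?_
  have hy1 : q⁻¹ * y * q ∈ Y := by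
    have := (Subgroup.mem_normalizer_iff.1 (inv_mem (s.QY hq)) y).1 hy
    simpa using this
  have e1 : y * r = r * y := mem_centralizer_iff.1 (s.RcY hr) y hy
  have e2 : (q⁻¹ * y * q) * r = r * (q⁻¹ * y * q) := mem_centralizer_iff.1 (s.RcY hr) _ hy1
  have e1' : y * r⁻¹ = r⁻¹ * y := by
    calc y * r⁻¹ = r⁻¹ * (r * y) * r⁻¹ := by group
      _ = r⁻¹ * (y * r) * r⁻¹ := by rw [e1]
      _ = r⁻¹ * y := by group
  rw [commutatorElement_def]
  calc y * (q * r * q⁻¹ * r⁻¹) = q * ((q⁻¹ * y * q) * r) * q⁻¹ * r⁻¹ := by group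
    _ = q * (r * (q⁻¹ * y * q)) * q⁻¹ * r⁻¹ := by rw [e2]
    _ = q * r * q⁻¹ * (y * r⁻¹) := by group
    _ = q * r * q⁻¹ * (r⁻¹ * y) := by rw [e1']
    _ = q * r * q⁻¹ * r⁻¹ * y := by group

end Setup

namespace LMin

theorem core (l : LMin p H Y L) {X : Subgroup G} (hYX : Y ≤ X) (hXL : X < L) : Y ≤ pCoreOf p X := by
  by_contra h
  exact hXL.ne (l.min X hXL.le hYX h)

theorem not_normalizes (s : Setup p H R Y) (l : LMin p H Y L) : ¬ L ≤ normalizer (Y : Set G) :=
  fun h => l.YO (le_pCoreOf l.YL h s.Yp)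

theorem structureL (s : Setup p H R Y) (l : LMin p H Y L) :
    (Subgroup.normalClosure ((Y.subgroupOf L : Subgroup ↥L) : Set ↥L)).map L.subtype = L ∧
      pr p L ⊔ Y = L := by
  obtain ⟨h1, h2, -, -⟩ := HFamily.structure_of_member (O := Y) (Y := Y) (H := L) s.Yp le_rfl
    Subgroup.le_normalizer l.YL l.YO fun P hP hlt => l.core hP hlt
  exact ⟨h1, h2⟩

/-- There is a unique maximal subgroup of `L` containing `Y`. -/
theorem exists_max (s : Setup p H R Y) (l : LMin p H Y L) :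
    ∃ M₀ : Subgroup G, M₀ < L ∧ Y ≤ M₀ ∧ ∀ X : Subgroup G, Y ≤ X → X < L → X ≤ M₀ := by
  set A := Y.subgroupOf L with hA
  have hmapA : A.map L.subtype = Y := Subgroup.map_subgroupOf_eq_of_le l.YL
  have hAp : IsPGroup p A := s.Yp.comap_of_injective L.subtype L.subtype_injective
  have hlt : ∀ K : Subgroup ↥L, K ≠ ⊤ → K.map L.subtype < L := by
    intro K hK
    refine lt_of_le_of_ne (Subgroup.map_subtype_le K) fun e => hK ?_
    apply Subgroup.map_injective L.subtype_injective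
    rw [e, ← MonoidHom.range_eq_map, Subgroup.range_subtype]
  have hns : ¬ A.IsSubnormal := by
    intro h
    refine l.YO ?_
    rw [← hmapA]
    exact Subgroup.map_mono (CfsgLib.Base.le_pCore_of_isSubnormal h hAp)
  have hsub : ∀ K : Subgroup ↥L, A ≤ K → K ≠ ⊤ → CfsgLib.Base.IsSubnormalIn A K := by
    intro K hAK hK
    have h1 : Y ≤ pCoreOf p (K.map L.subtype) := l.core (hmapA ▸ Subgroup.map_mono hAK) (hlt K hK)
    rw [← map_pCoreOf p L.subtype L.subtype_injective K] at h1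
    have h2 : A ≤ pCoreOf p K := by
      intro a ha
      obtain ⟨b, hb, hba⟩ := h1 (show (a : G) ∈ Y from ha)
      rwa [← L.subtype_injective hba]
    haveI : Group.IsNilpotent ↥(pCoreOf p K) := (isPGroup_pCoreOf (p := p) K).isNilpotent
    refine CfsgLib.Base.IsSubnormalIn.trans (B := pCoreOf p K)
      ⟨h2, CfsgLib.Base.isSubnormal_of_isNilpotent _⟩ ⟨pCoreOf_le p K, ?_⟩
    exact ((Subgroup.normal_subgroupOf_iff_le_normalizer (pCoreOf_le p K)).2
      (le_normalizer_pCoreOf p K)).isSubnormal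
  have hAt : A ≠ ⊤ := fun h => hns (h ▸ Subgroup.IsSubnormal.top)
  obtain ⟨K₀, hK₀, hAK₀⟩ := (IsCoatomic.eq_top_or_exists_le_coatom A).resolve_left hAt
  refine ⟨K₀.map L.subtype, hlt K₀ hK₀.1, hmapA ▸ Subgroup.map_mono hAK₀, fun X hYX hXL => ?_⟩
  have hXt : X.subgroupOf L ≠ ⊤ := fun h => hXL.not_ge (Subgroup.subgroupOf_eq_top.1 h)
  obtain ⟨K, hK, hXK⟩ := (IsCoatomic.eq_top_or_exists_le_coatom _).resolve_left hXt
  rw [← Subgroup.map_subgroupOf_eq_of_le hXL.le]
  refine Subgroup.map_mono ?_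
  rw [CfsgLib.Base.eq_of_isCoatom_of_not_isSubnormal A hsub hns hK₀ hAK₀ hK
    ((Subgroup.comap_mono hYX).trans hXK)]
  exact hXK

theorem gen_of_notMem (s : Setup p H R Y) (l : LMin p H Y L) {M₀ : Subgroup G} (hM : M₀ < L)
    (hYM : Y ≤ M₀) (huniq : ∀ X : Subgroup G, Y ≤ X → X < L → X ≤ M₀) {h : G} (hh : h ∈ L)
    (hhM : h ∉ M₀) : Y ⊔ cj h Y = L := by
  by_contra hne
  have hX : Y ⊔ cj h Y ≤ M₀ :=
    huniq _ le_sup_left (lt_of_le_of_ne (sup_le l.YL (cj_le hh l.YL)) hne)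
  have h1 : Y ≤ cj h⁻¹ M₀ := by
    have := cj_mono h⁻¹ ((le_sup_right : cj h Y ≤ _).trans hX)
    rwa [cj_cj, inv_mul_cancel, cj_one] at this
  have h2 : cj h⁻¹ M₀ ≤ M₀ := by
    refine huniq _ h1 (lt_of_le_of_ne (cj_le (inv_mem hh) hM.le) fun e => hM.ne ?_)
    have := congrArg (cj h) e
    rwa [cj_cj, mul_inv_cancel, cj_one, cj_of_mem (le_normalizer hh)] at this
  have h3 : h⁻¹ ∈ normalizer (M₀ : Set G) := mem_normalizer_of_mapsTo fun x hx => h2 ⟨x, hx, rfl⟩
  have h4 : L ⊓ normalizer (M₀ : Set G) ≤ M₀ := by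
    refine huniq _ (le_inf l.YL (hYM.trans Subgroup.le_normalizer)) (lt_of_le_of_ne inf_le_left fun e => ?_)
    haveI : (M₀.subgroupOf L).Normal :=
      (Subgroup.normal_subgroupOf_iff_le_normalizer hM.le).2 (inf_eq_left.1 e)
    have h5 := Subgroup.map_mono (f := L.subtype)
      (Subgroup.normalClosure_le_normal (N := M₀.subgroupOf L)
        (s := ((Y.subgroupOf L : Subgroup ↥L) : Set ↥L)) (Subgroup.comap_mono hYM))
    rw [(l.structureL s).1, Subgroup.map_subgroupOf_eq_of_le hM.le] at h5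
    exact hM.not_ge h5
  exact hhM (inv_mem_iff.1 (h4 ⟨L.inv_mem hh, h3⟩))

end LMin

theorem not_proper (s : Setup p H R Y) (l : LMin p H Y L) {P : Subgroup G} (hRP : R ≤ P) (hLP : L ≤ P)
    (hPH : P ≤ H) : P = H := by
  by_contra hne
  have h1 := s.min P hRP (lt_of_le_of_ne hPH hne)
  refine l.YO ((le_inf l.YL h1).trans (le_pCoreOf inf_le_left ?_ ((isPGroup_pCoreOf P).to_le inf_le_right)))
  exact (le_inf Subgroup.le_normalizer (hLP.trans (le_normalizer_pCoreOf p P))).trans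
    Subgroup.inf_normalizer_le_normalizer_inf

/-! ### The normal subgroup `E = [O_p(H), L]` -/

section E

variable {h : G}

local notation "Q" => pCoreOf p H
local notation "Z" => Y ⊓ pCoreOf p H

theorem L_le_sectQE (s : Setup p H R Y) (hh : h ∈ H) (hgen : Y ⊔ cj h Y = L) :
    L ≤ sect Q (Z ⊔ cj h Z) ∧ L ≤ normalizer ((Z ⊔ cj h Z : Subgroup G) : Set G) := by
  have key : Y ≤ sect Q (Z ⊔ cj h Z) ∧ cj h Y ≤ sect Q (Z ⊔ cj h Z) := by
    have hZ' : cj h Z = cj h Y ⊓ Q := s.cj_inf hh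
    constructor
    · intro y hy
      refine ⟨s.HQ (s.YHle hy), mem_normalizer_of_mapsTo fun x hx => ?_, fun q hq =>
        Subgroup.mem_sup_left (s.comm_mem hq hy)⟩
      suffices Z ⊔ cj h Z ≤ (Z ⊔ cj h Z).comap (MulAut.conj y).toMonoidHom from this hx
      refine sup_le (fun z hz => Subgroup.mem_sup_left ?_) fun u hu => ?_
      · show y * z * y⁻¹ ∈ Z
        rw [s.Ycomm hy hz.1, mul_inv_cancel_right]
        exact hz
      · show y * u * y⁻¹ ∈ Z ⊔ cj h Z
        have h1 : y * u * y⁻¹ * u⁻¹ ∈ Z := s.comm_mem (hZ'.le hu).2 hy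
        have h2 := mul_mem (Subgroup.mem_sup_left (T := cj h Z) h1) (Subgroup.mem_sup_right (S := Z) hu)
        simpa [mul_assoc] using h2
    · rintro _ ⟨y, hy, rfl⟩
      set y' := (MulAut.conj h).toMonoidHom y with hy'
      have hy'm : y' ∈ cj h Y := ⟨y, hy, rfl⟩
      have hy'H : y' ∈ H := cj_le hh s.YHle hy'm
      have hcomm : ∀ q ∈ Q, y' * q * y'⁻¹ * q⁻¹ ∈ cj h Z := by
        intro q hq
        rw [hZ']
        exact ⟨commElem_mem_right hy'm (s.cj_QY hh hq), commElem_mem_left hq (s.HQ hy'H)⟩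
      refine ⟨s.HQ hy'H, mem_normalizer_of_mapsTo fun x hx => ?_,
        fun q hq => Subgroup.mem_sup_right (hcomm q hq)⟩
      suffices Z ⊔ cj h Z ≤ (Z ⊔ cj h Z).comap (MulAut.conj y').toMonoidHom from this hx
      refine sup_le (fun z hz => ?_) fun u hu => Subgroup.mem_sup_right ?_
      · show y' * z * y'⁻¹ ∈ Z ⊔ cj h Z
        have h2 := mul_mem (Subgroup.mem_sup_right (S := Z) (hcomm z hz.2))
          (Subgroup.mem_sup_left (T := cj h Z) hz)
        simpa [mul_assoc] using h2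
      · show y' * u * y'⁻¹ ∈ cj h Z
        obtain ⟨z, hz, rfl⟩ := hu
        refine ⟨y * z * y⁻¹, ?_, by simp [hy', mul_assoc]⟩
        rw [s.Ycomm hy hz.1, mul_inv_cancel_right]
        exact hz
  have h1 : L ≤ sect Q (Z ⊔ cj h Z) := hgen.ge.trans (sup_le key.1 key.2)
  exact ⟨h1, fun x hx => (h1 hx).2.1⟩

/-- `Z` and its conjugate normalise each other. -/
theorem exists_mul (s : Setup p H R Y) (hh : h ∈ H) {e : G} (he : e ∈ cj h Z ⊔ Z) :
    ∃ a ∈ cj h Z, ∃ b ∈ Z, e = a * b := by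
  have hn : cj h Z ≤ normalizer ((Z : Subgroup G) : Set G) := by
    have h1 : cj h Z ≤ Q := (s.cj_inf hh).le.trans inf_le_right
    exact (le_inf (h1.trans s.QY) (h1.trans Subgroup.le_normalizer)).trans
      Subgroup.inf_normalizer_le_normalizer_inf
  rw [← SetLike.mem_coe, Subgroup.coe_mul_of_left_le_normalizer_right _ _ hn] at he
  obtain ⟨a, ha, b, hb, rfl⟩ := he
  exact ⟨a, ha, b, hb, rfl⟩

theorem centralizer_E (s : Setup p H R Y) (hh : h ∈ H) (hgen : Y ⊔ cj h Y = L) (hhL : h ∈ L) :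
    (Z ⊔ cj h Z) ⊓ centralizer (Y : Set G) ≤ Z := by
  intro e hmem
  obtain ⟨he, hec⟩ := Subgroup.mem_inf.1 hmem
  obtain ⟨a, ha, b, hb, rfl⟩ := exists_mul s hh (by rwa [sup_comm])
  have hac : a ∈ centralizer (Y : Set G) := by
    have := mul_mem hec (inv_mem (show b ∈ centralizer (Y : Set G) from s.RcY (s.YR hb.1)))
    rwa [mul_inv_cancel_right] at this
  obtain ⟨z, hz, rfl⟩ := ha
  have h1 : L ≤ centralizer ({(MulAut.conj h).toMonoidHom z} : Set G) := by
    rw [← hgen]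
    refine sup_le (fun y hy => ?_) ?_
    · exact mem_centralizer_singleton_iff.2 (mem_centralizer_iff.1 hac y hy)
    · rintro _ ⟨y, hy, rfl⟩
      exact mem_centralizer_singleton_iff.2 (by rw [← map_mul, ← map_mul, s.Ycomm hz.1 hy])
  have h2 := mem_centralizer_singleton_iff.1 (h1 hhL)
  have h3 : (MulAut.conj h).toMonoidHom z = z := by
    simp only [MulEquiv.coe_toMonoidHom, MulAut.conj_apply] at h2 ⊢
    calc h * z * h⁻¹ = h⁻¹ * (h * (h * z * h⁻¹)) := by group
      _ = h⁻¹ * (h * z * h⁻¹ * h) := by rw [h2]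
      _ = z := by group
  rw [h3]
  exact mul_mem hz hb

/-- The factorisation `C_Q(Y) = (Y ∩ Q) C_Q(L)`. -/
theorem exists_split (s : Setup p H R Y) (hh : h ∈ H) (hgen : Y ⊔ cj h Y = L) (hhL : h ∈ L)
    {q : G} (hq : q ∈ Q ⊓ centralizer (Y : Set G)) :
    ∃ z ∈ Z, z * q ∈ Q ⊓ centralizer (L : Set G) := by
  have h1 := ((L_le_sectQE s hh hgen).1 hhL).2.2 q hq.1
  rw [sup_comm] at h1
  obtain ⟨a, ha, b, hb, hab⟩ := exists_mul s hh h1
  refine ⟨b, hb, mul_mem hb.2 hq.1, ?_⟩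
  have hbq : b * q = a⁻¹ * (h * q * h⁻¹) := by
    have : h * q * h⁻¹ = a * b * q := by rw [← hab]; group
    rw [this]; group
  have hY : b * q ∈ centralizer (Y : Set G) := mul_mem (s.RcY (s.YR hb.1)) hq.2
  have hY' : b * q ∈ centralizer ((cj h Y : Subgroup G) : Set G) := by
    rw [hbq]
    refine mul_mem (inv_mem ?_) ?_
    · obtain ⟨z, hz, rfl⟩ := ha
      rintro _ ⟨y, hy, rfl⟩
      rw [← map_mul, ← map_mul, s.Ycomm hy hz.1]
    · rintro _ ⟨y, hy, rfl⟩
      show (MulAut.conj h).toMonoidHom y * _ = _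
      have h2 := mem_centralizer_iff.1 hq.2 y hy
      simp only [MulEquiv.coe_toMonoidHom, MulAut.conj_apply]
      calc h * y * h⁻¹ * (h * q * h⁻¹) = h * (y * q) * h⁻¹ := by group
        _ = h * (q * y) * h⁻¹ := by rw [h2]
        _ = h * q * h⁻¹ * (h * y * h⁻¹) := by group
  have h3 : L ≤ centralizer ({b * q} : Set G) := by
    rw [← hgen]
    exact sup_le (fun y hy => mem_centralizer_singleton_iff.2 (mem_centralizer_iff.1 hY y hy))
      (fun y hy => mem_centralizer_singleton_iff.2 (mem_centralizer_iff.1 hY' y hy))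
  exact mem_centralizer_iff.2 fun x hx => mem_centralizer_singleton_iff.1 (h3 hx)

/-- Elements of `L` normalising `Y ∩ O_p(H)` normalise `R`. -/
theorem normalizes_R (s : Setup p H R Y) (hh : h ∈ H) (hgen : Y ⊔ cj h Y = L) (hhL : h ∈ L)
    (hLH : L ≤ H) {g : G} (hg : g ∈ L) (hgZ : g ∈ normalizer ((Z : Subgroup G) : Set G)) :
    g ∈ normalizer (R : Set G) := by
  set C : Subgroup G := Q ⊓ centralizer (Y : Set G) with hC
  have hgQ : g ∈ normalizer ((Q : Subgroup G) : Set G) := s.HQ (hLH hg)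
  have hZC : Z ≤ C := le_inf inf_le_right (inf_le_left.trans (s.YR.trans s.RcY))
  have hgC0 : ∀ c ∈ C, g * c * g⁻¹ ∈ C ∧ g * c * g⁻¹ * c⁻¹ ∈ Z := by
    intro c hc
    obtain ⟨z, hz, hk⟩ := exists_split s hh hgen hhL hc
    have hgz : g * z⁻¹ * g⁻¹ ∈ Z := (Subgroup.mem_normalizer_iff.1 hgZ _).1 (inv_mem hz)
    have h1 : g * c * g⁻¹ = g * z⁻¹ * g⁻¹ * (z * c) := by
      have := mem_centralizer_iff.1 hk.2 g hg
      calc g * c * g⁻¹ = g * z⁻¹ * g⁻¹ * (g * (z * c)) * g⁻¹ := by group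
        _ = g * z⁻¹ * g⁻¹ * ((z * c) * g) * g⁻¹ := by rw [this]
        _ = _ := by group
    refine ⟨?_, ?_⟩
    · rw [h1]; exact mul_mem (hZC hgz) (mul_mem (hZC hz) hc)
    · rw [h1]
      have h2 := mul_mem hgz hz
      simpa [mul_assoc] using h2
  have hgC : g ∈ normalizer (C : Set G) := mem_normalizer_of_mapsTo fun c hc => (hgC0 c hc).1
  have hRQ : R ≤ normalizer ((Q : Subgroup G) : Set G) := s.RH.trans s.HQ
  have hRC : R ≤ normalizer (C : Set G) :=
    (le_inf hRQ (s.RNY.trans (normalizer_le_normalizer_centralizer _))).trans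
      Subgroup.inf_normalizer_le_normalizer_inf
  have hRZ : R ≤ normalizer ((Z : Subgroup G) : Set G) :=
    (le_inf s.RNY hRQ).trans Subgroup.inf_normalizer_le_normalizer_inf
  have hRsect : R ≤ sect Q C := by
    intro r hr
    refine ⟨hRQ hr, hRC hr, fun q hq => ⟨commElem_mem_left hq (hRQ hr), mem_centralizer_iff.2 fun y hy => ?_⟩⟩
    have hy1 : q⁻¹ * y * q ∈ Y := by
      have := (Subgroup.mem_normalizer_iff.1 (inv_mem (s.QY hq)) y).1 hy
      simpa using this
    have e1 : y * r = r * y := mem_centralizer_iff.1 (s.RcY hr) y hy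
    have e2 : (q⁻¹ * y * q) * r = r * (q⁻¹ * y * q) := mem_centralizer_iff.1 (s.RcY hr) _ hy1
    calc y * (r * q * r⁻¹ * q⁻¹) = r * y * q * r⁻¹ * q⁻¹ := by rw [← e1]; group
      _ = r * q * (q⁻¹ * y * q) * r⁻¹ * q⁻¹ := by group
      _ = r * q * r⁻¹ * (r * (q⁻¹ * y * q)) * r⁻¹ * q⁻¹ := by group
      _ = r * q * r⁻¹ * ((q⁻¹ * y * q) * r) * r⁻¹ * q⁻¹ := by rw [e2]
      _ = r * q * r⁻¹ * q⁻¹ * y := by group
  set K := H ⊓ sect Q C ⊓ sect C Z ⊓ centralizer ((Z : Subgroup G) : Set G) with hK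
  have hQp : IsPGroup p ↥(Q : Subgroup G) := isPGroup_pCoreOf H
  have hKp : IsPGroup p K := CfsgLib.PLocal.isPGroup_of_forall_coprime fun d hd hdc => by
    obtain ⟨⟨⟨hdH, hd1⟩, hd2⟩, hd3⟩ := hd
    have h1 : d ∈ centralizer (C : Set G) :=
      mem_centralizer_of_stab (hQp.to_le inf_le_right) hdc hd3 hd2.2.2
    have h2 : d ∈ centralizer ((Q : Subgroup G) : Set G) :=
      mem_centralizer_of_stab (hQp.to_le inf_le_left) hdc h1 hd1.2.2
    exact CfsgLib.Transfer.eq_one_of_coprime_orderOf hQp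
      (x := (⟨d, s.charP ⟨hdH, h2⟩⟩ : ↥(pCoreOf p H))) (by rwa [Subgroup.orderOf_mk])
      |> congrArg Subtype.val
  have hRK : R ≤ normalizer (K : Set G) := fun r hr => mem_normalizer_of_mapsTo fun x hx => by
    obtain ⟨⟨⟨hxH, hx1⟩, hx2⟩, hx3⟩ := hx
    exact ⟨⟨⟨H.mul_mem (H.mul_mem (s.RH hr) hxH) (H.inv_mem (s.RH hr)),
      conj_mem_sect (hRQ hr) (hRC hr) hx1⟩, conj_mem_sect (hRC hr) (hRZ hr) hx2⟩,
      (Subgroup.mem_normalizer_iff.1 (normalizer_le_normalizer_centralizer _ (hRZ hr)) x).1 hx3⟩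
  have hRP : cj g R ≤ R ⊔ K := by
    rintro _ ⟨r, hr, rfl⟩
    have hk : g * r * g⁻¹ * r⁻¹ ∈ K := by
      refine ⟨⟨⟨H.mul_mem (H.mul_mem (H.mul_mem (hLH hg) (s.RH hr)) (H.inv_mem (hLH hg)))
        (H.inv_mem (s.RH hr)), Subgroup.mul_mem _ (conj_mem_sect hgQ hgC (hRsect hr)) (Subgroup.inv_mem _ (hRsect hr))⟩, ?_⟩, ?_⟩
      · have hgs : g ∈ sect C Z := ⟨hgC, hgZ, fun c hc => (hgC0 c hc).2⟩
        have := mul_mem hgs (conj_mem_sect (hRC hr) (hRZ hr) (inv_mem hgs))
        simpa [mul_assoc] using this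
      · have hrc : R ≤ centralizer ((Z : Subgroup G) : Set G) :=
          s.RcY.trans (Subgroup.centralizer_le inf_le_left)
        exact Subgroup.mul_mem _ ((Subgroup.mem_normalizer_iff.1 (normalizer_le_normalizer_centralizer _ hgZ) r).1
          (hrc hr)) (Subgroup.inv_mem _ (hrc hr))
    have := mul_mem (Subgroup.mem_sup_right (S := R) hk) (Subgroup.mem_sup_left (T := K) hr)
    simpa [mul_assoc] using this
  have hP : IsPGroup p ↥(R ⊔ K) := s.Rp.to_sup_of_normal_right' hKp hRK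
  have := wc_conj_eq s.wc hP (x := g) (y := 1) hRP (by rw [conj_map_one]; exact le_sup_left)
  exact mem_normalizer_of_conj (by rwa [conj_map_one] at this)

end E

/-- `N_L(Y)` is the unique maximal subgroup of `L` over `Y`; it normalises `R`. -/
theorem unique_normalizer (s : Setup p H R Y) (l : LMin p H Y L) :
    L ⊓ normalizer (Y : Set G) < L ∧
      (∀ X : Subgroup G, Y ≤ X → X < L → X ≤ L ⊓ normalizer (Y : Set G)) ∧
      L ⊓ normalizer (Y : Set G) ≤ normalizer (R : Set G) ∧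
      ∀ h ∈ L, h ∉ normalizer (Y : Set G) → Y ⊔ cj h Y = L := by
  obtain ⟨M₀, hM, hYM, huniq⟩ := l.exists_max s
  have hNlt : L ⊓ normalizer (Y : Set G) < L :=
    lt_of_le_of_ne inf_le_left fun e => l.not_normalizes s (inf_eq_left.1 e)
  have hNM : L ⊓ normalizer (Y : Set G) ≤ M₀ := huniq _ (le_inf l.YL Subgroup.le_normalizer) hNlt
  obtain ⟨h, hhL, hhM⟩ := SetLike.exists_of_lt hM
  have hgen := l.gen_of_notMem s hM hYM huniq hhL hhM
  have hhH : h ∈ H := l.LH hhL
  have step : ∀ g ∈ L, cj g Y ≤ centralizer (Y : Set G) → g ∈ normalizer (R : Set G) := by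
    intro g hg hc
    refine normalizes_R s hhH hgen hhL l.LH hg (mem_normalizer_of_mapsTo fun z hz => ?_)
    refine centralizer_E s hhH hgen hhL ⟨?_, hc ⟨z, hz.1, rfl⟩⟩
    exact (Subgroup.mem_normalizer_iff.1 ((L_le_sectQE s hhH hgen).2 hg) z).1
      (Subgroup.mem_sup_left hz)
  set B := pCoreOf p M₀ with hB
  have hYB : Y ≤ B := l.core hYM hM
  have hBL : B ≤ L := (pCoreOf_le p M₀).trans hM.le
  have hBY : B ≤ normalizer (Y : Set G) := by
    by_contra hcon
    set B₁ := B ⊓ normalizer (Y : Set G) with hB₁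
    have hlt : B₁ < B := lt_of_le_of_ne inf_le_left fun e => hcon (e ▸ inf_le_right)
    obtain ⟨x, hx, hx1⟩ :=
      SetLike.exists_of_lt (CfsgLib.Fusion.lt_inf_normalizer (isPGroup_pCoreOf M₀) hlt)
    have hYB₁ : Y ≤ B₁ := le_inf hYB Subgroup.le_normalizer
    have e : cj x B₁ = B₁ := cj_of_mem hx.2
    have h1 : cj x Y ≤ normalizer (Y : Set G) :=
      (cj_mono x hYB₁).trans (e.le.trans inf_le_right)
    have h2 : Y ≤ normalizer ((cj x Y : Subgroup G) : Set G) := by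
      rw [← cj_normalizer]
      exact hYB₁.trans (e.ge.trans (cj_mono x inf_le_right))
    have h3 := commute_of_asymmetric s.asym (a := x) (b := 1) (by rwa [conj_map_one])
      (by rw [conj_map_one]; exact h2)
    rw [conj_map_one] at h3
    exact hx1 ⟨hx.1, s.NR (step x (hBL hx.1) h3)⟩
  have hMR : M₀ ≤ normalizer (R : Set G) := by
    intro m hm
    have e : cj m B = B := cj_of_mem (le_normalizer_pCoreOf p M₀ hm)
    have h1 : cj m Y ≤ normalizer (Y : Set G) := (cj_mono m hYB).trans (e.le.trans hBY)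
    have h2 : Y ≤ normalizer ((cj m Y : Subgroup G) : Set G) := by
      rw [← cj_normalizer]
      exact hYB.trans (e.ge.trans (cj_mono m hBY))
    have h3 := commute_of_asymmetric s.asym (a := m) (b := 1) (by rwa [conj_map_one])
      (by rw [conj_map_one]; exact h2)
    rw [conj_map_one] at h3
    exact step m (hM.le hm) h3
  have hMN : M₀ ≤ L ⊓ normalizer (Y : Set G) := le_inf hM.le (hMR.trans s.NR)
  refine ⟨hNlt, fun X hYX hXL => (huniq X hYX hXL).trans hMN, hNM.trans hMR, fun g hg hgN => ?_⟩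
  exact l.gen_of_notMem s hM hYM huniq hg fun hgM => hgN (hMN hgM).2

theorem conj_sup_eq (s : Setup p H R Y) (l : LMin p H Y L) {h : G} (hh : h ∈ L)
    (hn : h ∉ normalizer (Y : Set G)) : cj h Y ⊔ R = H := by
  refine not_proper s l le_sup_right ?_ (sup_le ((cj_le hh l.YL).trans l.LH) s.RH)
  rw [← (unique_normalizer s l).2.2.2 h hh hn]
  exact sup_le (s.YR.trans le_sup_right) le_sup_left

theorem core_normalizes_R (s : Setup p H R Y) (l : LMin p H Y L) :
    pCoreOf p L ≤ normalizer (R : Set G) := by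
  obtain ⟨-, huniq, hNR, -⟩ := unique_normalizer s l
  have hlt : Y ⊔ pCoreOf p L < L := by
    refine lt_of_le_of_ne (sup_le l.YL (pCoreOf_le p L)) fun e => l.YO ?_
    have hp : IsPGroup p L := e ▸ s.Yp.to_sup_of_normal_right' (isPGroup_pCoreOf L)
      (l.YL.trans (le_normalizer_pCoreOf p L))
    exact l.YL.trans (le_pCoreOf le_rfl Subgroup.le_normalizer hp)
  exact le_sup_right.trans ((huniq _ le_sup_left hlt).trans hNR)

/-- `Y ∩ O_p(L) ≤ O_p(H)`. -/
theorem inf_core_le (s : Setup p H R Y) (l : LMin p H Y L) : pCoreOf p L ⊓ Y ≤ pCoreOf p H := by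
  obtain ⟨hlt, -, -, hgen⟩ := unique_normalizer s l
  obtain ⟨h, hhL, hh⟩ := SetLike.exists_of_lt hlt
  have hhN : h ∉ normalizer (Y : Set G) := fun hc => hh ⟨hhL, hc⟩
  have hhH : h ∈ H := l.LH hhL
  set Q := pCoreOf p H with hQdef
  set R' := cj h R with hR'
  have hQp : IsPGroup p ↥Q := isPGroup_pCoreOf H
  have hR'H : R' ≤ H := cj_le hhH s.RH
  have hHgen : R ⊔ R' = H := le_antisymm (sup_le s.RH hR'H)
    ((conj_sup_eq s l hhL hhN).ge.trans (sup_le ((cj_mono h s.YR).trans le_sup_right) le_sup_left))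
  rintro z ⟨hzA, hzY⟩
  have hzH : z ∈ H := s.YHle hzY
  -- `z` normalises the conjugate of `R`
  have hzR' : z ∈ normalizer (R' : Set G) := by
    rw [hR', ← cj_normalizer]
    refine cj_mono h (core_normalizes_R s l) ?_
    rw [cj_of_mem (le_normalizer_pCoreOf p L hhL)]
    exact hzA
  set J := ⁅Q, R⁆ ⊔ ⁅Q, R'⁆ with hJ
  have hQR : ⁅Q, R⁆ ≤ Q :=
    HFamily.commutator_le_of_normalizes (s.RH.trans s.HQ)
  have hQR' : ⁅Q, R'⁆ ≤ Q := HFamily.commutator_le_of_normalizes (hR'H.trans s.HQ)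
  have hJQ : J ≤ Q := sup_le hQR hQR'
  have hnorm : ∀ A B : Subgroup G, ⁅Q, B⁆ ≤ Q → A ≤ H →
      ∀ a ∈ A, ∀ x ∈ ⁅Q, B⁆, a * x * a⁻¹ ∈ ⁅Q, A⁆ ⊔ ⁅Q, B⁆ := by
    intro A B hB hA a ha x hx
    have h1 : ⁅x, a⁆ ∈ ⁅Q, A⁆ := Subgroup.commutator_mem_commutator (hB hx) ha
    have h2 := mul_mem (Subgroup.mem_sup_left (T := ⁅Q, B⁆) (inv_mem h1))
      (Subgroup.mem_sup_right (S := ⁅Q, A⁆) hx)
    simpa [commutatorElement_def, mul_assoc] using h2
  have hHJ : H ≤ normalizer (J : Set G) := by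
    rw [← hHgen]
    refine sup_le (fun r hr => mem_normalizer_of_mapsTo fun x hx => ?_)
      (fun r hr => mem_normalizer_of_mapsTo fun x hx => ?_)
    · suffices J ≤ J.comap (MulAut.conj r).toMonoidHom from this hx
      refine sup_le (fun x hx => Subgroup.mem_sup_left ?_) fun x hx => hnorm R R' hQR' s.RH r hr x hx
      exact (Subgroup.mem_normalizer_iff.1 (Subgroup.normalizer_commutator_ge_right Q R hr) x).1 hx
    · suffices J ≤ J.comap (MulAut.conj r).toMonoidHom from this hx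
      refine sup_le (fun x hx => ?_) (fun x hx => Subgroup.mem_sup_right ?_)
      · have := hnorm R' R hQR hR'H r hr x hx
        rwa [sup_comm] at this
      · exact (Subgroup.mem_normalizer_iff.1 (Subgroup.normalizer_commutator_ge_right Q R' hr) x).1 hx
  have hHsect : H ≤ sect Q J := by
    have key : ∀ A : Subgroup G, A ≤ H → ⁅Q, A⁆ ≤ J → A ≤ sect Q J := fun A hA hAJ a ha =>
      ⟨s.HQ (hA ha), hHJ (hA ha), fun q hq => by
        have := J.inv_mem (hAJ (Subgroup.commutator_mem_commutator hq ha))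
        simpa [commutatorElement_def, mul_assoc] using this⟩
    rw [← hHgen]
    exact sup_le (key R s.RH le_sup_left) (key R' hR'H le_sup_right)
  set Zc := Q ⊓ centralizer (H : Set G) with hZc
  have hHZc : H ≤ normalizer (Zc : Set G) :=
    (le_inf s.HQ (Subgroup.le_normalizer.trans (normalizer_le_normalizer_centralizer _))).trans
      Subgroup.inf_normalizer_le_normalizer_inf
  have hQY' : ⁅Q, R'⁆ ≤ centralizer ((cj h Y : Subgroup G) : Set G) := by
    have h1 : ⁅Q, R⁆ ≤ centralizer (Y : Set G) := s.commutator_le_centralizer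
    calc ⁅Q, R'⁆ = cj h ⁅Q, R⁆ := by
          show _ = Subgroup.map _ _
          rw [Subgroup.map_commutator]
          exact congrArg (⁅·, R'⁆) (cj_of_mem (s.HQ hhH)).symm
      _ ≤ cj h (centralizer (Y : Set G)) := cj_mono h h1
      _ ≤ centralizer ((cj h Y : Subgroup G) : Set G) := by
          rintro _ ⟨c, hc, rfl⟩ _ ⟨y, hy, rfl⟩
          rw [← map_mul, ← map_mul, mem_centralizer_iff.1 hc y hy]
  have hzJ : ∀ a ∈ J, z * a * z⁻¹ * a⁻¹ ∈ Zc := by
    have hsub : ∀ a ∈ ⁅Q, R⁆ ⊔ ⁅Q, R'⁆, a ∈ J ∧ z * a * z⁻¹ * a⁻¹ ∈ Zc := by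
      intro a ha
      rw [Subgroup.sup_eq_closure] at ha
      induction ha using Subgroup.closure_induction with
      | mem a ha =>
        rcases ha with ha | ha
        · refine ⟨Subgroup.mem_sup_left ha, ?_⟩
          have e : z * a * z⁻¹ * a⁻¹ = 1 := by
            have hac : a ∈ centralizer (Y : Set G) := s.commutator_le_centralizer ha
            rw [mem_centralizer_iff.1 hac z hzY]; group
          rw [e]; exact one_mem _
        · refine ⟨Subgroup.mem_sup_right ha, commElem_mem_left (hQR' ha) (s.HQ hzH), ?_⟩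
          set d := z * a * z⁻¹ * a⁻¹ with hd
          have hdY : d ∈ Y := commElem_mem_right hzY (s.QY (hQR' ha))
          have hzn : z ∈ normalizer ((⁅Q, R'⁆ : Subgroup G) : Set G) := by
            refine Subgroup.mem_normalizer_iff_map_conj_eq.2 ?_
            rw [Subgroup.map_commutator, Subgroup.mem_normalizer_iff_map_conj_eq.1 (s.HQ hzH),
              Subgroup.mem_normalizer_iff_map_conj_eq.1 hzR']
          have hdR' : d ∈ ⁅Q, R'⁆ := commElem_mem_left ha hzn
          have h1 : H ≤ centralizer ({d} : Set G) := by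
            rw [← conj_sup_eq s l hhL hhN]
            exact sup_le (fun y hy => mem_centralizer_singleton_iff.2
                (mem_centralizer_iff.1 (hQY' hdR') y hy))
              (fun r hr => mem_centralizer_singleton_iff.2
                (mem_centralizer_iff.1 (s.RcY hr) d hdY).symm)
          exact mem_centralizer_iff.2 fun x hx => mem_centralizer_singleton_iff.1 (h1 hx)
      | one => exact ⟨one_mem _, by simp⟩
      | mul a b _ _ iha ihb =>
        refine ⟨mul_mem iha.1 ihb.1, ?_⟩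
        have hc := mem_centralizer_iff.1 (inv_mem ihb.2.2) a ((pCoreOf_le p H) (hJQ iha.1))
        have e : z * (a * b) * z⁻¹ * (a * b)⁻¹ =
            (z * a * z⁻¹ * a⁻¹) * (z * b * z⁻¹ * b⁻¹) := by
          have hc' := mem_centralizer_iff.1 ihb.2.2 a ((pCoreOf_le p H) (hJQ iha.1))
          calc z * (a * b) * z⁻¹ * (a * b)⁻¹ = z * a * z⁻¹ * ((z * b * z⁻¹ * b⁻¹) * a⁻¹) := by group
            _ = z * a * z⁻¹ * (a⁻¹ * (a * (z * b * z⁻¹ * b⁻¹)) * a⁻¹) := by group
            _ = z * a * z⁻¹ * (a⁻¹ * ((z * b * z⁻¹ * b⁻¹) * a) * a⁻¹) := by rw [hc']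
            _ = _ := by group
        rw [e]; exact mul_mem iha.2 ihb.2
      | inv a _ iha =>
        refine ⟨inv_mem iha.1, ?_⟩
        have hc' := mem_centralizer_iff.1 iha.2.2 a ((pCoreOf_le p H) (hJQ iha.1))
        have e : z * a⁻¹ * z⁻¹ * a⁻¹⁻¹ = (z * a * z⁻¹ * a⁻¹)⁻¹ := by
          calc z * a⁻¹ * z⁻¹ * a⁻¹⁻¹ = a⁻¹ * (z * a * z⁻¹ * a⁻¹)⁻¹ * a := by group
            _ = _ := ((Commute.inv_left (show Commute (z * a * z⁻¹ * a⁻¹) a from hc'.symm)).symm.inv_mul_cancel)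
        rw [e]; exact inv_mem iha.2
    exact fun a ha => (hsub a ha).2
  set T := H ⊓ sect J Zc with hT
  have hHT : H ≤ normalizer (T : Set G) := fun x hx => mem_normalizer_of_mapsTo fun a ha =>
    ⟨H.mul_mem (H.mul_mem hx ha.1) (H.inv_mem hx), conj_mem_sect (hHJ hx) (hHZc hx) ha.2⟩
  have hTp : IsPGroup p T := CfsgLib.PLocal.isPGroup_of_forall_coprime fun d hd hdc => by
    have h0 : d ∈ centralizer (Zc : Set G) := mem_centralizer_iff.2 fun c hc =>
      (mem_centralizer_iff.1 hc.2 d hd.1).symm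
    have h1 : d ∈ centralizer (J : Set G) :=
      mem_centralizer_of_stab (hQp.to_le inf_le_left) hdc h0 hd.2.2.2
    have h2 : d ∈ centralizer (Q : Set G) :=
      mem_centralizer_of_stab (hQp.to_le hJQ) hdc h1 (hHsect hd.1).2.2
    exact CfsgLib.Transfer.eq_one_of_coprime_orderOf hQp
      (x := (⟨d, s.charP ⟨hd.1, h2⟩⟩ : ↥Q)) (by rwa [Subgroup.orderOf_mk]) |> congrArg Subtype.val
  exact le_pCoreOf inf_le_left hHT hTp ⟨hzH, hHJ hzH, hHZc hzH, hzJ⟩

/-- `L` has characteristic `p`. -/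
theorem charP_L (s : Setup p H R Y) (l : LMin p H Y L) :
    L ⊓ centralizer (pCoreOf p L : Set G) ≤ pCoreOf p L := by
  obtain ⟨hlt, -, -, hgen⟩ := unique_normalizer s l
  obtain ⟨h, hhL, hh⟩ := SetLike.exists_of_lt hlt
  have hg := hgen h hhL fun hc => hh ⟨hhL, hc⟩
  have hhH := l.LH hhL
  obtain ⟨hsect, hLE⟩ := L_le_sectQE s hhH hg
  set Q := pCoreOf p H
  set Z := Y ⊓ Q
  have hQp : IsPGroup p ↥Q := isPGroup_pCoreOf H
  have hEQ : Z ⊔ cj h Z ≤ Q := sup_le inf_le_right ((s.cj_inf hhH).le.trans inf_le_right)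
  have hEA : Z ⊔ cj h Z ≤ pCoreOf p L :=
    le_pCoreOf (sup_le (inf_le_left.trans l.YL) (cj_le hhL (inf_le_left.trans l.YL))) hLE
      (hQp.to_le hEQ)
  refine le_pCoreOf inf_le_left ?_ (CfsgLib.PLocal.isPGroup_of_forall_coprime fun d hd hdc => ?_)
  · exact (le_inf Subgroup.le_normalizer
      ((le_normalizer_pCoreOf p L).trans (normalizer_le_normalizer_centralizer _))).trans
      Subgroup.inf_normalizer_le_normalizer_inf
  · have h1 : d ∈ centralizer (Q : Set G) := mem_centralizer_of_stab (hQp.to_le hEQ) hdc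
      (Subgroup.centralizer_le hEA hd.2) (hsect hd.1).2.2
    exact CfsgLib.Transfer.eq_one_of_coprime_orderOf hQp
      (x := (⟨d, s.charP ⟨l.LH hd.1, h1⟩⟩ : ↥Q)) (by rwa [Subgroup.orderOf_mk]) |> congrArg Subtype.val

/-- `O^p(L)` acts nontrivially on every noncentral chief factor below `O_p(H)`. -/
theorem chief (s : Setup p H R Y) (l : LMin p H Y L) {V W : Subgroup G} (hV : V ≤ pCoreOf p H)
    (hVn : H ≤ normalizer (V : Set G)) (hWn : H ≤ normalizer (W : Set G)) (hWV : W < V)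
    (hmax : ∀ Z' : Subgroup G, H ≤ normalizer (Z' : Set G) → W ≤ Z' → Z' ≤ V → Z' = W ∨ Z' = V)
    (hnc : ¬ ⁅V, H⁆ ≤ W) : ¬ ⁅V, pr p L⁆ ≤ W := by
  intro hle
  have hVH : V ≤ H := hV.trans (pCoreOf_le p H)
  set K := H ⊓ sect V W with hK
  have hKmem : ∀ A : Subgroup G, A ≤ H → ⁅V, A⁆ ≤ W → A ≤ K := fun A hA hAW a ha =>
    ⟨hA ha, hVn (hA ha), hWn (hA ha), fun v hv => by
      have := W.inv_mem (hAW (Subgroup.commutator_mem_commutator hv ha))
      simpa [commutatorElement_def, mul_assoc] using this⟩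
  have hprK : pr p L ≤ K := hKmem _ ((pr_le L).trans l.LH) hle
  have hHK : H ≤ K ⊔ R := by
    refine (not_proper s l (P := L ⊔ R) le_sup_right le_sup_left (sup_le l.LH s.RH)).ge.trans ?_
    refine sup_le ?_ le_sup_right
    rw [← (l.structureL s).2]
    exact sup_le (hprK.trans le_sup_left) (s.YR.trans le_sup_right)
  have hRn : ∀ D : Subgroup G, R ≤ H → ⁅V, R⁆ ⊔ D ≤ V → H ≤ normalizer (D : Set G) →
      R ≤ normalizer ((⁅V, R⁆ ⊔ D : Subgroup G) : Set G) := fun D _ _ hD r hr =>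
    mem_normalizer_of_mapsTo fun x hx => by
      suffices ⁅V, R⁆ ⊔ D ≤ (⁅V, R⁆ ⊔ D).comap (MulAut.conj r).toMonoidHom from this hx
      exact sup_le (fun x hx => Subgroup.mem_sup_left
          ((Subgroup.mem_normalizer_iff.1 (Subgroup.normalizer_commutator_ge_right V R hr) x).1 hx))
        (fun x hx => Subgroup.mem_sup_right ((Subgroup.mem_normalizer_iff.1 (hD (s.RH hr)) x).1 hx))
  have hDV : ⁅V, R⁆ ⊔ W ≤ V :=
    sup_le (HFamily.commutator_le_of_normalizes (s.RH.trans hVn)) hWV.le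
  have hHD : H ≤ normalizer ((⁅V, R⁆ ⊔ W : Subgroup G) : Set G) := by
    refine hHK.trans (sup_le (fun k hk => mem_normalizer_of_mapsTo fun x hx => ?_)
      (hRn W s.RH hDV hWn))
    have h1 := mul_mem (Subgroup.mem_sup_right (S := ⁅V, R⁆) (hk.2.2.2 x (hDV hx))) hx
    simpa [mul_assoc] using h1
  rcases hmax _ hHD le_sup_right hDV with hD | hD
  · -- `R` centralises the factor
    have hRK : R ≤ K := hKmem R s.RH (le_sup_left.trans hD.le)
    refine hnc (Subgroup.commutator_le.2 fun v hv x hx => ?_)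
    obtain ⟨-, -, -, hxc⟩ := (hHK.trans (sup_le le_rfl hRK)) hx
    have := W.inv_mem (hxc v hv)
    simpa [commutatorElement_def, mul_assoc] using this
  · set P := R ⊔ V with hP
    have hVp : IsPGroup p V := (isPGroup_pCoreOf H).to_le hV
    have hPp : IsPGroup p P := s.Rp.to_sup_of_normal_right' hVp (s.RH.trans hVn)
    have hPH : P ≤ H := sup_le s.RH hVH
    haveI : (V.subgroupOf P).Normal :=
      (Subgroup.normal_subgroupOf_iff_le_normalizer le_sup_right).2 (hPH.trans hVn)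
    haveI : (W.subgroupOf P).Normal :=
      (Subgroup.normal_subgroupOf_iff_le_normalizer (hWV.le.trans le_sup_right)).2 (hPH.trans hWn)
    have hWP : W ≤ P := hWV.le.trans le_sup_right
    have h1 : V.subgroupOf P ≤ W.subgroupOf P := by
      refine le_of_le_commutator_sup hPp _ _ (R.subgroupOf P) ?_
      rw [subgroupOf_commutator le_sup_right le_sup_left, ← Subgroup.subgroupOf_sup
        ((HFamily.commutator_le_of_normalizes (s.RH.trans hVn)).trans le_sup_right) hWP]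
      exact Subgroup.comap_mono hD.ge
    exact hWV.not_ge fun v hv => h1 (show (⟨v, le_sup_right (a := R) hv⟩ : ↥P) ∈ V.subgroupOf P from hv)

end CfsgLib.LocalEven.AsymL
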