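import Cfsg.Agent.Lib.Components.Signalizer
import Cfsg.Agent.Lib.Components.LocalLayer
import Cfsg.Agent.Lib.Components.FStar
import Cfsg.Agent.Lib.Base.Fitting
import Cfsg.Agent.Lib.Base.Cores
import Cfsg.Agent.Lib.Coprime.Action2
import Cfsg.Agent.Lib.Involutions.ElemAbCent

/-!
Odd cores of involution centralizers of an elementary abelian group of order at least `8` with
trivial layers, one of which has characteristic `2`.
-/

set_option autoImplicit false

namespace CfsgLib.LocalEven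

open Cfsg

universe u

variable {X : Type u} [Group X] [Finite X]

/-- The odd core of `C(a)`, inside the ambient group. -/
def oddAt (a : X) : Subgroup X :=
  (oddCore ↥(Subgroup.centralizer ({a} : Set X))).map (Subgroup.centralizer ({a} : Set X)).subtype

omit [Finite X] in
theorem oddAt_le (a : X) : oddAt a ≤ Subgroup.centralizer ({a} : Set X) := Subgroup.map_subtype_le _

theorem odd_card_oddAt (a : X) : Odd (Nat.card (oddAt a)) := by
  rw [oddAt, Subgroup.card_map_of_injective (Subgroup.subtype_injective _)]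
  exact CfsgLib.Base.odd_card_oddCore _

theorem le_oddAt {a : X} {W : Subgroup X} (hW : W ≤ Subgroup.centralizer ({a} : Set X))
    (hn : Subgroup.centralizer ({a} : Set X) ≤ Subgroup.normalizer (W : Set X))
    (ho : Odd (Nat.card W)) : W ≤ oddAt a := by
  haveI : (W.subgroupOf (Subgroup.centralizer ({a} : Set X))).Normal :=
    (Subgroup.normal_subgroupOf_iff_le_normalizer hW).2 hn
  have h := CfsgLib.Base.le_oddCore (N := W.subgroupOf (Subgroup.centralizer ({a} : Set X)))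
    (by rwa [Nat.card_congr (Subgroup.subgroupOfEquivOfLe hW).toEquiv])
  intro w hw
  exact ⟨⟨w, hW hw⟩, h (Subgroup.mem_subgroupOf.2 hw), rfl⟩

omit [Finite X] in
theorem conj_mem_oddAt {a g d : X} (hg : g ∈ Subgroup.centralizer ({a} : Set X)) (hd : d ∈ oddAt a) :
    g * d * g⁻¹ ∈ oddAt a := by
  obtain ⟨e, he, rfl⟩ := hd
  haveI : (oddCore ↥(Subgroup.centralizer ({a} : Set X))).Normal := by
    rw [oddCore]; infer_instance
  exact ⟨(⟨g, hg⟩ : Subgroup.centralizer ({a} : Set X)) * e * ⟨g, hg⟩⁻¹,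
    Subgroup.Normal.conj_mem inferInstance e he _, rfl⟩

/-- A `2`-group and an odd subgroup normalising each other commute. -/
theorem commute_of_two_odd {P W : Subgroup X} (hP : IsPGroup 2 P) (hW : Odd (Nat.card W))
    {c w : X} (hc : c ∈ P) (hw : w ∈ W) (hcW : c * w * c⁻¹ ∈ W) (hwP : w * c * w⁻¹ ∈ P) :
    c * w = w * c := by
  haveI : Fact (Nat.Prime 2) := ⟨Nat.prime_two⟩
  have h1 : c * w * c⁻¹ * w⁻¹ ∈ P := by
    rw [show c * w * c⁻¹ * w⁻¹ = c * (w * c⁻¹ * w⁻¹) by group]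
    refine P.mul_mem hc ?_
    have := P.inv_mem hwP
    simpa [mul_assoc] using this
  have h2 : c * w * c⁻¹ * w⁻¹ ∈ W := W.mul_mem hcW (W.inv_mem hw)
  have h3 : P ⊓ W = ⊥ := by
    obtain ⟨n, hn⟩ := IsPGroup.iff_card.1 hP
    exact CfsgLib.Coprime.inf_eq_bot_of_coprime (by
      rw [hn]; exact ((Nat.coprime_two_left).2 hW).pow_left n)
  have := h3.le ⟨h1, h2⟩
  rw [Subgroup.mem_bot, mul_inv_eq_one, mul_inv_eq_iff_eq_mul] at this
  exact this

/-- An odd subgroup of `C(a) ∩ C(b)` normalised by it centralises `O_2(C(b))`. -/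
theorem oddAt_inf_le_centralizer_pCore {a b : X} (hab : a * b = b * a) (ha : a * a = 1) :
    oddAt a ⊓ Subgroup.centralizer ({b} : Set X) ≤
      Subgroup.centralizer (((pCore 2 ↥(Subgroup.centralizer ({b} : Set X))).map
        (Subgroup.centralizer ({b} : Set X)).subtype : Subgroup X) : Set X) := by
  haveI : Fact (Nat.Prime 2) := ⟨Nat.prime_two⟩
  set C := Subgroup.centralizer ({b} : Set X) with hC
  set P := (pCore 2 ↥C).map C.subtype with hP
  set D := oddAt a ⊓ C
  have hPp : IsPGroup 2 P := CfsgLib.Base.isPGroup_map_pCore 2 C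
  have hCP : C ≤ Subgroup.normalizer (P : Set X) := CfsgLib.Base.le_normalizer_map_pCore C
  have hD : Odd (Nat.card D) :=
    Odd.of_dvd_nat (odd_card_oddAt a) (Subgroup.card_dvd_of_le inf_le_left)
  have hza : IsPGroup 2 (Subgroup.zpowers a) := by
    intro x
    obtain ⟨k, hk⟩ := Subgroup.mem_zpowers_iff.1 x.2
    refine ⟨1, Subtype.ext ?_⟩
    push_cast
    rw [← hk, ← zpow_natCast (a ^ k), ← zpow_mul, mul_comm, zpow_mul, zpow_natCast, pow_two a, ha,
      one_zpow]
  have haC : a ∈ C := Subgroup.mem_centralizer_singleton_iff.2 hab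
  refine CfsgLib.Coprime.pq_lemma hza ?_ hPp ?_ ?_ ?_ ?_
  · exact Nat.coprime_two_right.2 hD
  · rw [Subgroup.zpowers_le, Subgroup.mem_centralizer_iff]
    exact fun d hd => Subgroup.mem_centralizer_singleton_iff.1 (oddAt_le a hd.1)
  · exact Subgroup.zpowers_le.2 (hCP haC)
  · exact inf_le_right.trans hCP
  · intro c hc
    obtain ⟨hcP, hca⟩ := hc
    rw [Subgroup.mem_centralizer_iff]
    intro d hd
    refine (commute_of_two_odd hPp (odd_card_oddAt a) hcP hd.1 (conj_mem_oddAt ?_ hd.1)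
      ((Subgroup.mem_normalizer_iff.1 (hCP hd.2) c).1 hcP)).symm
    exact Subgroup.mem_centralizer_singleton_iff.2
      (Subgroup.mem_centralizer_iff.1 hca a (Subgroup.mem_zpowers a)).symm

/-- The balance inclusion. -/
theorem oddAt_inf_le_oddAt {z a b : X} (hab : a * b = b * a) (ha : a * a = 1)
    (hzb : z * b = b * z) (hE : layer ↥(Subgroup.centralizer ({b} : Set X)) = ⊥)
    (hia : ∀ d ∈ oddAt a, z * d * z⁻¹ = d⁻¹) (hib : ∀ d ∈ oddAt b, z * d * z⁻¹ = d⁻¹) :
    oddAt a ⊓ Subgroup.centralizer ({b} : Set X) ≤ oddAt b := by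
  haveI : Fact (Nat.Prime 2) := ⟨Nat.prime_two⟩
  set C := Subgroup.centralizer ({b} : Set X) with hC
  set D := oddAt a ⊓ C
  have hD : Odd (Nat.card D) :=
    Odd.of_dvd_nat (odd_card_oddAt a) (Subgroup.card_dvd_of_le inf_le_left)
  have hP := oddAt_inf_le_centralizer_pCore hab ha
  -- `D` centralises the odd core of `C(b)`
  have hDo : ∀ d ∈ D, ∀ f ∈ oddAt b, d * f = f * d := by
    intro d hd f hf
    have hdf : d * f * d⁻¹ ∈ oddAt b := conj_mem_oddAt hd.2 hf
    have h1 := hib _ hdf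
    rw [show z * (d * f * d⁻¹) * z⁻¹ = (z * d * z⁻¹) * (z * f * z⁻¹) * (z * d * z⁻¹)⁻¹ by group,
      hia d hd.1, hib f hf] at h1
    have hc : Commute (d * d) f := by
      have h2 : d⁻¹ * f * d = d * f * d⁻¹ := by
        have := congrArg (fun t => t⁻¹) h1
        simpa [mul_assoc] using this
      calc d * d * f = d * (d * f * d⁻¹) * d := by group
        _ = d * (d⁻¹ * f * d) * d := by rw [h2]
        _ = f * (d * d) := by group
    obtain ⟨k, hk⟩ : Odd (orderOf d) := Odd.of_dvd_nat hD (Subgroup.orderOf_dvd_natCard D hd)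
    have hd2 : (d * d) ^ (k + 1) = d := by
      rw [← pow_two, ← pow_mul, show 2 * (k + 1) = orderOf d + 1 by omega, pow_succ,
        pow_orderOf_eq_one, one_mul]
    exact hd2 ▸ (hc.pow_left (k + 1) : Commute ((d * d) ^ (k + 1)) f)
  have hDF : D.subgroupOf C ≤ fittingSubgroup C := by
    refine le_trans (fun d hd => ?_) CfsgLib.Components.centralizer_fstar_le_fitting
    rw [Subgroup.mem_centralizer_iff]
    rw [generalizedFittingSubgroup, hE, bot_sup_eq, CfsgLib.Base.fittingSubgroup_eq_iSup_pCore]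
    intro f hf
    refine Subgroup.iSup_induction (fun p : Nat.Primes => pCore (p : ℕ) ↥C)
      (C := fun f => f * d = d * f) hf ?_ (by simp)
      (fun x y hx hy => by rw [mul_assoc, hy, ← mul_assoc, hx, mul_assoc])
    intro q f hf
    have hdm : (d : X) ∈ D := Subgroup.mem_subgroupOf.1 hd
    refine Subtype.ext ?_
    push_cast
    by_cases hq : (q : ℕ) = 2
    · exact Subgroup.mem_centralizer_iff.1 (hP hdm) f ⟨f, hq ▸ hf, rfl⟩
    · haveI := Fact.mk q.2
      obtain ⟨n, hn⟩ := CfsgLib.Base.pCore_eq_pow_card (q : ℕ) ↥C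
      have hodd : Odd (Nat.card (pCore (q : ℕ) ↥C)) :=
        hn ▸ (Nat.Prime.odd_of_ne_two q.2 hq).pow
      exact (hDo d hdm f ⟨f, CfsgLib.Base.le_oddCore hodd hf, rfl⟩).symm
  intro d hd
  have hdo : Odd (orderOf (⟨d, hd.2⟩ : C)) := by
    rw [Subgroup.orderOf_mk]; exact Odd.of_dvd_nat hD (Subgroup.orderOf_dvd_natCard D hd)
  have hF : fittingSubgroup ↥C ≤ pCore 2 ↥C ⊔ oddCore ↥C := by
    rw [CfsgLib.Base.fittingSubgroup_eq_iSup_pCore]
    refine iSup_le fun q => ?_
    by_cases hq : (q : ℕ) = 2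
    · rw [hq]; exact le_sup_left
    · haveI := Fact.mk q.2
      obtain ⟨n, hn⟩ := CfsgLib.Base.pCore_eq_pow_card (q : ℕ) ↥C
      exact le_trans (CfsgLib.Base.le_oddCore (hn ▸ (Nat.Prime.odd_of_ne_two q.2 hq).pow)) le_sup_right
  haveI : (oddCore ↥C).Normal := by rw [oddCore]; infer_instance
  refine ⟨⟨d, hd.2⟩, ?_, rfl⟩
  obtain ⟨u, hu, v, hv, huv⟩ := Subgroup.mem_sup_of_normal_right.1
    (hF (hDF (show (⟨d, hd.2⟩ : C) ∈ D.subgroupOf C from hd)))
  have h1 : orderOf (QuotientGroup.mk' (oddCore ↥C) u) ∣ orderOf (⟨d, hd.2⟩ : C) := by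
    rw [show QuotientGroup.mk' (oddCore ↥C) u = QuotientGroup.mk' (oddCore ↥C) (⟨d, hd.2⟩ : C) by
      rw [← huv, map_mul, show QuotientGroup.mk' (oddCore ↥C) v = 1 from
        (QuotientGroup.eq_one_iff v).2 hv, mul_one]]
    exact orderOf_map_dvd _ _
  obtain ⟨j, hj⟩ := (CfsgLib.Base.isPGroup_pCore 2 ↥C) ⟨u, hu⟩
  have hu2 : u ^ 2 ^ j = 1 := congrArg Subtype.val hj
  have h2 : orderOf (QuotientGroup.mk' (oddCore ↥C) u) ∣ 2 ^ j :=
    (orderOf_map_dvd _ u).trans (orderOf_dvd_of_pow_eq_one hu2)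
  have h3 := Nat.eq_one_of_dvd_coprimes ((Nat.coprime_two_left.2 hdo).pow_left j) h2 h1
  rw [orderOf_eq_one_iff] at h3
  have huo : u ∈ oddCore ↥C := (QuotientGroup.eq_one_iff u).1 h3
  exact huv ▸ (oddCore ↥C).mul_mem huo hv

/-- The join of the odd cores is odd and invariant under the normalizer. -/
theorem odd_iSup_oddAt {Y : Subgroup X} (hY : IsElementaryAbelian 2 Y) (h8 : 8 ≤ Nat.card Y)
    (hE : ∀ x ∈ Y, x ≠ 1 → layer ↥(Subgroup.centralizer ({x} : Set X)) = ⊥) {z : X} (hzY : z ∈ Y)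
    (hz1 : z ≠ 1) (hz : generalizedFittingSubgroup ↥(Subgroup.centralizer ({z} : Set X)) =
      pCore 2 ↥(Subgroup.centralizer ({z} : Set X))) :
    Odd (Nat.card ↥(⨆ y : {y : X // y ∈ Y ∧ y ≠ 1}, oddAt (y : X))) := by
  haveI : Fact (Nat.Prime 2) := ⟨Nat.prime_two⟩
  have hcm : ∀ a ∈ Y, ∀ b ∈ Y, a * b = b * a := fun a ha b hb =>
    CfsgLib.Signalizer.elemAb_comm hY ha hb
  have hsq : ∀ a ∈ Y, a * a = 1 := fun a ha => by rw [← pow_two]; exact hY.2 a ha
  have hzinv : z⁻¹ = z := inv_eq_of_mul_eq_one_right (hsq z hzY)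
  have hzo : orderOf z = 2 := orderOf_eq_prime (hY.2 z hzY) hz1
  have hinv : ∀ a ∈ Y, ∀ d ∈ oddAt a, z * d * z⁻¹ = d⁻¹ := by
    intro a ha d hd
    rw [hzinv]
    refine CfsgLib.Involutions.inverts_of_fpf (oddAt a) hzo (fun e he => ?_) (fun e he hfix => ?_) d hd
    · have := conj_mem_oddAt (Subgroup.mem_centralizer_singleton_iff.2 (hcm z hzY a ha)) he
      rwa [hzinv] at this
    · have heC : e ∈ oddAt a ⊓ Subgroup.centralizer ({z} : Set X) :=
        ⟨he, Subgroup.mem_centralizer_singleton_iff.2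
          (calc e * z = z * e * z * z := by rw [hfix]
            _ = z * e := by rw [mul_assoc, hsq z hzY, mul_one])⟩
      set C := Subgroup.centralizer ({z} : Set X) with hC
      have h1 : (⟨e, heC.2⟩ : C) ∈ pCore 2 ↥C := by
        refine (CfsgLib.Components.fstar_eq_pCore_iff.1 hz) ?_
        rw [Subgroup.mem_centralizer_iff]
        exact fun q hq => Subtype.ext (Subgroup.mem_centralizer_iff.1
          (oddAt_inf_le_centralizer_pCore (hcm a ha z hzY) (hsq a ha) heC) q ⟨q, hq, rfl⟩)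
      obtain ⟨j, hj⟩ := (CfsgLib.Base.isPGroup_pCore 2 ↥C) ⟨_, h1⟩
      have h2 : e ^ 2 ^ j = 1 := congrArg (fun t : pCore 2 ↥C => ((t : C) : X)) hj
      have h3 := Nat.eq_one_of_dvd_coprimes
        ((Nat.coprime_two_left.2 (odd_card_oddAt a)).pow_left j) (orderOf_dvd_of_pow_eq_one h2)
        (Subgroup.orderOf_dvd_natCard _ he)
      exact orderOf_eq_one_iff.1 h3
  have hcomm : ∀ a ∈ Y, ∀ d ∈ oddAt a, ∀ e ∈ oddAt a, d * e = e * d := by
    intro a ha d hd e he
    have h := hinv a ha _ ((oddAt a).mul_mem hd he)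
    rw [show z * (d * e) * z⁻¹ = (z * d * z⁻¹) * (z * e * z⁻¹) by group, hinv a ha d hd,
      hinv a ha e he, mul_inv_rev] at h
    have := congrArg (fun t => t⁻¹) h
    simpa using this.symm
  have hbal : ∀ a ∈ Y, ∀ b ∈ Y, b ≠ 1 →
      oddAt a ⊓ Subgroup.centralizer ({b} : Set X) ≤ oddAt b := fun a ha b hb hb1 =>
    oddAt_inf_le_oddAt (hcm a ha b hb) (hsq a ha) (hcm z hzY b hb) (hE b hb hb1) (hinv a ha) (hinv b hb)
  have hYn : ∀ a ∈ Y, Y ≤ Subgroup.normalizer (oddAt a : Set X) := fun a ha =>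
    CfsgLib.Signalizer.conj_invariant_iff.1 fun y hy d hd =>
      conj_mem_oddAt (Subgroup.mem_centralizer_singleton_iff.2 (hcm y hy a ha)) hd
  have hYne : Y ≠ ⊥ := fun h => by rw [h, Subgroup.card_bot] at h8; omega
  have hndvd : ∀ a : X, ¬ 2 ∣ Nat.card (oddAt a) := fun a h =>
    (Nat.not_even_iff_odd.2 (odd_card_oddAt a)) (even_iff_two_dvd.2 h)
  -- two pieces commute
  have hpieces : ∀ a ∈ Y, ∀ a' ∈ Y, ∀ B B' : Subgroup X, B ≤ Y → B.relIndex Y = 2 →
      B' ≤ Y → B'.relIndex Y = 2 → ∀ d ∈ oddAt a ⊓ Subgroup.centralizer (B : Set X),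
        ∀ e ∈ oddAt a' ⊓ Subgroup.centralizer (B' : Set X), d * e = e * d := by
    intro a ha a' ha' B B' hB hBi hB' hB'i d hd e he
    obtain ⟨c, hc, hc1⟩ : ∃ c ∈ B ⊓ B', c ≠ (1 : X) := by
      by_contra hcon
      push Not at hcon
      have hbot : B ⊓ B' = ⊥ := (Subgroup.eq_bot_iff_forall _).2 hcon
      have h1 := Subgroup.relIndex_inf_le (H := B) (K := B') (L := Y)
      rw [hbot, Subgroup.relIndex_bot_left, hBi, hB'i] at h1
      omega
    exact hcomm c (hB hc.1) d
      (hbal a ha c (hB hc.1) hc1 ⟨hd.1, Subgroup.mem_centralizer_singleton_iff.2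
        (Subgroup.mem_centralizer_iff.1 hd.2 c hc.1).symm⟩) e
      (hbal a' ha' c (hB hc.1) hc1 ⟨he.1, Subgroup.mem_centralizer_singleton_iff.2
        (Subgroup.mem_centralizer_iff.1 he.2 c hc.2).symm⟩)
  have hall : ∀ a ∈ Y, ∀ a' ∈ Y, ∀ d ∈ oddAt a, ∀ e ∈ oddAt a', d * e = e * d := by
    intro a ha a' ha' d hd e he
    have h1 : oddAt a' ≤ Subgroup.centralizer (oddAt a : Set X) :=
      CfsgLib.Signalizer.le_of_hyperplanes hY hYne (hYn a' ha') (hndvd a') fun B' hB' hB'i => by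
        refine Subgroup.le_centralizer_iff.1 ?_
        exact CfsgLib.Signalizer.le_of_hyperplanes hY hYne (hYn a ha) (hndvd a) fun B hB hBi d hd =>
          Subgroup.mem_centralizer_iff.2 fun e he =>
            (hpieces a ha a' ha' B B' hB hBi hB' hB'i d hd e he).symm
    exact Subgroup.mem_centralizer_iff.1 (h1 he) d hd
  set J := ⨆ y : {y : X // y ∈ Y ∧ y ≠ 1}, oddAt (y : X)
  have hJc : ∀ d ∈ J, ∀ e ∈ J, d * e = e * d := by
    have h1 : J ≤ Subgroup.centralizer (J : Set X) := by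
      refine iSup_le fun y => ?_
      refine Subgroup.le_centralizer_iff.1 (iSup_le fun y' d hd => ?_)
      rw [Subgroup.mem_centralizer_iff]
      exact fun e he => hall _ y.2.1 _ y'.2.1 e he d hd
    exact fun d hd e he => Subgroup.mem_centralizer_iff.1 (h1 he) d hd
  have hodd : ∀ d ∈ J, Odd (orderOf d) := by
    have key : ∀ d ∈ J, d ∈ J ∧ Odd (orderOf d) := by
      intro d hd
      refine Subgroup.iSup_induction (fun y : {y : X // y ∈ Y ∧ y ≠ 1} => oddAt (y : X))
        (C := fun d => d ∈ J ∧ Odd (orderOf d)) hd (fun y e he => ?_)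
        ⟨J.one_mem, by simp⟩ (fun x y hx hy => ?_)
      · exact ⟨le_iSup (fun y : {y : X // y ∈ Y ∧ y ≠ 1} => oddAt (y : X)) y he,
          Odd.of_dvd_nat (odd_card_oddAt _) (Subgroup.orderOf_dvd_natCard _ he)⟩
      · exact ⟨J.mul_mem hx.1 hy.1, Odd.of_dvd_nat (hx.2.mul hy.2)
          (Commute.orderOf_mul_dvd_mul_orderOf (show Commute x y from hJc x hx.1 y hy.1))⟩
    exact fun d hd => (key d hd).2
  by_contra hcon
  obtain ⟨d, hd⟩ := exists_prime_orderOf_dvd_card' (G := J) 2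
    (even_iff_two_dvd.1 (Nat.not_odd_iff_even.1 hcon))
  have := hodd _ d.2
  rw [Subgroup.orderOf_coe, hd] at this
  exact absurd this (by decide)

/-- The normalizer permutes the odd cores. -/
theorem normalizer_le_normalizer_iSup_oddAt (Y : Subgroup X) :
    Subgroup.normalizer (Y : Set X) ≤
      Subgroup.normalizer ((⨆ y : {y : X // y ∈ Y ∧ y ≠ 1}, oddAt (y : X) : Subgroup X) : Set X) := by
  refine CfsgLib.Signalizer.conj_invariant_iff.1 fun g hg d hd => ?_
  set J := ⨆ y : {y : X // y ∈ Y ∧ y ≠ 1}, oddAt (y : X)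
  have hle : J ≤ J.comap (MulAut.conj g).toMonoidHom := by
    refine iSup_le fun y => Subgroup.map_le_iff_le_comap.1 ?_
    have hy' : g * y * g⁻¹ ∈ Y ∧ g * y * g⁻¹ ≠ 1 :=
      ⟨(Subgroup.mem_normalizer_iff.1 hg _).1 y.2.1, fun h => y.2.2 (by simpa using h)⟩
    refine le_trans (le_oddAt (a := g * y * g⁻¹) ?_ ?_ ?_)
      (le_iSup (fun y : {y : X // y ∈ Y ∧ y ≠ 1} => oddAt (y : X)) ⟨_, hy'⟩)
    · rintro _ ⟨e, he, rfl⟩
      refine Subgroup.mem_centralizer_singleton_iff.2 ?_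
      have h := Subgroup.mem_centralizer_singleton_iff.1 (oddAt_le _ he)
      simp only [MulEquiv.coe_toMonoidHom, MulAut.conj_apply]
      calc g * e * g⁻¹ * (g * y * g⁻¹) = g * (e * y) * g⁻¹ := by group
        _ = g * y * g⁻¹ * (g * e * g⁻¹) := by rw [h]; group
    · refine CfsgLib.Signalizer.conj_invariant_iff.1 fun c hc e he => ?_
      obtain ⟨e, he, rfl⟩ := he
      have hc' : g⁻¹ * c * g ∈ Subgroup.centralizer ({(y : X)} : Set X) := by
        refine Subgroup.mem_centralizer_singleton_iff.2 ?_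
        have h := Subgroup.mem_centralizer_singleton_iff.1 hc
        calc g⁻¹ * c * g * y = g⁻¹ * (c * (g * y * g⁻¹)) * g := by group
          _ = y * (g⁻¹ * c * g) := by rw [h]; group
      exact ⟨_, conj_mem_oddAt hc' he, by simp [mul_assoc]⟩
    · rw [Subgroup.card_map_of_injective (MulAut.conj g).injective]; exact odd_card_oddAt _
  exact hle hd

end CfsgLib.LocalEven
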