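import Mathlib
import Cfsg.Prelude.Def_Transfer
import Cfsg.Agent.Lib.Base.MinimalNormal
import Cfsg.Agent.Lib.Base.Transport
import Cfsg.Agent.Lib.PLocal.SubnormalJoin
import Cfsg.Agent.Lib.Components.ExtendedLayer
import Cfsg.Agent.Lib.Transfer.NormalPComplement

/-!
# A Sylow subgroup of the join of two subnormal subgroups
-/

set_option linter.style.haveILetI false
set_option linter.unusedSectionVars false
set_option autoImplicit false

namespace CfsgLib.LocalEven.SubSyl

open Subgroup
open scoped commutatorElement Pointwise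

universe u

variable {G : Type u} [Group G] [Finite G] {p : ℕ} [hp : Fact p.Prime]

theorem eq_of_le_of_not_dvd {P Q : Subgroup G} (hPQ : P ≤ Q) (hQ : IsPGroup p Q)
    (h : ¬ p ∣ P.relIndex Q) : P = Q := by
  obtain ⟨k, hk⟩ := hQ.index (P.subgroupOf Q)
  have h1 : P.relIndex Q = p ^ k := hk
  rcases k with _ | k
  · exact le_antisymm hPQ (relIndex_eq_one.mp (h1.trans (pow_zero p)))
  · exact absurd (h1 ▸ dvd_pow_self p k.succ_ne_zero) h

theorem not_dvd_inf (S : Sylow p G) {A : Subgroup G} (hA : A.IsSubnormal) :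
    ¬ p ∣ (A ⊓ (S : Subgroup G)).relIndex A := by
  rw [inf_relIndex_left]
  exact CfsgLib.Components.not_dvd_relIndex_of_isSubnormal S hA

theorem isMinimalNormal_map {H : Type*} [Group H] (e : G ≃* H) {X : Subgroup G}
    (hX : CfsgLib.Base.IsMinimalNormal X) : CfsgLib.Base.IsMinimalNormal (X.map e.toMonoidHom) := by
  refine ⟨hX.normal.map _ e.surjective, fun h => hX.ne_bot
    ((Subgroup.map_eq_bot_iff_of_injective _ e.injective).mp h), fun K hK hle => ?_⟩
  have h2 : K.comap e.toMonoidHom ≤ X := by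
    intro x hx
    obtain ⟨y, hy, hyx⟩ := Subgroup.mem_map.mp (hle hx)
    exact e.injective hyx ▸ hy
  have e2 : (K.comap e.toMonoidHom).map e.toMonoidHom = K :=
    Subgroup.map_comap_eq_self_of_surjective e.surjective K
  rcases hX.eq_bot_or_eq (hK.comap _) h2 with h | h
  · left; rw [← e2, h, Subgroup.map_bot]
  · right; rw [← e2, h]

theorem exists_join_minimal (M : Subgroup G) [hM : M.Normal] {N : Subgroup G}
    (hN : CfsgLib.Base.IsMinimalNormal N) (hNM : N ≤ M) :
    N ≤ sSup {X | ∃ Y : Subgroup ↥M, CfsgLib.Base.IsMinimalNormal Y ∧ Y ≤ N.subgroupOf M ∧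
      X = Y.map M.subtype} := by
  haveI := hN.normal
  set 𝒳 : Set (Subgroup G) := {X | ∃ Y : Subgroup ↥M, CfsgLib.Base.IsMinimalNormal Y ∧
    Y ≤ N.subgroupOf M ∧ X = Y.map M.subtype} with h𝒳
  have hle : sSup 𝒳 ≤ N := sSup_le fun X ⟨Y, _, hY, hX⟩ => by
    rw [hX]
    exact (Subgroup.map_mono hY).trans (by rw [Subgroup.subgroupOf_map_subtype]; exact inf_le_left)
  have hconj : ∀ g : G, ∀ y ∈ sSup 𝒳, g * y * g⁻¹ ∈ sSup 𝒳 := by
    intro g
    suffices sSup 𝒳 ≤ (sSup 𝒳).comap (MulAut.conj g).toMonoidHom from fun y hy => this hy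
    refine sSup_le fun X ⟨Y, hYm, hY, hX⟩ => ?_
    rw [hX, ← Subgroup.map_le_iff_le_comap]
    let e : ↥M ≃* ↥M := MulAut.conjNormal g
    refine le_sSup ⟨Y.map e.toMonoidHom, isMinimalNormal_map e hYm, ?_, ?_⟩
    · rintro _ ⟨y, hy, rfl⟩
      rw [Subgroup.mem_subgroupOf]
      exact hN.normal.conj_mem _ (hY hy) g
    · rw [Subgroup.map_map, Subgroup.map_map]
      congr 1
  haveI : (sSup 𝒳).Normal := ⟨fun y hy g => hconj g y hy⟩
  rcases hN.eq_bot_or_eq inferInstance hle with h | h
  · exfalso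
    have hne : N.subgroupOf M ≠ ⊥ := by
      rw [Ne, Subgroup.subgroupOf_eq_bot, disjoint_iff, inf_eq_left.mpr hNM]
      exact hN.ne_bot
    obtain ⟨Y, hYle, hY⟩ := CfsgLib.Base.exists_isMinimalNormal_le hne
    have h2 : Y.map M.subtype ≤ sSup 𝒳 := le_sSup ⟨Y, hY, hYle, rfl⟩
    rw [h, le_bot_iff, Subgroup.map_eq_bot_iff_of_injective _ M.subtype_injective] at h2
    exact hY.ne_bot h2
  · exact h.ge

/-- A minimal normal subgroup normalizes every subnormal subgroup (Wielandt). -/
theorem minimal_le_normalizer {N A : Subgroup G} (hN : CfsgLib.Base.IsMinimalNormal N)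
    (hA : A.IsSubnormal) : N ≤ normalizer (A : Set G) := by
  induction hn : Nat.card G using Nat.strong_induction_on generalizing G with
  | _ n ih =>
  rcases hA.lt_normal with h | ⟨M, hM, hAM, hlt⟩
  · subst h; intro x _; exact Subgroup.mem_normalizer_iff.mpr fun y => by simp
  haveI := hM
  haveI := hN.normal
  rcases hN.le_or_inf_eq_bot M with hNM | hNM
  swap
  · have hc := CfsgLib.Base.le_centralizer_of_normal_disjoint (H := N) (K := M) hNM
    intro x hx
    exact Subgroup.centralizer_le_normalizer _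
      (Subgroup.centralizer_le (SetLike.coe_subset_coe.mpr hAM) (hc hx))
  have hcard : Nat.card M < n := hn ▸ (Subgroup.card_le_card_group M).lt_of_ne
    (fun h => hlt.ne (Subgroup.eq_top_of_card_eq M h))
  refine (exists_join_minimal M hN hNM).trans (sSup_le fun X ⟨Y, hY, _, hX⟩ => ?_)
  rw [hX]
  rintro _ ⟨y, hy, rfl⟩
  have h1 : y ∈ normalizer ((A.subgroupOf M : Subgroup ↥M) : Set ↥M) :=
    ih _ hcard hY hA.subgroupOf rfl hy
  rw [Subgroup.mem_normalizer_iff] at h1 ⊢
  intro a
  show a ∈ A ↔ (y : G) * a * (y : G)⁻¹ ∈ A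
  constructor
  · intro ha
    exact (h1 ⟨a, hAM ha⟩).mp ha
  · intro ha
    have hmem : a ∈ M := by
      have := M.mul_mem (M.mul_mem (M.inv_mem y.2) (hAM ha)) y.2
      simpa [mul_assoc] using this
    exact (h1 ⟨a, hmem⟩).mpr ha

/-- The Sylow subgroup of a product of two normal subgroups. -/
theorem normal_case (S : Sylow p G) {C D N : Subgroup G} [N.Normal] (hC : C ≤ N) (hD : D ≤ N)
    (hCn : N ≤ normalizer (C : Set G)) (hDn : N ≤ normalizer (D : Set G)) (hN : C ⊔ D = N)
    (hDs : D.IsSubnormal) :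
    N ⊓ (S : Subgroup G) ≤ (C ⊓ (S : Subgroup G)) ⊔ (D ⊓ (S : Subgroup G)) := by
  set E := D ⊓ (S : Subgroup G) with hE
  set P := N ⊓ (S : Subgroup G) with hP
  have hCnE : E ≤ normalizer (C : Set G) := inf_le_left.trans (hD.trans hCn)
  set Y := C ⊔ E with hY
  have hYN : Y ≤ N := sup_le hC (inf_le_left.trans hD)
  have hidx : ¬ p ∣ Y.relIndex N := by
    have hd : Y.relIndex N ∣ E.relIndex D := by
      have e1 : N = C ⊔ D := hN.symm
      have h1 : Y.relIndex N * (C.relIndex Y) = C.relIndex N := by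
        rw [mul_comm]; exact relIndex_mul_relIndex C Y N le_sup_left hYN
      have hCN : (C.subgroupOf N).Normal := normal_subgroupOf_of_le_normalizer hCn
      have h2 : C.relIndex N = C.relIndex D := by
        rw [e1]
        have := Subgroup.relIndex_sup_right (K := C.subgroupOf N) (H := D.subgroupOf N)
        rw [← subgroupOf_sup hD hC, relIndex_subgroupOf (sup_le hD hC), relIndex_subgroupOf hD] at this
        rw [sup_comm]; exact this
      have h3 : C.relIndex Y = C.relIndex E := by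
        have := Subgroup.relIndex_sup_right (K := C.subgroupOf N) (H := E.subgroupOf N)
        rw [← subgroupOf_sup (inf_le_left.trans hD) hC,
          relIndex_subgroupOf (sup_le (inf_le_left.trans hD) hC),
          relIndex_subgroupOf (inf_le_left.trans hD)] at this
        rw [hY, sup_comm]; exact this
      rw [h2, h3] at h1
      have h4 : C.relIndex D ∣ (C ⊓ E).relIndex D :=
        relIndex_dvd_of_le_left _ inf_le_left
      have h5 : (C ⊓ E).relIndex E * E.relIndex D = (C ⊓ E).relIndex D :=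
        relIndex_mul_relIndex _ _ _ inf_le_right inf_le_left
      rw [inf_relIndex_right] at h5
      rw [← h1, ← h5, mul_comm (Y.relIndex N)] at h4
      exact Nat.dvd_of_mul_dvd_mul_left (Nat.pos_of_ne_zero FiniteIndex.index_ne_zero) h4
    exact fun h => not_dvd_inf S hDs (h.trans hd)
  have hPY : P ≤ normalizer (Y : Set G) := by
    refine le_normalizer_sup_of_le (C := C) (E := E) (P := P) ?_ ?_
    · exact inf_le_left.trans hCn
    · intro x hx
      refine Subgroup.mem_normalizer_iff.mpr fun y => ?_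
      rw [hE, mem_inf, mem_inf, Subgroup.mem_normalizer_iff.mp (hDn hx.1) y,
        Subgroup.mem_normalizer_iff.mp (le_normalizer hx.2) y]
  have hPin : P ≤ Y := by
    have h1 : Y.relIndex (P ⊔ Y) ∣ Y.relIndex N :=
      dvd_of_mul_right_eq _ (relIndex_mul_relIndex Y (P ⊔ Y) N le_sup_right (sup_le inf_le_left hYN))
    haveI hYn : (Y.subgroupOf (P ⊔ Y)).Normal :=
      normal_subgroupOf_of_le_normalizer (sup_le hPY le_normalizer)
    have h2 : Y.relIndex (P ⊔ Y) = Y.relIndex P := by
      have := Subgroup.relIndex_sup_right (K := Y.subgroupOf (P ⊔ Y)) (H := P.subgroupOf (P ⊔ Y))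
      rwa [← subgroupOf_sup le_sup_left le_sup_right, relIndex_subgroupOf le_rfl,
        relIndex_subgroupOf le_sup_left] at this
    obtain ⟨k, hk⟩ := (S.2.to_le (inf_le_right : P ≤ _)).index (Y.subgroupOf P)
    have h3 : Y.relIndex P = p ^ k := hk
    rcases k with _ | k
    · exact relIndex_eq_one.mp (h3.trans (pow_zero p))
    · exact absurd ((dvd_pow_self p k.succ_ne_zero).trans ((h3 ▸ h2 ▸ h1 :)))
        hidx
  intro x hx
  have hxY : x ∈ ((C : Set G) * (E : Set G)) := by
    rw [← Subgroup.coe_mul_of_right_le_normalizer_left C E hCnE]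
    exact hPin hx
  obtain ⟨c, hc, e, he, rfl⟩ := Set.mem_mul.mp hxY
  have hcS : c ∈ (S : Subgroup G) := by
    have := (S : Subgroup G).mul_mem hx.2 ((S : Subgroup G).inv_mem he.2)
    simpa using this
  exact mul_mem_sup ⟨hc, hcS⟩ he
where
  le_normalizer_sup_of_le {C E P : Subgroup G} (hC : P ≤ normalizer (C : Set G))
      (hE : P ≤ normalizer (E : Set G)) : P ≤ normalizer ((C ⊔ E : Subgroup G) : Set G) :=
    fun x hx => Subgroup.mem_normalizer_iff.mpr fun y => by
      have e : (C ⊔ E).map (MulAut.conj x).toMonoidHom = C ⊔ E := by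
        rw [Subgroup.map_sup, show C.map (MulAut.conj x).toMonoidHom = C from ?_,
          show E.map (MulAut.conj x).toMonoidHom = E from ?_]
        · ext w
          rw [Subgroup.mem_map]
          constructor
          · rintro ⟨v, hv, rfl⟩
            exact (Subgroup.mem_normalizer_iff.mp (hE hx) v).mp hv
          · intro hw
            refine ⟨x⁻¹ * w * x, (Subgroup.mem_normalizer_iff.mp (hE hx) _).mpr ?_, ?_⟩
            · simpa [mul_assoc] using hw
            · simp [mul_assoc]
        · ext w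
          rw [Subgroup.mem_map]
          constructor
          · rintro ⟨v, hv, rfl⟩
            exact (Subgroup.mem_normalizer_iff.mp (hC hx) v).mp hv
          · intro hw
            refine ⟨x⁻¹ * w * x, (Subgroup.mem_normalizer_iff.mp (hC hx) _).mpr ?_, ?_⟩
            · simpa [mul_assoc] using hw
            · simp [mul_assoc]
      constructor
      · intro hy
        exact e.le ⟨y, hy, rfl⟩
      · intro hy
        obtain ⟨v, hv, hvy⟩ := Subgroup.mem_map.mp (e.ge hy)
        have : v = y := (MulAut.conj x).injective hvy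
        exact this ▸ hv

/-- An element of order prime to `p` lies in every subnormal subgroup of `p`-power index. -/
theorem mem_of_subnormal_of_index {L : Subgroup G} (hL : L.IsSubnormal) (hidx : ∃ k, L.index = p ^ k)
    {g : G} (hg : (orderOf g).Coprime p) : g ∈ L := by
  induction hL with
  | top => exact mem_top _
  | step H K hle hK hn ih =>
    obtain ⟨k, hk⟩ := hidx
    obtain ⟨i, -, hi⟩ := (Nat.dvd_prime_pow hp.out).mp (hk ▸ index_dvd_of_le hle)
    obtain ⟨j, -, hj⟩ := (Nat.dvd_prime_pow hp.out).mp (hk ▸ relIndex_dvd_index_of_le hle)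
    have hgK : g ∈ K := ih ⟨i, hi⟩
    haveI := hn
    have hmem : (⟨g, hgK⟩ : ↥K) ∈ H.subgroupOf K :=
      CfsgLib.Transfer.pResidual_le ⟨j, hj⟩
        (CfsgLib.Transfer.mem_pResidual_of_coprime (by rwa [Subgroup.orderOf_mk]))
    exact hmem

/-- A central Sylow complement forces a nontrivial `p`-quotient. -/
theorem mem_of_central (S : Sylow p G) (hres : Cfsg.pResidual p G = ⊤) {N T : Subgroup G}
    (hNZ : N ≤ center G) (hTS : T ≤ S) (hST : (S : Subgroup G) ≤ T ⊔ N) : N ⊓ S ≤ T := by
  intro z hz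
  haveI hTn : (T.subgroupOf S).Normal := by
    refine ⟨fun t ht g => ?_⟩
    rw [mem_subgroupOf] at ht ⊢
    have hTN : T ⊔ N ≤ normalizer (T : Set G) :=
      sup_le le_normalizer ((hNZ.trans (center_le_centralizer _)).trans (centralizer_le_normalizer _))
    exact (Subgroup.mem_normalizer_iff.mp (hTN (hST g.2)) _).mp ht
  have hcomm : ∀ a b : ↥S ⧸ T.subgroupOf S, a * b = b * a := by
    intro a b
    obtain ⟨a, rfl⟩ := QuotientGroup.mk_surjective a
    obtain ⟨b, rfl⟩ := QuotientGroup.mk_surjective b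
    haveI : N.Normal := ⟨fun n hn g => by
      rw [(Subgroup.mem_center_iff.mp (hNZ hn) g), mul_inv_cancel_right]; exact hn⟩
    have hdec : ∀ a : ↥S, ∃ n : ↥S, (n : G) ∈ N ∧
        (QuotientGroup.mk a : ↥S ⧸ T.subgroupOf S) = QuotientGroup.mk n := by
      intro a
      obtain ⟨t, ht, n, hn, htn⟩ := Subgroup.mem_sup_of_normal_right.mp (hST a.2)
      have hnS : n ∈ (S : Subgroup G) := by
        have := (S : Subgroup G).mul_mem ((S : Subgroup G).inv_mem (hTS ht)) a.2
        rwa [← htn, inv_mul_cancel_left] at this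
      refine ⟨⟨n, hnS⟩, hn, QuotientGroup.eq.mpr ?_⟩
      rw [mem_subgroupOf]
      show (a : G)⁻¹ * n ∈ T
      rw [← htn]
      have : (t * n)⁻¹ * n = t⁻¹ := by
        rw [(Subgroup.mem_center_iff.mp (hNZ hn) t)]; group
      rw [this]; exact T.inv_mem ht
    obtain ⟨n, hn, hn'⟩ := hdec a
    rw [hn', ← QuotientGroup.mk_mul, ← QuotientGroup.mk_mul]
    congr 1
    exact Subtype.ext (Subgroup.mem_center_iff.mp (hNZ hn) (b : G)).symm
  letI : CommGroup (↥S ⧸ T.subgroupOf S) :=
    { (inferInstance : Group (↥S ⧸ T.subgroupOf S)) with mul_comm := hcomm }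
  let ϕ : ↥(S : Subgroup G) →* ↥S ⧸ T.subgroupOf S := QuotientGroup.mk' _
  have hV : MonoidHom.transfer ϕ z = 1 := by
    have hq : IsPGroup p (↥S ⧸ T.subgroupOf S) :=
      S.2.of_surjective ϕ (QuotientGroup.mk'_surjective _)
    have hker : Cfsg.pResidual p G ≤ (MonoidHom.transfer ϕ).ker := by
      rw [Cfsg.pResidual, Subgroup.closure_le]
      intro g hg
      exact CfsgLib.Transfer.eq_one_of_coprime_orderOf hq
        (Nat.Coprime.coprime_dvd_left (orderOf_map_dvd (MonoidHom.transfer ϕ) g) hg)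
    exact hker (hres ▸ mem_top z)
  rw [MonoidHom.transfer_eq_pow (ϕ := ϕ) z (fun k g _ => by
    rw [mul_assoc, ← Subgroup.mem_center_iff.mp (pow_mem (hNZ hz.1) k) g, inv_mul_cancel_left]),
    QuotientGroup.mk'_apply, QuotientGroup.eq_one_iff, mem_subgroupOf] at hV
  obtain ⟨k, hk⟩ := IsPGroup.iff_orderOf.mp S.2 ⟨z, hz.2⟩
  rw [Subgroup.orderOf_mk] at hk
  have hcop : (S : Subgroup G).index.Coprime (orderOf z) := by
    rw [hk]
    exact ((hp.out.coprime_iff_not_dvd.mpr S.not_dvd_index).symm).pow_right k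
  obtain ⟨m, hm⟩ := exists_pow_eq_self_of_coprime hcop
  rw [← hm]
  exact T.pow_mem hV m

/-- A Sylow subgroup of the join of two subnormal subgroups is generated by its intersections. -/
theorem sup_inf_le {G : Type u} [Group G] [Finite G] {A B : Subgroup G} (hA : A.IsSubnormal)
    (hB : B.IsSubnormal) {p : ℕ} [Fact p.Prime] (S : Sylow p G) :
    (A ⊔ B) ⊓ (S : Subgroup G) ≤ (A ⊓ (S : Subgroup G)) ⊔ (B ⊓ (S : Subgroup G)) := by
  classical
  induction hn : Nat.card G using Nat.strong_induction_on generalizing G p with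
  | _ n ih =>
  -- reduction to `A ⊔ B = ⊤`
  have sub : ∀ (L X Y : Subgroup G), L ≠ ⊤ → X.IsSubnormal → Y.IsSubnormal → X ⊔ Y = L →
      L.IsSubnormal → ∀ (q : ℕ) [Fact q.Prime] (R : Sylow q G),
        L ⊓ (R : Subgroup G) ≤ (X ⊓ (R : Subgroup G)) ⊔ (Y ⊓ (R : Subgroup G)) := by
    intro L X Y hL hX hY hXY hLs q _ R
    have hcard : Nat.card L < n := hn ▸ (Subgroup.card_le_card_group L).lt_of_ne
      (fun h => hL (Subgroup.eq_top_of_card_eq L h))
    obtain ⟨R', hR'⟩ : ∃ R' : Sylow q ↥L, (R' : Subgroup ↥L) = (R : Subgroup G).subgroupOf L :=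
      ⟨(R.2.comap_of_injective L.subtype L.subtype_injective).toSylow
        (CfsgLib.Components.not_dvd_relIndex_of_isSubnormal R hLs), rfl⟩
    have h := ih _ hcard hX.subgroupOf hY.subgroupOf R' rfl
    have hXL : X ≤ L := hXY ▸ le_sup_left
    have hYL : Y ≤ L := hXY ▸ le_sup_right
    rw [hR', ← subgroupOf_sup hXL hYL, hXY] at h
    intro x hx
    have h2 := h (show (⟨x, hx.1⟩ : ↥L) ∈ L.subgroupOf L ⊓ (R : Subgroup G).subgroupOf L from
      ⟨hx.1, hx.2⟩)
    have h3 : (X.subgroupOf L ⊓ (R : Subgroup G).subgroupOf L ⊔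
        Y.subgroupOf L ⊓ (R : Subgroup G).subgroupOf L).map L.subtype ≤
        (X ⊓ (R : Subgroup G)) ⊔ (Y ⊓ (R : Subgroup G)) := by
      rw [Subgroup.map_le_iff_le_comap]
      exact sup_le (fun y hy => Subgroup.mem_sup_left ⟨hy.1, hy.2⟩)
        (fun y hy => Subgroup.mem_sup_right ⟨hy.1, hy.2⟩)
    exact h3 ⟨_, h2, rfl⟩
  by_cases htop : A ⊔ B = ⊤
  swap
  · exact sub _ A B htop hA hB rfl (CfsgLib.PLocal.isSubnormal_join hA hB) p S
  rcases subsingleton_or_nontrivial G with hs | hnt
  · intro x _; rw [Subsingleton.elim x 1]; exact one_mem _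
  obtain ⟨N, hN⟩ := CfsgLib.Base.exists_isMinimalNormal (G := G)
  haveI := hN.normal
  -- the quotient by `N`
  have cover : ∀ (q : ℕ) [Fact q.Prime] (R : Sylow q G),
      (R : Subgroup G) ≤ ((A ⊓ (R : Subgroup G)) ⊔ (B ⊓ (R : Subgroup G))) ⊔ N := by
    intro q _ R
    have hcard : Nat.card (G ⧸ N) < n := by
      rw [← hn, Subgroup.card_eq_card_quotient_mul_card_subgroup N]
      exact lt_mul_of_one_lt_right Nat.card_pos (N.one_lt_card_iff_ne_bot.mpr hN.ne_bot)
    let R' : Sylow q (G ⧸ N) := R.mapSurjective (QuotientGroup.mk'_surjective N)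
    have h := ih _ hcard (hA.map (QuotientGroup.mk'_surjective N))
      (hB.map (QuotientGroup.mk'_surjective N)) R' rfl
    have hmap : ∀ X : Subgroup G, X.IsSubnormal →
        X.map (QuotientGroup.mk' N) ⊓ (R' : Subgroup (G ⧸ N)) =
          (X ⊓ (R : Subgroup G)).map (QuotientGroup.mk' N) := by
      intro X hX
      refine (eq_of_le_of_not_dvd (le_inf (Subgroup.map_mono inf_le_left)
        (Subgroup.map_mono inf_le_right)) (R'.2.to_le inf_le_right) fun hd => ?_).symm
      refine not_dvd_inf R hX ?_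
      refine hd.trans ?_
      refine (dvd_of_mul_right_eq _ (relIndex_mul_relIndex _
        (X.map (QuotientGroup.mk' N) ⊓ (R' : Subgroup (G ⧸ N))) (X.map (QuotientGroup.mk' N))
        (le_inf (Subgroup.map_mono inf_le_left) (Subgroup.map_mono inf_le_right))
        inf_le_left)).trans ?_
      have he : ((X ⊓ (R : Subgroup G)).map (QuotientGroup.mk' N)).subgroupOf
          (X.map (QuotientGroup.mk' N)) = ((X ⊓ (R : Subgroup G)).subgroupOf X).map
            ((QuotientGroup.mk' N).subgroupMap X) := by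
        ext ⟨y, hy⟩
        simp only [Subgroup.mem_subgroupOf, Subgroup.mem_map]
        constructor
        · rintro ⟨v, hv, hvy⟩
          exact ⟨⟨v, hv.1⟩, hv, Subtype.ext hvy⟩
        · rintro ⟨v, hv, hvy⟩
          exact ⟨v, hv, congrArg Subtype.val hvy⟩
      show (((X ⊓ (R : Subgroup G)).map (QuotientGroup.mk' N)).subgroupOf _).index ∣
        ((X ⊓ (R : Subgroup G)).subgroupOf X).index
      rw [he]
      exact Subgroup.index_map_dvd _ ((QuotientGroup.mk' N).subgroupMap_surjective X)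
    rw [← Subgroup.map_sup, htop, hmap A hA, hmap B hB, ← Subgroup.map_sup,
      ← MonoidHom.range_eq_map, QuotientGroup.range_mk', top_inf_eq] at h
    have h2 : (R : Subgroup G).map (QuotientGroup.mk' N) ≤ _ := h
    rw [Subgroup.map_le_iff_le_comap, Subgroup.comap_map_eq, QuotientGroup.ker_mk'] at h2
    exact h2
  have reduce : ∀ (q : ℕ) [Fact q.Prime] (R : Sylow q G),
      N ⊓ (R : Subgroup G) ≤ (A ⊓ (R : Subgroup G)) ⊔ (B ⊓ (R : Subgroup G)) →
      (R : Subgroup G) ≤ (A ⊓ (R : Subgroup G)) ⊔ (B ⊓ (R : Subgroup G)) := by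
    intro q _ R hNR x hx
    obtain ⟨t, ht, m, hm, rfl⟩ := Subgroup.mem_sup_of_normal_right.mp (cover q R hx)
    have htR : t ∈ (R : Subgroup G) := (sup_le inf_le_right inf_le_right :
      (A ⊓ (R : Subgroup G)) ⊔ (B ⊓ (R : Subgroup G)) ≤ (R : Subgroup G)) ht
    refine Subgroup.mul_mem _ ht (hNR ⟨hm, ?_⟩)
    have := (R : Subgroup G).mul_mem ((R : Subgroup G).inv_mem htR) hx
    rwa [inv_mul_cancel_left] at this
  have coprimeCase : ∀ (q : ℕ) [Fact q.Prime] (R : Sylow q G), ¬ q ∣ Nat.card N →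
      (R : Subgroup G) ≤ (A ⊓ (R : Subgroup G)) ⊔ (B ⊓ (R : Subgroup G)) := by
    intro q _ R hq
    refine reduce q R ?_
    have hb : N ⊓ (R : Subgroup G) = ⊥ := by
      refine Subgroup.inf_eq_bot_of_coprime ?_
      obtain ⟨k, hk⟩ := IsPGroup.iff_card.mp R.2
      rw [hk]
      exact (((Fact.out : q.Prime).coprime_iff_not_dvd.mpr hq).symm).pow_right k
    rw [hb]; exact bot_le
  rw [htop, top_inf_eq]
  by_cases hpN : p ∣ Nat.card N
  swap
  · exact coprimeCase p S hpN
  -- `N` normalizes `A` and `B`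
  have hNA := minimal_le_normalizer hN hA
  have hNB := minimal_le_normalizer hN hB
  have hcA : ∀ m ∈ N, ∀ a ∈ A, ⁅a, m⁆ ∈ N ⊓ A := by
    intro m hm a ha
    refine ⟨?_, ?_⟩
    · rw [commutatorElement_def]
      exact N.mul_mem (hN.normal.conj_mem m hm a) (N.inv_mem hm)
    · rw [commutatorElement_def, show a * m * a⁻¹ * m⁻¹ = a * (m * a⁻¹ * m⁻¹) by group]
      exact A.mul_mem ha ((Subgroup.mem_normalizer_iff.mp (hNA hm) a⁻¹).mp (A.inv_mem ha))
  have hcB : ∀ m ∈ N, ∀ b ∈ B, ⁅b, m⁆ ∈ N ⊓ B := by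
    intro m hm a ha
    refine ⟨?_, ?_⟩
    · rw [commutatorElement_def]
      exact N.mul_mem (hN.normal.conj_mem m hm a) (N.inv_mem hm)
    · rw [commutatorElement_def, show a * m * a⁻¹ * m⁻¹ = a * (m * a⁻¹ * m⁻¹) by group]
      exact B.mul_mem ha ((Subgroup.mem_normalizer_iff.mp (hNB hm) a⁻¹).mp (B.inv_mem ha))
  set W := (N ⊓ A) ⊔ (N ⊓ B) with hW
  have hWconj : ∀ g : G, ∀ w ∈ W, g * w * g⁻¹ ∈ W := by
    have key : ∀ g : G, (g ∈ A ∨ g ∈ B) → W ≤ W.comap (MulAut.conj g).toMonoidHom := by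
      intro g hg
      have hm : ∀ m ∈ N, ⁅g, m⁆ ∈ W := by
        intro m hm
        rcases hg with hg | hg
        · exact Subgroup.mem_sup_left (hcA m hm g hg)
        · exact Subgroup.mem_sup_right (hcB m hm g hg)
      have key2 : ∀ m ∈ W, g * m * g⁻¹ ∈ W := by
        intro m hmW
        have hmN : m ∈ N := (sup_le inf_le_left inf_le_left : W ≤ N) hmW
        rw [show g * m * g⁻¹ = ⁅g, m⁆ * m by rw [commutatorElement_def]; group]
        exact W.mul_mem (hm m hmN) hmW
      exact key2
    intro g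
    have hg : g ∈ A ⊔ B := htop ▸ mem_top g
    rw [Subgroup.sup_eq_closure] at hg
    induction hg using Subgroup.closure_induction'' with
    | mem g hg => exact fun w hw => key g hg hw
    | inv_mem g hg =>
      intro w hw
      exact key g⁻¹ (hg.imp A.inv_mem B.inv_mem) hw
    | one => simp
    | mul a b _ _ iha ihb =>
      intro w hw
      rw [show a * b * w * (a * b)⁻¹ = a * (b * w * b⁻¹) * a⁻¹ by group]
      exact iha _ (ihb _ hw)
  haveI hWn : W.Normal := ⟨fun w hw g => hWconj g w hw⟩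
  rcases hN.eq_bot_or_eq hWn (sup_le inf_le_left inf_le_left) with hW0 | hWN
  swap
  · refine reduce p S ?_
    refine (normal_case S (inf_le_left : N ⊓ A ≤ N) (inf_le_left : N ⊓ B ≤ N) ?_ ?_ hWN
      (hN.normal.isSubnormal.inf hB)).trans
      (sup_le (le_sup_of_le_left (inf_le_inf_right _ inf_le_right))
        (le_sup_of_le_right (inf_le_inf_right _ inf_le_right)))
    · intro m hm
      exact Subgroup.mem_normalizer_iff.mpr fun y => by
        rw [mem_inf, mem_inf, Subgroup.mem_normalizer_iff.mp (hNA hm) y,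
          Subgroup.mem_normalizer_iff.mp (le_normalizer hm) y]
    · intro m hm
      exact Subgroup.mem_normalizer_iff.mpr fun y => by
        rw [mem_inf, mem_inf, Subgroup.mem_normalizer_iff.mp (hNB hm) y,
          Subgroup.mem_normalizer_iff.mp (le_normalizer hm) y]
  -- `N` is central
  have hNZ : N ≤ center G := by
    intro m hm
    have h1 : A ⊔ B ≤ centralizer ({m} : Set G) := by
      refine sup_le (fun a ha => ?_) (fun b hb => ?_)
      · refine Subgroup.mem_centralizer_singleton_iff.mpr (commutatorElement_eq_one_iff_mul_comm.mp ?_)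
        exact Subgroup.mem_bot.mp (hW0.le (Subgroup.mem_sup_left (hcA m hm a ha)))
      · refine Subgroup.mem_centralizer_singleton_iff.mpr (commutatorElement_eq_one_iff_mul_comm.mp ?_)
        exact Subgroup.mem_bot.mp (hW0.le (Subgroup.mem_sup_right (hcB m hm b hb)))
    rw [htop] at h1
    exact Subgroup.mem_center_iff.mpr fun g =>
      Subgroup.mem_centralizer_singleton_iff.mp (h1 (mem_top g))
  have hNp : Nat.card N = p := by
    obtain ⟨x, hx⟩ := exists_prime_orderOf_dvd_card' p hpN
    have hnorm : (zpowers (x : G)).Normal := ⟨fun y hy g => by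
      have hyc : y ∈ center G := hNZ ((zpowers_le.mpr x.2) hy)
      rw [(Subgroup.mem_center_iff.mp hyc g), mul_inv_cancel_right]; exact hy⟩
    rcases hN.eq_bot_or_eq hnorm (zpowers_le.mpr x.2) with h | h
    · rw [Subgroup.zpowers_eq_bot, OneMemClass.coe_eq_one] at h
      rw [h, orderOf_one] at hx
      exact absurd hx.symm (Fact.out : p.Prime).ne_one
    · rw [← h, Nat.card_zpowers, Subgroup.orderOf_coe, hx]
  -- the residual
  set X := (Cfsg.pResidual p ↥A).map A.subtype with hX
  set Y := (Cfsg.pResidual p ↥B).map B.subtype with hY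
  have hXs : X.IsSubnormal := by
    haveI := CfsgLib.Transfer.pResidual_normal (G := ↥A) (p := p)
    exact Subgroup.IsSubnormal.trans' (Subgroup.Normal.isSubnormal inferInstance) hA
  have hYs : Y.IsSubnormal := by
    haveI := CfsgLib.Transfer.pResidual_normal (G := ↥B) (p := p)
    exact Subgroup.IsSubnormal.trans' (Subgroup.Normal.isSubnormal inferInstance) hB
  set L := X ⊔ Y with hL
  have hLs : L.IsSubnormal := CfsgLib.PLocal.isSubnormal_join hXs hYs
  have hidx : ∃ k, L.index = p ^ k := by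
    refine ⟨_, Nat.eq_prime_pow_of_unique_prime_dvd FiniteIndex.index_ne_zero ?_⟩
    intro q hq hqd
    by_contra hne
    haveI := Fact.mk hq
    obtain ⟨R⟩ := (inferInstance : Nonempty (Sylow q G))
    have h1 : (R : Subgroup G) ≤ L := by
      refine (coprimeCase q R ?_).trans (sup_le_sup ?_ ?_)
      · rw [hNp]; exact fun h => hne ((Nat.prime_dvd_prime_iff_eq hq Fact.out).mp h)
      all_goals
        intro x hx
        obtain ⟨k, hk⟩ := IsPGroup.iff_orderOf.mp R.2 ⟨x, hx.2⟩
        rw [Subgroup.orderOf_mk] at hk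
        refine ⟨⟨x, hx.1⟩, CfsgLib.Transfer.mem_pResidual_of_coprime ?_, rfl⟩
        rw [Subgroup.orderOf_mk, hk]
        exact Nat.Coprime.pow_left k ((Nat.coprime_primes hq Fact.out).mpr hne)
    exact R.not_dvd_index (hqd.trans (index_dvd_of_le h1))
  have hLres : Cfsg.pResidual p G = L := by
    refine le_antisymm ((closure_le _).mpr fun g hg => mem_of_subnormal_of_index hLs hidx hg) ?_
    exact sup_le (CfsgLib.Transfer.map_pResidual_le _) (CfsgLib.Transfer.map_pResidual_le _)
  set T := (A ⊓ (S : Subgroup G)) ⊔ (B ⊓ (S : Subgroup G)) with hT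
  by_cases hLtop : L = ⊤
  · exact reduce p S (mem_of_central S (hLres.trans hLtop) hNZ
      (sup_le inf_le_right inf_le_right) (cover p S))
  · haveI : L.Normal := hLres ▸ CfsgLib.Transfer.pResidual_normal
    have hin : L ⊓ (S : Subgroup G) ≤ T := (sub L X Y hLtop hXs hYs rfl hLs p S).trans
      (sup_le_sup (inf_le_inf_right _ (map_subtype_le _)) (inf_le_inf_right _ (map_subtype_le _)))
    have hgen : ∀ (Z : Subgroup G), Z.IsSubnormal →
        Z ≤ (Z ⊓ (S : Subgroup G)) ⊔ (Cfsg.pResidual p ↥Z).map Z.subtype := by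
      intro Z hZ
      let S' : Sylow p ↥Z := (S.2.comap_of_injective Z.subtype Z.subtype_injective).toSylow
        (CfsgLib.Components.not_dvd_relIndex_of_isSubnormal S hZ)
      have h1 := congrArg (Subgroup.map Z.subtype) (CfsgLib.Transfer.sup_pResidual_eq_top S')
      rw [Subgroup.map_sup, ← MonoidHom.range_eq_map, Subgroup.range_subtype] at h1
      refine h1.ge.trans (sup_le_sup_right ?_ _)
      rintro _ ⟨y, hy, rfl⟩
      exact ⟨y.2, hy⟩
    have hTL : T ⊔ L = ⊤ := by
      rw [eq_top_iff, ← htop]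
      refine sup_le ((hgen A hA).trans (sup_le_sup le_sup_left le_sup_left)) ?_
      exact (hgen B hB).trans (sup_le_sup le_sup_right le_sup_right)
    intro x hx
    have hxm : x ∈ T ⊔ L := hTL ▸ mem_top x
    obtain ⟨t, ht, l, hl, rfl⟩ := Subgroup.mem_sup_of_normal_right.mp hxm
    refine T.mul_mem ht (hin ⟨hl, ?_⟩)
    have := (S : Subgroup G).mul_mem ((S : Subgroup G).inv_mem
      ((sup_le inf_le_right inf_le_right : T ≤ (S : Subgroup G)) ht)) hx
    rwa [inv_mul_cancel_left] at this

end CfsgLib.LocalEven.SubSyl
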