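import Cfsg.Prelude.Def_LocalEven
import Cfsg.Prelude.Def_TwoFusion
import Cfsg.Agent.Lib.Classical.GL2

/-!
The natural `SL₂(q)`-module in coordinates in which a given Sylow subgroup is upper unitriangular.
-/

set_option autoImplicit false
set_option linter.unusedSectionVars false
set_option linter.style.haveILetI false

namespace CfsgLib.LocalEven.Natural

open Matrix Matrix.SpecialLinearGroup CfsgLib.Classical

variable {G : Type*} [Group G] {p : ℕ} [hp : Fact p.Prime] {F : Type*} [Field F]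

/-- Coordinates on a natural module `V` for `L` in which `T` becomes upper unitriangular. -/
structure Coord (F : Type*) [Field F] (V L T : Subgroup G) where
  /-- the matrices -/
  rho : L →* Matrix.SpecialLinearGroup (Fin 2) F
  /-- the coordinates -/
  f : G → (Fin 2 → F)
  map_mul : ∀ u ∈ V, ∀ v ∈ V, f (u * v) = f u + f v
  inj : ∀ u ∈ V, ∀ v ∈ V, f u = f v → u = v
  surj : ∀ w, ∃ v ∈ V, f v = w
  le_normalizer : L ≤ Subgroup.normalizer (V : Set G)
  act : ∀ (l : L), ∀ v ∈ V, f ((l : G) * v * (l : G)⁻¹) = (rho l).1.mulVec (f v)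
  rho_bij : Function.Bijective rho
  mem_T : ∀ l : L, (l : G) ∈ T ↔ rho l ∈ uSubgroup F
  T_le : T ≤ L

theorem exists_coord [Finite G] [Finite F] [CharP F p] {V L : Subgroup G}
    (hnat : Cfsg.IsNaturalSL2Module F V L)
    (hf : L ⊓ Subgroup.centralizer (V : Set G) = ⊥) (S : Sylow p L) :
    Nonempty (Coord F V L ((S : Subgroup L).map L.subtype)) := by
  classical
  obtain ⟨hLV, ρ, ψ, hρ, hker, hact⟩ := hnat
  have hinj : Function.Injective ρ := by
    rw [← MonoidHom.ker_eq_bot_iff, hker, Subgroup.subgroupOf_eq_bot, disjoint_iff, inf_comm]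
    exact hf
  obtain ⟨g, hg⟩ := MulAction.exists_smul_eq (Matrix.SpecialLinearGroup (Fin 2) F)
    (S.mapSurjective hρ) (uSylow (F := F) p)
  let φ : G → (Fin 2 → F) := fun x => if h : x ∈ V then g.1.mulVec (ψ (Additive.ofMul ⟨x, h⟩)) else 0
  have hφ : ∀ x (h : x ∈ V), φ x = g.1.mulVec (ψ (Additive.ofMul ⟨x, h⟩)) := fun x h => dif_pos h
  have hgi : (g⁻¹).1 * g.1 = 1 := by
    rw [← Matrix.SpecialLinearGroup.coe_mul, inv_mul_cancel, Matrix.SpecialLinearGroup.coe_one]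
  have hgi' : g.1 * (g⁻¹).1 = 1 := by
    rw [← Matrix.SpecialLinearGroup.coe_mul, mul_inv_cancel, Matrix.SpecialLinearGroup.coe_one]
  refine ⟨⟨(MulAut.conj g).toMonoidHom.comp ρ, φ, fun u hu v hv => ?_, fun u hu v hv e => ?_,
    fun w => ?_, hLV, fun l v hv => ?_, (MulAut.conj g).bijective.comp ⟨hinj, hρ⟩, fun l => ?_,
    Subgroup.map_subtype_le _⟩⟩
  · rw [hφ _ (mul_mem hu hv), hφ u hu, hφ v hv, ← Matrix.mulVec_add, ← map_add]
    rfl
  · rw [hφ u hu, hφ v hv] at e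
    have := congrArg ((g⁻¹).1.mulVec) e
    rw [Matrix.mulVec_mulVec, Matrix.mulVec_mulVec, hgi, Matrix.one_mulVec, Matrix.one_mulVec] at this
    exact congrArg Subtype.val (Additive.ofMul.injective (ψ.injective this))
  · refine ⟨(Additive.toMul (ψ.symm ((g⁻¹).1.mulVec w)) : V), Subtype.coe_prop _, ?_⟩
    rw [hφ _ (Subtype.coe_prop _)]
    simp only [Subtype.coe_eta, ofMul_toMul, AddEquiv.apply_symm_apply, Matrix.mulVec_mulVec, hgi',
      Matrix.one_mulVec]
  · obtain ⟨w, hw, hw'⟩ := hact l ⟨v, hv⟩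
    have e : (l : G) * v * (l : G)⁻¹ = (w : G) := hw.symm
    rw [e, hφ _ w.2, hφ v hv, Subtype.coe_eta, hw', Matrix.mulVec_mulVec, Matrix.mulVec_mulVec]
    congr 1
    show g.1 * (ρ l).1 = (g * ρ l * g⁻¹).1 * g.1
    rw [Matrix.SpecialLinearGroup.coe_mul, Matrix.SpecialLinearGroup.coe_mul, mul_assoc _ (g⁻¹).1,
      hgi, mul_one]
  · have h1 : ((g • S.mapSurjective hρ : Sylow p _) : Subgroup _) = uSubgroup F := by
      rw [hg]; rfl
    rw [← h1]
    constructor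
    · rintro ⟨s, hs, e⟩
      rw [show s = l from Subtype.ext e] at hs
      exact Subgroup.mem_map.2 ⟨ρ l, by rw [Sylow.coe_mapSurjective]; exact ⟨l, hs, rfl⟩, rfl⟩
    · intro h
      obtain ⟨a, ha, e⟩ := Subgroup.mem_map.1 h
      rw [Sylow.coe_mapSurjective] at ha
      obtain ⟨s, hs, rfl⟩ := ha
      exact ⟨s, hs, congrArg Subtype.val (hinj ((MulAut.conj g).injective e))⟩

theorem uSL_mulVec (c : F) (w : Fin 2 → F) : (uSL c).1.mulVec w = ![w 0 + c * w 1, w 1] := by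
  ext i
  fin_cases i <;> simp [uSL_coe, Matrix.mulVec, dotProduct, Fin.sum_univ_two]

namespace Coord

variable {V L T : Subgroup G} (D : Coord F V L T)
include D

theorem map_one : D.f 1 = 0 := by
  have h := D.map_mul 1 (one_mem V) 1 (one_mem V)
  rw [mul_one] at h
  simpa using h

theorem map_inv {v : G} (hv : v ∈ V) : D.f v⁻¹ = -D.f v := by
  have h := D.map_mul v hv _ (inv_mem hv)
  rw [mul_inv_cancel, D.map_one] at h
  exact eq_neg_of_add_eq_zero_right h.symm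

theorem commute {u v : G} (hu : u ∈ V) (hv : v ∈ V) : u * v = v * u :=
  D.inj _ (mul_mem hu hv) _ (mul_mem hv hu) (by rw [D.map_mul u hu v hv, D.map_mul v hv u hu, add_comm])

theorem conj_mem (l : L) {v : G} (hv : v ∈ V) : (l : G) * v * (l : G)⁻¹ ∈ V :=
  (Subgroup.mem_normalizer_iff.1 (D.le_normalizer l.2) v).1 hv

/-- The coordinate vector of a commutator. -/
theorem f_commutator (l : L) {v : G} (hv : v ∈ V) :
    D.f (v * (l : G) * v⁻¹ * (l : G)⁻¹) = D.f v - (D.rho l).1.mulVec (D.f v) := by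
  have e : v * (l : G) * v⁻¹ * (l : G)⁻¹ = v * ((l : G) * v * (l : G)⁻¹)⁻¹ := by group
  rw [e, D.map_mul v hv _ (inv_mem (D.conj_mem l hv)), D.map_inv (D.conj_mem l hv), D.act l v hv,
    sub_eq_add_neg]

theorem mem_centralizer_iff (l : L) {v : G} (hv : v ∈ V) :
    v * (l : G) = (l : G) * v ↔ (D.rho l).1.mulVec (D.f v) = D.f v := by
  rw [← D.act l v hv]
  constructor
  · intro h; rw [← h, mul_inv_cancel_right]
  · intro h
    have := D.inj _ (D.conj_mem l hv) v hv h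
    exact (mul_inv_eq_iff_eq_mul.1 this).symm

/-- The element of `L` with given matrix. -/
noncomputable def elt (g : Matrix.SpecialLinearGroup (Fin 2) F) : L := (D.rho_bij.2 g).choose

theorem rho_elt (g : Matrix.SpecialLinearGroup (Fin 2) F) : D.rho (D.elt g) = g :=
  (D.rho_bij.2 g).choose_spec

theorem exists_uSL {s : G} (hs : s ∈ T) :
    ∃ c : F, D.rho ⟨s, D.T_le hs⟩ = uSL c ∧ (c = 0 → s = 1) := by
  obtain ⟨c, hc⟩ := mem_uSubgroup_iff.1 ((D.mem_T ⟨s, D.T_le hs⟩).1 hs)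
  refine ⟨c, hc.symm, fun h0 => ?_⟩
  have h1 : D.rho ⟨s, D.T_le hs⟩ = D.rho 1 := by
    rw [_root_.map_one, ← hc, h0]
    exact transvection_coeff_zero _
  exact congrArg Subtype.val (D.rho_bij.1 h1)

theorem elt_uSL_mem (c : F) : (D.elt (uSL c) : G) ∈ T :=
  (D.mem_T _).2 (by rw [D.rho_elt]; exact mem_uSubgroup_iff.2 ⟨c, rfl⟩)

/-- The fixed points of `T`: the first axis. -/
theorem mem_fixed_iff {v : G} : v ∈ V ⊓ Subgroup.centralizer (T : Set G) ↔ v ∈ V ∧ D.f v 1 = 0 := by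
  constructor
  · rintro ⟨hv, hc⟩
    refine ⟨hv, ?_⟩
    have h := (D.mem_centralizer_iff (D.elt (uSL 1)) hv).1
      (Subgroup.mem_centralizer_iff.1 hc _ (D.elt_uSL_mem 1)).symm
    rw [D.rho_elt, uSL_mulVec] at h
    simpa using congrFun h 0
  · rintro ⟨hv, h1⟩
    refine ⟨hv, Subgroup.mem_centralizer_iff.2 fun s hs => ?_⟩
    obtain ⟨c, hc, -⟩ := D.exists_uSL hs
    refine ((D.mem_centralizer_iff ⟨s, D.T_le hs⟩ hv).2 ?_).symm
    rw [hc, uSL_mulVec]
    ext i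
    fin_cases i <;> simp [h1]

theorem commutator_mem {v s : G} (hv : v ∈ V) (hs : s ∈ T) :
    v * s * v⁻¹ * s⁻¹ ∈ V ⊓ Subgroup.centralizer (T : Set G) := by
  obtain ⟨c, hc, -⟩ := D.exists_uSL hs
  refine D.mem_fixed_iff.2 ⟨?_, ?_⟩
  · have e : v * s * v⁻¹ * s⁻¹ = v * (s * v⁻¹ * s⁻¹) := by group
    rw [e]
    exact mul_mem hv (D.conj_mem ⟨s, D.T_le hs⟩ (inv_mem hv))
  · have h := D.f_commutator ⟨s, D.T_le hs⟩ hv
    rw [hc, uSL_mulVec] at h
    rw [h]
    simp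

/-- Given the second coordinate of `v` and `z` on the first axis, some element of `T` gives the
commutator `z`. -/
theorem exists_commutator_eq {v z : G} (hv : v ∈ V) (hv1 : D.f v 1 ≠ 0)
    (hz : z ∈ V ⊓ Subgroup.centralizer (T : Set G)) : ∃ t ∈ T, z = v * t * v⁻¹ * t⁻¹ := by
  obtain ⟨hzV, hz1⟩ := D.mem_fixed_iff.1 hz
  refine ⟨_, D.elt_uSL_mem (-(D.f z 0) / D.f v 1), ?_⟩
  refine D.inj _ hzV _ (D.commutator_mem hv (D.elt_uSL_mem _)).1 ?_
  rw [D.f_commutator _ hv, D.rho_elt, uSL_mulVec]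
  ext i
  fin_cases i
  · simp [div_mul_cancel₀ _ hv1]
  · simp [hz1]

theorem commutator_zpowers {s : G} (hs : s ∈ T) (hs1 : s ≠ 1) :
    ⁅V, Subgroup.zpowers s⁆ = V ⊓ Subgroup.centralizer (T : Set G) := by
  refine le_antisymm (Subgroup.commutator_le.2 fun v hv t ht => ?_) fun z hz => ?_
  · rw [commutatorElement_def]
    exact D.commutator_mem hv (Subgroup.zpowers_le.2 hs ht)
  · obtain ⟨c, hc, hc0⟩ := D.exists_uSL hs
    have hcne : c ≠ 0 := fun h => hs1 (hc0 h)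
    obtain ⟨hzV, hz1⟩ := D.mem_fixed_iff.1 hz
    obtain ⟨v, hv, hvw⟩ := D.surj ![0, -(D.f z 0) / c]
    have e : z = v * s * v⁻¹ * s⁻¹ := by
      refine D.inj _ hzV _ (D.commutator_mem hv hs).1 ?_
      rw [show v * s * v⁻¹ * s⁻¹ = v * ((⟨s, D.T_le hs⟩ : L) : G) * v⁻¹ *
        ((⟨s, D.T_le hs⟩ : L) : G)⁻¹ from rfl, D.f_commutator _ hv, hc, uSL_mulVec, hvw]
      ext i
      fin_cases i
      · simp [mul_div_cancel₀ _ hcne]
      · simp [hz1]
    rw [e, ← commutatorElement_def]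
    exact Subgroup.commutator_mem_commutator hv (Subgroup.mem_zpowers s)

theorem commutator_eq : ⁅V, T⁆ = V ⊓ Subgroup.centralizer (T : Set G) := by
  refine le_antisymm (Subgroup.commutator_le.2 fun v hv t ht => ?_) fun z hz => ?_
  · rw [commutatorElement_def]
    exact D.commutator_mem hv ht
  · obtain ⟨v, hv, hvw⟩ := D.surj ![0, 1]
    obtain ⟨t, ht, rfl⟩ := D.exists_commutator_eq hv (by rw [hvw]; simp) hz
    rw [← commutatorElement_def]
    exact Subgroup.commutator_mem_commutator hv ht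

theorem centralizer_singleton_eq {s : G} (hs : s ∈ T) (hs1 : s ≠ 1) :
    V ⊓ Subgroup.centralizer ({s} : Set G) = V ⊓ Subgroup.centralizer (T : Set G) := by
  refine le_antisymm (fun v ⟨hv, hvs⟩ => D.mem_fixed_iff.2 ⟨hv, ?_⟩)
    (inf_le_inf_left V (Subgroup.centralizer_le (Set.singleton_subset_iff.2 hs)))
  obtain ⟨c, hc, hc0⟩ := D.exists_uSL hs
  have h := (D.mem_centralizer_iff ⟨s, D.T_le hs⟩ hv).1 (Subgroup.mem_centralizer_singleton_iff.1 hvs)
  rw [hc, uSL_mulVec] at h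
  have h0 := congrFun h 0
  simp at h0
  exact h0.resolve_left fun hcz => hs1 (hc0 hcz)

theorem card_V : Nat.card V = Nat.card F ^ 2 := by
  rw [Nat.card_congr (Equiv.ofBijective (fun v : V => D.f v) ⟨fun a b h =>
    Subtype.ext (D.inj _ a.2 _ b.2 h), fun w => by
      obtain ⟨v, hv, e⟩ := D.surj w
      exact ⟨⟨v, hv⟩, e⟩⟩), Nat.card_fun, Nat.card_fin]

theorem card_fixed :
    Nat.card ↥(V ⊓ Subgroup.centralizer (T : Set G)) = Nat.card F := by
  refine Nat.card_congr (Equiv.ofBijective (fun v : ↥(V ⊓ Subgroup.centralizer (T : Set G)) =>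
    D.f v 0) ⟨fun a b h => Subtype.ext ?_, fun c => ?_⟩)
  · obtain ⟨ha, ha1⟩ := D.mem_fixed_iff.1 a.2
    obtain ⟨hb, hb1⟩ := D.mem_fixed_iff.1 b.2
    refine D.inj _ ha _ hb ?_
    ext i
    fin_cases i
    · exact h
    · exact ha1.trans hb1.symm
  · obtain ⟨v, hv, e⟩ := D.surj ![c, 0]
    exact ⟨⟨v, D.mem_fixed_iff.2 ⟨hv, by rw [e]; simp⟩⟩, by show D.f v 0 = c; rw [e]; simp⟩

theorem mem_normalizer_of_triangular [Finite G] (l : L) (h10 : (D.rho l).1 1 0 = 0) :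
    (l : G) ∈ Subgroup.normalizer (T : Set G) := by
  have key : ∀ k : L, (D.rho k).1 1 0 = 0 → ∀ t ∈ T, (k : G) * t * (k : G)⁻¹ ∈ T := by
    intro k hk t ht
    obtain ⟨c, hc, -⟩ := D.exists_uSL ht
    have hd : (D.rho k).1 1 1 ≠ 0 := fun h => by
      have := (D.rho k).2
      rw [Matrix.det_fin_two, hk, h] at this
      simp at this
    have e : D.rho k * uSL c = uSL ((D.rho k).1 0 0 * c / (D.rho k).1 1 1) * D.rho k :=
      Subtype.ext (by
        rw [Matrix.SpecialLinearGroup.coe_mul, Matrix.SpecialLinearGroup.coe_mul]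
        exact triangular_mul_uSL hk hd c)
    refine (D.mem_T (k * ⟨t, D.T_le ht⟩ * k⁻¹)).2 (mem_uSubgroup_iff.2
      ⟨(D.rho k).1 0 0 * c / (D.rho k).1 1 1, ?_⟩)
    rw [_root_.map_mul, _root_.map_mul, _root_.map_inv, hc, e, mul_inv_cancel_right]
  refine Subgroup.mem_normalizer_iff_map_conj_eq.2 (Subgroup.eq_of_le_of_card_ge ?_
    (Subgroup.card_map_of_injective (K := T) (f := (MulAut.conj (l : G)).toMonoidHom)
      (MulAut.conj (l : G)).injective).ge)
  rintro _ ⟨t, ht, rfl⟩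
  exact key l h10 t ht

theorem fixed_inf_conj [Finite G] {g : G} (hg : g ∈ L)
    (hgN : g ∉ Subgroup.normalizer (T : Set G)) :
    Cfsg.IsInternalDirectProduct (V ⊓ Subgroup.centralizer (T : Set G))
      (V ⊓ Subgroup.centralizer ((T.map (MulAut.conj g).toMonoidHom : Subgroup G) : Set G)) V := by
  set l : L := ⟨g, hg⟩
  have h10 : (D.rho l).1 1 0 ≠ 0 := fun h => hgN (D.mem_normalizer_of_triangular l h)
  have hmem : ∀ v, v ∈ V ⊓ Subgroup.centralizer ((T.map (MulAut.conj g).toMonoidHom : Subgroup G) : Set G) ↔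
      ∃ a ∈ V ⊓ Subgroup.centralizer (T : Set G), g * a * g⁻¹ = v := by
    intro v
    constructor
    · rintro ⟨hv, hc⟩
      refine ⟨g⁻¹ * v * g, ⟨?_, Subgroup.mem_centralizer_iff.2 fun t ht => ?_⟩, by group⟩
      · simpa using D.conj_mem (l⁻¹) hv
      · have := Subgroup.mem_centralizer_iff.1 hc (g * t * g⁻¹) ⟨t, ht, rfl⟩
        calc t * (g⁻¹ * v * g) = g⁻¹ * ((g * t * g⁻¹) * v) * g := by group
          _ = g⁻¹ * v * g * t := by rw [this]; group
    · rintro ⟨a, ⟨ha, hac⟩, rfl⟩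
      refine ⟨D.conj_mem l ha, Subgroup.mem_centralizer_iff.2 ?_⟩
      rintro _ ⟨t, ht, rfl⟩
      exact ((Commute.map (Subgroup.mem_centralizer_iff.1 hac t ht : Commute t a))
        (MulAut.conj g)).eq
  refine ⟨inf_le_left, inf_le_left, fun a ha b hb => D.commute ha.1 hb.1, ?_, ?_⟩
  · rw [eq_bot_iff]
    rintro v ⟨hv, hv'⟩
    obtain ⟨a, ha, rfl⟩ := (hmem v).1 hv'
    obtain ⟨hvV, hv1⟩ := D.mem_fixed_iff.1 hv
    obtain ⟨haV, ha1⟩ := D.mem_fixed_iff.1 ha
    rw [show g * a * g⁻¹ = (l : G) * a * (l : G)⁻¹ from rfl, D.act l a haV] at hv1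
    simp [Matrix.mulVec, dotProduct, Fin.sum_univ_two, ha1, h10] at hv1
    have : a = 1 := D.inj a haV 1 (one_mem V) (by
      rw [D.map_one]; ext i; fin_cases i
      · exact hv1
      · exact ha1)
    simp [this]
  · refine le_antisymm (sup_le inf_le_left inf_le_left) fun v hv => ?_
    obtain ⟨a, haV, haw⟩ := D.surj ![D.f v 1 / (D.rho l).1 1 0, 0]
    have ha : a ∈ V ⊓ Subgroup.centralizer (T : Set G) := D.mem_fixed_iff.2 ⟨haV, by rw [haw]; simp⟩
    have hb := D.conj_mem l haV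
    have e : v = v * ((l : G) * a * (l : G)⁻¹)⁻¹ * ((l : G) * a * (l : G)⁻¹) := by group
    rw [e]
    refine mul_mem (Subgroup.mem_sup_left (D.mem_fixed_iff.2 ⟨mul_mem hv (inv_mem hb), ?_⟩))
      (Subgroup.mem_sup_right ((hmem _).2 ⟨a, ha, rfl⟩))
    rw [D.map_mul v hv _ (inv_mem hb), D.map_inv hb, D.act l a haV, haw]
    simp [mul_div_cancel₀ _ h10]

theorem centralizer_eq_bot [CharP F p] {x : G} (hx : x ∈ L) (hx1 : x ≠ 1)
    (hcop : (orderOf x).Coprime p) : V ⊓ Subgroup.centralizer ({x} : Set G) = ⊥ := by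
  rw [eq_bot_iff]
  rintro v ⟨hv, hvx⟩
  rw [Subgroup.mem_bot]
  by_contra hne
  set l : L := ⟨x, hx⟩
  set M := (D.rho l).1 with hM
  have hfix : M.mulVec (D.f v) = D.f v :=
    (D.mem_centralizer_iff l hv).1 (Subgroup.mem_centralizer_singleton_iff.1 hvx)
  have hw : D.f v ≠ 0 := fun h => hne (D.inj v hv 1 (one_mem V) (by rw [h, D.map_one]))
  have hdet0 : (M - 1).det = 0 := Matrix.exists_mulVec_eq_zero_iff.1
    ⟨D.f v, hw, by rw [Matrix.sub_mulVec, hfix, Matrix.one_mulVec, sub_self]⟩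
  have hdet1 : M.det = 1 := (D.rho l).2
  rw [Matrix.det_fin_two] at hdet0 hdet1
  simp only [Matrix.sub_apply, Matrix.one_apply_eq, Fin.isValue, ne_eq, zero_ne_one,
    not_false_eq_true, Matrix.one_apply_ne, one_ne_zero, sub_zero] at hdet0
  have hsq : (M - 1) ^ 2 = 0 := by
    rw [pow_two]
    ext i j
    fin_cases i <;> fin_cases j <;>
      simp [Matrix.mul_apply, Fin.sum_univ_two] <;>
      first
        | linear_combination (M 0 0 - 1) * (hdet1 - hdet0) + (-1 : F) * hdet0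
        | linear_combination (M 1 1 - 1) * (hdet1 - hdet0) + (-1 : F) * hdet0
        | linear_combination (M 0 1) * (hdet1 - hdet0)
        | linear_combination (M 1 0) * (hdet1 - hdet0)
  have hMp : M ^ p = 1 := by
    have h0 : (M - 1) ^ p = 0 := pow_eq_zero_of_le hp.out.two_le hsq
    rw [sub_pow_char_of_commute p (Commute.one_right M), one_pow, sub_eq_zero] at h0
    exact h0
  have hxp : l ^ p = 1 := D.rho_bij.1 (Subtype.ext (by
    rw [map_pow, _root_.map_one, Matrix.SpecialLinearGroup.coe_pow,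
      Matrix.SpecialLinearGroup.coe_one]
    exact hMp))
  exact hx1 (orderOf_eq_one_iff.1 (Nat.eq_one_of_dvd_coprimes hcop dvd_rfl
    (orderOf_dvd_of_pow_eq_one (congrArg Subtype.val hxp))))

/-- Diagonal elements normalise `T`. -/
theorem exists_diag [Finite G] (a : Fˣ) :
    ∃ l : L, (l : G) ∈ L ⊓ Subgroup.normalizer (T : Set G) ∧
      ∀ w : Fin 2 → F, (D.rho l).1.mulVec w = ![(a : F) * w 0, (a : F)⁻¹ * w 1] := by
  set g : Matrix.SpecialLinearGroup (Fin 2) F := ⟨!![(a : F), 0; 0, (a : F)⁻¹], by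
    simp [Matrix.det_fin_two]⟩
  refine ⟨D.elt g, ⟨(D.elt g).2, D.mem_normalizer_of_triangular _ (by rw [D.rho_elt]; rfl)⟩,
    fun w => ?_⟩
  rw [D.rho_elt]
  ext i
  fin_cases i <;> simp [g, Matrix.mulVec, dotProduct, Fin.sum_univ_two]

theorem fixed_irreducible [Finite G] {U : Subgroup G}
    (hU : U ≤ V ⊓ Subgroup.centralizer (T : Set G))
    (hinv : L ⊓ Subgroup.normalizer (T : Set G) ≤ Subgroup.normalizer (U : Set G)) :
    U = ⊥ ∨ U = V ⊓ Subgroup.centralizer (T : Set G) := by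
  refine or_iff_not_imp_left.2 fun hne => le_antisymm hU fun z hz => ?_
  obtain ⟨u, hu, hu1⟩ := (U.ne_bot_iff_exists_ne_one).1 hne |> fun ⟨⟨u, hu⟩, h⟩ =>
    (⟨u, hu, fun e => h (Subtype.ext e)⟩ : ∃ u ∈ U, u ≠ 1)
  obtain ⟨huV, hu0⟩ := D.mem_fixed_iff.1 (hU hu)
  obtain ⟨hzV, hz0⟩ := D.mem_fixed_iff.1 hz
  have hu00 : D.f u 0 ≠ 0 := fun h => hu1 (D.inj u huV 1 (one_mem V) (by
    rw [D.map_one]; ext i; fin_cases i
    · exact h
    · exact hu0))
  by_cases hz00 : D.f z 0 = 0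
  · have : z = 1 := D.inj z hzV 1 (one_mem V) (by
      rw [D.map_one]; ext i; fin_cases i
      · exact hz00
      · exact hz0)
    rw [this]; exact one_mem U
  obtain ⟨l, hl, hlw⟩ := D.exists_diag (Units.mk0 (D.f z 0 / D.f u 0) (div_ne_zero hz00 hu00))
  have e : z = (l : G) * u * (l : G)⁻¹ := D.inj z hzV _ (D.conj_mem l huV) (by
    rw [D.act l u huV, hlw]
    ext i
    fin_cases i
    · simp [div_mul_cancel₀ _ hu00]
    · simp [hu0, hz0])
  exact e ▸ (Subgroup.mem_normalizer_iff.1 (hinv hl) u).1 hu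

theorem quotient_irreducible [Finite G] {U : Subgroup G}
    (hWU : V ⊓ Subgroup.centralizer (T : Set G) ≤ U) (hU : U ≤ V)
    (hinv : L ⊓ Subgroup.normalizer (T : Set G) ≤ Subgroup.normalizer (U : Set G)) :
    U = V ⊓ Subgroup.centralizer (T : Set G) ∨ U = V := by
  by_cases h : ∀ u ∈ U, D.f u 1 = 0
  · exact Or.inl (le_antisymm (fun u hu => D.mem_fixed_iff.2 ⟨hU hu, h u hu⟩) hWU)
  push Not at h
  obtain ⟨u, hu, hu1⟩ := h
  refine Or.inr (le_antisymm hU fun z hz => ?_)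
  by_cases hz1 : D.f z 1 = 0
  · exact hWU (D.mem_fixed_iff.2 ⟨hz, hz1⟩)
  obtain ⟨l, hl, hlw⟩ := D.exists_diag (Units.mk0 (D.f u 1 / D.f z 1) (div_ne_zero hu1 hz1))
  have hc : (l : G) * u * (l : G)⁻¹ ∈ U := (Subgroup.mem_normalizer_iff.1 (hinv hl) u).1 hu
  have e : z = z * ((l : G) * u * (l : G)⁻¹)⁻¹ * ((l : G) * u * (l : G)⁻¹) := by group
  rw [e]
  refine mul_mem (hWU (D.mem_fixed_iff.2 ⟨mul_mem hz (inv_mem (hU hc)), ?_⟩)) hc
  rw [D.map_mul z hz _ (inv_mem (hU hc)), D.map_inv (hU hc), D.act l u (hU hu), hlw]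
  simp only [Pi.add_apply, Pi.neg_apply, Matrix.cons_val_one, Matrix.cons_val_fin_one,
    Units.val_mk0, inv_div]
  field_simp
  ring

end Coord

theorem charP_of_card [Fintype F] {n : ℕ} (hF : Fintype.card F = p ^ n) : CharP F p := by
  obtain ⟨q, hq⟩ := CharP.exists F
  haveI := hq
  obtain ⟨k, hqp, hk⟩ := FiniteField.card F q
  have h1 : q ∣ p ^ n := hF ▸ hk ▸ dvd_pow_self q k.pos.ne'
  rwa [(Nat.prime_dvd_prime_iff_eq hqp hp.out).1 (hqp.dvd_of_dvd_pow h1)] at hq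

end CfsgLib.LocalEven.Natural
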