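import Cfsg.Prelude.Def_BaumannBlocks
import Cfsg.Agent.Lib.Classical.GL2

/-!
The modules occurring in Baumann blocks are irreducible and faithful.
-/

set_option autoImplicit false
set_option linter.unusedSectionVars false

namespace CfsgLib.LocalEven.BlockModule

open Matrix Matrix.SpecialLinearGroup CfsgLib.Classical
open scoped commutatorElement

/-- The derived group of `SL₂(F)` is irreducible on `F²`. -/
theorem irred_commutator {F : Type*} [Field F] [Finite F] (U : AddSubgroup (Fin 2 → F))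
    (hU : ∀ g ∈ commutator (Matrix.SpecialLinearGroup (Fin 2) F), ∀ u ∈ U, g.1.mulVec u ∈ U) :
    U = ⊥ ∨ U = ⊤ := by
  classical
  by_cases hne : U = ⊥
  · exact Or.inl hne
  right
  obtain ⟨u, hu, hu0⟩ := (AddSubgroup.ne_bot_iff_exists_ne_zero.1 hne) |> fun ⟨⟨u, hu⟩, h⟩ =>
    (⟨u, hu, fun e => h (Subtype.ext e)⟩ : ∃ u, u ∈ U ∧ u ≠ 0)
  rw [AddSubgroup.eq_top_iff']
  intro w
  by_cases hw : w = 0
  · exact hw ▸ U.zero_mem
  by_cases h4 : 4 ≤ Nat.card F
  · have htop := SL_fin_commutator_eq_top (F := F) 2 le_rfl (fun _ => h4)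
    have key : ∀ v : Fin 2 → F, v ≠ 0 → ∃ g : Matrix.SpecialLinearGroup (Fin 2) F, g.1.mulVec ![1, 0] = v := by
      intro v hv
      by_cases h0 : v 0 = 0
      · have h1 : v 1 ≠ 0 := fun e => hv (by ext i; fin_cases i <;> simp [h0, e])
        refine ⟨⟨!![0, -(v 1)⁻¹; v 1, 0], by simp [Matrix.det_fin_two_of, h1]⟩, ?_⟩
        ext i; fin_cases i <;> simp [Matrix.mulVec, dotProduct, Fin.sum_univ_two, h0]
      · refine ⟨⟨!![v 0, 0; v 1, (v 0)⁻¹], by simp [Matrix.det_fin_two_of, h0]⟩, ?_⟩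
        ext i; fin_cases i <;> simp [Matrix.mulVec, dotProduct, Fin.sum_univ_two]
    obtain ⟨g, hg⟩ := key u hu0
    obtain ⟨k, hk⟩ := key w hw
    have := hU (k * g⁻¹) (htop ▸ Subgroup.mem_top _) u hu
    rwa [coe_mul, ← hg, Matrix.mulVec_mulVec, mul_assoc, ← coe_mul g⁻¹, inv_mul_cancel, coe_one, mul_one, hk] at this
  · -- a prime field
    have hprime : (Nat.card F).Prime := by
      have := Finite.one_lt_card (α := F)
      interval_cases h : Nat.card F <;> norm_num
    haveI : Fintype F := Fintype.ofFinite F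
    have hcast : ∀ x : F, ∃ n : ℕ, (n : F) = x := by
      obtain ⟨p, hp⟩ := CharP.exists F
      obtain ⟨k, hpp, hk⟩ := FiniteField.card F p
      have h1 : (k : ℕ) = 1 := by
        rw [Fintype.card_eq_nat_card] at hk
        rw [hk] at hprime
        exact (Nat.Prime.pow_eq_iff (p := p ^ (k : ℕ)) hprime).1 rfl |>.2
      haveI : Fact p.Prime := ⟨hpp⟩
      intro x
      have hb : Function.Bijective (ZMod.castHom (dvd_refl p) F) := by
        rw [Fintype.bijective_iff_injective_and_card]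
        exact ⟨(ZMod.castHom (dvd_refl p) F).injective, by rw [ZMod.card, hk, h1, pow_one]⟩
      obtain ⟨z, rfl⟩ := hb.2 x
      exact ⟨z.val, by rw [ZMod.castHom_apply, ZMod.cast_eq_val]⟩
    obtain ⟨c, hcdef⟩ : ∃ c : Matrix.SpecialLinearGroup (Fin 2) F, c = ⁅uSL (1 : F), lSL (1 : F)⁆ := ⟨_, rfl⟩
    have hc : c.1 = !![3, -1; 1, 0] := by
      have e1 : (uSL (1 : F))⁻¹ = uSL (-1) :=
        inv_eq_of_mul_eq_one_right (by rw [← transvection_add, add_neg_cancel, transvection_coeff_zero])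
      have e2 : (lSL (1 : F))⁻¹ = lSL (-1) :=
        inv_eq_of_mul_eq_one_right (by rw [← transvection_add, add_neg_cancel, transvection_coeff_zero])
      rw [hcdef, commutatorElement_def, e1, e2, coe_mul, coe_mul, coe_mul, uSL_coe, lSL_coe, uSL_coe, lSL_coe]
      ext i j
      fin_cases i <;> fin_cases j <;> simp [Matrix.mul_apply, Fin.sum_univ_two] <;> ring
    have hv := hU c (hcdef ▸ Subgroup.commutator_mem_commutator (Subgroup.mem_top _) (Subgroup.mem_top _)) u hu
    -- `u` and `c u` are independent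
    have hdet : u 0 * u 0 - (3 * u 0 - u 1) * u 1 ≠ 0 := by
      intro h
      have hne' : ¬ (u 0 = 0 ∧ u 1 = 0) := fun ⟨a, b⟩ => hu0 (by ext i; fin_cases i <;> assumption)
      obtain ⟨a, ha⟩ := hcast (u 0)
      obtain ⟨b, hb⟩ := hcast (u 1)
      obtain ⟨q, hq⟩ := CharP.exists F
      obtain ⟨k, hqq, hk⟩ := FiniteField.card F q
      rw [Fintype.card_eq_nat_card] at hk
      have hq3 : q = 2 ∨ q = 3 := by
        have : q ∣ Nat.card F := hk ▸ dvd_pow_self q k.ne_zero
        have hlt : Nat.card F < 4 := by omega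
        have := Nat.le_of_dvd Nat.card_pos this
        have := hqq.two_le
        omega
      rw [← ha, ← hb] at h hne'
      rcases hq3 with rfl | rfl
      · have key : ∀ a b : ZMod 2, a * a - (3 * a - b) * b = 0 → a = 0 ∧ b = 0 := by decide
        let φ := ZMod.castHom (dvd_refl 2) F
        have e := key a b (φ.injective (by
          rw [map_sub, map_mul, map_mul, map_sub, map_mul, map_zero, map_natCast, map_natCast, map_ofNat]; exact h))
        exact hne' ⟨by simpa using congrArg φ e.1, by simpa using congrArg φ e.2⟩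
      · have key : ∀ a b : ZMod 3, a * a - (3 * a - b) * b = 0 → a = 0 ∧ b = 0 := by decide
        let φ := ZMod.castHom (dvd_refl 3) F
        have e := key a b (φ.injective (by
          rw [map_sub, map_mul, map_mul, map_sub, map_mul, map_zero, map_natCast, map_natCast, map_ofNat]; exact h))
        exact hne' ⟨by simpa using congrArg φ e.1, by simpa using congrArg φ e.2⟩
    obtain ⟨x, hx⟩ := hcast ((w 0 * u 0 - (3 * u 0 - u 1) * w 1) / (u 0 * u 0 - (3 * u 0 - u 1) * u 1))
    obtain ⟨y, hy⟩ := hcast ((u 0 * w 1 - u 1 * w 0) / (u 0 * u 0 - (3 * u 0 - u 1) * u 1))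
    have := U.add_mem (U.nsmul_mem hu x) (U.nsmul_mem hv y)
    convert this using 1
    rw [hc]
    ext i
    rw [eq_div_iff hdet] at hx hy
    fin_cases i
    · simp [Matrix.mulVec, dotProduct, Fin.sum_univ_two]
      refine mul_right_cancel₀ hdet ?_
      linear_combination -(u 0) * hx - (3 * u 0 - u 1) * hy
    · simp [Matrix.mulVec, dotProduct, Fin.sum_univ_two]
      refine mul_right_cancel₀ hdet ?_
      linear_combination -(u 1) * hx - (u 0) * hy

/-- The alternating group of odd degree is irreducible on the even-weight vectors. -/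
theorem irred_alternating {n : ℕ} (hn : Odd n) (U : AddSubgroup (Fin n → ZMod 2))
    (heven : ∀ u ∈ U, ∑ i, u i = 0)
    (hU : ∀ σ ∈ alternatingGroup (Fin n), ∀ u ∈ U, (fun i => u (σ⁻¹ i)) ∈ U) :
    U = ⊥ ∨ ∀ v : Fin n → ZMod 2, ∑ i, v i = 0 → v ∈ U := by
  classical
  by_cases hne : U = ⊥
  · exact Or.inl hne
  right
  obtain ⟨u, hu, hu0⟩ := (AddSubgroup.ne_bot_iff_exists_ne_zero.1 hne) |> fun ⟨⟨u, hu⟩, h⟩ =>
    (⟨u, hu, fun e => h (Subtype.ext e)⟩ : ∃ u, u ∈ U ∧ u ≠ 0)
  obtain ⟨i, hi⟩ : ∃ i, u i ≠ 0 := by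
    by_contra h
    push Not at h
    exact hu0 (funext h)
  have hone : ∀ z : ZMod 2, z ≠ 0 → z = 1 := by decide
  obtain ⟨j, hj⟩ : ∃ j, u j = 0 := by
    by_contra h
    push Not at h
    have := heven u hu
    rw [Finset.sum_congr rfl (fun k _ => hone _ (h k)), Finset.sum_const, Finset.card_univ, Fintype.card_fin,
      nsmul_one] at this
    obtain ⟨r, rfl⟩ := hn
    push_cast at this
    rw [show (2 : ZMod 2) = 0 from rfl, zero_mul, zero_add] at this
    exact one_ne_zero this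
  have hij : i ≠ j := fun e => hi (e ▸ hj)
  have hthird : ∀ a b : Fin n, a ≠ b → ∃ k, k ≠ a ∧ k ≠ b := fun a b hab => by
    have h2 : ({a, b} : Finset (Fin n)).card ≤ n := (Finset.card_le_univ _).trans (by simp)
    rw [Finset.card_pair hab] at h2
    obtain ⟨k, -, hk⟩ := Finset.exists_mem_notMem_of_card_lt_card
      (s := ({a, b} : Finset (Fin n))) (t := Finset.univ)
      (by rw [Finset.card_pair hab, Finset.card_univ, Fintype.card_fin]; obtain ⟨r, rfl⟩ := hn; omega)
    exact ⟨k, by simpa using hk⟩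
  have hcyc : ∀ a b c : Fin n, a ≠ b → b ≠ c → a ≠ c →
      Equiv.swap a b * Equiv.swap b c ∈ alternatingGroup (Fin n) := fun a b c hab hbc _ => by
    rw [Equiv.Perm.mem_alternatingGroup, map_mul, Equiv.Perm.sign_swap hab, Equiv.Perm.sign_swap hbc]
    rfl
  -- some vector of weight two lies in `U`
  obtain ⟨a, b, hab, habU⟩ : ∃ a b, a ≠ b ∧ Pi.single a (1 : ZMod 2) + Pi.single b 1 ∈ U := by
    obtain ⟨k, hki, hkj⟩ := hthird i j hij
    have hv := U.add_mem hu (hU _ (hcyc i j k hij hkj.symm hki.symm) u hu)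
    by_cases hk : u k = 0
    · refine ⟨i, j, hij, ?_⟩
      convert hv using 1
      funext l
      simp only [Pi.add_apply, _root_.mul_inv_rev, Equiv.swap_inv, Equiv.Perm.mul_apply]
      by_cases hl : l = i
      · subst hl; simp [hij, hki.symm, hj, hk, hone _ hi, Equiv.swap_apply_of_ne_of_ne]
      by_cases hl' : l = j
      · subst hl'; simp [Ne.symm hij, hij, hki.symm, hj, hkj.symm, hone _ hi, Equiv.swap_apply_of_ne_of_ne, hl]
      by_cases hl'' : l = k
      · subst hl''; simp [hl, hl', hj, hk, Equiv.swap_apply_of_ne_of_ne]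
      simp [hl, hl', Equiv.swap_apply_of_ne_of_ne, hl'', CharTwo.add_self_eq_zero]
    · refine ⟨j, k, hkj.symm, ?_⟩
      convert hv using 1
      funext l
      simp only [Pi.add_apply, _root_.mul_inv_rev, Equiv.swap_inv, Equiv.Perm.mul_apply]
      by_cases hl : l = i
      · subst hl; simp [hij, hki.symm, hone _ hk, hone _ hi, Equiv.swap_apply_of_ne_of_ne, CharTwo.add_self_eq_zero]
      by_cases hl' : l = j
      · subst hl'; simp [Ne.symm hij, hij, hki.symm, hj, hkj.symm, hone _ hi, Equiv.swap_apply_of_ne_of_ne, hl]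
      by_cases hl'' : l = k
      · subst hl''; simp [hl, hl', hj, hone _ hk, Equiv.swap_apply_of_ne_of_ne]
      simp [hl, hl', Equiv.swap_apply_of_ne_of_ne, hl'', CharTwo.add_self_eq_zero]
  have hmove : ∀ (σ : Equiv.Perm (Fin n)) (x y : Fin n), σ ∈ alternatingGroup (Fin n) →
      Pi.single x (1 : ZMod 2) + Pi.single y 1 ∈ U → Pi.single (σ x) (1 : ZMod 2) + Pi.single (σ y) 1 ∈ U := by
    intro σ x y hσ h
    convert hU σ hσ _ h using 1
    funext l
    simp only [Pi.add_apply, Pi.single_apply, Equiv.Perm.inv_def, Equiv.symm_apply_eq]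
  -- all vectors of weight two lie in `U`
  have hpairs : ∀ x y, Pi.single x (1 : ZMod 2) + Pi.single y 1 ∈ U := by
    intro x y
    rcases eq_or_ne x y with rfl | hxy
    · rw [show (Pi.single x 1 + Pi.single x 1 : Fin n → ZMod 2) = 0 from funext fun l => by
        rw [Pi.add_apply]; exact CharTwo.add_self_eq_zero _]
      exact U.zero_mem
    obtain ⟨c, hc⟩ := hthird a b hab
    let τ₁ := Equiv.swap a x
    let τ₂ := Equiv.swap (τ₁ b) y
    have hσa : (τ₂ * τ₁) a = x := by
      simp only [Equiv.Perm.mul_apply, τ₁, τ₂, Equiv.swap_apply_left]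
      refine Equiv.swap_apply_of_ne_of_ne (fun e => hab ?_) hxy
      have := congrArg (Equiv.swap a x) e
      rwa [Equiv.swap_apply_right, Equiv.swap_apply_self] at this
    have hσb : (τ₂ * τ₁) b = y := by simp [τ₂, τ₁]
    rcases Int.units_eq_one_or (Equiv.Perm.sign (τ₂ * τ₁)) with h | h
    · have := hmove _ a b (Equiv.Perm.mem_alternatingGroup.2 h) habU
      rwa [hσa, hσb] at this
    · have := hmove (τ₂ * τ₁ * Equiv.swap a b) a b (Equiv.Perm.mem_alternatingGroup.2 (by
        rw [map_mul, h, Equiv.Perm.sign_swap hab]; rfl)) habU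
      rw [Equiv.Perm.mul_apply _ (Equiv.swap a b), Equiv.swap_apply_left,
        Equiv.Perm.mul_apply _ (Equiv.swap a b), Equiv.swap_apply_right, hσa, hσb, add_comm] at this
      exact this
  intro v hv
  have e : v = ∑ l, v l • (Pi.single l (1 : ZMod 2) + Pi.single a 1) := by
    simp only [smul_add, Finset.sum_add_distrib, ← Finset.sum_smul, hv, zero_smul, add_zero]
    funext l
    simp [Finset.sum_apply, Pi.single_apply]
  rw [e]
  refine sum_mem fun l _ => ?_
  by_cases hl : v l = 0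
  · rw [hl, zero_smul]; exact U.zero_mem
  · rw [hone _ hl, one_smul]; exact hpairs l a

variable {G : Type*} [Group G] [Finite G] {p : ℕ}

/-- What the two kinds of block share: an irreducible faithful section `W / Z`. -/
theorem irred_and_faithful {T E : Subgroup G} (hE : Cfsg.IsBaumannBlock p T E) :
    (∀ U : Subgroup G, Cfsg.omegaOneCenter p (Cfsg.pCoreOf p E) ⊓ Subgroup.centralizer (E : Set G) ≤ U →
      U ≤ Cfsg.omegaOneCenter p (Cfsg.pCoreOf p E) → E ≤ Subgroup.normalizer (U : Set G) →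
      U = Cfsg.omegaOneCenter p (Cfsg.pCoreOf p E) ⊓ Subgroup.centralizer (E : Set G) ∨
        U = Cfsg.omegaOneCenter p (Cfsg.pCoreOf p E)) ∧
    (∀ e ∈ E, (∀ w ∈ Cfsg.omegaOneCenter p (Cfsg.pCoreOf p E),
      e * w * e⁻¹ * w⁻¹ ∈ Cfsg.omegaOneCenter p (Cfsg.pCoreOf p E) ⊓ Subgroup.centralizer (E : Set G)) →
        e ∈ Cfsg.pCoreOf p E) ∧
    E ≤ Subgroup.normalizer (Cfsg.omegaOneCenter p (Cfsg.pCoreOf p E) : Set G) := by
  classical
  obtain ⟨-, -, -, -, hcase⟩ := hE
  set W := Cfsg.omegaOneCenter p (Cfsg.pCoreOf p E) with hW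
  set Z := W ⊓ Subgroup.centralizer (E : Set G) with hZ
  have hcore : ∀ q ∈ Cfsg.pCoreOf p E, ∀ w ∈ W, q * w = w * q := by
    intro q hq w hw
    have hw' : w ∈ Cfsg.pCoreOf p E ⊓ Subgroup.centralizer (Cfsg.pCoreOf p E : Set G) :=
      (Subgroup.closure_le _).2 (fun x hx => hx.1) hw
    exact Subgroup.mem_centralizer_iff.1 hw'.2 q hq
  -- the kernel of a faithful representation with image of the order of `E / O_p(E)` is `O_p(E)`
  have hker : ∀ {H : Type} [Group H] (R : Subgroup H) (ρ : ↥E →* H), ρ.range = R →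
      Nonempty (↥E ⧸ Cfsg.pCore p ↥E ≃* ↥R) → (Cfsg.pCore p ↥E ≤ ρ.ker) → ∀ e : ↥E, ρ e = 1 → (e : G) ∈ Cfsg.pCoreOf p E := by
    intro H _ R ρ hρ ⟨eq⟩ hle e he
    have h1 : ρ.ker.index = (Cfsg.pCore p ↥E).index := by
      rw [Subgroup.index_ker, hρ, Subgroup.index_eq_card]
      exact (Nat.card_congr eq.toEquiv).symm
    have h2 : Cfsg.pCore p ↥E = ρ.ker := by
      refine Subgroup.eq_of_le_of_card_ge hle ?_
      have a := (Cfsg.pCore p ↥E).card_mul_index
      have b := ρ.ker.card_mul_index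
      rw [h1] at b
      exact (Nat.eq_of_mul_eq_mul_right (Nat.pos_of_ne_zero Subgroup.index_ne_zero_of_finite) (b.trans a.symm)).le
    exact ⟨e, h2 ▸ he, rfl⟩
  rcases hcase with ⟨F, _, _, n, -, hiso, ⟨hEW, -, ρ, ψ, hρ, hψ, hψker, hact⟩, -⟩ |
    ⟨-, m, hiso, ⟨hEW, -, ρ, ψ, hρ, heven, hψ, hψker, hact⟩, -⟩
  · have hψc : ∀ (e : ↥E) (u w : ↥W), (w : G) = (e : G) * u * (e : G)⁻¹ →
        Multiplicative.toAdd (ψ w) = (ρ e).1.mulVec (Multiplicative.toAdd (ψ u)) := fun e u w hw => by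
      obtain ⟨w', hw', h⟩ := hact e u
      rwa [Subtype.ext (hw'.trans hw.symm) (a1 := w') (a2 := w)] at h
    have hfaith : ∀ e : ↥E, (∀ u : ↥W, (ρ e).1.mulVec (Multiplicative.toAdd (ψ u)) = Multiplicative.toAdd (ψ u)) →
        ρ e = 1 := fun e he => by
      refine Subtype.ext (Matrix.ext_iff_mulVec.2 fun v => ?_)
      obtain ⟨u, hu⟩ := hψ (Multiplicative.ofAdd v)
      have := he u
      rw [hu, toAdd_ofAdd] at this
      rw [this, coe_one, Matrix.one_mulVec]
    have hle : Cfsg.pCore p ↥E ≤ ρ.ker := fun e he => hfaith e fun u => by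
      refine (hψc e u u ?_).symm
      rw [hcore e ⟨e, he, rfl⟩ u u.2, mul_inv_cancel_right]
    refine ⟨fun U hZU hUW hUn => ?_, fun e he h => ?_, hEW⟩
    · let Ū : AddSubgroup (Fin 2 → F) :=
        { carrier := {v | ∃ u : ↥W, (u : G) ∈ U ∧ Multiplicative.toAdd (ψ u) = v}
          zero_mem' := ⟨1, one_mem U, by simp⟩
          add_mem' := by rintro _ _ ⟨u, hu, rfl⟩ ⟨v, hv, rfl⟩; exact ⟨u * v, mul_mem hu hv, by simp⟩
          neg_mem' := by rintro _ ⟨u, hu, rfl⟩; exact ⟨u⁻¹, inv_mem hu, by simp⟩ }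
      rcases irred_commutator Ū (by
          rintro g hg _ ⟨u, hu, rfl⟩
          obtain ⟨e, rfl⟩ := hρ.symm ▸ hg
          exact ⟨⟨_, (Subgroup.mem_normalizer_iff.1 (hEW e.2) u).1 u.2⟩,
            (Subgroup.mem_normalizer_iff.1 (hUn e.2) u).1 hu, hψc e u _ rfl⟩) with h | h
      · refine Or.inl (le_antisymm (fun x hx => ?_) hZU)
        have : Multiplicative.toAdd (ψ ⟨x, hUW hx⟩) ∈ Ū := ⟨⟨x, hUW hx⟩, hx, rfl⟩
        rw [h, AddSubgroup.mem_bot] at this
        exact (hψker ⟨x, hUW hx⟩).1 (Multiplicative.toAdd.injective this)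
      · refine Or.inr (le_antisymm hUW fun x hx => ?_)
        obtain ⟨u, hu, hux⟩ := (h ▸ AddSubgroup.mem_top _ : Multiplicative.toAdd (ψ ⟨x, hx⟩) ∈ Ū)
        have hz : ψ (u⁻¹ * ⟨x, hx⟩) = 1 := by
          rw [map_mul, map_inv, inv_mul_eq_one]; exact Multiplicative.toAdd.injective hux
        have := mul_mem hu (hZU ((hψker _).1 hz))
        simpa using this
    · refine hker _ ρ hρ hiso hle ⟨e, he⟩ (hfaith _ fun u => ?_)
      have hz := (hψker (⟨_, (Subgroup.mem_normalizer_iff.1 (hEW he) u).1 u.2⟩ * u⁻¹)).2 (h u u.2)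
      rw [map_mul, map_inv, mul_inv_eq_one] at hz
      rw [← hψc ⟨e, he⟩ u ⟨_, (Subgroup.mem_normalizer_iff.1 (hEW he) u).1 u.2⟩ rfl, hz]
  · have hψc : ∀ (e : ↥E) (u w : ↥W), (w : G) = (e : G) * u * (e : G)⁻¹ →
        Multiplicative.toAdd (ψ w) = fun i => Multiplicative.toAdd (ψ u) ((ρ e)⁻¹ i) := fun e u w hw => by
      obtain ⟨w', hw', h⟩ := hact e u
      rw [Subtype.ext (hw'.trans hw.symm) (a1 := w') (a2 := w)] at h
      exact funext h
    have hfaith : ∀ e : ↥E,
        (∀ u : ↥W, (fun i => Multiplicative.toAdd (ψ u) ((ρ e)⁻¹ i)) = Multiplicative.toAdd (ψ u)) → ρ e = 1 := fun e he => by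
      refine inv_eq_one.1 (Equiv.ext fun i => ?_)
      by_contra hne
      rw [Equiv.Perm.one_apply] at hne
      obtain ⟨k, hk⟩ : ∃ k, k ≠ i ∧ k ≠ (ρ e)⁻¹ i := by
        have hcard : 3 ≤ Fintype.card (Fin (2 * m + 1)) := by
          rcases Nat.eq_zero_or_pos m with rfl | hm
          · exact absurd (Subsingleton.elim (α := Fin 1) _ i) hne
          · simp; omega
        obtain ⟨k, -, hk⟩ := Finset.exists_mem_notMem_of_card_lt_card
          (s := ({i, (ρ e)⁻¹ i} : Finset (Fin (2 * m + 1)))) (t := Finset.univ)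
          (by have := Finset.card_le_two (a := i) (b := (ρ e)⁻¹ i); rw [Finset.card_univ]; omega)
        exact ⟨k, by simpa using hk⟩
      obtain ⟨u, hu⟩ := hψ (Pi.single i 1 + Pi.single k 1)
        (by simp [Finset.sum_add_distrib, CharTwo.add_self_eq_zero])
      have := congrFun (he u) i
      rw [hu] at this
      rw [Pi.add_apply, Pi.single_eq_of_ne hne, Pi.single_eq_of_ne hk.2.symm, Pi.add_apply, Pi.single_eq_same,
        Pi.single_eq_of_ne hk.1.symm] at this
      simp at this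
    have hle : Cfsg.pCore p ↥E ≤ ρ.ker := fun e he => hfaith e fun u => by
      refine (hψc e u u ?_).symm
      rw [hcore e ⟨e, he, rfl⟩ u u.2, mul_inv_cancel_right]
    refine ⟨fun U hZU hUW hUn => ?_, fun e he h => ?_, hEW⟩
    · let Ū : AddSubgroup (Fin (2 * m + 1) → ZMod 2) :=
        { carrier := {v | ∃ u : ↥W, (u : G) ∈ U ∧ Multiplicative.toAdd (ψ u) = v}
          zero_mem' := ⟨1, one_mem U, by simp⟩
          add_mem' := by rintro _ _ ⟨u, hu, rfl⟩ ⟨v, hv, rfl⟩; exact ⟨u * v, mul_mem hu hv, by simp⟩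
          neg_mem' := by rintro _ ⟨u, hu, rfl⟩; exact ⟨u⁻¹, inv_mem hu, by simp⟩ }
      rcases irred_alternating (odd_two_mul_add_one m) Ū (by rintro _ ⟨u, -, rfl⟩; exact heven u) (by
          rintro g hg _ ⟨u, hu, rfl⟩
          obtain ⟨e, rfl⟩ := hρ.symm ▸ hg
          exact ⟨⟨_, (Subgroup.mem_normalizer_iff.1 (hEW e.2) u).1 u.2⟩,
            (Subgroup.mem_normalizer_iff.1 (hUn e.2) u).1 hu, hψc e u _ rfl⟩) with h | h
      · refine Or.inl (le_antisymm (fun x hx => ?_) hZU)
        have : Multiplicative.toAdd (ψ ⟨x, hUW hx⟩) ∈ Ū := ⟨⟨x, hUW hx⟩, hx, rfl⟩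
        rw [h, AddSubgroup.mem_bot] at this
        exact (hψker ⟨x, hUW hx⟩).1 (Multiplicative.toAdd.injective this)
      · refine Or.inr (le_antisymm hUW fun x hx => ?_)
        obtain ⟨u, hu, hux⟩ := h (Multiplicative.toAdd (ψ ⟨x, hx⟩)) (heven _)
        have hz : ψ (u⁻¹ * ⟨x, hx⟩) = 1 := by
          rw [map_mul, map_inv, inv_mul_eq_one]; exact Multiplicative.toAdd.injective hux
        have := mul_mem hu (hZU ((hψker _).1 hz))
        simpa using this
    · refine hker _ ρ hρ hiso hle ⟨e, he⟩ (hfaith _ fun u => ?_)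
      have hz := (hψker (⟨_, (Subgroup.mem_normalizer_iff.1 (hEW he) u).1 u.2⟩ * u⁻¹)).2 (h u u.2)
      rw [map_mul, map_inv, mul_inv_eq_one] at hz
      rw [← hψc ⟨e, he⟩ u ⟨_, (Subgroup.mem_normalizer_iff.1 (hEW he) u).1 u.2⟩ rfl, hz]

end CfsgLib.LocalEven.BlockModule
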