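import Cfsg.Agent.Lib.LocalEven.ChermakDelgado

/-!
Conjugation invariance of the Chermak-Delgado measure; non-abelian simple groups.
-/

set_option autoImplicit false

namespace CfsgLib.LocalEven.CD

open Cfsg
open scoped Pointwise

universe u

variable {G : Type u} [Group G]

/-- The conjugate `g R g⁻¹`. -/
abbrev cj (g : G) (R : Subgroup G) : Subgroup G := R.map (MulAut.conj g).toMonoidHom

theorem cen_cj (g : G) (R : Subgroup G) : cen (cj g R) = cj g (cen R) := by
  refine ((CfsgLib.Base.map_centralizer_mulEquiv (MulAut.conj g) _).trans ?_).symm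
  rw [cen, cj, Subgroup.coe_map]
  rfl

theorem cj_cj (g h : G) (R : Subgroup G) : cj g (cj h R) = cj (g * h) R := by
  rw [cj, cj, Subgroup.map_map]
  congr 1
  ext x
  simp [mul_assoc]

theorem cj_one (R : Subgroup G) : cj 1 R = R := by
  rw [cj]
  convert Subgroup.map_id R
  ext x
  simp

theorem cj_mono (g : G) {R S : Subgroup G} (h : R ≤ S) : cj g R ≤ cj g S := Subgroup.map_mono h

theorem card_cj (g : G) (R : Subgroup G) : Nat.card (cj g R) = Nat.card R :=
  CfsgLib.Base.card_map_conj g R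

theorem meas_cj (g : G) (R : Subgroup G) : meas (cj g R) = meas R := by
  rw [meas, meas, cen_cj, card_cj, card_cj]

theorem large_cj {R : Subgroup G} (g : G) (h : IsCentralizerLarge R) :
    IsCentralizerLarge (cj g R) := (meas_cj g R).trans h

variable [Finite G]

theorem cl_cj {R : Subgroup G} (g : G) (h : IsCentrallyLarge R) : IsCentrallyLarge (cj g R) :=
  cl_iff.2 ⟨large_cj g (cl_large h), by rw [cen_cj]; exact cj_mono g (cl_cen_le h)⟩

theorem mcl_cj {R : Subgroup G} (g : G) (h : IsMinimalCentrallyLarge R) :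
    IsMinimalCentrallyLarge (cj g R) := by
  refine ⟨cl_cj g h.1, fun X hX hXcl => ?_⟩
  have h1 : cj g⁻¹ X ≤ R := by
    have := cj_mono g⁻¹ hX
    rwa [cj_cj, inv_mul_cancel, cj_one] at this
  rw [← h.2 _ h1 (cl_cj g⁻¹ hXcl), cj_cj, mul_inv_cancel, cj_one]

theorem maxAb_cj {A : Subgroup G} (g : G) (h : A ∈ maxAbelianSubgroups G) :
    cj g A ∈ maxAbelianSubgroups G := by
  refine ⟨Subgroup.le_centralizer_iff_isMulCommutative.1 ?_, fun B hB => ?_⟩
  · show _ ≤ cen _
    rw [cen_cj]
    exact cj_mono g (maxAb_isComm h)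
  · rw [card_cj]
    exact h.2 B hB

theorem meas_lt_card [IsSimpleGroup G] (hG : ¬ IsMulCommutative G) {A : Subgroup G}
    (h1 : A ≠ ⊥) (h2 : A ≠ ⊤) : meas A < Nat.card G := by
  by_contra hlt
  push Not at hlt
  have hc : Subgroup.center G = ⊥ := by
    refine (IsSimpleGroup.eq_bot_or_eq_top_of_normal _ inferInstance).resolve_right fun h => ?_
    exact hG ⟨⟨fun a b => ((Subgroup.mem_center_iff.1 (h ▸ Subgroup.mem_top a)) b).symm⟩⟩
  have htop : meas (⊤ : Subgroup G) = Nat.card G := by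
    rw [meas, cen, Subgroup.coe_top, Subgroup.centralizer_univ, hc, Subgroup.card_bot,
      Subgroup.card_top, mul_one]
  have hbot : meas (⊥ : Subgroup G) = Nat.card G := by
    rw [meas, Subgroup.card_bot, one_mul, cen, Subgroup.centralizer_eq_top_iff_subset.2 ?_,
      Subgroup.card_top]
    simp
  obtain ⟨R, hR, hR1, hR2⟩ : ∃ R : Subgroup G, IsCentralizerLarge R ∧ R ≠ ⊥ ∧ R ≠ ⊤ := by
    rcases eq_or_lt_of_le (meas_le A) with h | h
    · exact ⟨A, h, h1, h2⟩
    · obtain ⟨R, hR⟩ := exists_large (G := G)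
      have : Nat.card G < meas R := lt_of_le_of_lt hlt (lt_of_lt_of_eq h (Eq.symm hR))
      exact ⟨R, hR, fun e => by subst e; omega, fun e => by subst e; omega⟩
  obtain ⟨M, hM⟩ := Set.Finite.exists_maximal
    (Set.toFinite {M : Subgroup G | IsCentralizerLarge M ∧ R ≤ M ∧ M ≠ ⊤}) ⟨R, hR, le_rfl, hR2⟩
  have hinv : ∀ g : G, cj g M = M := by
    intro g
    obtain ⟨hset, hl, -⟩ := large_sup_inf hM.1.1 (large_cj g hM.1.1)
    by_cases htp : M ⊔ cj g M = ⊤
    · have hgm : g ∈ M := by
        rw [htp] at hset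
        obtain ⟨m, hm, x, hx, hmx⟩ : g⁻¹ ∈ (M : Set G) * (cj g M : Set G) :=
          hset ▸ Set.mem_univ g⁻¹
        obtain ⟨m', hm', rfl⟩ := Subgroup.mem_map.1 hx
        have e : m * (g * m' * g⁻¹) = g⁻¹ := hmx
        have e2 : g = m⁻¹ * m'⁻¹ := by
          have e3 : m * g * m' = 1 := by
            calc m * g * m' = m * (g * m' * g⁻¹) * g := by group
              _ = 1 := by rw [e]; group
          calc g = m⁻¹ * (m * g * m') * m'⁻¹ := by group
            _ = m⁻¹ * m'⁻¹ := by rw [e3]; group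
        rw [e2]
        exact mul_mem (inv_mem hm) (inv_mem hm')
      ext x
      constructor
      · rintro ⟨y, hy, rfl⟩
        exact mul_mem (mul_mem hgm hy) (inv_mem hgm)
      · intro hx
        exact ⟨g⁻¹ * x * g, mul_mem (mul_mem (inv_mem hgm) hx) hgm, by simp [mul_assoc]⟩
    · have hle : M ⊔ cj g M ≤ M :=
        hM.2 ⟨hl, hM.1.2.1.trans le_sup_left, htp⟩ le_sup_left
      exact Subgroup.eq_of_le_of_card_ge (le_sup_right.trans hle) (card_cj g M).ge
  have hn : M.Normal :=
    ⟨fun n hn g => by rw [← hinv g]; exact Subgroup.mem_map_of_mem _ hn⟩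
  rcases IsSimpleGroup.eq_bot_or_eq_top_of_normal M hn with h | h
  · exact hR1 (le_bot_iff.1 (h ▸ hM.1.2.1))
  · exact hM.1.2.2 h

end CfsgLib.LocalEven.CD
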