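import Cfsg.Agent.Lib.Transfer.ControlZJ
import Cfsg.Agent.Lib.Transfer.ZJStronglyClosed
import Cfsg.Agent.Lib.PLocal.Constrained

/-!
The ZJ-theorem under the hypothesis that only the normalizers of subgroups above the centre of a
Sylow subgroup have no `SL(2,p)` sections.
-/

set_option autoImplicit false

open Subgroup Cfsg CfsgLib.PLocal CfsgLib.Transfer
open scoped commutatorElement

universe u

namespace CfsgLib.LocalEven.CentricZJ

variable {p : ℕ} [hp : Fact p.Prime] {G : Type u} [Group G] [Finite G]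

theorem not_involvesSL2_of_le {U V : Subgroup G} (hle : U ≤ V) (h : ¬ CfsgLib.OddOrder.InvolvesSL2 p V) :
    ¬ CfsgLib.OddOrder.InvolvesSL2 p U := fun hU =>
  h (CfsgLib.OddOrder.InvolvesSL2.of_subgroup (S := U.subgroupOf V)
    (involvesSL2_of_surjective (subgroupOfEquivOfLe hle).toMonoidHom (subgroupOfEquivOfLe hle).surjective hU))

/-- The ZJ-theorem inside a subgroup without `SL(2,p)` sections. -/
theorem local_step (hp2 : p ≠ 2) (P : Sylow p G) {U : Subgroup G}
    (hU : ¬ CfsgLib.OddOrder.InvolvesSL2 p U)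
    (hmax : ¬ p ∣ ((P : Subgroup G) ⊓ U).relIndex U) {A : Set G} (hA : A ⊆ ((P : Subgroup G) ⊓ U : Subgroup G))
    {g : G} (hg : g ∈ U) (hgA : ∀ a ∈ A, g⁻¹ * a * g ∈ (P : Subgroup G) ⊓ U) :
    FusedBy (U ⊓ normalizer (centerThompsonAOf ((P : Subgroup G) ⊓ U) : Set G)) A g := by
  set S := (P : Subgroup G) ⊓ U with hSdef
  have hSU : S ≤ U := inf_le_right
  let T : Sylow p U := ((P.2.to_le inf_le_left : IsPGroup p S).comap_subtype (K := U)).toSylow hmax
  have hctl := controlsFusion_of_constrained (p := p) (Φ := fun X _ => ¬ CfsgLib.OddOrder.InvolvesSL2 p X)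
    (K := fun _ _ R => centerThompsonAOf R) subgroupFunctor_centerThompsonAOf
    (fun _ _ _ V h hV => h hV.of_subgroup)
    (fun _ _ _ N _ h hq => h (involvesSL2_of_surjective _ (QuotientGroup.mk'_surjective N) hq))
    (fun X _ _ h hc S D₀ hD => by
      rw [centerThompsonAOf_eq]
      exact maxCenter_normal_of_stronglyClosed (e := 0) hp2 (Or.inr rfl) hc
        (quadStable_of_not_involvesSL2 hp2 h) S hD) hU T
  obtain ⟨n, hn, hn'⟩ := hctl (Subtype.val ⁻¹' A) (fun a ha => mem_subgroupOf.mpr (hA ha)) ⟨g, hg⟩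
    (fun a ha => mem_subgroupOf.mpr (hgA _ ha))
  have hle : centerThompsonAOf S ≤ U := (subgroupFunctor_centerThompsonAOf (p := p)).le G S |>.trans hSU
  have e : centerThompsonAOf (T : Subgroup U) = (centerThompsonAOf S).subgroupOf U := by
    apply map_injective U.subtype_injective
    rw [map_subgroupOf_eq_of_le hle]
    have h := (subgroupFunctor_centerThompsonAOf (p := p)).map U G U.subtype (T : Subgroup U)
      (U.subtype_injective.comp (subtype_injective _))
    rw [show ((T : Subgroup U)).map U.subtype = S from map_subgroupOf_eq_of_le hSU] at h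
    exact h
  rw [e, ← subgroupOf_normalizer_eq hle, mem_subgroupOf] at hn
  exact ⟨n, ⟨n.2, hn⟩, fun a ha => congrArg Subtype.val (hn' ⟨a, hSU (hA ha)⟩ ha)⟩

/-- Fusion in a tame intersection, given control in subgroups above the centre. -/
theorem tame_step (P : Sylow p G) {M : Subgroup G}
    (hfree : ∀ Q : Subgroup G, Q ≤ (P : Subgroup G) →
      (P : Subgroup G) ⊓ centralizer ((P : Subgroup G) : Set G) ≤ Q →
      ¬ CfsgLib.OddOrder.InvolvesSL2 p ↥(normalizer (Q : Set G)))
    {D : Subgroup G} (hDP : D ≤ (P : Subgroup G))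
    (hDmax : ¬ p ∣ ((P : Subgroup G) ⊓ normalizer (D : Set G)).relIndex (normalizer (D : Set G)))
    (IH : ∀ U : Subgroup G, ¬ CfsgLib.OddOrder.InvolvesSL2 p U → ¬ p ∣ ((P : Subgroup G) ⊓ U).relIndex U →
      (P : Subgroup G) ⊓ centralizer ((P : Subgroup G) : Set G) ≤ U →
      Nat.card D ≤ Nat.card ((P : Subgroup G) ⊓ U : Subgroup G) →
      ∀ A : Set G, A ⊆ ((P : Subgroup G) ⊓ U : Subgroup G) → ∀ g ∈ U,
        (∀ a ∈ A, g⁻¹ * a * g ∈ (P : Subgroup G)) → FusedBy M A g)
    {x : G} (hx : x ∈ normalizer (D : Set G)) : FusedBy M (D : Set G) x := by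
  set Z := (P : Subgroup G) ⊓ centralizer ((P : Subgroup G) : Set G) with hZ
  set C := (P : Subgroup G) ⊓ centralizer (D : Set G) with hC
  set N := normalizer (D : Set G) with hN
  set U := N ⊓ normalizer (C : Set G) with hUdef
  have hZC : Z ≤ C := inf_le_inf_left _ (Subgroup.centralizer_le hDP)
  have hSU : (P : Subgroup G) ⊓ N ≤ U := by
    refine le_inf inf_le_right fun s hs => ?_
    refine mem_normalizer_iff.2 fun y => ?_
    have h1 : s ∈ normalizer ((centralizer (D : Set G) : Subgroup G) : Set G) :=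
      CfsgLib.PLocal.normalizer_le_centralizer_normalizer D hs.2
    rw [hC, mem_inf, mem_inf, ← mem_normalizer_iff.1 h1 y]
    refine and_congr_left fun _ => ⟨fun h => mul_mem (mul_mem hs.1 h) (inv_mem hs.1), fun h => ?_⟩
    have h2 := (P : Subgroup G).mul_mem ((P : Subgroup G).mul_mem ((P : Subgroup G).inv_mem hs.1) h) hs.1
    simpa [mul_assoc] using h2
  have hPU : (P : Subgroup G) ⊓ U = (P : Subgroup G) ⊓ N :=
    le_antisymm (inf_le_inf_left _ inf_le_left) (le_inf inf_le_left hSU)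
  have hDU : D ≤ (P : Subgroup G) ⊓ U := hPU.symm ▸ le_inf hDP le_normalizer
  have hUfree : ¬ CfsgLib.OddOrder.InvolvesSL2 p U := by
    refine not_involvesSL2_of_le (V := normalizer ((D ⊔ C : Subgroup G) : Set G)) ?_
      (hfree _ (sup_le hDP inf_le_left) (hZC.trans le_sup_right))
    intro u hu
    rw [mem_normalizer_iff_map_conj_eq, Subgroup.map_sup, mem_normalizer_iff_map_conj_eq.1 hu.1,
      mem_normalizer_iff_map_conj_eq.1 hu.2]
  have hUmax : ¬ p ∣ ((P : Subgroup G) ⊓ U).relIndex U := by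
    intro h
    rw [hPU] at h
    exact hDmax (h.trans (dvd_of_mul_right_eq _ (relIndex_mul_relIndex _ _ _ hSU inf_le_left)))
  -- Frattini
  let T : Sylow p N := ((P.2.to_le inf_le_left : IsPGroup p ((P : Subgroup G) ⊓ N : Subgroup G)).comap_subtype
    (K := N)).toSylow hDmax
  haveI : ((centralizer (D : Set G)).subgroupOf N).Normal :=
    normal_subgroupOf_of_le_normalizer (CfsgLib.PLocal.normalizer_le_centralizer_normalizer D)
  obtain ⟨c, hc, m, hm, hcm⟩ := exists_mul_normalizer T ((centralizer (D : Set G)).subgroupOf N) ⟨x, hx⟩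
  have hmC : (m : G) ∈ normalizer (C : Set G) := by
    have e : (T : Subgroup N) ⊓ (centralizer (D : Set G)).subgroupOf N = C.subgroupOf N := by
      ext y
      simp only [hC, mem_inf, mem_subgroupOf]
      exact ⟨fun h => ⟨(mem_inf.1 (mem_subgroupOf.1 h.1)).1, h.2⟩,
        fun h => ⟨mem_subgroupOf.2 (mem_inf.2 ⟨h.1, y.2⟩), h.2⟩⟩
    rw [e, ← subgroupOf_normalizer_eq ((le_inf inf_le_left (inf_le_right.trans (centralizer_le_normalizer _)) :
      C ≤ (P : Subgroup G) ⊓ N).trans inf_le_right), mem_subgroupOf] at hm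
    exact hm
  have hmem : ∀ a ∈ D, (m : G)⁻¹ * a * m ∈ D := fun a ha => (mem_set_normalizer_iff''.mp m.2 a).mp ha
  obtain ⟨n, hn, hn'⟩ := IH U hUfree hUmax
    ((le_inf inf_le_left (hZC.trans (inf_le_right.trans (centralizer_le_normalizer _))) :
      Z ≤ (P : Subgroup G) ⊓ N).trans hSU)
    (card_le_of_le hDU) (D : Set G) hDU m ⟨m.2, hmC⟩ fun a ha => hDP (hmem a ha)
  refine ⟨n, hn, fun a ha => (hn' a ha).trans ?_⟩
  have hxv : x = (c : G) * m := (congrArg Subtype.val hcm)
  have hca : (c : G)⁻¹ * a * c = a := by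
    rw [mul_assoc, mem_centralizer_iff.1 (mem_subgroupOf.1 hc) a ha, inv_mul_cancel_left]
  rw [hxv]
  calc (m : G)⁻¹ * a * m = (m : G)⁻¹ * ((c : G)⁻¹ * a * c) * m := by rw [hca]
    _ = _ := by group

/-- Climbing. -/
theorem climb (hp2 : p ≠ 2) (P : Sylow p G)
    (hfree : ∀ Q : Subgroup G, Q ≤ (P : Subgroup G) →
      (P : Subgroup G) ⊓ centralizer ((P : Subgroup G) : Set G) ≤ Q →
      ¬ CfsgLib.OddOrder.InvolvesSL2 p ↥(normalizer (Q : Set G))) :
    ∀ d : ℕ, ∀ U : Subgroup G, ¬ CfsgLib.OddOrder.InvolvesSL2 p U →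
      ¬ p ∣ ((P : Subgroup G) ⊓ U).relIndex U →
      (P : Subgroup G) ⊓ centralizer ((P : Subgroup G) : Set G) ≤ U →
      Nat.card (P : Subgroup G) - Nat.card ((P : Subgroup G) ⊓ U : Subgroup G) < d →
      ∀ A : Set G, A ⊆ ((P : Subgroup G) ⊓ U : Subgroup G) →
      ∀ g ∈ U, (∀ a ∈ A, g⁻¹ * a * g ∈ (P : Subgroup G)) →
      FusedBy (normalizer (centerThompsonAOf (P : Subgroup G) : Set G)) A g := by
  intro d
  induction d with
  | zero => intro U _ _ _ h; omega
  | succ d ihd =>
    intro U hU hmax hZU hd A hA g hg hgA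
    set M := normalizer (centerThompsonAOf (P : Subgroup G) : Set G)
    let S : Subgroup G := (P : Subgroup G) ⊓ U
    have hSp : IsPGroup p S := P.2.to_le inf_le_left
    have hgS : ∀ a ∈ A, g⁻¹ * a * g ∈ S := fun a ha =>
      mem_inf.mpr ⟨hgA a ha, mul_mem (mul_mem (inv_mem hg) (mem_inf.mp (hA ha)).2) hg⟩
    obtain ⟨n, hn, hn'⟩ := local_step hp2 P hU hmax hA hg hgS
    suffices hfn : FusedBy M A n by
      obtain ⟨m, hm, hm'⟩ := hfn
      exact ⟨m, hm, fun a ha => (hm' a ha).trans (hn' a ha)⟩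
    by_cases hSP : S = (P : Subgroup G)
    · have h2 := hn.2
      change n ∈ normalizer (centerThompsonAOf S : Set G) at h2
      rw [hSP] at h2
      exact ⟨n, h2, fun a _ => rfl⟩
    have hlt : S < (P : Subgroup G) := lt_of_le_of_ne inf_le_left hSP
    let T₂ : Subgroup G := centerThompsonAOf S
    let L₂ : Subgroup G := normalizer (T₂ : Set G)
    let E : Subgroup G := (P : Subgroup G) ⊓ L₂
    have hT₂S : T₂ ≤ S := (subgroupFunctor_centerThompsonAOf (p := p)).le G S
    have hZT₂ : (P : Subgroup G) ⊓ centralizer ((P : Subgroup G) : Set G) ≤ T₂ := by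
      intro z hz
      show z ∈ centerThompsonAOf S
      rw [centerThompsonAOf_eq]
      exact mem_maxCenter (mem_inf.2 ⟨hz.1, hZU hz⟩) (pow_zero z) fun B hB b hb =>
        mem_centralizer_iff.mp hz.2 b (inf_le_left (b := U) (hB.1 hb))
    have hL₂free : ¬ CfsgLib.OddOrder.InvolvesSL2 p L₂ := hfree T₂ (hT₂S.trans inf_le_left) hZT₂
    have hSE : S < E := lt_of_lt_of_le (lt_inf_normalizer P.2 hlt)
      (inf_le_inf_left _ ((subgroupFunctor_centerThompsonAOf (p := p)).normalizer_le S))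
    obtain ⟨R, hR⟩ := ((P.2.to_le (inf_le_left : E ≤ _)).comap_subtype (K := L₂)).exists_le_sylow
    obtain ⟨Q, hQ⟩ := (R.2.map L₂.subtype).exists_le_sylow
    obtain ⟨z, hz⟩ := MulAction.exists_smul_eq G P Q
    rw [← hz] at hQ
    have hzR : ∀ r ∈ (R : Subgroup L₂).map L₂.subtype, z⁻¹ * r * z ∈ (P : Subgroup G) :=
      fun r hr => mem_coe_smul_sylow_iff.mp (hQ hr)
    have hzE : ∀ e ∈ E, z⁻¹ * e * z ∈ (P : Subgroup G) :=
      fun e he => hzR e ⟨⟨e, he.2⟩, hR (mem_subgroupOf.mpr he), rfl⟩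
    have hcardSE := card_lt_card_of_lt hSE
    have hEz : FusedBy M (E : Set G) z := by
      refine fusedBy_of_chain P (k := Nat.card S) (fun D hDP hkD hDmax _ x hx => ?_)
        (fun e he => he.1) (by simpa using hcardSE) hzE
      refine tame_step P hfree hDP hDmax (fun U' hU' hmax' hZ' hcard' => ihd U' hU' hmax' hZ' ?_) hx
      have h2 : Nat.card ((P : Subgroup G) ⊓ U' : Subgroup G) ≤ Nat.card (P : Subgroup G) :=
        card_le_of_le inf_le_left
      change Nat.card (P : Subgroup G) - Nat.card S < d + 1 at hd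
      omega
    let c := (MulAut.conj z⁻¹).toMonoidHom
    have hc : ∀ x, c x = z⁻¹ * x * z := fun x => by simp [c, MulAut.conj_apply]
    have hcinj : Function.Injective c := (MulAut.conj z⁻¹).injective
    let U₃ : Subgroup G := L₂.map c
    have hU₃free : ¬ CfsgLib.OddOrder.InvolvesSL2 p U₃ := fun h =>
      hL₂free (involvesSL2_of_surjective (L₂.equivMapOfInjective c hcinj).toMonoidHom
        (L₂.equivMapOfInjective c hcinj).surjective h)
    have hN₃ : normalizer ((T₂.map c : Subgroup G) : Set G) = U₃ :=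
      (map_equiv_normalizer_eq T₂ (MulAut.conj z⁻¹)).symm
    have hZ₃ : (P : Subgroup G) ⊓ centralizer ((P : Subgroup G) : Set G) ≤ U₃ := by
      rw [← hN₃]
      refine inf_le_right.trans ((Subgroup.centralizer_le ?_).trans (centralizer_le_normalizer _))
      rintro _ ⟨t, ht, rfl⟩
      rw [SetLike.mem_coe, hc]
      exact hzE t (hSE.le (hT₂S ht))
    have hle : ((R : Subgroup L₂).map L₂.subtype).map c ≤ (P : Subgroup G) ⊓ U₃ := by
      refine le_inf ?_ (map_mono (map_subtype_le _))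
      rintro _ ⟨r, hr, rfl⟩
      rw [hc]
      exact hzR r hr
    have hmax₃ : ¬ p ∣ ((P : Subgroup G) ⊓ U₃).relIndex U₃ := by
      intro hdvd
      refine R.not_dvd_index ?_
      have h1 := hdvd.trans (relIndex_dvd_of_le_left _ hle)
      rwa [relIndex_map_map_of_injective _ _ hcinj, relIndex, subgroupOf,
        comap_map_eq_self_of_injective L₂.subtype_injective] at h1
    have hd₃ : Nat.card (P : Subgroup G) - Nat.card ((P : Subgroup G) ⊓ U₃ : Subgroup G) < d := by
      have h0 : Nat.card E ≤ Nat.card ((R : Subgroup L₂).map L₂.subtype) :=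
        card_le_of_le fun e he => ⟨⟨e, he.2⟩, hR (mem_subgroupOf.mpr he), rfl⟩
      have h1 := card_le_of_le hle
      rw [card_map_of_injective hcinj] at h1
      have h2 : Nat.card ((P : Subgroup G) ⊓ U₃ : Subgroup G) ≤ Nat.card (P : Subgroup G) :=
        card_le_of_le inf_le_left
      change Nat.card (P : Subgroup G) - Nat.card S < d + 1 at hd
      omega
    have hnS : ∀ a ∈ A, n⁻¹ * a * n ∈ S := fun a ha => hn' a ha ▸ hgS a ha
    have hsecond : FusedBy M ((fun a => z⁻¹ * a * z) '' A) (z⁻¹ * n * z) := by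
      refine ihd U₃ hU₃free hmax₃ hZ₃ hd₃ _ ?_ _ ?_ ?_
      · rintro _ ⟨a, ha, rfl⟩
        exact ⟨hzE a (hSE.le (hA ha)), a, (hSE.le (hA ha)).2, hc a⟩
      · exact ⟨n, hn.2, hc n⟩
      · rintro _ ⟨a, ha, rfl⟩
        convert hzE _ (hSE.le (hnS a ha)) using 1
        group
    have hback : FusedBy M ((fun a => (z * (z⁻¹ * n * z))⁻¹ * a * (z * (z⁻¹ * n * z))) '' A) z⁻¹ := by
      refine (hEz.symm).mono ?_
      rintro _ ⟨a, ha, rfl⟩
      exact ⟨n⁻¹ * a * n, hSE.le (hnS a ha), by group⟩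
    have h := ((hEz.mono fun a ha => hSE.le (hA ha)).trans hsecond).trans hback
    rwa [show z * (z⁻¹ * n * z) * z⁻¹ = n by group] at h

/-- `N(Z(J(P)))` controls fusion of elements of `P`. -/
theorem controls (hp2 : p ≠ 2) (P : Sylow p G)
    (hfree : ∀ Q : Subgroup G, Q ≤ (P : Subgroup G) →
      (P : Subgroup G) ⊓ centralizer ((P : Subgroup G) : Set G) ≤ Q →
      ¬ CfsgLib.OddOrder.InvolvesSL2 p ↥(normalizer (Q : Set G)))
    {A : Set G} (hA : A ⊆ (P : Subgroup G)) (hne : A.Nonempty) {g : G}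
    (hg : ∀ a ∈ A, g⁻¹ * a * g ∈ (P : Subgroup G)) :
    FusedBy (normalizer (centerThompsonAOf (P : Subgroup G) : Set G)) A g := by
  haveI := hne.to_subtype
  exact fusedBy_of_chain P (k := 0) (fun D hDP _ hDmax _ x hx =>
    tame_step P hfree hDP hDmax (fun U hU hmax hZ _ =>
      climb hp2 P hfree _ U hU hmax hZ (Nat.lt_succ_self _)) hx) hA Nat.card_pos hg

end CfsgLib.LocalEven.CentricZJ
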