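import Cfsg.Agent.Lib.LocalEven.CharP2

/-!
Centric subgroups of a Sylow subgroup in groups of characteristic `p`.
-/

namespace CfsgLib.LocalEven

variable {G : Type*} [Group G] {p : ℕ} [Finite G] [Fact p.Prime]

/-- If `Q ⊴ T ∈ Syl_p(G)`, `C_T(Q) ≤ Q` and `G` has characteristic `p`, then `C_G(Q) ≤ Q`. -/
theorem centralizer_le_of_centric
    (hG : Subgroup.centralizer (Cfsg.pCore p G : Set G) ≤ Cfsg.pCore p G) (T : Sylow p G)
    {Q : Subgroup G} (hQT : Q ≤ (T : Subgroup G))
    (hQn : (T : Subgroup G) ≤ Subgroup.normalizer (Q : Set G))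
    (hC : (T : Subgroup G) ⊓ Subgroup.centralizer (Q : Set G) ≤ Q) :
    Subgroup.centralizer (Q : Set G) ≤ Q := by
  set P := Cfsg.pCore p G with hP
  have hPT : P ≤ (T : Subgroup G) := pCore_le_sylow T
  set C := Subgroup.centralizer (Q : Set G) with hCdef
  have hCP : C ≤ Subgroup.normalizer (P : Set G) := by
    rw [Subgroup.normalizer_eq_top_iff.2 (inferInstance : (Cfsg.pCore p G).Normal)]; exact le_top
  have hPC : P ≤ Subgroup.normalizer (C : Set G) :=
    (hPT.trans hQn).trans (normalizer_le_normalizer_centralizer _)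
  have hCp : IsPGroup p C := by
    refine isPGroup_of_stab (A := (P : Set G)) (B := P ⊓ Q) (Q := P) (isPGroup_pCore.to_le inf_le_left)
      isPGroup_pCore (inf_le_left.trans hG) ?_ ?_
    · exact Subgroup.centralizer_le (fun x hx => (Subgroup.mem_inf.1 hx).2)
    · intro c hc x hx
      have h1 : c * x * c⁻¹ * x⁻¹ ∈ P := commElem_mem_left hx (hCP hc)
      exact ⟨h1, hC ⟨hPT h1, commElem_mem_right hc (hPC hx)⟩⟩
  have hTC : (T : Subgroup G) ≤ Subgroup.normalizer (C : Set G) :=
    hQn.trans (normalizer_le_normalizer_centralizer _)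
  have hsup : IsPGroup p ↥((T : Subgroup G) ⊔ C) := T.isPGroup'.to_sup_of_normal_right' hCp hTC
  have heq : (T : Subgroup G) ⊔ C = (T : Subgroup G) := T.is_maximal' hsup le_sup_left
  intro x hx
  exact hC ⟨heq ▸ (le_sup_right : C ≤ (T : Subgroup G) ⊔ C) hx, hx⟩

/-- If `Q ⊴ T ∈ Syl_p(G)`, `C_T(Q) ≤ Q` and `G` has characteristic `p`, then every subgroup
containing `Q` has characteristic `p`. -/
theorem charP_of_centric_le
    (hG : Subgroup.centralizer (Cfsg.pCore p G : Set G) ≤ Cfsg.pCore p G) (T : Sylow p G)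
    {Q : Subgroup G} (hQT : Q ≤ (T : Subgroup G))
    (hQn : (T : Subgroup G) ≤ Subgroup.normalizer (Q : Set G))
    (hC : (T : Subgroup G) ⊓ Subgroup.centralizer (Q : Set G) ≤ Q) {L : Subgroup G} (hQL : Q ≤ L) :
    Subgroup.centralizer (Cfsg.pCore p L : Set L) ≤ Cfsg.pCore p L := by
  rw [charP_iff]
  set P := Cfsg.pCore p G with hP
  have hPn : ∀ g : G, g ∈ Subgroup.normalizer (P : Set G) := fun g => by
    rw [Subgroup.normalizer_eq_top_iff.2 (inferInstance : (Cfsg.pCore p G).Normal)]; trivial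
  set R := Cfsg.pCoreOf p L with hR
  set C := L ⊓ Subgroup.centralizer (R : Set G) with hCdef
  have hPL : P ⊓ L ≤ R := by
    refine le_pCoreOf inf_le_right ?_ (isPGroup_pCore.to_le inf_le_left)
    exact (le_inf (fun g _ => hPn g) Subgroup.le_normalizer).trans
      Subgroup.inf_normalizer_le_normalizer_inf
  have hLPL : ∀ g ∈ L, ∀ y ∈ P ⊓ L, g * y * g⁻¹ ∈ P ⊓ L := fun g hg y hy =>
    ⟨(Subgroup.mem_normalizer_iff.1 (hPn g) y).1 hy.1, L.mul_mem (L.mul_mem hg hy.2) (L.inv_mem hg)⟩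
  -- `W`: the elements of `L` centralizing `P / (P ⊓ L)`
  let W : Subgroup G :=
    { carrier := {g | g ∈ L ∧ ∀ x ∈ P, g * x * g⁻¹ * x⁻¹ ∈ P ⊓ L}
      one_mem' := ⟨L.one_mem, fun x _ => by simp⟩
      mul_mem' := by
        rintro g h ⟨hg, hgx⟩ ⟨hh, hhx⟩
        refine ⟨L.mul_mem hg hh, fun x hx => ?_⟩
        have := Subgroup.mul_mem _ (hLPL g hg _ (hhx x hx)) (hgx x hx)
        convert this using 1; group
      inv_mem' := by
        rintro g ⟨hg, hgx⟩
        refine ⟨L.inv_mem hg, fun x hx => ?_⟩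
        have := hLPL g⁻¹ (L.inv_mem hg) _ (Subgroup.inv_mem _ (hgx x hx))
        convert this using 1; group }
  have hQW : Q ≤ W := fun q hq => ⟨hQL hq, fun x hx =>
    ⟨commElem_mem_left hx (hPn q), hQL (commElem_mem_right hq (hQn (pCore_le_sylow T hx)))⟩⟩
  have hWL : W ≤ L := fun g hg => hg.1
  have hWn : L ≤ Subgroup.normalizer (W : Set G) := by
    have key : ∀ l ∈ L, ∀ g ∈ W, l * g * l⁻¹ ∈ W := by
      rintro l hl g ⟨hg, hgx⟩
      refine ⟨L.mul_mem (L.mul_mem hl hg) (L.inv_mem hl), fun x hx => ?_⟩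
      have hx' : l⁻¹ * x * l ∈ P := by
        have := (Subgroup.mem_normalizer_iff.1 (hPn l⁻¹) x).1 hx
        simpa using this
      have := hLPL l hl _ (hgx _ hx')
      convert this using 1; group
    intro l hl
    rw [Subgroup.mem_normalizer_iff]
    refine fun g => ⟨key l hl g, fun hg => ?_⟩
    have := key l⁻¹ (L.inv_mem hl) _ hg
    simpa [mul_assoc] using this
  have hCn : L ≤ Subgroup.normalizer (C : Set G) :=
    (le_inf Subgroup.le_normalizer
      ((le_normalizer_pCoreOf p L).trans (normalizer_le_normalizer_centralizer _))).trans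
      Subgroup.inf_normalizer_le_normalizer_inf
  have hCW : C ⊓ W ≤ R := by
    refine le_pCoreOf (inf_le_left.trans inf_le_left)
      ((le_inf hCn hWn).trans Subgroup.inf_normalizer_le_normalizer_inf) ?_
    refine isPGroup_of_stab (A := (P : Set G)) (B := P ⊓ L) (Q := P) (isPGroup_pCore.to_le inf_le_left)
      isPGroup_pCore (inf_le_left.trans hG) ?_ ?_
    · exact (inf_le_left.trans inf_le_right).trans (Subgroup.centralizer_le hPL)
    · exact fun c hc x hx => hc.2.2 x hx
  refine le_pCoreOf inf_le_left hCn ?_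
  have hQp : IsPGroup p Q := T.isPGroup'.to_le hQT
  refine isPGroup_of_stab (A := (Q : Set G)) (B := R) (Q := Q) (isPGroup_pCoreOf L) hQp
    (inf_le_left.trans (centralizer_le_of_centric hG T hQT hQn hC)) inf_le_right ?_
  intro c hc q hq
  exact hCW ⟨commElem_mem_right hc (hCn (hQL hq)),
    commElem_mem_left (hQW hq) (hWn hc.1)⟩

end CfsgLib.LocalEven
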