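import Cfsg.Agent.Lib.LocalEven.AmalgamSylow
import Cfsg.Agent.Lib.LocalEven.CharP2
import Cfsg.Agent.Lib.LocalEven.StrongEmb3
import Cfsg.Agent.Lib.Components.LocalLayer
import Cfsg.Agent.Lib.Fusion.GroupSub
import Cfsg.Prelude.Def_LocalStructure

/-!
# Parabolic and local characteristic `p` through centralizers of elements
-/

namespace CfsgLib.LocalEven.CharPLocal

open Cfsg Subgroup

variable {G : Type*} [Group G] [Finite G] {p : ℕ} [Fact p.Prime]

/-- Characteristic `p` passes from `K ⊇ T C(T)` to `N(T)`. -/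
theorem fstar_normalizer_of_le {T K : Subgroup G} (hT : IsPGroup p T) (hTK : T ≤ K)
    (hCK : centralizer (T : Set G) ≤ K)
    (hK : centralizer (pCore p K : Set K) ≤ pCore p K) :
    generalizedFittingSubgroup ↥(normalizer (T : Set G)) = pCore p ↥(normalizer (T : Set G)) := by
  refine CfsgLib.Components.fstar_normalizer_eq_pCore hT (R := pCoreOf p K) (isPGroup_pCoreOf K)
    (hTK.trans (le_normalizer_pCoreOf p K)) (hCK.trans (le_normalizer_pCoreOf p K)) fun q hqT hq => ?_
  exact (charP_iff K).1 hK ⟨hCK hqT, hq⟩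

theorem fstar_centralizer_of_normalizer {T : Subgroup G}
    (h : generalizedFittingSubgroup ↥(normalizer (T : Set G)) = pCore p ↥(normalizer (T : Set G))) :
    generalizedFittingSubgroup ↥(centralizer (T : Set G)) = pCore p ↥(centralizer (T : Set G)) := by
  rw [CfsgLib.Components.fstar_eq_pCore_iff] at h ⊢
  exact charP_equiv (subgroupOfEquivOfLe (centralizer_le_normalizer (T : Set G)))
    (charP_normal h (inferInstance : ((centralizer (T : Set G)).subgroupOf _).Normal))

theorem map_conj_centralizer (g z : G) :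
    (centralizer ({z} : Set G)).map (MulAut.conj g).toMonoidHom =
      centralizer ({g * z * g⁻¹} : Set G) := by
  ext x
  simp only [mem_map, mem_centralizer_singleton_iff, MulEquiv.coe_toMonoidHom, MulAut.conj_apply]
  constructor
  · rintro ⟨y, hy, rfl⟩
    calc g * y * g⁻¹ * (g * z * g⁻¹) = g * (y * z) * g⁻¹ := by group
      _ = g * z * g⁻¹ * (g * y * g⁻¹) := by rw [hy]; group
  · intro hx
    refine ⟨g⁻¹ * x * g, ?_, by group⟩
    calc g⁻¹ * x * g * z = g⁻¹ * (x * (g * z * g⁻¹)) * g := by group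
      _ = z * (g⁻¹ * x * g) := by rw [hx]; group

theorem charP_centralizer_conj {z : G} (g : G)
    (h : centralizer (pCore p ↥(centralizer ({z} : Set G)) : Set ↥(centralizer ({z} : Set G))) ≤
      pCore p ↥(centralizer ({z} : Set G))) :
    centralizer (pCore p ↥(centralizer ({g * z * g⁻¹} : Set G)) :
        Set ↥(centralizer ({g * z * g⁻¹} : Set G))) ≤
      pCore p ↥(centralizer ({g * z * g⁻¹} : Set G)) := by
  have h1 := charP_map_equiv (MulAut.conj g).toMonoidHom (MulAut.conj g).injective h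
  rwa [map_conj_centralizer] at h1

/-- In parabolic characteristic `p` the centralizers of Sylow-central elements have
characteristic `p`. -/
theorem charP_centralizer_of_parabolic (hG : IsOfParabolicCharacteristic p G) (S : Sylow p G)
    {z : G} (hz : z ∈ (S : Subgroup G)) (hz1 : z ≠ 1)
    (hSz : (S : Subgroup G) ≤ centralizer ({z} : Set G)) :
    generalizedFittingSubgroup ↥(centralizer ({z} : Set G)) =
      pCore p ↥(centralizer ({z} : Set G)) := by
  have e : centralizer ((zpowers z : Subgroup G) : Set G) = centralizer ({z} : Set G) := by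
    rw [zpowers_eq_closure, centralizer_closure]
  have h := hG (zpowers z) (S.2.to_le (zpowers_le.2 hz)) (by rwa [Ne, zpowers_eq_bot])
    ⟨S, hSz.trans (e ▸ centralizer_le_normalizer _)⟩
  have := fstar_centralizer_of_normalizer (T := zpowers z)
    (CfsgLib.Components.fstar_eq_pCore_iff.2 h)
  rwa [e] at this

/-- Parabolic characteristic `p` from the centralizers of Sylow-central elements of order `p`. -/
theorem parabolic_of_centralizers (S : Sylow p G)
    (h : ∀ z : G, orderOf z = p → z ∈ (S : Subgroup G) →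
      (S : Subgroup G) ≤ centralizer ({z} : Set G) →
      generalizedFittingSubgroup ↥(centralizer ({z} : Set G)) =
        pCore p ↥(centralizer ({z} : Set G))) :
    IsOfParabolicCharacteristic p G := by
  intro R hR hR1 ⟨T, hT⟩
  have hRT : R ≤ (T : Subgroup G) :=
    le_sup_right.trans (T.3 (T.2.to_sup_of_normal_right' hR hT) le_sup_left).le
  obtain ⟨z, hzR, hzp, hTz⟩ := exists_orderOf_eq_prime_central T.2 hRT hT hR1
  obtain ⟨g, rfl⟩ := MulAction.exists_smul_eq G S T
  have hzS : g⁻¹ * z * g ∈ (S : Subgroup G) := by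
    obtain ⟨y, hy, hyz⟩ := hRT hzR
    have : g⁻¹ * z * g = y := by rw [← hyz]; simp [mul_assoc]
    exact this ▸ hy
  have hS : (S : Subgroup G) ≤ centralizer ({g⁻¹ * z * g} : Set G) := by
    intro s hs
    have h1 : g * s * g⁻¹ ∈ centralizer ({z} : Set G) := hTz ⟨s, hs, by simp⟩
    rw [mem_centralizer_singleton_iff] at h1 ⊢
    calc s * (g⁻¹ * z * g) = g⁻¹ * (g * s * g⁻¹ * z) * g := by group
      _ = g⁻¹ * z * g * s := by rw [h1]; group
  have hord : orderOf (g⁻¹ * z * g) = p := by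
    rw [← hzp]
    simpa [mul_assoc] using orderOf_injective (MulAut.conj g⁻¹).toMonoidHom
      (MulAut.conj g⁻¹).injective z
  have hC := charP_centralizer_conj g (CfsgLib.Components.fstar_eq_pCore_iff.1 (h _ hord hzS hS))
  rw [show g * (g⁻¹ * z * g) * g⁻¹ = z by group] at hC
  exact CfsgLib.Components.fstar_eq_pCore_iff.1 (fstar_normalizer_of_le hR
    (hRT.trans hTz) (centralizer_le (Set.singleton_subset_iff.2 hzR)) hC)

/-- Local characteristic `p` from the centralizers of elements of order `p`. -/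
theorem localChar_of_centralizers (hdiv : p ∣ Nat.card G) (S : Sylow p G)
    (h : ∀ z : G, z ∈ (S : Subgroup G) → orderOf z = p →
      generalizedFittingSubgroup ↥(centralizer ({z} : Set G)) =
        pCore p ↥(centralizer ({z} : Set G))) :
    IsOfLocalCharacteristic p G := by
  refine ⟨hdiv, fun T hT hT1 => CfsgLib.Components.fstar_eq_pCore_iff.1
    (CfsgLib.Components.fstar_normalizer_of_centralizers (fun t ht => ?_) hT hT1)⟩
  have htp : IsPGroup p (zpowers t) := IsPGroup.of_card (n := 1) (by rw [Nat.card_zpowers, ht, pow_one])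
  obtain ⟨P, hP⟩ := htp.exists_le_sylow
  obtain ⟨g, rfl⟩ := MulAction.exists_smul_eq G S P
  obtain ⟨y, hy, hyt⟩ := hP (mem_zpowers t)
  have hyt' : g * y * g⁻¹ = t := by rw [← hyt]; simp
  have hord : orderOf y = p := by
    rw [← ht, ← hyt']
    exact (orderOf_injective (MulAut.conj g).toMonoidHom (MulAut.conj g).injective y).symm
  have := charP_centralizer_conj g (CfsgLib.Components.fstar_eq_pCore_iff.1 (h y hy hord))
  rw [hyt'] at this
  exact CfsgLib.Components.fstar_eq_pCore_iff.2 this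

/-- Parabolic characteristic `p` passes to subnormal subgroups with Sylow-central centre. -/
theorem parabolic_subnormal (hG : IsOfParabolicCharacteristic p G) (S : Sylow p G)
    (G₁ : Subgroup G) (hsn : G₁.IsSubnormal)
    (hz : ∀ z : G, orderOf z = p →
      z ∈ ((S : Subgroup G) ⊓ G₁) ⊓ centralizer (((S : Subgroup G) ⊓ G₁ : Subgroup G) : Set G) →
      (S : Subgroup G) ≤ centralizer ({z} : Set G)) :
    IsOfParabolicCharacteristic p ↥G₁ := by
  obtain ⟨P, hP⟩ := CfsgLib.Fusion.exists_sylow_subgroupOf S hsn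
  refine parabolic_of_centralizers P fun z hzp hzP hPz => ?_
  rw [hP] at hzP hPz
  have hzmem : (z : G) ∈ ((S : Subgroup G) ⊓ G₁) ⊓
      centralizer (((S : Subgroup G) ⊓ G₁ : Subgroup G) : Set G) := by
    refine ⟨⟨hzP, z.2⟩, ?_⟩
    rintro x ⟨hx, hx1⟩
    exact congrArg Subtype.val
      (mem_centralizer_singleton_iff.1 (hPz (show (⟨x, hx1⟩ : G₁) ∈ _ from hx)))
  have hzG : orderOf (z : G) = p := by rw [Subgroup.orderOf_coe, hzp]
  have hz1 : (z : G) ≠ 1 := fun e => by
    rw [e, orderOf_one] at hzG; exact (Fact.out : p.Prime).ne_one hzG.symm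
  have hC := CfsgLib.Components.fstar_eq_pCore_iff.1
    (charP_centralizer_of_parabolic hG S hzP hz1 (hz _ hzG hzmem))
  set C := centralizer ({(z : G)} : Set G) with hCdef
  have h1 := charP_subnormal hC (hsn.subgroupOf (K := C))
  have e1 : (centralizer ({z} : Set G₁)).map G₁.subtype = (G₁.subgroupOf C).map C.subtype := by
    rw [subgroupOf_map_subtype]
    ext x
    simp only [mem_map, mem_inf, hCdef, mem_centralizer_singleton_iff]
    constructor
    · rintro ⟨⟨y, hy⟩, hyz, rfl⟩; exact ⟨hy, congrArg Subtype.val hyz⟩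
    · rintro ⟨hx, hxz⟩; exact ⟨⟨x, hx⟩, Subtype.ext hxz, rfl⟩
  let e2 : (G₁.subgroupOf C : Subgroup C) ≃* (centralizer ({z} : Set G₁) : Subgroup G₁) :=
    ((G₁.subgroupOf C).equivMapOfInjective C.subtype C.subtype_injective).trans
      ((MulEquiv.subgroupCongr e1.symm).trans
        ((centralizer ({z} : Set G₁)).equivMapOfInjective G₁.subtype G₁.subtype_injective).symm)
  exact CfsgLib.Components.fstar_eq_pCore_iff.2 (charP_equiv e2 h1)

theorem mem_omegaOne_of_orderOf {H : Subgroup G} {z : G} (hzH : z ∈ H) (hz : orderOf z = p) :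
    z ∈ omegaOne p H :=
  subset_closure ⟨hzH, hz ▸ pow_orderOf_eq_one z⟩

theorem omegaOne_le (H : Subgroup G) : omegaOne p H ≤ H := (closure_le _).2 fun _ hx => hx.1

theorem oddCore_eq_bot [Fact (Nat.Prime 2)] (h2 : 2 ∣ Nat.card G)
    (hG : IsOfParabolicCharacteristic 2 G) [hN : (oddCore G).Normal]
    (hZ : center (G ⧸ oddCore G) = ⊥) (hodd : Odd (Nat.card (oddCore G)))
    (hmax : ∀ N : Subgroup G, N.Normal → Odd (Nat.card N) → N ≤ oddCore G) :
    oddCore G = ⊥ := by
  set O := oddCore G with hO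
  obtain ⟨S⟩ : Nonempty (Sylow 2 G) := inferInstance
  have hS1 : (S : Subgroup G) ≠ ⊥ := fun e => by
    have := S.dvd_card_of_dvd_card h2
    rw [e, card_bot] at this
    norm_num at this
  -- involutions central in `S` have no fixed points on `O`
  have hfree : ∀ z ∈ (S : Subgroup G), orderOf z = 2 →
      (S : Subgroup G) ≤ centralizer ({z} : Set G) → ∀ a ∈ O, z * a = a * z → a = 1 := by
    intro z hz hzo hSz a ha haz
    have hC := (charP_iff _).1 (CfsgLib.Components.fstar_eq_pCore_iff.1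
      (charP_centralizer_of_parabolic hG S hz (fun e => by simp [e] at hzo) hSz))
    set C := centralizer ({z} : Set G) with hCdef
    set P := pCoreOf 2 C
    have hPC : P ≤ C := pCoreOf_le 2 C
    have hPp : IsPGroup 2 P := isPGroup_pCoreOf C
    have hPO : ∀ x ∈ O ⊓ P, x = 1 := by
      intro x hx
      obtain ⟨n, hn⟩ := hPp ⟨x, hx.2⟩
      have h1 : x ^ 2 ^ n = 1 := congrArg Subtype.val hn
      have h2' : x ^ Nat.card O = 1 :=
        congrArg Subtype.val (pow_card_eq_one' (x := (⟨x, hx.1⟩ : O)))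
      have h3 := Nat.dvd_gcd (orderOf_dvd_of_pow_eq_one h1) (orderOf_dvd_of_pow_eq_one h2')
      rw [Nat.Coprime.gcd_eq_one ((Nat.coprime_two_left.2 hodd).pow_left n)] at h3
      exact orderOf_eq_one_iff.1 (Nat.dvd_one.1 h3)
    have haC : a ∈ C := mem_centralizer_singleton_iff.2 haz.symm
    refine hPO a ⟨ha, hC ⟨haC, fun x hx => ?_⟩⟩
    have h4 : x * a * x⁻¹ * a⁻¹ ∈ O ⊓ P := by
      refine ⟨O.mul_mem (hN.conj_mem a ha x) (O.inv_mem ha), ?_⟩
      have : x * a * x⁻¹ * a⁻¹ = x * (a * x⁻¹ * a⁻¹) := by group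
      rw [this]
      exact mul_mem hx ((mem_normalizer_iff.1 (le_normalizer_pCoreOf 2 C haC) _).1 (inv_mem hx))
    exact mul_inv_eq_iff_eq_mul.1 (mul_inv_eq_one.1 (hPO _ h4))
  by_contra hne
  obtain ⟨z, hzS, hzo, hSz⟩ := exists_orderOf_eq_prime_central S.2 le_rfl le_normalizer hS1
  have hz2 : z * z = 1 := by rw [← sq, ← hzo, pow_orderOf_eq_one]
  -- `z` inverts `O`
  have hinv : ∀ a ∈ O, ∀ y, y = z → y * a * y⁻¹ = a⁻¹ := by
    rintro a ha y rfl
    let f : O → O := fun b => ⟨(b : G)⁻¹ * (y * b * y⁻¹), mul_mem (inv_mem b.2) (hN.conj_mem _ b.2 y)⟩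
    have hf : Function.Injective f := by
      intro b c hbc
      have h1 : (b : G)⁻¹ * (y * b * y⁻¹) = (c : G)⁻¹ * (y * c * y⁻¹) := congrArg Subtype.val hbc
      have h2' : y * ((c : G) * (b : G)⁻¹) = ((c : G) * (b : G)⁻¹) * y := by
        calc y * ((c : G) * (b : G)⁻¹)
            = (c : G) * ((c : G)⁻¹ * (y * c * y⁻¹)) * (y * (b : G)⁻¹) := by group
          _ = _ := by rw [← h1]; group
      have h3 := hfree y hzS hzo hSz _ (mul_mem c.2 (inv_mem b.2)) h2'
      exact (Subtype.ext (mul_inv_eq_one.1 h3)).symm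
    obtain ⟨b, hb⟩ := (Finite.injective_iff_surjective.1 hf) ⟨a, ha⟩
    have hb' : (b : G)⁻¹ * (y * b * y⁻¹) = a := congrArg Subtype.val hb
    have hy : y⁻¹ = y := inv_eq_of_mul_eq_one_right hz2
    rw [← hb']
    calc y * ((b : G)⁻¹ * (y * b * y⁻¹)) * y⁻¹
        = y * (b : G)⁻¹ * y * b * (y⁻¹ * y⁻¹) := by group
      _ = y * (b : G)⁻¹ * y⁻¹ * b := by rw [hy, hz2, mul_one]
      _ = ((b : G)⁻¹ * (y * b * y⁻¹))⁻¹ := by group
  set C := centralizer (O : Set G) with hC
  haveI : C.Normal := Subgroup.normal_centralizer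
  -- `C` has odd order
  have hCS : (S : Subgroup G) ⊓ C = ⊥ := by
    by_contra hne'
    obtain ⟨w, hw, hwo, hSw⟩ := exists_orderOf_eq_prime_central S.2 inf_le_left
      (le_trans (le_inf le_normalizer (by rw [normalizer_eq_top]; exact le_top))
        inf_normalizer_le_normalizer_inf) hne'
    obtain ⟨⟨a, ha⟩, ha1⟩ := (ne_bot_iff_exists_ne_one).1 hne
    exact ha1 (Subtype.ext (hfree w hw.1 hwo hSw a ha (mem_centralizer_iff.1 hw.2 a ha).symm))
  have hCodd : Odd (Nat.card C) := by
    rw [Nat.odd_iff, Nat.mod_two_ne_zero.symm]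
    intro h0
    have h2C : 2 ∣ Nat.card C := Nat.dvd_of_mod_eq_zero h0
    obtain ⟨c, hc⟩ := exists_prime_orderOf_dvd_card' 2 h2C
    obtain ⟨T, hT⟩ := (IsPGroup.of_card (p := 2) (n := 1)
      (show Nat.card (zpowers (c : G)) = 2 ^ 1 by
        rw [Nat.card_zpowers, Subgroup.orderOf_coe, hc, pow_one])).exists_le_sylow
    obtain ⟨g, rfl⟩ := MulAction.exists_smul_eq G S T
    obtain ⟨y, hy, hyc⟩ := hT (mem_zpowers (c : G))
    have hyC : y ∈ C := by
      have := ‹C.Normal›.conj_mem _ c.2 g⁻¹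
      rw [← hyc] at this
      simpa [mul_assoc] using this
    have : y ∈ (⊥ : Subgroup G) := hCS ▸ ⟨hy, hyC⟩
    rw [mem_bot] at this
    subst this
    simp at hyc
    rw [← Subgroup.orderOf_coe, ← hyc, orderOf_one] at hc
    norm_num at hc
  have hCO : C ≤ O := hmax C inferInstance hCodd
  have hzc : (QuotientGroup.mk' O z) ∈ center (G ⧸ O) := by
    rw [mem_center_iff]
    intro x
    obtain ⟨g, rfl⟩ := QuotientGroup.mk'_surjective O x
    rw [← map_mul, ← map_mul]
    refine QuotientGroup.eq.2 (hCO ?_)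
    intro a ha
    have hgz : ∀ b ∈ O, (g⁻¹ * z * g) * b * (g⁻¹ * z * g)⁻¹ = b⁻¹ := by
      intro b hb
      calc (g⁻¹ * z * g) * b * (g⁻¹ * z * g)⁻¹ = g⁻¹ * (z * (g * b * g⁻¹) * z⁻¹) * g := by group
        _ = b⁻¹ := by rw [hinv _ (hN.conj_mem b hb g) z rfl]; group
    have h1 : (g * z)⁻¹ * (z * g) = z⁻¹ * (g⁻¹ * z * g) := by group
    rw [h1]
    have h2' : z⁻¹ * (g⁻¹ * z * g) * a * (z⁻¹ * (g⁻¹ * z * g))⁻¹ = a := by
      calc _ = z⁻¹ * ((g⁻¹ * z * g) * a * (g⁻¹ * z * g)⁻¹) * z := by group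
        _ = z⁻¹ * (z * a * z⁻¹) * z := by rw [hgz a ha, hinv a ha z rfl]
        _ = a := by group
    exact (mul_inv_eq_iff_eq_mul.1 h2').symm
  rw [hZ, mem_bot] at hzc
  have hzO : z ∈ O := (QuotientGroup.eq_one_iff z).1 hzc
  have h5 : orderOf z ∣ Nat.card O := by simpa using orderOf_dvd_natCard (⟨z, hzO⟩ : O)
  rw [hzo] at h5
  exact (Nat.not_even_iff_odd.2 hodd) (even_iff_two_dvd.2 h5)

end CfsgLib.LocalEven.CharPLocal
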