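import Cfsg.Agent.Lib.Base.Transport
import Cfsg.Prelude.Def_BaumannBlocks

/-!
The Chermak-Delgado measure `|R| * |C(R)|` and centrally large subgroups.
-/

set_option autoImplicit false

namespace CfsgLib.LocalEven.CD

open Cfsg
open scoped Pointwise commutatorElement

universe u

variable {G : Type u} [Group G]

/-- `Z(R)` viewed inside the ambient group. -/
def zOf (R : Subgroup G) : Subgroup G := R ⊓ Subgroup.centralizer (R : Set G)

/-- The centraliser of a subgroup. -/
abbrev cen (R : Subgroup G) : Subgroup G := Subgroup.centralizer (R : Set G)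

/-- The measure `|R| * |C(R)|`. -/
noncomputable def meas (R : Subgroup G) : ℕ := Nat.card R * Nat.card (cen R)

theorem map_center_eq_zOf (R : Subgroup G) : (Subgroup.center R).map R.subtype = zOf R := by
  ext x
  simp only [Subgroup.mem_map, Subgroup.mem_center_iff, zOf, Subgroup.mem_inf,
    Subgroup.mem_centralizer_iff, SetLike.mem_coe]
  constructor
  · rintro ⟨y, hy, rfl⟩
    exact ⟨y.2, fun h hh => congrArg Subtype.val (hy ⟨h, hh⟩)⟩
  · rintro ⟨hx, h⟩
    exact ⟨⟨x, hx⟩, fun g => Subtype.ext (h g g.2), rfl⟩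

theorem card_center_eq (R : Subgroup G) : Nat.card (Subgroup.center R) = Nat.card (zOf R) := by
  rw [← map_center_eq_zOf, CfsgLib.Base.card_map_subtype]

theorem cen_sup (H K : Subgroup G) : cen (H ⊔ K) = cen H ⊓ cen K := by
  refine le_antisymm (le_inf (Subgroup.centralizer_le ?_) (Subgroup.centralizer_le ?_)) ?_
  · exact SetLike.coe_subset_coe.2 le_sup_left
  · exact SetLike.coe_subset_coe.2 le_sup_right
  · exact Subgroup.le_centralizer_iff.1
      (sup_le (Subgroup.le_centralizer_iff.1 inf_le_left) (Subgroup.le_centralizer_iff.1 inf_le_right))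

theorem cen_anti {H K : Subgroup G} (h : H ≤ K) : cen K ≤ cen H :=
  Subgroup.centralizer_le (SetLike.coe_subset_coe.2 h)

theorem le_cen_cen (H : Subgroup G) : H ≤ cen (cen H) := Subgroup.le_centralizer_iff.1 le_rfl

theorem mul_subset_sup (H K : Subgroup G) :
    (H : Set G) * (K : Set G) ⊆ ((H ⊔ K : Subgroup G) : Set G) := by
  rintro _ ⟨h, hh, k, hk, rfl⟩
  exact Subgroup.mul_mem_sup hh hk

theorem sup_eq_mul_of_le_cen {H K : Subgroup G} (h : K ≤ cen H) :
    ((H ⊔ K : Subgroup G) : Set G) = (H : Set G) * (K : Set G) := by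
  refine Subgroup.coe_mul_of_right_le_normalizer_left H K (h.trans ?_)
  exact Subgroup.centralizer_le_normalizer _

variable [Finite G]

/-- The product formula for a product set of two subgroups. -/
theorem card_mul_set (H K : Subgroup G) :
    Nat.card ((H : Set G) * (K : Set G) : Set G) * Nat.card ↥(H ⊓ K) =
      Nat.card H * Nat.card K := by
  let f : ↥H ⧸ K.subgroupOf H → G ⧸ K :=
    Quotient.map' (fun h => (h : G)) fun a b hab => by
      rw [QuotientGroup.leftRel_apply] at hab ⊢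
      exact Subgroup.mem_subgroupOf.1 hab
  have hinj : Function.Injective f := by
    intro a b
    induction a using Quotient.inductionOn' with | _ a => ?_
    induction b using Quotient.inductionOn' with | _ b => ?_
    intro hab
    have hab' : ((a : G) : G ⧸ K) = ((b : G) : G ⧸ K) := hab
    exact QuotientGroup.eq.2 (Subgroup.mem_subgroupOf.2 (QuotientGroup.eq.1 hab'))
  have hrange : Set.range f = ((↑) : G → G ⧸ K) '' (H : Set G) := by
    ext x
    constructor
    · rintro ⟨y, rfl⟩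
      induction y using Quotient.inductionOn' with | _ a => ?_
      exact ⟨a, a.2, rfl⟩
    · rintro ⟨h, hh, rfl⟩
      exact ⟨QuotientGroup.mk (⟨h, hh⟩ : H), rfl⟩
  have hcard : Nat.card (((↑) : G → G ⧸ K) '' (H : Set G) : Set (G ⧸ K)) =
      (K.subgroupOf H).index := by
    rw [← hrange]
    exact (Nat.card_congr (Equiv.ofInjective f hinj)).symm
  rw [Subgroup.card_mul_eq_card_subgroup_mul_card_quotient, hcard,
    ← Subgroup.inf_subgroupOf_left, mul_assoc, mul_comm (Subgroup.index _),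
    ← CfsgLib.Base.card_subgroupOf (inf_le_left : H ⊓ K ≤ H), Subgroup.card_mul_index, mul_comm]

theorem card_mul_set_le (H K : Subgroup G) :
    Nat.card ((H : Set G) * (K : Set G) : Set G) ≤ Nat.card ↥(H ⊔ K) :=
  Nat.card_mono (Set.toFinite _) (mul_subset_sup H K)

theorem eq_mul_of_card_le {H K L : Subgroup G} (hH : H ≤ L) (hK : K ≤ L)
    (h : Nat.card L ≤ Nat.card ((H : Set G) * (K : Set G) : Set G)) :
    (L : Set G) = (H : Set G) * (K : Set G) := by
  have hs : (H : Set G) * (K : Set G) ⊆ (L : Set G) :=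
    (mul_subset_sup H K).trans (SetLike.coe_subset_coe.2 (sup_le hH hK))
  refine (Set.eq_of_subset_of_ncard_le hs ?_ (Set.toFinite _)).symm
  rw [← Nat.card_coe_set_eq, ← Nat.card_coe_set_eq]
  exact h

/-! ### The measure -/

theorem meas_le (R : Subgroup G) : meas R ≤ maxCentralizerProduct G :=
  le_csSup (Set.finite_range fun R : Subgroup G => meas R).bddAbove ⟨R, rfl⟩

theorem exists_large : ∃ R : Subgroup G, IsCentralizerLarge R :=
  Nat.sSup_mem (s := {k | ∃ R : Subgroup G, meas R = k}) ⟨_, ⊥, rfl⟩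
    (Set.finite_range fun R : Subgroup G => meas R).bddAbove

theorem central_le (R : Subgroup G) :
    Nat.card R * Nat.card (Subgroup.center R) ≤ maxCentralProduct G :=
  le_csSup (Set.finite_range fun R : Subgroup G =>
    Nat.card R * Nat.card (Subgroup.center R)).bddAbove ⟨R, rfl⟩

theorem exists_centrallyLarge : ∃ R : Subgroup G, IsCentrallyLarge R :=
  Nat.sSup_mem (s := {k | ∃ R : Subgroup G, Nat.card R * Nat.card (Subgroup.center R) = k})
    ⟨_, ⊥, rfl⟩
    (Set.finite_range fun R : Subgroup G =>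
      Nat.card R * Nat.card (Subgroup.center R)).bddAbove

theorem maxCent_pos : 0 < maxCentralizerProduct G :=
  lt_of_lt_of_le (Nat.mul_pos Nat.card_pos Nat.card_pos) (meas_le (⊥ : Subgroup G))

theorem large_of_le {R : Subgroup G} (h : maxCentralizerProduct G ≤ meas R) :
    IsCentralizerLarge R := le_antisymm (meas_le R) h

theorem large_sup_inf {Q R : Subgroup G} (hQ : IsCentralizerLarge Q) (hR : IsCentralizerLarge R) :
    ((Q ⊔ R : Subgroup G) : Set G) = (Q : Set G) * (R : Set G) ∧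
      IsCentralizerLarge (Q ⊔ R) ∧ IsCentralizerLarge (Q ⊓ R) ∧
      ((cen (Q ⊓ R) : Subgroup G) : Set G) = (cen Q : Set G) * (cen R : Set G) ∧
      cen (Q ⊓ R) = cen Q ⊔ cen R := by
  have h1 := card_mul_set Q R
  have h2 := card_mul_set (cen Q) (cen R)
  have hle : cen Q ⊔ cen R ≤ cen (Q ⊓ R) := sup_le (cen_anti inf_le_left) (cen_anti inf_le_right)
  have ha : Nat.card ((Q : Set G) * (R : Set G) : Set G) ≤ Nat.card ↥(Q ⊔ R) :=
    card_mul_set_le Q R
  have hb : Nat.card ((cen Q : Set G) * (cen R : Set G) : Set G) ≤ Nat.card ↥(cen (Q ⊓ R)) :=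
    Nat.card_mono (Set.toFinite _)
      ((mul_subset_sup _ _).trans (SetLike.coe_subset_coe.2 hle))
  have hj : cen (Q ⊔ R) = cen Q ⊓ cen R := cen_sup Q R
  have hu := meas_le (Q ⊔ R)
  have hi := meas_le (Q ⊓ R)
  have hQ' : Nat.card Q * Nat.card (cen Q) = maxCentralizerProduct G := hQ
  have hR' : Nat.card R * Nat.card (cen R) = maxCentralizerProduct G := hR
  rw [meas, hj] at hu
  rw [meas] at hi
  set m := maxCentralizerProduct G with hm
  set a := Nat.card ((Q : Set G) * (R : Set G) : Set G) with ha'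
  set b := Nat.card ((cen Q : Set G) * (cen R : Set G) : Set G) with hb'
  set a' := Nat.card ↥(Q ⊔ R)
  set b' := Nat.card ↥(cen (Q ⊓ R))
  set i := Nat.card ↥(Q ⊓ R)
  set j := Nat.card ↥(cen Q ⊓ cen R)
  have hmpos : 0 < m := maxCent_pos
  have hprod : (a * j) * (i * b) = m * m := by
    calc (a * j) * (i * b) = (a * i) * (b * j) := by ring
      _ = m * m := by rw [h1, h2, mul_mul_mul_comm, hQ', hR']
  have hu1 : a * j ≤ a' * j := Nat.mul_le_mul_right _ ha
  have hi1 : i * b ≤ i * b' := Nat.mul_le_mul_left _ hb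
  have hu2 : a * j = m := by
    refine le_antisymm (hu1.trans hu) (Nat.le_of_mul_le_mul_right (c := 0 + m) ?_ (by omega))
    rw [Nat.zero_add]
    calc m * m = (a * j) * (i * b) := hprod.symm
      _ ≤ (a * j) * m := Nat.mul_le_mul_left _ (hi1.trans hi)
  have hi2 : i * b = m := Nat.eq_of_mul_eq_mul_left hmpos (by rw [← hprod, hu2])
  have hapos : 0 < j := Nat.card_pos
  have hipos : 0 < i := Nat.card_pos
  have haa : a' ≤ a := Nat.le_of_mul_le_mul_right (by rw [hu2]; exact hu) hapos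
  have hbb : b' ≤ b := Nat.le_of_mul_le_mul_left (by rw [hi2]; exact hi) hipos
  have hseteq := eq_mul_of_card_le (L := cen (Q ⊓ R)) (H := cen Q) (K := cen R)
    (cen_anti inf_le_left) (cen_anti inf_le_right) hbb
  refine ⟨eq_mul_of_card_le le_sup_left le_sup_right haa, ?_, ?_, hseteq, ?_⟩
  · apply large_of_le
    rw [meas, hj]
    exact le_of_eq hu2.symm |>.trans hu1
  · apply large_of_le
    rw [meas]
    exact le_of_eq hi2.symm |>.trans hi1
  · refine le_antisymm ?_ hle
    rw [← SetLike.coe_subset_coe, hseteq]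
    exact mul_subset_sup _ _

theorem large_cen {Q : Subgroup G} (hQ : IsCentralizerLarge Q) :
    IsCentralizerLarge (cen Q) ∧ cen (cen Q) = Q := by
  have hQ' : Nat.card Q * Nat.card (cen Q) = maxCentralizerProduct G := hQ
  have h1 : Nat.card Q ≤ Nat.card (cen (cen Q)) :=
    Nat.card_mono (Set.toFinite _) (le_cen_cen Q)
  have h2 := meas_le (cen Q)
  rw [meas] at h2
  have h3 : Nat.card (cen (cen Q)) ≤ Nat.card Q := by
    refine Nat.le_of_mul_le_mul_left (?_ : Nat.card (cen Q) * _ ≤ Nat.card (cen Q) * _) Nat.card_pos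
    calc Nat.card (cen Q) * Nat.card (cen (cen Q)) ≤ maxCentralizerProduct G := h2
      _ = Nat.card (cen Q) * Nat.card Q := by rw [← hQ', mul_comm]
  refine ⟨large_of_le ?_, ?_⟩
  · rw [meas, ← hQ', mul_comm]
    exact Nat.mul_le_mul_left _ h1
  · exact (SetLike.coe_injective (Set.eq_of_subset_of_ncard_le
      (SetLike.coe_subset_coe.2 (le_cen_cen Q)) (by
        rw [← Nat.card_coe_set_eq, ← Nat.card_coe_set_eq]; exact h3) (Set.toFinite _))).symm

/-! ### Centrally large subgroups -/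

theorem maxCentralProduct_eq : maxCentralProduct G = maxCentralizerProduct G := by
  obtain ⟨M, hM⟩ := exists_large (G := G)
  obtain ⟨R, hR⟩ := exists_centrallyLarge (G := G)
  refine le_antisymm ?_ ?_
  · rw [← (hR : _ = maxCentralProduct G), card_center_eq]
    exact le_trans (Nat.mul_le_mul_left _ (Nat.card_mono (Set.toFinite _)
      (SetLike.coe_subset_coe.2 (inf_le_right : zOf R ≤ cen R)))) (meas_le R)
  · have hC := large_cen hM
    have hU := (large_sup_inf hM hC.1).2.1
    rw [← (hU : _ = maxCentralizerProduct G)]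
    refine le_trans (le_of_eq ?_) (central_le (M ⊔ cen M))
    rw [card_center_eq, zOf, inf_eq_right.2]
    change cen (M ⊔ cen M) ≤ M ⊔ cen M
    rw [cen_sup, hC.2]
    exact inf_le_left.trans le_sup_right

theorem cl_iff {Q : Subgroup G} :
    IsCentrallyLarge Q ↔ IsCentralizerLarge Q ∧ cen Q ≤ Q := by
  constructor
  · intro h
    have h' : Nat.card Q * Nat.card (zOf Q) = maxCentralizerProduct G := by
      rw [← maxCentralProduct_eq, ← card_center_eq]; exact h
    have hle : Nat.card (zOf Q) ≤ Nat.card (cen Q) :=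
      Nat.card_mono (Set.toFinite _) (SetLike.coe_subset_coe.2 inf_le_right)
    have hm := meas_le Q
    rw [meas, ← h'] at hm
    have hle' : Nat.card (cen Q) ≤ Nat.card (zOf Q) :=
      Nat.le_of_mul_le_mul_left hm Nat.card_pos
    have heq : zOf Q = cen Q := SetLike.coe_injective (Set.eq_of_subset_of_ncard_le
      (SetLike.coe_subset_coe.2 inf_le_right) (by
        rw [← Nat.card_coe_set_eq, ← Nat.card_coe_set_eq]; exact hle') (Set.toFinite _))
    refine ⟨?_, heq ▸ inf_le_left⟩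
    rw [heq] at h'
    exact h'
  · rintro ⟨h, hle⟩
    change _ = maxCentralProduct G
    rw [maxCentralProduct_eq, card_center_eq, zOf, inf_eq_right.2 hle]
    exact h

theorem cl_large {Q : Subgroup G} (h : IsCentrallyLarge Q) : IsCentralizerLarge Q := (cl_iff.1 h).1

theorem cl_cen_le {Q : Subgroup G} (h : IsCentrallyLarge Q) : cen Q ≤ Q := (cl_iff.1 h).2

theorem zOf_eq {Q : Subgroup G} (h : IsCentrallyLarge Q) : zOf Q = cen Q :=
  inf_eq_right.2 (cl_cen_le h)

theorem cl_sup {Q R : Subgroup G} (hQ : IsCentrallyLarge Q) (hR : IsCentrallyLarge R) :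
    ((Q ⊔ R : Subgroup G) : Set G) = (Q : Set G) * (R : Set G) ∧ IsCentrallyLarge (Q ⊔ R) := by
  obtain ⟨h1, h2, -⟩ := large_sup_inf (cl_large hQ) (cl_large hR)
  refine ⟨h1, cl_iff.2 ⟨h2, ?_⟩⟩
  exact ((cen_anti le_sup_left).trans (cl_cen_le hQ)).trans le_sup_left

theorem cl_sSup {s : Set (Subgroup G)} (hs : s.Nonempty) (h : ∀ Q ∈ s, IsCentrallyLarge Q) :
    IsCentrallyLarge (sSup s) := by
  have hfin : s.Finite := Set.toFinite s
  induction s, hfin using Set.Finite.induction_on with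
  | empty => exact absurd hs (by simp)
  | @insert a t _ _ ih =>
    rw [sSup_insert]
    rcases t.eq_empty_or_nonempty with rfl | hne
    · simpa using h a (by simp)
    · exact (cl_sup (h a (by simp)) (ih hne fun Q hQ => h Q (by simp [hQ]))).2

theorem exists_mcl_le {W : Subgroup G} (hW : IsCentrallyLarge W) :
    ∃ Q ≤ W, IsMinimalCentrallyLarge Q := by
  obtain ⟨Q, hQ⟩ := Set.Finite.exists_minimal
    (Set.toFinite {Q : Subgroup G | Q ≤ W ∧ IsCentrallyLarge Q}) ⟨W, le_rfl, hW⟩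
  exact ⟨Q, hQ.1.1, hQ.1.2, fun R hRQ hR => le_antisymm hRQ (hQ.2 ⟨hRQ.trans hQ.1.1, hR⟩ hRQ)⟩

theorem exists_mcl : ∃ Q : Subgroup G, IsMinimalCentrallyLarge Q := by
  obtain ⟨R, hR⟩ := exists_centrallyLarge (G := G)
  obtain ⟨Q, -, hQ⟩ := exists_mcl_le hR
  exact ⟨Q, hQ⟩

theorem cl_centrallyLargeJoin : IsCentrallyLarge (centrallyLargeJoin G) :=
  cl_sSup exists_centrallyLarge fun _ h => h

theorem cl_minimalJoin : IsCentrallyLarge (minimalCentrallyLargeJoin G) :=
  cl_sSup exists_mcl fun _ h => h.1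

/-! ### Abelian subgroups of largest order -/

theorem maxAb_isComm {A : Subgroup G} (hA : A ∈ maxAbelianSubgroups G) : A ≤ cen A :=
  Subgroup.le_centralizer_iff_isMulCommutative.2 hA.1

theorem cen_maxAb {A : Subgroup G} (hA : A ∈ maxAbelianSubgroups G) : cen A = A := by
  refine le_antisymm (fun x hx => ?_) (maxAb_isComm hA)
  have hz : Subgroup.zpowers x ≤ cen A := Subgroup.zpowers_le.2 hx
  have hab : IsMulCommutative ↥(A ⊔ Subgroup.zpowers x) := by
    refine Subgroup.le_centralizer_iff_isMulCommutative.1 ?_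
    show _ ≤ cen _
    rw [cen_sup]
    refine sup_le (le_inf (maxAb_isComm hA) (Subgroup.le_centralizer_iff.1 hz))
      (le_inf hz (Subgroup.le_centralizer _))
  have := Subgroup.eq_of_le_of_card_ge (le_sup_left : A ≤ A ⊔ Subgroup.zpowers x) (hA.2 _ hab)
  rw [this]
  exact le_sup_right (a := A) (Subgroup.mem_zpowers x)

theorem isComm_sup {A B : Subgroup G} (hA : A ≤ cen A) (hB : B ≤ cen B) (h : B ≤ cen A) :
    A ⊔ B ≤ cen (A ⊔ B) := by
  rw [cen_sup]
  exact sup_le (le_inf hA (Subgroup.le_centralizer_iff.1 h)) (le_inf h hB)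

theorem cl_sup_maxAb {Q A : Subgroup G} (hQ : IsCentrallyLarge Q)
    (hA : A ∈ maxAbelianSubgroups G) :
    ((Q ⊔ A : Subgroup G) : Set G) = (Q : Set G) * (A : Set G) ∧ IsCentrallyLarge (Q ⊔ A) ∧
      (Q ⊔ A) ⊓ cen (Q ⊓ A) = zOf Q ⊔ A ∧
      ((zOf Q ⊔ A : Subgroup G) : Set G) = (zOf Q : Set G) * (A : Set G) := by
  have hzQ := zOf_eq hQ
  have hZle : cen Q ≤ Q := cl_cen_le hQ
  set B := (Q ⊓ A) ⊔ cen Q with hBdef
  have hcomm : cen Q ≤ cen (Q ⊓ A) := cen_anti inf_le_left
  have hBset : (B : Set G) = ((Q ⊓ A : Subgroup G) : Set G) * (cen Q : Set G) :=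
    sup_eq_mul_of_le_cen hcomm
  have hBab : B ≤ cen B :=
    isComm_sup ((inf_le_right.trans (maxAb_isComm hA)).trans (cen_anti inf_le_right))
      (hZle.trans (le_cen_cen Q)) hcomm
  have hBle : Nat.card B ≤ Nat.card A :=
    hA.2 B (Subgroup.le_centralizer_iff_isMulCommutative.1 hBab)
  have hinf : (Q ⊓ A) ⊓ cen Q = cen Q ⊓ A := by
    apply le_antisymm
    · exact le_inf inf_le_right (inf_le_left.trans inf_le_right)
    · exact le_inf (le_inf (inf_le_left.trans hZle) inf_le_right) inf_le_left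
  have h1 : Nat.card B * Nat.card ↥(cen Q ⊓ A) = Nat.card ↥(Q ⊓ A) * Nat.card (cen Q) := by
    rw [← hinf, show Nat.card B = Nat.card (B : Set G) from rfl, hBset]
    exact card_mul_set _ _
  have h2 := card_mul_set Q A
  have h3 : cen (Q ⊔ A) = cen Q ⊓ A := by rw [cen_sup, cen_maxAb hA]
  have hu := meas_le (Q ⊔ A)
  rw [meas, h3] at hu
  have hQ' : Nat.card Q * Nat.card (cen Q) = maxCentralizerProduct G := cl_large hQ
  have hsS := card_mul_set_le Q A
  set m := maxCentralizerProduct G with hmdef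
  set s := Nat.card ((Q : Set G) * (A : Set G) : Set G)
  set S' := Nat.card ↥(Q ⊔ A)
  set z := Nat.card ↥(cen Q ⊓ A)
  set k := Nat.card ↥(Q ⊓ A)
  set b := Nat.card B
  set a := Nat.card A
  set q := Nat.card Q
  set c := Nat.card (cen Q)
  have hkpos : 0 < k := Nat.card_pos
  have hzpos : 0 < z := Nat.card_pos
  have hqpos : 0 < q := Nat.card_pos
  -- m * k = q * b * z ≤ q * a * z = s * z * k ≤ S' * z * k ≤ m * k
  have e1 : m * k = q * b * z := by rw [mul_assoc, h1, ← hQ']; ring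
  have e2 : q * a * z = s * z * k := by rw [← h2]; ring
  have l1 : q * b * z ≤ q * a * z := Nat.mul_le_mul_right _ (Nat.mul_le_mul_left _ hBle)
  have l2 : s * z * k ≤ S' * z * k := Nat.mul_le_mul_right _ (Nat.mul_le_mul_right _ hsS)
  have l3 : S' * z * k ≤ m * k := Nat.mul_le_mul_right _ hu
  have hS : S' ≤ s := by
    refine Nat.le_of_mul_le_mul_right (Nat.le_of_mul_le_mul_right (?_ : _ * k ≤ _ * k) hkpos) hzpos
    exact l3.trans (by rw [e1]; exact l1.trans e2.le)
  have hab : a ≤ b := by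
    refine Nat.le_of_mul_le_mul_left (Nat.le_of_mul_le_mul_right (?_ : _ * z ≤ _ * z) hzpos) hqpos
    rw [← e1, e2]
    exact l2.trans l3
  have hm : m ≤ S' * z := by
    refine Nat.le_of_mul_le_mul_right (?_ : _ * k ≤ _ * k) hkpos
    rw [e1]
    exact (l1.trans e2.le).trans l2
  have hset := eq_mul_of_card_le (L := Q ⊔ A) le_sup_left le_sup_right hS
  have hBmax : B ∈ maxAbelianSubgroups G :=
    ⟨Subgroup.le_centralizer_iff_isMulCommutative.1 hBab, fun C hC => (hA.2 C hC).trans hab⟩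
  refine ⟨hset, cl_iff.2 ⟨large_of_le (by rw [meas, h3]; exact hm), ?_⟩, ?_⟩
  · exact ((cen_anti le_sup_left).trans hZle).trans le_sup_left
  have hYle : cen Q ⊔ A ≤ (Q ⊔ A) ⊓ cen (Q ⊓ A) :=
    sup_le (le_inf (hZle.trans le_sup_left) hcomm)
      (le_inf le_sup_right ((maxAb_isComm hA).trans (cen_anti inf_le_right)))
  have hYsub : (((Q ⊔ A) ⊓ cen (Q ⊓ A) : Subgroup G) : Set G) ⊆
      (cen Q : Set G) * (A : Set G) := by
    rintro x ⟨hx1, hx2⟩
    replace hx1 : x ∈ ((Q ⊔ A : Subgroup G) : Set G) := hx1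
    rw [hset] at hx1
    obtain ⟨q, hq, a, ha, rfl⟩ := hx1
    have hqc : q ∈ cen (Q ⊓ A) := by
      have : a ∈ cen (Q ⊓ A) := cen_anti inf_le_right (maxAb_isComm hA ha)
      replace hx2 : q * a ∈ cen (Q ⊓ A) := hx2
      simpa using mul_mem hx2 (inv_mem this)
    have hqB : q ∈ cen B := by
      rw [hBdef, cen_sup]
      exact ⟨hqc, le_cen_cen Q hq⟩
    rw [cen_maxAb hBmax, ← SetLike.mem_coe, hBset] at hqB
    obtain ⟨k, hk, t, ht, rfl⟩ := hqB
    refine ⟨t, ht, k * a, mul_mem hk.2 ha, ?_⟩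
    dsimp only
    rw [← mul_assoc, ← (hcomm ht) k hk]
  rw [hzQ]
  refine ⟨le_antisymm (fun x hx => ?_) hYle, ?_⟩
  · exact mul_subset_sup _ _ (hYsub hx)
  · exact Set.Subset.antisymm ((SetLike.coe_subset_coe.2 hYle).trans hYsub) (mul_subset_sup _ _)

theorem cl_sup_sSup_maxAb {Q : Subgroup G} (hQ : IsCentrallyLarge Q) {s : Set (Subgroup G)}
    (hs : ∀ A ∈ s, A ∈ maxAbelianSubgroups G) : IsCentrallyLarge (Q ⊔ sSup s) := by
  have hfin : s.Finite := Set.toFinite s
  induction s, hfin using Set.Finite.induction_on with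
  | empty => simpa using hQ
  | @insert a t _ _ ih =>
    rw [sSup_insert, sup_left_comm, sup_comm a]
    exact (cl_sup_maxAb (ih fun A hA => hs A (by simp [hA])) (hs a (by simp))).2.1

theorem maxAb_nonempty : (maxAbelianSubgroups G).Nonempty := by
  obtain ⟨A, hA, hmax⟩ := Set.Finite.exists_maximalFor (fun A : Subgroup G => Nat.card A)
    {A | IsMulCommutative A} (Set.toFinite _) ⟨⊥, Subgroup.le_centralizer_iff_isMulCommutative.1 bot_le⟩
  exact ⟨A, hA, fun B hB => (le_total (Nat.card A) (Nat.card B)).elim (hmax hB) id⟩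

theorem cen_thompsonA_le : cen (thompsonSubgroupA G) ≤ thompsonSubgroupA G := by
  obtain ⟨A, hA⟩ := maxAb_nonempty (G := G)
  have hAJ : A ≤ thompsonSubgroupA G := le_sSup hA
  exact ((cen_anti hAJ).trans (cen_maxAb hA).le).trans hAJ

theorem jTilde_le {M : Subgroup G} (hM : IsCentrallyLarge M) (hJ : thompsonSubgroupA G ≤ M) :
    cen (thompsonSubgroupA G ⊓ cen (thompsonSubgroupA G)) ≤ M := by
  rw [inf_eq_right.2 cen_thompsonA_le]
  exact (cen_anti (cen_anti hJ)).trans (large_cen (cl_large hM)).2.le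

/-! ### Minimal centrally large subgroups -/

theorem mcl_eq_inf_sup {Q W : Subgroup G} (hQ : IsMinimalCentrallyLarge Q)
    (hW : IsCentrallyLarge W) : (Q ⊓ W) ⊔ cen Q = Q := by
  have hQl := cl_large hQ.1
  have hZle := cl_cen_le hQ.1
  obtain ⟨-, -, hI, hIset, -⟩ := large_sup_inf hQl (cl_large hW)
  have hK := (large_sup_inf hI (large_cen hQl).1).2.1
  refine hQ.2 _ (sup_le inf_le_left hZle) (cl_iff.2 ⟨hK, ?_⟩)
  rw [cen_sup, (large_cen hQl).2]
  rintro x ⟨hx, hxQ⟩
  replace hx : x ∈ ((cen (Q ⊓ W) : Subgroup G) : Set G) := hx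
  rw [hIset] at hx
  obtain ⟨a, ha, b, hb, rfl⟩ := hx
  replace hxQ : a * b ∈ Q := hxQ
  have hbQ : b ∈ Q := by simpa using mul_mem (inv_mem (hZle ha)) hxQ
  exact mul_mem (le_sup_right (a := Q ⊓ W) ha) (le_sup_left (b := cen Q) ⟨hbQ, cl_cen_le hW hb⟩)

omit [Finite G] in
theorem commutator_eq_of_sup {H Z Q : Subgroup G} (h : H ⊔ Z = Q) (hZ : Z ≤ cen Q) :
    ⁅Q, Q⁆ = ⁅H, H⁆ := by
  subst h
  refine le_antisymm (Subgroup.commutator_le.2 fun x hx y hy => ?_)
    (Subgroup.commutator_mono le_sup_left le_sup_left)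
  have hZH : Z ≤ cen H := hZ.trans (cen_anti le_sup_left)
  rw [← SetLike.mem_coe, sup_eq_mul_of_le_cen hZH] at hx hy
  obtain ⟨a, ha, z, hz, rfl⟩ := hx
  obtain ⟨b, hb, w, hw, rfl⟩ := hy
  have hzQ := Subgroup.mem_centralizer_iff.1 (hZ hz)
  have hwQ := Subgroup.mem_centralizer_iff.1 (hZ hw)
  have haQ : a ∈ H ⊔ Z := le_sup_left (b := Z) ha
  have hbQ : b ∈ H ⊔ Z := le_sup_left (b := Z) hb
  have key : ⁅a * z, b * w⁆ = ⁅a, b⁆ := by
    rw [commutatorElement_def, commutatorElement_def, mul_inv_rev, mul_inv_rev]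
    have c1 : z * (b * w) = (b * w) * z :=
      (hzQ _ (mul_mem hbQ (le_sup_right (a := H) hw))).symm
    have c2 : w * a⁻¹ = a⁻¹ * w := (hwQ _ (inv_mem haQ)).symm
    calc a * z * (b * w) * (z⁻¹ * a⁻¹) * (w⁻¹ * b⁻¹)
        = a * (z * (b * w)) * z⁻¹ * a⁻¹ * w⁻¹ * b⁻¹ := by group
      _ = a * b * (w * a⁻¹) * w⁻¹ * b⁻¹ := by rw [c1]; group
      _ = a * b * a⁻¹ * b⁻¹ := by rw [c2]; group
  exact key ▸ Subgroup.commutator_mem_commutator ha hb

theorem mcl_pair {Q R : Subgroup G} (hQ : IsMinimalCentrallyLarge Q)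
    (hR : IsMinimalCentrallyLarge R) :
    (Q ⊓ R) ⊔ zOf Q = Q ∧ ⁅Q, Q⁆ = ⁅R, R⁆ ∧ Nat.card Q = Nat.card R ∧
      Nat.card (zOf Q) = Nat.card (zOf R) := by
  have hQd := mcl_eq_inf_sup hQ hR.1
  have hRd : (Q ⊓ R) ⊔ cen R = R := by rw [inf_comm]; exact mcl_eq_inf_sup hR hQ.1
  have key : ∀ X : Subgroup G, IsMinimalCentrallyLarge X → (Q ⊓ R) ⊔ cen X = X →
      Nat.card X * Nat.card (zOf (Q ⊓ R)) = Nat.card ↥(Q ⊓ R) * Nat.card (cen X) := by
    intro X hX hd
    have hle : Q ⊓ R ≤ X := le_sup_left.trans hd.le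
    have hinf : (Q ⊓ R) ⊓ cen X = zOf (Q ⊓ R) := by
      apply le_antisymm
      · exact le_inf inf_le_left (inf_le_right.trans (cen_anti hle))
      · refine le_inf inf_le_left ?_
        conv_rhs => rw [← hd]
        rw [cen_sup]
        exact le_inf inf_le_right ((inf_le_left.trans hle).trans (le_cen_cen X))
    rw [← card_mul_set (Q ⊓ R) (cen X), hinf,
      ← sup_eq_mul_of_le_cen (cen_anti hle), hd]
    rfl
  have h1 := key Q hQ hQd
  have h2 := key R hR hRd
  have hq : Nat.card Q * Nat.card (cen Q) = maxCentralizerProduct G := cl_large hQ.1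
  have hr : Nat.card R * Nat.card (cen R) = maxCentralizerProduct G := cl_large hR.1
  have hpos : 0 < Nat.card ↥(Q ⊓ R) := Nat.card_pos
  have hsq : Nat.card (cen Q) * Nat.card (cen Q) = Nat.card (cen R) * Nat.card (cen R) := by
    refine Nat.eq_of_mul_eq_mul_left hpos ?_
    rw [← mul_assoc, ← mul_assoc, ← h1, ← h2]
    rw [mul_right_comm, hq, mul_right_comm, hr]
  have hz : Nat.card (cen Q) = Nat.card (cen R) := Nat.mul_self_inj.1 hsq
  refine ⟨by rw [zOf_eq hQ.1]; exact hQd, ?_, ?_, by rw [zOf_eq hQ.1, zOf_eq hR.1, hz]⟩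
  · rw [commutator_eq_of_sup hQd le_rfl, commutator_eq_of_sup hRd le_rfl]
  · refine Nat.eq_of_mul_eq_mul_right (Nat.card_pos (α := cen Q)) ?_
    rw [hq, ← hr, hz]

theorem mcl_of_abelian {Q : Subgroup G} (hQ : IsMinimalCentrallyLarge Q) (hab : IsMulCommutative Q)
    (X : Subgroup G) : IsMinimalCentrallyLarge X ↔ X ∈ maxAbelianSubgroups G := by
  have hmax : Q ∈ maxAbelianSubgroups G := by
    refine ⟨hab, fun B hB => Nat.mul_self_le_mul_self_iff.1 ?_⟩
    have hQB : cen Q = Q :=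
      le_antisymm (cl_cen_le hQ.1) (Subgroup.le_centralizer_iff_isMulCommutative.2 hab)
    have h : Nat.card Q * Nat.card (cen Q) = maxCentralizerProduct G := cl_large hQ.1
    rw [hQB] at h
    rw [h]
    exact le_trans (Nat.mul_le_mul_left _ (Nat.card_mono (Set.toFinite _)
      (SetLike.coe_subset_coe.2 (Subgroup.le_centralizer_iff_isMulCommutative.2 hB)))) (meas_le B)
  constructor
  · intro hX
    refine ⟨?_, fun B hB => (mcl_pair hQ hX).2.2.1 ▸ hmax.2 B hB⟩
    apply Subgroup.le_centralizer_iff_isMulCommutative.1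
    refine Subgroup.commutator_eq_bot_iff_le_centralizer.1 ?_
    rw [← (mcl_pair hQ hX).2.1, Subgroup.commutator_eq_bot_iff_le_centralizer]
    exact Subgroup.le_centralizer_iff_isMulCommutative.2 hab
  · intro hX
    have hcard : Nat.card X = Nat.card Q := le_antisymm (hmax.2 X hX.1) (hX.2 Q hab)
    have hcl : IsCentrallyLarge X := by
      refine cl_iff.2 ⟨?_, (cen_maxAb hX).le⟩
      change Nat.card X * Nat.card (cen X) = _
      rw [cen_maxAb hX, hcard]
      have h : Nat.card Q * Nat.card (cen Q) = maxCentralizerProduct G := cl_large hQ.1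
      rwa [cen_maxAb hmax] at h
    obtain ⟨R, hRX, hR⟩ := exists_mcl_le hcl
    have := Subgroup.eq_of_le_of_card_ge hRX
      (by rw [hcard, (mcl_pair hQ hR).2.2.1])
    rwa [← this]

end CfsgLib.LocalEven.CD
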