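import Mathlib

/-!
A group generated by a class of subgroups each lying in one of two subgroups.
-/

namespace CfsgLib.LocalEven

theorem eq_top_of_conj_cover {G : Type*} [Group G] (X A B : Subgroup G)
    (hgen : (⨆ g : G, X.map (MulAut.conj g).toMonoidHom) = ⊤)
    (hcover : ∀ g : G, X.map (MulAut.conj g).toMonoidHom ≤ A ∨ X.map (MulAut.conj g).toMonoidHom ≤ B)
    {g₀ : G} (hg₀ : ¬ X.map (MulAut.conj g₀).toMonoidHom ≤ A) : B = ⊤ := by
  let C : G → Subgroup G := fun g => X.map (MulAut.conj g).toMonoidHom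
  have hC : ∀ a g : G, (C g).map (MulAut.conj a).toMonoidHom = C (a * g) := fun a g => by
    simp only [C, Subgroup.map_map]; congr 1; ext x; simp [mul_assoc]
  let D : Subgroup G := ⨆ g : {g : G // ¬ C g ≤ A}, C g
  have hDB : D ≤ B := iSup_le fun g => (hcover g).resolve_left g.2
  have hA : ∀ g, C g ≤ A → C g ≤ Subgroup.normalizer (D : Set G) := by
    intro g hg a ha
    have key : ∀ a ∈ A, D.map (MulAut.conj a).toMonoidHom ≤ D := by
      intro a ha
      rw [Subgroup.map_iSup]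
      refine iSup_le fun g' => ?_
      rw [hC]
      refine le_iSup (fun g : {g : G // ¬ C g ≤ A} => C g) ⟨a * g', fun h => g'.2 ?_⟩
      intro x hx
      have h' : a * x * a⁻¹ ∈ A := h (by rw [← hC]; exact ⟨x, hx, rfl⟩)
      have := A.mul_mem (A.mul_mem (A.inv_mem ha) h') ha
      simpa [mul_assoc] using this
    rw [Subgroup.mem_normalizer_iff]
    refine fun x => ⟨fun hx => key a (hg ha) ⟨x, hx, rfl⟩, fun hx => ?_⟩
    have := key a⁻¹ (A.inv_mem (hg ha)) ⟨_, hx, rfl⟩
    simpa [mul_assoc] using this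
  have hN : Subgroup.normalizer (D : Set G) = ⊤ := by
    refine top_le_iff.1 (hgen ▸ iSup_le fun g => ?_)
    by_cases h : C g ≤ A
    · exact hA g h
    · exact (le_iSup (fun g : {g : G // ¬ C g ≤ A} => C g) ⟨g, h⟩).trans Subgroup.le_normalizer
  have hDn : D.Normal := Subgroup.normalizer_eq_top_iff.1 hN
  refine top_le_iff.1 (hgen ▸ iSup_le fun g => ?_)
  refine le_trans ?_ hDB
  have h1 : C g₀ ≤ D := le_iSup (fun g : {g : G // ¬ C g ≤ A} => C g) ⟨g₀, hg₀⟩
  have h2 := Subgroup.map_mono (f := (MulAut.conj (g * g₀⁻¹)).toMonoidHom) h1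
  rw [hC, inv_mul_cancel_right] at h2
  refine h2.trans ?_
  rintro _ ⟨x, hx, rfl⟩
  exact hDn.conj_mem x hx _

end CfsgLib.LocalEven
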