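import Cfsg.Prelude.Def_DStar
import Cfsg.Prelude.Def_PLocal
import Cfsg.Agent.Lib.PLocal.GlaubermanReplacement

/-!
The subgroup `D*(S)`.
-/

set_option autoImplicit false

namespace CfsgLib.LocalEven.DStar

open Cfsg Subgroup
open scoped commutatorElement

variable {S : Type*} [Group S]

theorem comm_of_class_two {A : Subgroup S} (hA : A ∈ dStarFamily S) {x : S}
    (hxA : ∀ a ∈ A, x * a * x⁻¹ ∈ A) (hc : ∀ a ∈ A, Commute (x * a * x⁻¹ * a⁻¹) x) :
    ∀ a ∈ A, a * x = x * a := by
  apply hA.2 x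
  set H := A ⊔ zpowers x
  rw [commutator_eq_bot_iff_le_centralizer]
  refine commutator_le.2 fun u hu v hv => ?_
  have hAc : ∀ a ∈ A, ∀ b ∈ A, Commute a b := fun a ha b hb =>
    congrArg Subtype.val (hA.1.1.1 ⟨a, ha⟩ ⟨b, hb⟩)
  -- `M`: the subgroup of commutators `[x, a]`
  have hcomm : ∀ a ∈ A, ∀ b ∈ A,
      x * (a * b) * x⁻¹ * (a * b)⁻¹ = (x * a * x⁻¹ * a⁻¹) * (x * b * x⁻¹ * b⁻¹) := by
    intro a ha b hb
    have h1 : Commute a⁻¹ (x * b * x⁻¹ * b⁻¹) :=
      hAc _ (inv_mem ha) _ (mul_mem (hxA b hb) (inv_mem hb))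
    calc x * (a * b) * x⁻¹ * (a * b)⁻¹ = (x * a * x⁻¹) * ((x * b * x⁻¹ * b⁻¹) * a⁻¹) := by group
      _ = (x * a * x⁻¹) * (a⁻¹ * (x * b * x⁻¹ * b⁻¹)) := by rw [h1.eq]
      _ = _ := by group
  let M : Subgroup S :=
    { carrier := {m | ∃ a ∈ A, m = x * a * x⁻¹ * a⁻¹}
      one_mem' := ⟨1, one_mem A, by group⟩
      mul_mem' := by
        rintro _ _ ⟨a, ha, rfl⟩ ⟨b, hb, rfl⟩
        exact ⟨a * b, mul_mem ha hb, (hcomm a ha b hb).symm⟩
      inv_mem' := by
        rintro _ ⟨a, ha, rfl⟩
        refine ⟨a⁻¹, inv_mem ha, inv_eq_of_mul_eq_one_right ?_⟩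
        rw [← hcomm a ha _ (inv_mem ha), mul_inv_cancel]; group }
  have hMc : ∀ m ∈ M, ∀ h ∈ H, Commute h m := by
    rintro _ ⟨a, ha, rfl⟩
    have : H ≤ centralizer ({x * a * x⁻¹ * a⁻¹} : Set S) :=
      sup_le (fun b hb => mem_centralizer_singleton_iff.2
        (hAc b hb _ (mul_mem (hxA a ha) (inv_mem ha))).eq)
        (zpowers_le.2 (mem_centralizer_singleton_iff.2 (hc a ha).eq.symm))
    exact fun h hh => mem_centralizer_singleton_iff.1 (this hh)
  -- commutators of `H` lie in `M`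
  let K : S → Subgroup S := fun u =>
    { carrier := {v | v ∈ H ∧ ⁅u, v⁆ ∈ M}
      one_mem' := ⟨one_mem H, by simp⟩
      mul_mem' := by
        rintro v w ⟨hv, hv'⟩ ⟨hw, hw'⟩
        refine ⟨mul_mem hv hw, ?_⟩
        have e : ⁅u, v * w⁆ = ⁅u, v⁆ * (v * ⁅u, w⁆ * v⁻¹) := by simp only [commutatorElement_def]; group
        rw [e, (hMc _ hw' v hv).eq, mul_inv_cancel_right]
        exact mul_mem hv' hw'
      inv_mem' := by
        rintro v ⟨hv, hv'⟩
        refine ⟨inv_mem hv, ?_⟩
        have e : ⁅u, v⁻¹⁆ = v⁻¹ * ⁅u, v⁆⁻¹ * v := by simp only [commutatorElement_def]; group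
        rw [e, (hMc _ (inv_mem hv') v⁻¹ (inv_mem hv)).eq, inv_mul_cancel_right]
        exact inv_mem hv' }
  have hgen : ∀ g, (g ∈ A ∨ g = x) → ∀ w ∈ H, ⁅g, w⁆ ∈ M := by
    intro g hg
    have hle : H ≤ K g := by
      refine sup_le (fun b hb => ⟨mem_sup_left hb, ?_⟩)
        (zpowers_le.2 ⟨mem_sup_right (mem_zpowers x), ?_⟩)
      · rcases hg with hg | rfl
        · rw [commutatorElement_eq_one_iff_commute.2 (hAc g hg b hb)]; exact one_mem M
        · exact ⟨b, hb, rfl⟩
      · rcases hg with hg | rfl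
        · rw [← commutatorElement_inv x g]; exact inv_mem ⟨g, hg, rfl⟩
        · rw [commutatorElement_self]; exact one_mem M
    exact fun w hw => (hle hw).2
  have hall : ⁅u, v⁆ ∈ M := by
    have hle : H ≤ K v := by
      refine sup_le (fun a ha => ⟨mem_sup_left ha, ?_⟩)
        (zpowers_le.2 ⟨mem_sup_right (mem_zpowers x), ?_⟩)
      · rw [← commutatorElement_inv a v]; exact inv_mem (hgen a (Or.inl ha) v hv)
      · rw [← commutatorElement_inv x v]; exact inv_mem (hgen x (Or.inr rfl) v hv)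
    rw [← commutatorElement_inv v u]; exact inv_mem (hle hu).2
  exact fun h hh => (hMc _ hall h hh).eq

theorem commute_of_normalize {A B : Subgroup S} (hA : A ∈ dStarFamily S) (hB : IsMulCommutative B)
    (hBA : B ≤ normalizer (A : Set S)) (hAB : A ≤ normalizer (B : Set S)) :
    ∀ a ∈ A, ∀ b ∈ B, a * b = b * a := by
  intro a ha b hb
  refine comm_of_class_two hA (fun c hc => (mem_normalizer_iff.1 (hBA hb) c).1 hc) (fun c hc => ?_)
    a ha
  have h1 : b * c * b⁻¹ * c⁻¹ ∈ B := by
    have := mul_mem hb ((mem_normalizer_iff.1 (hAB hc) b⁻¹).1 (inv_mem hb))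
    simpa [mul_assoc] using this
  exact congrArg Subtype.val (hB.1.1 ⟨_, h1⟩ ⟨b, hb⟩)

theorem sup_mem {A B : Subgroup S} (hA : A ∈ dStarFamily S) (hB : B ∈ dStarFamily S)
    (hc : ∀ a ∈ A, ∀ b ∈ B, a * b = b * a) : A ⊔ B ∈ dStarFamily S := by
  have hle : B ≤ centralizer (A : Set S) := fun b hb a ha => hc a ha b hb
  refine ⟨le_centralizer_iff_isMulCommutative.1 ?_, fun x hx => ?_⟩
  · have hA' := le_centralizer_iff_isMulCommutative.2 hA.1
    have hB' := le_centralizer_iff_isMulCommutative.2 hB.1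
    refine sup_le ?_ ?_ <;> rw [le_centralizer_iff] <;> refine sup_le ?_ ?_
    exacts [hA', hle, le_centralizer_iff.1 hle, hB']
  · have hsub : A ⊔ B ≤ centralizer ({x} : Set S) := by
      refine sup_le ?_ ?_
      · intro a ha
        refine mem_centralizer_singleton_iff.2 (hA.2 x ?_ a ha)
        refine le_bot_iff.1 (le_trans ?_ hx.le)
        have h := sup_le_sup_right (le_sup_left : A ≤ A ⊔ B) (zpowers x)
        exact commutator_mono (commutator_mono h h) h
      · intro b hb
        refine mem_centralizer_singleton_iff.2 (hB.2 x ?_ b hb)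
        refine le_bot_iff.1 (le_trans ?_ hx.le)
        have h := sup_le_sup_right (le_sup_right : B ≤ A ⊔ B) (zpowers x)
        exact commutator_mono (commutator_mono h h) h
    exact fun a ha => mem_centralizer_singleton_iff.1 (hsub ha)

theorem map_mem {A : Subgroup S} (hA : A ∈ dStarFamily S) (φ : S ≃* S) :
    A.map φ.toMonoidHom ∈ dStarFamily S := by
  refine ⟨?_, fun x hx => ?_⟩
  · have := hA.1; infer_instance
  · rintro _ ⟨a, ha, rfl⟩
    have e : A.map φ.toMonoidHom ⊔ zpowers x = (A ⊔ zpowers (φ.symm x)).map φ.toMonoidHom := by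
      rw [Subgroup.map_sup, MonoidHom.map_zpowers]; simp
    rw [e, ← map_commutator, ← map_commutator, (map_eq_bot_iff_of_injective _ φ.injective)] at hx
    have := congrArg φ (hA.2 _ hx a ha)
    simpa [map_mul] using this

variable [Finite S] {p : ℕ} [Fact p.Prime]

theorem bot_mem : (⊥ : Subgroup S) ∈ dStarFamily S :=
  ⟨inferInstance, fun x _ a ha => by rw [mem_bot.1 ha, one_mul, mul_one]⟩

omit [Fact p.Prime] in
theorem exists_max_above {A : Subgroup S} (hA : A ∈ dStarFamily S) :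
    ∃ M, M ∈ dStarFamily S ∧ A ≤ M ∧ ∀ B ∈ dStarFamily S, M ≤ B → B = M := by
  obtain ⟨M, hM, hmax⟩ := Set.Finite.exists_maximal
    (s := {B : Subgroup S | B ∈ dStarFamily S ∧ A ≤ B}) (Set.toFinite _) ⟨A, hA, le_rfl⟩
  exact ⟨M, hM.1, hM.2, fun B hB hMB => le_antisymm (hmax ⟨hB, hM.2.trans hMB⟩ hMB) hMB⟩

theorem max_normal (hS : IsPGroup p S) {A : Subgroup S} (hA : A ∈ dStarFamily S)
    (hmax : ∀ B ∈ dStarFamily S, A ≤ B → B = A) : A.Normal := by
  rw [← normalizer_eq_top_iff]
  by_contra hne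
  set N := normalizer (A : Set S) with hN
  have : Group.IsNilpotent S := hS.isNilpotent
  obtain ⟨n, hn, hnN⟩ := SetLike.exists_of_lt
    (Group.normalizerCondition_of_isNilpotent N (lt_top_iff_ne_top.2 hne))
  set B := A.map (MulAut.conj n).toMonoidHom with hB
  have hBm : B ∈ dStarFamily S := map_mem hA (MulAut.conj n)
  have hBN : B ≤ N := by
    rintro _ ⟨a, ha, rfl⟩
    exact (mem_normalizer_iff.1 hn a).1 (Subgroup.le_normalizer ha)
  have hAB : A ≤ normalizer (B : Set S) := by
    intro a ha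
    have h1 : n⁻¹ * a * n ∈ N := (mem_normalizer_iff.1 hn _).2 (by
      simpa [mul_assoc] using Subgroup.le_normalizer ha)
    have h2 : n * (n⁻¹ * a * n) * n⁻¹ ∈ N.map (MulAut.conj n).toMonoidHom := ⟨_, h1, rfl⟩
    have h3 := le_normalizer_map (MulAut.conj n).toMonoidHom h2
    rw [hB, Subgroup.coe_map]
    simpa [mul_assoc] using h3
  have heq := hmax _ (sup_mem hA hBm (commute_of_normalize hA hBm.1 hBN hAB)) le_sup_left
  have hBA : B ≤ A := heq ▸ le_sup_right
  refine hnN (mem_normalizer_fintype fun a ha => hBA ⟨a, ha, rfl⟩)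

theorem dStar_mem (hS : IsPGroup p S) : dStar S ∈ dStarFamily S := by
  obtain ⟨M, hM, -, hmax⟩ := exists_max_above (bot_mem (S := S))
  have key : dStar S = M := by
    refine le_antisymm (sSup_le fun A hA => ?_) (le_sSup hM)
    obtain ⟨M', hM', hle, hmax'⟩ := exists_max_above hA
    have hn := max_normal hS hM hmax
    have hn' := max_normal hS hM' hmax'
    have h := sup_mem hM hM' (commute_of_normalize hM hM'.1
      (by rw [normalizer_eq_top_iff.2 hn]; exact le_top)
      (by rw [normalizer_eq_top_iff.2 hn']; exact le_top))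
    exact hle.trans ((le_sup_right : M' ≤ M ⊔ M').trans (hmax _ h le_sup_left).le)
  rwa [key]

theorem dStar_normal (hS : IsPGroup p S) : (dStar S).Normal :=
  max_normal hS (dStar_mem hS) fun _ hB h => le_antisymm (le_sSup hB) h

theorem center_mem : center S ∈ dStarFamily S :=
  ⟨inferInstance, fun x _ _ ha => (mem_center_iff.1 ha x).symm⟩

theorem dStar_le_centralizer (hS : IsPGroup p S) {A : Subgroup S}
    (hA : A ∈ maxAbelianSubgroups S) : dStar S ≤ A := by
  have hD := dStar_mem hS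
  have : (dStar S).Normal := dStar_normal hS
  by_contra hle
  obtain ⟨A, ⟨hA, hAD⟩, hmax⟩ := Set.exists_max_image
    {A : Subgroup S | A ∈ maxAbelianSubgroups S ∧ ¬ dStar S ≤ A}
    (fun A => Nat.card ↥(A ⊓ dStar S)) (Set.toFinite _) ⟨A, hA, hle⟩
  by_cases hN : dStar S ≤ normalizer (A : Set S)
  · refine hAD ?_
    have hc := commute_of_normalize hD hA.1 (by rw [normalizer_eq_top_iff.2 ‹_›]; exact le_top) hN
    have hab : IsMulCommutative ↥(A ⊔ dStar S) := by
      refine le_centralizer_iff_isMulCommutative.1 ?_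
      have hA' := le_centralizer_iff_isMulCommutative.2 hA.1
      have hD' := le_centralizer_iff_isMulCommutative.2 hD.1
      have hle' : dStar S ≤ centralizer (A : Set S) := fun d hd a ha => (hc d hd a ha).symm
      refine sup_le ?_ ?_ <;> rw [le_centralizer_iff] <;> refine sup_le ?_ ?_
      exacts [hA', hle', le_centralizer_iff.1 hle', hD']
    rw [Subgroup.eq_of_le_of_card_ge (le_sup_left : A ≤ A ⊔ dStar S) (hA.2 _ hab)]
    exact le_sup_right
  · obtain ⟨b, hb, hbN, hbA⟩ := PLocal.exists_mem_normalizer_normalizer hS (dStar S) A hN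
    have F := PLocal.replaceFacts hS (B := dStar S) (fun _ => hD.1) hA.1
      (by rw [commutator_eq_bot_iff_le_centralizer.2 (le_centralizer_iff_isMulCommutative.2 hD.1)]
          exact bot_le) hb hbN hbA
    have hmem : PLocal.replaced A b ∈ maxAbelianSubgroups S :=
      ⟨F.comm, fun C hC => F.card_eq.symm ▸ hA.2 C hC⟩
    by_cases hD' : dStar S ≤ PLocal.replaced A b
    · exact hN (hD'.trans F.repl_le_normalizer)
    · have h1 := hmax _ ⟨hmem, hD'⟩
      have h2 := Subgroup.eq_of_le_of_card_ge F.inf_lt.le h1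
      exact F.inf_lt.ne h2

theorem dStar_bounds (hS : IsPGroup p S) :
    center S ≤ dStar S ∧
      dStar S ≤ thompsonSubgroupA S ⊓ centralizer (thompsonSubgroupA S : Set S) ∧
      ∀ A : Subgroup S, A.Normal → IsMulCommutative A →
        (∀ B : Subgroup S, B.Normal → IsMulCommutative B → A ≤ B → B = A) → dStar S ≤ A := by
  have hD := dStar_mem hS
  refine ⟨le_sSup center_mem, le_inf ?_ ?_, fun A hAn hAc hmax => ?_⟩
  · obtain ⟨A, hA, hmax⟩ := Set.exists_max_image {A : Subgroup S | IsMulCommutative A}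
      (fun A => Nat.card A) (Set.toFinite _) ⟨⊥, (inferInstance : IsMulCommutative ↥(⊥ : Subgroup S))⟩
    exact (dStar_le_centralizer hS (A := A) ⟨hA, fun B hB => hmax B hB⟩).trans
      (le_sSup (s := maxAbelianSubgroups S) ⟨hA, fun B hB => hmax B hB⟩)
  · rw [le_centralizer_iff]
    refine sSup_le fun A hA => ?_
    exact (le_centralizer_iff_isMulCommutative.2 hA.1).trans
      (centralizer_le (SetLike.coe_subset_coe.2 (dStar_le_centralizer hS hA)))
  · have : (dStar S).Normal := dStar_normal hS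
    have hc := commute_of_normalize hD hAc (by rw [normalizer_eq_top_iff.2 ‹(dStar S).Normal›]; exact le_top)
      (by rw [normalizer_eq_top_iff.2 hAn]; exact le_top)
    have hab : IsMulCommutative ↥(A ⊔ dStar S) := by
      refine le_centralizer_iff_isMulCommutative.1 ?_
      have hA' := le_centralizer_iff_isMulCommutative.2 hAc
      have hD' := le_centralizer_iff_isMulCommutative.2 hD.1
      have hle' : dStar S ≤ centralizer (A : Set S) := fun d hd a ha => (hc d hd a ha).symm
      refine sup_le ?_ ?_ <;> rw [le_centralizer_iff] <;> refine sup_le ?_ ?_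
      exacts [hA', hle', le_centralizer_iff.1 hle', hD']
    rw [← hmax _ (Subgroup.sup_normal A (dStar S)) hab le_sup_left]
    exact le_sup_right

end CfsgLib.LocalEven.DStar
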