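import Cfsg.Agent.Lib.LocalEven.JCompShape
import Cfsg.Agent.Lib.Base.Cores
import Cfsg.Agent.Lib.Transfer.ThompsonComplement

/-!
A maximal subgroup of characteristic `2` with dihedral quotient `D_{2q}`, moved by the normalizer of
its Sylow `2`-subgroup.
-/

set_option autoImplicit false
set_option linter.style.haveILetI false
set_option linter.unusedSectionVars false

namespace CfsgLib.LocalEven.DihMax

open Cfsg CfsgLib.PLocal
open scoped commutatorElement

variable {G : Type*} [Group G] [Finite G]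

/-- The data. -/
structure Dih (P T Q : Subgroup G) (q : ℕ) (a p : G) : Prop where
  hq : q.Prime
  odd : Odd q
  hT : IsPGroup 2 T
  TP : T ≤ P
  QT : Q ≤ T
  Qn : P ≤ Subgroup.normalizer (Q : Set G)
  idx : ∀ s ∈ T, ∀ t ∈ T, s ∉ Q → t ∉ Q → s * t ∈ Q
  char2 : P ⊓ Subgroup.centralizer (Q : Set G) ≤ Q
  aT : a ∈ T
  aQ : a ∉ Q
  pP : p ∈ P
  gen : P ≤ Q ⊔ Subgroup.zpowers (a * (p * a * p⁻¹)) ⊔ Subgroup.zpowers a
  card : Nat.card P = 2 * q * Nat.card Q
  yQ : a * (p * a * p⁻¹) ∉ Q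
  yq : (a * (p * a * p⁻¹)) ^ q ∈ Q

theorem conj_pow_eq {y u v : G} (hu : y * u * y⁻¹ = v) (hv : y * v * y⁻¹ = u) (m : ℕ) :
    y ^ (2 * m + 1) * u * (y ^ (2 * m + 1))⁻¹ = v := by
  induction m with
  | zero => simpa using hu
  | succ m ih =>
    calc y ^ (2 * (m + 1) + 1) * u * (y ^ (2 * (m + 1) + 1))⁻¹
        = y * (y * (y ^ (2 * m + 1) * u * (y ^ (2 * m + 1))⁻¹) * y⁻¹) * y⁻¹ := by
          rw [show 2 * (m + 1) + 1 = (2 * m + 1) + 1 + 1 by ring, pow_succ', pow_succ']; group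
      _ = v := by rw [ih, hv, hu]

namespace Dih

variable {P T Q : Subgroup G} {q : ℕ} {a p : G} (d : Dih P T Q q a p)
include d

theorem QP : Q ≤ P := d.QT.trans d.TP

theorem not_le : ¬ T ≤ Q := fun h => d.aQ (h d.aT)

theorem card_T {A : Subgroup G} (hA : A ≤ T) : Nat.card A ≤ 2 * Nat.card ↥(A ⊓ Q) := by
  by_cases h : A ≤ Q
  · rw [inf_eq_left.2 h]; omega
  obtain ⟨b, hb, hbQ⟩ := SetLike.not_le_iff_exists.1 h
  have h2 : (A ⊓ Q).relIndex A = 2 := by
    rw [Subgroup.relIndex, Subgroup.index_eq_two_iff]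
    refine ⟨⟨b, hb⟩, fun c => ?_⟩
    simp only [Subgroup.mem_subgroupOf, Subgroup.mem_inf, Subgroup.coe_mul]
    by_cases hc : (c : G) ∈ Q
    · exact Or.inr ⟨⟨c.2, hc⟩, fun h' => hbQ (by simpa using Q.mul_mem (Q.inv_mem hc) h'.2)⟩
    · exact Or.inl ⟨⟨mul_mem c.2 hb, d.idx _ (hA c.2) _ (hA hb) hc hbQ⟩, fun h' => hc h'.2⟩
  have := Subgroup.relIndex_mul_relIndex ⊥ (A ⊓ Q) A bot_le inf_le_left
  simp only [Subgroup.relIndex_bot_left, h2] at this
  omega

/-- The module data: a transvection `a`, and `q = 3`. -/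
theorem exists_module {A : Subgroup G} (hA : A ∈ maxEAOf 2 T) (haA : a ∈ A)
    (hZ : ¬ P ≤ Subgroup.centralizer (omegaCenterOf T : Set G)) :
    q = 3 ∧ ∃ (V W : Subgroup G) (c : G), V = omegaCenterOf Q ∧ omegaCenterOf T ≤ V ∧
      W ≤ V ∧ Nat.card W = 4 ∧
      IsElementaryAbelian 2 W ∧ c ∈ W ∧ P ≤ Subgroup.normalizer (W : Set G) ∧
      OffAmalgam.Side T Q W c (a * (p * a * p⁻¹)) ∧
      Nat.card V ≤ 2 * Nat.card ↥(V ⊓ Subgroup.centralizer {a}) := by
  set y := a * (p * a * p⁻¹) with hy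
  set V := omegaCenterOf Q
  have hVe : IsElementaryAbelian 2 V := JComp.isElementaryAbelian_omegaCenterOf Q
  have hVQ : V ≤ Q := JComp.omegaCenterOf_le Q
  have hQV : Q ≤ Subgroup.centralizer (V : Set G) :=
    Subgroup.le_centralizer_iff.1 (JComp.omegaCenterOf_le_centralizer Q)
  have hPV : P ≤ Subgroup.normalizer (V : Set G) :=
    d.Qn.trans (JComp.normalizer_le_normalizer_omegaCenterOf Q)
  have hyP : y ∈ P := mul_mem (d.TP d.aT) (mul_mem (mul_mem d.pP (d.TP d.aT)) (inv_mem d.pP))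
  have hZc : T ≤ Subgroup.centralizer (omegaCenterOf T : Set G) :=
    Subgroup.le_centralizer_iff.1 (JComp.omegaCenterOf_le_centralizer T)
  have hZV : omegaCenterOf T ≤ V := by
    intro x hx
    have hxQ : x ∈ Q := d.char2 ⟨d.TP (JComp.omegaCenterOf_le T hx),
      fun v hv => (hZc (d.QT hv) x hx).symm⟩
    exact mem_omegaOne ⟨hxQ, fun v hv => (hZc (d.QT hv) x hx).symm⟩
      ((JComp.isElementaryAbelian_omegaCenterOf T).2 x hx)
  have hbad : ¬ ∀ v ∈ V, y * v * y⁻¹ = v := by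
    intro hall
    refine hZ (d.gen.trans (sup_le (sup_le (d.QT.trans hZc) (Subgroup.zpowers_le.2 ?_))
      (Subgroup.zpowers_le.2 (hZc d.aT))))
    exact fun v hv => (mul_inv_eq_iff_eq_mul.1 (hall v (hZV hv))).symm
  obtain ⟨m, hm⟩ := d.odd
  have hyq : ∀ v ∈ V, y ^ q * v * (y ^ q)⁻¹ = v := fun v hv =>
    mul_inv_eq_iff_eq_mul.2 (hQV d.yq v hv).symm
  have hbad2 : ¬ ∀ v ∈ V, y * (y * v * y⁻¹) * y⁻¹ = v := by
    intro hall
    refine hbad fun v hv => ?_
    rw [← conj_pow_eq (y := y) (u := v) (v := y * v * y⁻¹) rfl (hall v hv) m, ← hm]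
    exact hyq v hv
  -- the transvection
  have haV : a ∈ Subgroup.normalizer (V : Set G) := hPV (d.TP d.aT)
  have hav : ∀ v ∈ V, a * v * a⁻¹ ∈ V := fun v hv => (Subgroup.mem_normalizer_iff.1 haV v).1 hv
  set B := A ⊓ Q
  have hhalf : Nat.card V ≤ 2 * Nat.card ↥(V ⊓ Subgroup.centralizer {a}) := by
    have h1 := OffAmalgam.offender_count hA (hVQ.trans d.QT) hVe (inf_le_left : B ≤ A)
      (inf_le_right.trans hQV)
    have h2 : Nat.card A ≤ 2 * Nat.card B := d.card_T hA.1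
    have h3 : Nat.card ↥(V ⊓ Subgroup.centralizer (A : Set G)) ≤
        Nat.card ↥(V ⊓ Subgroup.centralizer {a}) := Subgroup.card_le_of_le
      (inf_le_inf_left _ (Subgroup.centralizer_le (Set.singleton_subset_iff.2 haA)))
    refine Nat.le_of_mul_le_mul_right (h1.trans ?_) (Nat.card_pos (α := B))
    calc Nat.card A * _ ≤ 2 * Nat.card B * Nat.card ↥(V ⊓ Subgroup.centralizer {a}) :=
          Nat.mul_le_mul h2 h3
      _ = _ := by ring
  set C := V ⊓ Subgroup.centralizer {a}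
  have hmemC : ∀ u, u ∈ C ↔ u ∈ V ∧ a * u * a⁻¹ = u := fun u =>
    ⟨fun h => ⟨h.1, mul_inv_eq_iff_eq_mul.2 (Subgroup.mem_centralizer_singleton_iff.1 h.2).symm⟩,
      fun h => ⟨h.1, Subgroup.mem_centralizer_singleton_iff.2 (mul_inv_eq_iff_eq_mul.1 h.2).symm⟩⟩
  obtain ⟨v₀, hv₀, hv₀C⟩ : ∃ v ∈ V, v ∉ C := by
    by_contra hno
    push Not at hno
    have hp : ∀ v ∈ V, p * a * p⁻¹ * v * (p * a * p⁻¹)⁻¹ = v := fun v hv => by
      have hv' : p⁻¹ * v * p ∈ V := by
        simpa using (Subgroup.mem_normalizer_iff.1 (hPV (inv_mem d.pP)) v).1 hv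
      calc p * a * p⁻¹ * v * (p * a * p⁻¹)⁻¹ = p * (a * (p⁻¹ * v * p) * a⁻¹) * p⁻¹ := by group
        _ = v := by rw [((hmemC _).1 (hno _ hv')).2]; group
    refine hbad fun v hv => ?_
    calc y * v * y⁻¹ = a * (p * a * p⁻¹ * v * (p * a * p⁻¹)⁻¹) * a⁻¹ := by rw [hy]; group
      _ = v := by rw [hp v hv, ((hmemC v).1 (hno v hv)).2]
  have hC2 : Nat.card V = 2 * Nat.card C := le_antisymm hhalf
    (OffAmalgam.two_mul_le_of_lt (lt_of_le_of_ne inf_le_left fun e => hv₀C (e ▸ hv₀)))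
  set c := v₀ * (a * v₀ * a⁻¹)
  have hcV : c ∈ V := mul_mem hv₀ (hav v₀ hv₀)
  have hvv : ∀ v ∈ V, v * v = 1 := fun v hv => by have := hVe.2 v hv; rwa [pow_two] at this
  have hcom : ∀ u ∈ V, ∀ v ∈ V, u * v = v * u := fun u hu v hv => comm_of_mem hVe.1 hu hv
  have hval : ∀ u ∈ V, a * u * a⁻¹ = u ∨ a * u * a⁻¹ = u * c := by
    intro u hu
    by_cases huC : u ∈ C
    · exact Or.inl ((hmemC u).1 huC).2
    refine Or.inr ?_
    have h := ((hmemC _).1 (JComp.mul_mem_of_half (inf_le_left : C ≤ V) hC2 hu huC hv₀ hv₀C)).2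
    rw [← conj_mul] at h
    calc a * u * a⁻¹ = a * u * a⁻¹ * (a * v₀ * a⁻¹) * (a * v₀ * a⁻¹) := by
          rw [mul_assoc (a * u * a⁻¹), hvv _ (hav v₀ hv₀), mul_one]
      _ = u * c := by rw [h, mul_assoc]
  have hc1 : c ≠ 1 := fun e => hv₀C ((hmemC _).2 ⟨hv₀, by
    rcases hval v₀ hv₀ with f | f
    · exact f
    · rw [f, e, mul_one]⟩)
  have hca : a * c * a⁻¹ = c := by
    rcases hval c hcV with f | f
    · exact f
    · exact absurd (conj_eq_one_iff.1 (f.trans (hvv c hcV))) hc1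
  set b := p * a * p⁻¹
  set c' := p * c * p⁻¹
  have hpV : p ∈ Subgroup.normalizer (V : Set G) := hPV d.pP
  have hc'V : c' ∈ V := (Subgroup.mem_normalizer_iff.1 hpV c).1 hcV
  have hbV : ∀ v ∈ V, b * v * b⁻¹ ∈ V := fun v hv =>
    (Subgroup.mem_normalizer_iff.1 (hPV (mul_mem (mul_mem d.pP (d.TP d.aT)) (inv_mem d.pP))) v).1 hv
  have hvalb : ∀ u ∈ V, b * u * b⁻¹ = u ∨ b * u * b⁻¹ = u * c' := by
    intro u hu
    have hu' : p⁻¹ * u * p ∈ V := by
      simpa using (Subgroup.mem_normalizer_iff.1 (hPV (inv_mem d.pP)) u).1 hu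
    have e : b * u * b⁻¹ = p * (a * (p⁻¹ * u * p) * a⁻¹) * p⁻¹ := by simp only [b]; group
    rcases hval _ hu' with f | f <;> rw [e, f]
    · exact Or.inl (by group)
    · exact Or.inr (by simp only [c']; group)
  have hc'b : b * c' * b⁻¹ = c' := by
    calc b * c' * b⁻¹ = p * (a * c * a⁻¹) * p⁻¹ := by simp only [b, c']; group
      _ = c' := by rw [hca]
  have hyconj : ∀ u : G, y * u * y⁻¹ = a * (b * u * b⁻¹) * a⁻¹ := fun u => by rw [hy]; group
  have hsplit : ∀ g u v : G, g * (u * v) * g⁻¹ = g * u * g⁻¹ * (g * v * g⁻¹) := fun g u v => conj_mul.symm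
  -- both transvections move the other centre
  have hne : c ≠ c' := by
    intro e
    refine hbad2 fun v hv => ?_
    have hyc : y * c * y⁻¹ = c := by rw [hyconj, e, hc'b, ← e, hca]
    have hy1 : y * v * y⁻¹ = v ∨ y * v * y⁻¹ = v * c := by
      rw [hyconj]
      rcases hvalb v hv with f | f <;> rw [f]
      · exact hval v hv
      · rw [← conj_mul, ← e, hca]
        rcases hval v hv with g | g <;> rw [g]
        · exact Or.inr rfl
        · exact Or.inl (by rw [mul_assoc, hvv c hcV, mul_one])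
    rcases hy1 with f | f
    · rw [f, f]
    · rw [f, ← conj_mul, f, hyc, mul_assoc, hvv c hcV, mul_one]
  have hmoves : a * c' * a⁻¹ = c' * c ∧ b * c * b⁻¹ = c * c' := by
    rcases hval c' hc'V with f | f <;> rcases hvalb c hcV with g | g
    · exfalso
      refine hbad2 fun v hv => ?_
      have hyc : y * c * y⁻¹ = c := by rw [hyconj, g, hca]
      have hyc' : y * c' * y⁻¹ = c' := by rw [hyconj, hc'b, f]
      rcases hvalb v hv with i | i <;> rcases hval v hv with j | j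
      · have e : y * v * y⁻¹ = v := by rw [hyconj, i, j]
        rw [e, e]
      · have e : y * v * y⁻¹ = v * c := by rw [hyconj, i, j]
        rw [e, ← conj_mul, e, hyc, mul_assoc, hvv c hcV, mul_one]
      · have e : y * v * y⁻¹ = v * c' := by rw [hyconj, i, ← conj_mul, j, f]
        rw [e, ← conj_mul, e, hyc', mul_assoc, hvv c' hc'V, mul_one]
      · have e : y * v * y⁻¹ = v * (c * c') := by rw [hyconj, i, ← conj_mul, j, f, mul_assoc]
        rw [e, ← conj_mul, e, ← conj_mul, hyc, hyc', mul_assoc, hvv _ (mul_mem hcV hc'V), mul_one]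
    · exfalso
      have e1 : y * c * y⁻¹ = c * c' := by rw [hyconj, g, ← conj_mul, hca, f]
      have e2 : y * (c * c') * y⁻¹ = c := by
        rw [hyconj, hsplit b, g, hc'b, mul_assoc c, hvv c' hc'V, mul_one, hca]
      have := conj_pow_eq e1 e2 m
      rw [← hm, hyq c hcV] at this
      exact hc1 (conj_eq_one_iff.1 (show p * c * p⁻¹ = 1 from mul_eq_left.1 this.symm))
    · exfalso
      have e1 : y * c' * y⁻¹ = c' * c := by rw [hyconj, hc'b, f]
      have e2 : y * (c' * c) * y⁻¹ = c' := by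
        rw [hyconj, hsplit b, hc'b, g, hsplit a, f, hca, mul_assoc, hvv c hcV, mul_one]
      have := conj_pow_eq e1 e2 m
      rw [← hm, hyq c' hc'V] at this
      exact hc1 (mul_eq_left.1 this.symm)
    · exact ⟨f, g⟩
  obtain ⟨hac', hbc⟩ := hmoves
  have e1 : y * c * y⁻¹ = c' := by
    rw [hyconj, hbc, ← conj_mul, hca, hac', hcom c' hc'V c hcV, ← mul_assoc, hvv c hcV, one_mul]
  have e2 : y * c' * y⁻¹ = c' * c := by rw [hyconj, hc'b, hac']
  have e3 : y * (c' * c) * y⁻¹ = c := by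
    rw [← conj_mul, e1, e2, hcom c' hc'V c hcV, mul_assoc, hvv c' hc'V, mul_one]
  have hy3c : ∀ j : ℕ, y ^ (3 * j) * c * (y ^ (3 * j))⁻¹ = c := by
    intro j
    induction j with
    | zero => simp
    | succ j ih =>
      calc y ^ (3 * (j + 1)) * c * (y ^ (3 * (j + 1)))⁻¹
          = y * (y * (y * (y ^ (3 * j) * c * (y ^ (3 * j))⁻¹) * y⁻¹) * y⁻¹) * y⁻¹ := by
            rw [show 3 * (j + 1) = 3 * j + 1 + 1 + 1 by ring, pow_succ', pow_succ', pow_succ']; group
        _ = c := by rw [ih, e1, e2, e3]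
  have hcc' : c' * c ≠ c := fun e => hc1 (by
    have := mul_eq_right.1 e
    exact conj_eq_one_iff.1 (show p * c * p⁻¹ = 1 from this))
  have hq3 : q = 3 := by
    by_contra hq
    have h3 : ¬ 3 ∣ q := fun h => hq ((Nat.prime_dvd_prime_iff_eq Nat.prime_three d.hq).1 h).symm
    have hk := hyq c hcV
    rcases (show q % 3 = 1 ∨ q % 3 = 2 by omega) with h | h
    · obtain ⟨j, rfl⟩ : ∃ j, q = 3 * j + 1 := ⟨q / 3, by omega⟩
      refine hne (hk.symm.trans ?_)
      calc y ^ (3 * j + 1) * c * (y ^ (3 * j + 1))⁻¹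
          = y * (y ^ (3 * j) * c * (y ^ (3 * j))⁻¹) * y⁻¹ := by rw [pow_succ']; group
        _ = c' := by rw [hy3c j, e1]
    · obtain ⟨j, rfl⟩ : ∃ j, q = 3 * j + 1 + 1 := ⟨q / 3, by omega⟩
      refine hcc' (((?_ : _ = c' * c)).symm.trans hk)
      calc y ^ (3 * j + 1 + 1) * c * (y ^ (3 * j + 1 + 1))⁻¹
          = y * (y * (y ^ (3 * j) * c * (y ^ (3 * j))⁻¹) * y⁻¹) * y⁻¹ := by
            rw [pow_succ', pow_succ']; group
        _ = c' * c := by rw [hy3c j, e1, e2]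
  set W := Subgroup.zpowers c ⊔ Subgroup.zpowers c'
  have hWV : W ≤ V := sup_le (Subgroup.zpowers_le.2 hcV) (Subgroup.zpowers_le.2 hc'V)
  have hW4 : Nat.card W = 4 := by
    have h1 := CfsgLib.Coprime.card_sup_mul_card_inf (H := Subgroup.zpowers c) (N := Subgroup.zpowers c')
      (Subgroup.zpowers_le.2 (le_normalizer_of_abelian hVe.1 (Subgroup.zpowers_le.2 hc'V) hcV))
    have h2 : ∀ v ∈ V, v ≠ 1 → Nat.card (Subgroup.zpowers v) = 2 := fun v hv hv1 => by
      rw [Nat.card_zpowers, orderOf_eq_prime (hVe.2 v hv) hv1]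
    have hc'1 : c' ≠ 1 := fun e => hc1 (conj_eq_one_iff.1 e)
    have hi : Subgroup.zpowers c ⊓ Subgroup.zpowers c' = ⊥ := eq_bot_iff.2 fun v hv => by
      by_contra hv1
      exact hne ((JComp.eq_of_card_eq_two (h2 c hcV hc1) (Subgroup.mem_zpowers c) hc1 hv.1 hv1).trans
        (JComp.eq_of_card_eq_two (h2 c' hc'V hc'1) hv.2 hv1 (Subgroup.mem_zpowers c') hc'1))
    rw [hi, Subgroup.card_bot, mul_one, h2 c hcV hc1, h2 c' hc'V hc'1] at h1
    exact h1
  have hWe := isElementaryAbelian_of_le hVe hWV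
  have hcW : c ∈ W := Subgroup.mem_sup_left (Subgroup.mem_zpowers c)
  have hc'W : c' ∈ W := Subgroup.mem_sup_right (Subgroup.mem_zpowers c')
  have hmemN : ∀ g : G, g * c * g⁻¹ ∈ W → g * c' * g⁻¹ ∈ W →
      g ∈ Subgroup.normalizer (W : Set G) := fun g h1 h2 => by
    have hle : W ≤ W.comap (MulAut.conj g).toMonoidHom :=
      sup_le (Subgroup.zpowers_le.2 h1) (Subgroup.zpowers_le.2 h2)
    exact JComp.mem_normalizer_of_forall fun x hx => hle hx
  have hPW : P ≤ Subgroup.normalizer (W : Set G) := by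
    refine d.gen.trans (sup_le (sup_le (((hQV.trans (Subgroup.centralizer_le hWV))).trans
      (Subgroup.centralizer_le_normalizer _)) (Subgroup.zpowers_le.2 ?_)) (Subgroup.zpowers_le.2 ?_))
    · exact hmemN y (by rw [e1]; exact hc'W) (by rw [e2]; exact mul_mem hc'W hcW)
    · exact hmemN a (by rw [hca]; exact hcW) (by rw [hac']; exact mul_mem hc'W hcW)
  have haa : a * a = 1 := by have := hA.2.1.2 a haA; rwa [pow_two] at this
  refine ⟨hq3, V, W, c, rfl, hZV, hWV, hW4, hWe, hcW, hPW, ?_, hhalf⟩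
  have haC : a ∉ Subgroup.centralizer (W : Set G) := fun h => by
    have e := mul_inv_eq_iff_eq_mul.2 (h c' hc'W).symm
    rw [hac'] at e
    exact hc1 (mul_eq_left.1 e)
  have hcQ : ∀ t ∈ T, t ∉ Q → t * a⁻¹ ∈ Q := fun t ht htQ =>
    d.idx t ht a⁻¹ (inv_mem d.aT) htQ fun h => d.aQ (inv_mem_iff.1 h)
  refine {
    hT := d.hT
    le := d.QT
    lt := d.not_le
    index := d.idx
    wq := hWV.trans hVQ
    card_w := hW4
    w2 := hWe
    cent := le_antisymm (fun t ht => ?_) (le_inf d.QT (hQV.trans (Subgroup.centralizer_le hWV)))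
    wT := d.TP.trans hPW
    z_mem := hcW
    z_ne := hc1
    z_fix := fun t ht => ?_
    yQ := d.Qn hyP
    yW := hPW hyP
    y3 := hq3 ▸ d.yq
    yz := fun e => hne (e.symm.trans e1)
    inv := fun t ht htQ => ?_ }
  · by_contra htQ
    refine haC ?_
    have h1 : t * a⁻¹ ∈ Subgroup.centralizer (W : Set G) :=
      Subgroup.centralizer_le hWV (hQV (hcQ t ht.1 htQ))
    have := mul_mem (inv_mem h1) ht.2
    simpa using this
  · refine mul_inv_eq_iff_eq_mul.1 ?_
    by_cases htQ : t ∈ Q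
    · exact mul_inv_eq_iff_eq_mul.2 (hQV htQ c hcV).symm
    · calc t * c * t⁻¹ = (t * a⁻¹) * (a * c * a⁻¹) * (t * a⁻¹)⁻¹ := by group
        _ = c := by rw [hca]; exact mul_inv_eq_iff_eq_mul.2 (hQV (hcQ t ht htQ) c hcV).symm
  · have hay : a * y * a⁻¹ * y = 1 := by
      have hbb : b * b = 1 := by
        calc b * b = p * (a * a) * p⁻¹ := by simp only [b]; group
          _ = 1 := by rw [haa]; group
      calc a * y * a⁻¹ * y = a * a * b * (a⁻¹ * a) * b := by rw [hy]; group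
        _ = 1 := by rw [haa, inv_mul_cancel, one_mul, mul_one, hbb]
    have hay' : a * y * a⁻¹ = y⁻¹ := eq_inv_of_mul_eq_one_left hay
    have hu := hcQ t ht htQ
    have e : t * y * t⁻¹ * y = (t * a⁻¹) * (y⁻¹ * (t * a⁻¹)⁻¹ * y) := by rw [← hay']; group
    rw [e]
    refine Q.mul_mem hu ?_
    simpa using (Subgroup.mem_normalizer_iff.1 (d.Qn (inv_mem hyP)) _).1 (Q.inv_mem hu)

end Dih

end CfsgLib.LocalEven.DihMax
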