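import Cfsg.Agent.Lib.LocalEven.DihedralMaximal

/-!
Such a maximal subgroup of a group without normal `2`-subgroups is `S₄` or `S₄ × C₂`.
-/

set_option autoImplicit false
set_option linter.style.haveILetI false
set_option linter.unusedSectionVars false

namespace CfsgLib.LocalEven.OffAmalgam

open Cfsg CfsgLib.PLocal

variable {G : Type*} [Group G] [Finite G] {T Q W : Subgroup G} {z y : G}

theorem Side.conj (s : Side T Q W z y) {g : G} (hg : g ∈ Subgroup.normalizer (T : Set G)) :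
    Side T (cj g Q) (cj g W) (g * z * g⁻¹) (g * y * g⁻¹) := by
  have eT : cj g T = T := cj_eq hg
  have hmem : ∀ {t : G}, t ∈ T → g⁻¹ * t * g ∈ T := fun {t} ht => mem_cj.1 (eT.symm ▸ ht)
  have hn : ∀ {x : G} {X : Subgroup G}, x ∈ Subgroup.normalizer (X : Set G) →
      g * x * g⁻¹ ∈ Subgroup.normalizer (cj g X : Set G) := fun {x X} hx =>
    cj_le_normalizer (X := Subgroup.normalizer (X : Set G)) (le_refl _) ⟨x, hx, rfl⟩
  refine {
    hT := s.hT
    le := (cj_mono s.le).trans eT.le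
    lt := fun h => s.lt ?_
    index := fun a ha b hb haQ hbQ => ?_
    wq := cj_mono s.wq
    card_w := (card_cj _ _).trans s.card_w
    w2 := cj_ea s.w2
    cent := ?_
    wT := eT.ge.trans (cj_le_normalizer s.wT)
    z_mem := ⟨z, s.z_mem, rfl⟩
    z_ne := fun e => s.z_ne (conj_eq_one_iff.1 e)
    z_fix := fun t ht => ?_
    yQ := hn s.yQ
    yW := hn s.yW
    y3 := ?_
    yz := fun e => s.yz ?_
    inv := fun a ha haQ => ?_ }
  · intro t ht
    have := mem_cj.1 (h (eT.le ⟨t, ht, rfl⟩))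
    simpa [mul_assoc] using this
  · rw [mem_cj] at haQ hbQ ⊢
    have := s.index _ (hmem ha) _ (hmem hb) haQ hbQ
    simpa [mul_assoc] using this
  · conv_lhs => rw [← eT]
    rw [← cj_centralizer, ← cj_inf, s.cent]
  · calc t * (g * z * g⁻¹) = g * (g⁻¹ * t * g * z) * g⁻¹ := by group
      _ = g * (z * (g⁻¹ * t * g)) * g⁻¹ := by rw [s.z_fix _ (hmem ht)]
      _ = _ := by group
  · refine ⟨y ^ 3, s.y3, ?_⟩
    show g * y ^ 3 * g⁻¹ = (g * y * g⁻¹) ^ 3
    rw [conj_pow]
  · refine mul_left_cancel (a := g) (mul_right_cancel (b := g⁻¹) (Eq.trans ?_ e))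
    group
  · rw [mem_cj] at haQ ⊢
    have := s.inv _ (hmem ha) haQ
    refine (congrArg (· ∈ Q) ?_).mp this
    group

end CfsgLib.LocalEven.OffAmalgam

namespace CfsgLib.LocalEven.DihMax

open Cfsg CfsgLib.PLocal
open scoped commutatorElement

variable {G : Type*} [Group G] [Finite G] {P T Q : Subgroup G} {q : ℕ} {a p : G}

theorem mem_zpowers_two {b : G} (hb : b * b = 1) {x : G} (hx : x ∈ Subgroup.zpowers b) :
    x = 1 ∨ x = b := by
  obtain ⟨i, rfl⟩ := hx
  rcases Int.even_or_odd i with ⟨m, rfl⟩ | ⟨m, rfl⟩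
  · left
    show b ^ (m + m) = 1
    rw [← two_mul, zpow_mul, zpow_two, hb, one_zpow]
  · right
    show b ^ (2 * m + 1) = b
    rw [zpow_add_one, zpow_mul, zpow_two, hb, one_zpow, one_mul]

theorem Dih.shape (d : Dih P T Q q a p)
    (htop : ∀ N : Subgroup G, N.Normal → N ≤ T → N = ⊥)
    (hmax : ∀ X : Subgroup G, P ≤ X → X = P ∨ X = ⊤)
    (hPn : Subgroup.normalizer (P : Set G) = P)
    {g : G} (hg : g ∈ Subgroup.normalizer (T : Set G)) (hgP : g ∉ P)
    {A : Subgroup G} (hA : A ∈ maxEAOf 2 T) (haA : a ∈ A) (hT1 : T ≠ ⊥) :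
    Nonempty (↥P ≃* Equiv.Perm (Fin 4)) ∨
      Nonempty (↥P ≃* Equiv.Perm (Fin 4) × Multiplicative (ZMod 2)) := by
  classical
  haveI : Fact (Nat.Prime 3) := ⟨Nat.prime_three⟩
  have hnormal : ∀ N : Subgroup G, N ≤ T → P ≤ Subgroup.normalizer (N : Set G) →
      g ∈ Subgroup.normalizer (N : Set G) → N = ⊥ := by
    intro N hN hP hgN
    refine htop N (Subgroup.normalizer_eq_top_iff.1 ?_) hN
    exact (hmax _ hP).resolve_left fun e => hgP (e ▸ hgN)
  set Z := omegaCenterOf T
  have hZT : Z ≤ T := JComp.omegaCenterOf_le T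
  have hZc : T ≤ Subgroup.centralizer (Z : Set G) :=
    Subgroup.le_centralizer_iff.1 (JComp.omegaCenterOf_le_centralizer T)
  have hgZ : g ∈ Subgroup.normalizer (Z : Set G) := JComp.normalizer_le_normalizer_omegaCenterOf T hg
  have hZ : ¬ P ≤ Subgroup.centralizer (Z : Set G) := fun h =>
    JComp.omegaCenterOf_ne_bot d.hT hT1
      (hnormal Z hZT (h.trans (Subgroup.centralizer_le_normalizer _)) hgZ)
  obtain ⟨rfl, V, W, c, rfl, hZV, hWV, hW4, hWe, hcW, hPW, s, hhalf⟩ :=
    d.exists_module hA haA hZ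
  set y := a * (p * a * p⁻¹) with hy
  have hyP : y ∈ P := mul_mem (d.TP d.aT) (mul_mem (mul_mem d.pP (d.TP d.aT)) (inv_mem d.pP))
  have hgen' : P ≤ T ⊔ Subgroup.zpowers y := d.gen.trans (sup_le
    (sup_le (d.QT.trans le_sup_left) le_sup_right)
    ((Subgroup.zpowers_le.2 d.aT).trans le_sup_left))
  have eg : OffAmalgam.cj g T = T := OffAmalgam.cj_eq hg
  -- the pair
  have h : OffAmalgam.Pair T Q W c y (OffAmalgam.cj g Q) (OffAmalgam.cj g W) (g * c * g⁻¹)
      (g * y * g⁻¹) := by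
    refine ⟨s, s.conj hg, fun N hN hTN hy₁ hy₂ => htop N (Subgroup.normalizer_eq_top_iff.1 ?_) hN,
      ⟨A, hA, fun h => d.aQ (h haA)⟩, ⟨OffAmalgam.cj g A,
        ⟨(OffAmalgam.cj_mono hA.1).trans eg.le, OffAmalgam.cj_ea hA.2.1, fun E hE hEe => by
          rw [OffAmalgam.card_cj]; exact hA.2.2 E hE hEe⟩,
        fun h => d.aQ ?_⟩⟩
    · have hP1 : P ≤ Subgroup.normalizer (N : Set G) :=
        hgen'.trans (sup_le hTN (Subgroup.zpowers_le.2 hy₁))
      refine (hmax _ hP1).resolve_left fun e => ?_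
      have hgPn : ∀ x ∈ P, g * x * g⁻¹ ∈ P := by
        have : P ≤ P.comap (MulAut.conj g).toMonoidHom := hgen'.trans (sup_le
          (fun t ht => d.TP ((Subgroup.mem_normalizer_iff.1 hg t).1 ht))
          (Subgroup.zpowers_le.2 (show g * y * g⁻¹ ∈ P from e.le hy₂)))
        exact fun x hx => this hx
      have hgN : g ∈ Subgroup.normalizer (P : Set G) := JComp.mem_normalizer_of_forall hgPn
      exact hgP (hPn.le hgN)
    · obtain ⟨x, hx, hxe⟩ := h ⟨a, haA, rfl⟩
      rw [← (MulAut.conj g).injective hxe]; exact hx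
  obtain ⟨hQe, -, hDc⟩ := h.structure_thm
  set D := Q ⊓ OffAmalgam.cj g Q
  have hDZ : D ≤ Z := fun x hx =>
    mem_omegaOne ⟨d.QT hx.1, fun t ht => (hDc ht x hx).symm⟩ (hQe.2 x hx.1)
  have hQD : Nat.card Q ≤ 2 * Nat.card D := h.s₂.card_le d.QT
  -- `Ω₁(Z(T))` has order at most four
  set b := p * a * p⁻¹ with hb
  have hVe := JComp.isElementaryAbelian_omegaCenterOf Q
  have hQV : Q ≤ Subgroup.centralizer (omegaCenterOf Q : Set G) :=
    Subgroup.le_centralizer_iff.1 (JComp.omegaCenterOf_le_centralizer Q)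
  have hPV : P ≤ Subgroup.normalizer (omegaCenterOf Q : Set G) :=
    d.Qn.trans (JComp.normalizer_le_normalizer_omegaCenterOf Q)
  have hhalfb : Nat.card (omegaCenterOf Q) ≤
      2 * Nat.card ↥(omegaCenterOf Q ⊓ Subgroup.centralizer {b}) := by
    refine hhalf.trans (Nat.mul_le_mul_left _ ?_)
    rw [← OffAmalgam.card_cj p (omegaCenterOf Q ⊓ Subgroup.centralizer {a})]
    refine Subgroup.card_le_of_le ?_
    rintro _ ⟨x, hx, rfl⟩
    refine ⟨(Subgroup.mem_normalizer_iff.1 (hPV d.pP) x).1 hx.1,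
      Subgroup.mem_centralizer_singleton_iff.2 ?_⟩
    show p * x * p⁻¹ * (p * a * p⁻¹) = p * a * p⁻¹ * (p * x * p⁻¹)
    rw [conj_mul, conj_mul, Subgroup.mem_centralizer_singleton_iff.1 hx.2]
  have hcentral : ∀ x ∈ omegaCenterOf Q, a * x = x * a → b * x = x * b →
      P ≤ Subgroup.centralizer {x} := by
    intro x hx hxa hxb
    have hyx : y ∈ Subgroup.centralizer {x} := by
      rw [hy]
      exact mul_mem (Subgroup.mem_centralizer_singleton_iff.2 hxa)
        (Subgroup.mem_centralizer_singleton_iff.2 hxb)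
    refine d.gen.trans (sup_le (sup_le ?_ (Subgroup.zpowers_le.2 hyx))
      (Subgroup.zpowers_le.2 (Subgroup.mem_centralizer_singleton_iff.2 hxa)))
    exact fun u hu => Subgroup.mem_centralizer_singleton_iff.2 (hQV hu x hx).symm
  have hZ4 : Nat.card Z ≤ 4 := by
    set Z₁ := Z ⊓ Subgroup.centralizer {b}
    have hlt : Nat.card Z ≤ 2 * Nat.card Z₁ := by
      have hVb : ∀ u ∈ omegaCenterOf Q, b * u * b⁻¹ ∈ omegaCenterOf Q := fun u hu =>
        (Subgroup.mem_normalizer_iff.1
          (hPV (mul_mem (mul_mem d.pP (d.TP d.aT)) (inv_mem d.pP))) u).1 hu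
      by_cases hle : Z ≤ Subgroup.centralizer {b}
      · rw [show Z₁ = Z from inf_eq_left.2 hle]; omega
      obtain ⟨u, hu, hub⟩ := SetLike.not_le_iff_exists.1 hle
      set C := omegaCenterOf Q ⊓ Subgroup.centralizer {b}
      have huC : u ∉ C := fun h => hub h.2
      have hC2 : Nat.card (omegaCenterOf Q) = 2 * Nat.card C := le_antisymm hhalfb
        (OffAmalgam.two_mul_le_of_lt (lt_of_le_of_ne inf_le_left fun e => huC (e ▸ hZV hu)))
      let f : ↥Z → ↥Z₁ ⊕ ↥Z₁ := fun v =>
        if hv : (v : G) ∈ Subgroup.centralizer {b} then Sum.inl ⟨v, v.2, hv⟩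
        else Sum.inr ⟨v * u, mul_mem v.2 hu,
          (JComp.mul_mem_of_half (inf_le_left : C ≤ _) hC2 (hZV v.2) (fun h => hv h.2) (hZV hu) huC).2⟩
      have hf : Function.Injective f := by
        intro v v' e
        simp only [f] at e
        split_ifs at e
        · exact Subtype.ext (congrArg (fun w : ↥Z₁ => (w : G)) (Sum.inl.inj e))
        · exact Subtype.ext (mul_right_cancel (congrArg (fun w : ↥Z₁ => (w : G)) (Sum.inr.inj e)))
      have := Nat.card_le_card_of_injective f hf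
      rw [Nat.card_sum] at this
      omega
    have hdis : Z₁ ⊓ OffAmalgam.cj g Z₁ = ⊥ := by
      refine eq_bot_iff.2 fun x hx => ?_
      obtain ⟨hx₁, x', hx', hxe⟩ := hx
      change g * x' * g⁻¹ = x at hxe
      rw [Subgroup.mem_bot]
      by_contra hx1
      have hPx : P ≤ Subgroup.centralizer {x} := hcentral x (hZV hx₁.1)
        (hZc d.aT x hx₁.1).symm (Subgroup.mem_centralizer_singleton_iff.1 hx₁.2).symm
      have hPx' : P ≤ Subgroup.centralizer {x'} := hcentral x' (hZV hx'.1)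
        (hZc d.aT x' hx'.1).symm (Subgroup.mem_centralizer_singleton_iff.1 hx'.2).symm
      have hX : Subgroup.centralizer {x} = ⊤ := by
        rcases hmax _ hPx with e | e
        · exfalso
          rcases hmax _ hPx' with e' | e'
          · refine hgP (e.le ?_)
            have hgPg : OffAmalgam.cj g P = P := by
              conv_lhs => rw [← e', ← Subgroup.centralizer_closure, ← Subgroup.zpowers_eq_closure]
              rw [OffAmalgam.cj_centralizer, show OffAmalgam.cj g (Subgroup.zpowers x') = _ from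
                MonoidHom.map_zpowers _ _, show (MulAut.conj g).toMonoidHom x' = x from hxe,
                Subgroup.zpowers_eq_closure, Subgroup.centralizer_closure, e]
            rw [e]
            exact hPn.le (OffAmalgam.mem_normalizer_of_cj_eq hgPg)
          · have hc : x = x' := by
              have := Subgroup.mem_centralizer_singleton_iff.1 (show g ∈ Subgroup.centralizer {x'} by
                rw [e']; exact Subgroup.mem_top g)
              rw [← hxe, this, mul_inv_cancel_right]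
            rw [← hc, e] at e'
            exact hgP (e' ▸ Subgroup.mem_top g)
        · exact e
      refine hx1 (Subgroup.mem_bot.1 ?_)
      rw [← htop (Subgroup.zpowers x) ?_ ((Subgroup.zpowers_le.2 (hZT hx₁.1)))]
      · exact Subgroup.mem_zpowers x
      · refine Subgroup.normalizer_eq_top_iff.1 (top_le_iff.1 (hX.ge.trans ?_))
        rw [← Subgroup.centralizer_closure, ← Subgroup.zpowers_eq_closure]
        exact Subgroup.centralizer_le_normalizer _
    have h1 := CfsgLib.Coprime.card_sup_mul_card_inf (H := Z₁) (N := OffAmalgam.cj g Z₁)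
      (inf_le_left.trans (le_normalizer_of_abelian (JComp.isElementaryAbelian_omegaCenterOf T).1
        ((OffAmalgam.cj_mono inf_le_left).trans (OffAmalgam.cj_eq hgZ).le)))
    rw [hdis, Subgroup.card_bot, mul_one, OffAmalgam.card_cj] at h1
    have h2 := Subgroup.card_le_of_le (sup_le inf_le_left
      ((OffAmalgam.cj_mono inf_le_left).trans (OffAmalgam.cj_eq hgZ).le) :
        Z₁ ⊔ OffAmalgam.cj g Z₁ ≤ Z)
    rw [h1] at h2
    nlinarith
  have h8 : Nat.card Q ≤ 8 := by have := Subgroup.card_le_of_le hDZ; omega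
  have h4 : 4 ≤ Nat.card Q := hW4 ▸ Subgroup.card_le_of_le s.wq
  have hP6 : Nat.card P = 6 * Nat.card Q := d.card
  have hQ4 : Nat.card Q = 4 ∨ Nat.card Q = 8 := by
    obtain ⟨n, hn⟩ := IsPGroup.iff_card.1 (d.hT.to_le d.QT)
    rw [hn] at h4 h8 ⊢
    rcases Nat.lt_or_ge n 4 with h | h
    · interval_cases n <;> simp_all
    · have : 2 ^ 4 ≤ 2 ^ n := Nat.pow_le_pow_right two_pos h
      omega
  rcases hQ4 with hQ | hQ
  · refine Or.inl (JComp.equiv_four_of_centralizer (by omega) hW4 hWe (s.wq.trans d.QP) hPW ?_)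
    have eW : W = Q := Subgroup.eq_of_le_of_card_ge s.wq (by omega)
    exact eW ▸ d.char2
  refine Or.inr ?_
  have haa : a * a = 1 := by have := hA.2.1.2 a haA; rwa [pow_two] at this
  have hbb : b * b = 1 := by
    calc b * b = p * (a * a) * p⁻¹ := by rw [hb]; group
      _ = 1 := by rw [haa]; group
  have haQ' : a ∉ Subgroup.centralizer (W : Set G) := fun h => d.aQ (s.cent.le ⟨d.aT, h⟩)
  have hay : a * y * a⁻¹ = y⁻¹ := by
    rw [hy, mul_inv_rev, inv_eq_of_mul_eq_one_right hbb, inv_eq_of_mul_eq_one_right haa]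
    simp only [← mul_assoc, haa, one_mul]
  have hy6 : y ^ 6 = 1 := by
    rw [show (6 : ℕ) = 3 * 2 by norm_num, pow_mul]; exact hQe.2 _ d.yq
  set r := y ^ 4 with hr
  have hr3 : r ^ 3 = 1 := by
    rw [hr, ← pow_mul, show (4 * 3 : ℕ) = 6 * 2 by norm_num, pow_mul, hy6, one_pow]
  have har : a * r * a⁻¹ = r⁻¹ := by rw [hr, ← conj_pow, hay, inv_pow]
  have hrc : r * c * r⁻¹ ≠ c := by
    intro e
    refine s.yz ?_
    have hq : y ^ 3 * c * (y ^ 3)⁻¹ = c := mul_inv_eq_iff_eq_mul.2 (s.q_cent s.y3 c hcW).symm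
    have hq' : (y ^ 3)⁻¹ * c * y ^ 3 = c := by
      calc (y ^ 3)⁻¹ * c * y ^ 3 = (y ^ 3)⁻¹ * (y ^ 3 * c * (y ^ 3)⁻¹) * y ^ 3 := by rw [hq]
        _ = c := by group
    calc y * c * y⁻¹ = y * (y ^ 3 * c * (y ^ 3)⁻¹) * y⁻¹ := by rw [hq]
      _ = r * c * r⁻¹ := by rw [hr, pow_succ' y 3]; group
      _ = c := e
  have hr1 : r ≠ 1 := fun e => hrc (by rw [e]; group)
  have hro : orderOf r = 3 := orderOf_eq_prime hr3 hr1
  have hrW : r ∈ Subgroup.normalizer (W : Set G) := pow_mem (hPW hyP) 4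
  set R := Subgroup.zpowers r
  set A₁ := Subgroup.zpowers a
  set S := A₁ ⊔ R
  have hA₁R : A₁ ≤ Subgroup.normalizer (R : Set G) := Subgroup.zpowers_le.2 <| by
    refine JComp.mem_normalizer_of_forall ?_
    have hle : R ≤ R.comap (MulAut.conj a).toMonoidHom :=
      Subgroup.zpowers_le.2 (show a * r * a⁻¹ ∈ R from har ▸ inv_mem (Subgroup.mem_zpowers r))
    exact fun x hx => hle hx
  have hA2 : Nat.card A₁ = 2 := by
    rw [Nat.card_zpowers, orderOf_eq_prime (by rw [pow_two, haa]) fun e => d.aQ (by rw [e]; exact one_mem _)]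
  have hR3 : Nat.card R = 3 := by rw [Nat.card_zpowers, hro]
  have hS6 : Nat.card S = 6 := by
    have h1 := CfsgLib.Coprime.card_sup_mul_card_inf (H := A₁) (N := R) hA₁R
    rw [disjoint_iff.1 (Subgroup.disjoint_of_coprime_natCard (H := A₁) (K := R)
      (by rw [hA2, hR3]; norm_num)), Subgroup.card_bot, mul_one, hA2, hR3] at h1
    exact h1
  have hSW : S ≤ Subgroup.normalizer (W : Set G) :=
    sup_le (Subgroup.zpowers_le.2 (s.wT d.aT)) (Subgroup.zpowers_le.2 hrW)
  have hSC : ∀ u ∈ S, u ∈ Subgroup.centralizer (W : Set G) → u = 1 := by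
    intro u hu huC
    have hu' : u ∈ ((A₁ ⊔ R : Subgroup G) : Set G) := hu
    rw [Subgroup.coe_mul_of_left_le_normalizer_right _ _ hA₁R] at hu'
    obtain ⟨a', ha', r', hr', rfl⟩ := hu'
    have hfix : a' * r' * c = c * (a' * r') := (huC c hcW).symm
    have hr'1 : r' = 1 ∨ r' = r ∨ r' = r⁻¹ :=
      JComp.eq_or_inv_of_mem_zpowers hr3 hr1 hr'
    have ha'c : a'⁻¹ * c * a' = c := by
      rcases mem_zpowers_two haa ha' with e | e <;> rw [e]
      · group
      · rw [inv_eq_of_mul_eq_one_right haa, s.z_fix a d.aT, mul_assoc, haa, mul_one]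
    have hr'c : r' * c * r'⁻¹ = c := by
      calc r' * c * r'⁻¹ = a'⁻¹ * (a' * r' * c) * r'⁻¹ := by group
        _ = a'⁻¹ * c * a' := by rw [hfix]; group
        _ = c := ha'c
    have hr'e : r' = 1 := by
      rcases hr'1 with e | e | e
      · exact e
      · exact absurd (e ▸ hr'c) hrc
      · exfalso
        refine hrc ?_
        rw [e] at hr'c
        calc r * c * r⁻¹ = r * (r⁻¹ * c * r⁻¹⁻¹) * r⁻¹ := by rw [hr'c]
          _ = c := by group
    subst hr'e
    rcases mem_zpowers_two haa ha' with rfl | rfl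
    · simp
    · exact absurd (by simpa using huC) haQ'
  set H := S ⊔ W
  have hi : S ⊓ W = ⊥ := eq_bot_iff.2 fun u hu =>
    Subgroup.mem_bot.2 (hSC u hu.1 fun v hv => comm_of_mem hWe.1 hv hu.2)
  have hH24 : Nat.card H = 24 := by
    have h1 := CfsgLib.Coprime.card_sup_mul_card_inf (H := S) (N := W) hSW
    rw [hi, Subgroup.card_bot, mul_one, hS6, hW4] at h1
    exact h1
  have hHn : H ≤ Subgroup.normalizer (W : Set G) := sup_le hSW Subgroup.le_normalizer
  have hHC : H ⊓ Subgroup.centralizer (W : Set G) ≤ W := by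
    rintro u ⟨hu, huC⟩
    have hu' : u ∈ ((S ⊔ W : Subgroup G) : Set G) := hu
    rw [Subgroup.coe_mul_of_left_le_normalizer_right _ _ hSW] at hu'
    obtain ⟨s', hs', w, hw, rfl⟩ := hu'
    have hwC : w ∈ Subgroup.centralizer (W : Set G) := fun v hv => comm_of_mem hWe.1 hv hw
    have := mul_mem huC ((Subgroup.centralizer (W : Set G)).inv_mem hwC)
    rw [hSC s' hs' (by simpa using this)]
    show 1 * w ∈ W
    rw [one_mul]
    exact hw
  have hHP : H ≤ P := sup_le (sup_le (Subgroup.zpowers_le.2 (d.TP d.aT))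
    (Subgroup.zpowers_le.2 (pow_mem hyP 4))) (s.wq.trans d.QP)
  obtain ⟨e⟩ := JComp.equiv_four_of_centralizer hH24 hW4 hWe le_sup_right hHn hHC
  -- a central involution
  obtain ⟨x, hxV, hxa, hxb, hx1⟩ : ∃ x ∈ omegaCenterOf Q, a * x = x * a ∧ b * x = x * b ∧ x ≠ 1 := by
    have hV8 : Nat.card (omegaCenterOf Q) = 8 := by
      rw [show omegaCenterOf Q = Q from le_antisymm (JComp.omegaCenterOf_le Q) fun x hx =>
        mem_omegaOne ⟨hx, fun v hv => comm_of_mem hQe.1 hv hx⟩ (hQe.2 x hx), hQ]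
    set Ca := omegaCenterOf Q ⊓ Subgroup.centralizer {a}
    set Cb := omegaCenterOf Q ⊓ Subgroup.centralizer {b}
    have h1 := CfsgLib.Coprime.card_sup_mul_card_inf (H := Ca) (N := Cb)
      (inf_le_left.trans (le_normalizer_of_abelian hVe.1 inf_le_left))
    have h2 := Subgroup.card_le_of_le (sup_le inf_le_left inf_le_left : Ca ⊔ Cb ≤ omegaCenterOf Q)
    obtain ⟨⟨x, hx⟩, hx1⟩ := Subgroup.ne_bot_iff_exists_ne_one.1 (fun e : Ca ⊓ Cb = ⊥ => by
      rw [e, Subgroup.card_bot, mul_one] at h1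
      have hp : 4 * 4 ≤ Nat.card Ca * Nat.card Cb := Nat.mul_le_mul (by omega) (by omega)
      omega)
    exact ⟨x, hx.1.1, (Subgroup.mem_centralizer_singleton_iff.1 hx.1.2).symm,
      (Subgroup.mem_centralizer_singleton_iff.1 hx.2.2).symm, fun e => hx1 (Subtype.ext e)⟩
  have hPx := hcentral x hxV hxa hxb
  have hxQ : x ∈ Q := JComp.omegaCenterOf_le Q hxV
  have hxH : x ∉ H := by
    intro hx
    have hxW : x ∈ W := hHC ⟨hx, fun v hv =>
      Subgroup.mem_centralizer_singleton_iff.1 (hPx (d.QP (s.wq hv)))⟩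
    rcases s.fix_only d.aT d.aQ hxW hxa with f | f
    · exact hx1 f
    · subst f
      exact s.yz (mul_inv_eq_iff_eq_mul.2
        (Subgroup.mem_centralizer_singleton_iff.1 (hPx hyP)))
  have hxx : x ^ 2 = 1 := hVe.2 x hxV
  have hxP : Subgroup.zpowers x ≤ P := Subgroup.zpowers_le.2 (d.QP hxQ)
  let f : ↥H × ↥(Subgroup.zpowers x) →* ↥P :=
    MonoidHom.noncommCoprod (Subgroup.inclusion hHP) (Subgroup.inclusion hxP) fun u v => by
      obtain ⟨v, i, rfl⟩ := v
      exact Subtype.ext ((Commute.zpow_right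
        (Subgroup.mem_centralizer_singleton_iff.1 (hPx (hHP u.2))) i).eq)
  have hx2 : Nat.card (Subgroup.zpowers x) = 2 := by
    rw [Nat.card_zpowers, orderOf_eq_prime hxx hx1]
  have hf : Function.Injective f := by
    rw [injective_iff_map_eq_one]
    rintro ⟨u, v⟩ hv
    have h' : (u : G) * v = 1 := congrArg Subtype.val hv
    have hv1 : (v : G) = 1 := by
      by_contra hv1
      rw [JComp.eq_of_card_eq_two hx2 v.2 hv1 (Subgroup.mem_zpowers x) hx1] at h'
      exact hxH ((eq_inv_of_mul_eq_one_right h').symm ▸ H.inv_mem u.2)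
    rw [hv1, mul_one] at h'
    exact Prod.ext (Subtype.ext h') (Subtype.ext hv1)
  have hbij : Function.Bijective f := hf.bijective_of_nat_card_le (by
    rw [Nat.card_prod, hH24, hx2]; omega)
  have e₂ : ↥(Subgroup.zpowers x) ≃* Multiplicative (ZMod 2) :=
    mulEquivOfCyclicCardEq (by rw [hx2]; simp)
  exact ⟨(MulEquiv.ofBijective f hbij).symm.trans (MulEquiv.prodCongr e e₂)⟩

end CfsgLib.LocalEven.DihMax
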