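import Cfsg.Agent.Lib.LocalEven.ThreeCycleComponent

/-!
Double transpositions of a permutation group with quasisimple `F*` produce a 3-cycle.
-/

set_option autoImplicit false

namespace CfsgLib.LocalEven.DoubleTransposition

open Cfsg Equiv Equiv.Perm
open scoped commutatorElement

variable {α : Type*} [DecidableEq α] [Fintype α]

/-- The support of an element of `H` moving four points. -/
def Supp (H : Subgroup (Perm α)) (S : Finset α) : Prop := S.card = 4 ∧ ∃ t ∈ H, t.support = S

theorem Supp.conj {H : Subgroup (Perm α)} {S : Finset α} (h : Supp H S) {g : Perm α} (hg : g ∈ H) :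
    Supp H (S.map g.toEmbedding) := by
  obtain ⟨h4, t, ht, rfl⟩ := h
  exact ⟨by rw [Finset.card_map, h4], g * t * g⁻¹, H.mul_mem (H.mul_mem hg ht) (H.inv_mem hg),
    support_conj⟩

theorem inv_apply (g : Perm α) (x : α) : g⁻¹ (g x) = x := g.symm_apply_apply x

theorem apply_inv (g : Perm α) (x : α) : g (g⁻¹ x) = x := g.apply_symm_apply x

/-- Two permutations moving a single common point have a 3-cycle as commutator. -/
theorem commutator_eq_cyc {g h : Perm α} {a : α} (hi : g.support ∩ h.support = {a}) :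
    ⁅g, h⁆ = ThreeCycle.cyc a (g a) (h a) ∧ a ≠ g a ∧ g a ≠ h a ∧ a ≠ h a := by
  have hmem : ∀ x, g x ≠ x → h x ≠ x → x = a := fun x hg hh => by
    have : x ∈ g.support ∩ h.support := Finset.mem_inter.2 ⟨mem_support.2 hg, mem_support.2 hh⟩
    rwa [hi, Finset.mem_singleton] at this
  have ha : g a ≠ a ∧ h a ≠ a := by
    have : a ∈ g.support ∩ h.support := by rw [hi]; exact Finset.mem_singleton_self a
    exact ⟨mem_support.1 (Finset.mem_inter.1 this).1, mem_support.1 (Finset.mem_inter.1 this).2⟩
  have hb : h (g a) = g a := by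
    by_contra e
    exact ha.1 (hmem _ (g.injective.ne ha.1) e)
  have hc : g (h a) = h a := by
    by_contra e
    exact ha.2 (hmem _ e (h.injective.ne ha.2))
  have hbc : g a ≠ h a := fun e => ha.1 (g.injective (by rw [← e] at hc; exact hc))
  refine ⟨Equiv.ext fun x => ?_, ha.1.symm, hbc, ha.2.symm⟩
  simp only [commutatorElement_def, Perm.mul_apply]
  obtain ⟨y, rfl⟩ := h.surjective x
  rw [inv_apply]
  obtain ⟨z, rfl⟩ := g.surjective y
  rw [inv_apply]
  obtain ⟨e₁, e₂, e₃⟩ := ThreeCycle.cyc_apply ha.1.symm hbc ha.2.symm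
  by_cases hza : z = a
  · subst hza
    rw [show h (g z) = g z from hb, e₂]
    grind
  by_cases hz : h z = z
  · by_cases hy : h (g z) = g z
    · rw [hz, hy]
      rw [ThreeCycle.cyc_apply_of_ne (fun e => ha.2 (by rw [← e]; exact hy)) (g.injective.ne hza)
        (fun e => ha.2 (h.injective (by rw [← e]; exact hy)))]
    · have hgz : g z = a := by
        by_contra e
        refine e (hmem _ ?_ hy)
        exact g.injective.ne fun h' => hy (by rw [h', hz])
      rw [hgz, hz, hgz, e₃]
  · have hgz : g z = z := by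
      by_contra e
      exact hza (hmem _ e hz)
    rw [hgz]
    by_cases hw : g (h z) = h z
    · rw [hw]
      rw [ThreeCycle.cyc_apply_of_ne (fun e => ha.1 (by rw [← e]; exact hw)) (fun e => ?_) (h.injective.ne hza)]
      exact ha.1 (g.injective (by rw [← e]; exact hw))
    · have hhz : h z = a := hmem _ hw (h.injective.ne hz)
      rw [hhz, e₁]

variable {H : Subgroup (Perm α)}

/-- Without 3-cycles, no two supports meet in one point. -/
theorem card_inter_ne_one (hno : ∀ a b c, ¬ ThreeCycle.P H a b c) {S S' : Finset α} (hS : Supp H S)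
    (hS' : Supp H S') : (S ∩ S').card ≠ 1 := by
  intro h1
  obtain ⟨a, ha⟩ := Finset.card_eq_one.1 h1
  obtain ⟨-, g, hg, rfl⟩ := hS
  obtain ⟨-, k, hk, rfl⟩ := hS'
  obtain ⟨e, hab, hbc, hac⟩ := commutator_eq_cyc ha
  refine hno a (g a) (k a) ⟨hab, hbc, hac, ?_⟩
  rw [← e, commutatorElement_def]
  exact H.mul_mem (H.mul_mem (H.mul_mem hg hk) (H.inv_mem hg)) (H.inv_mem hk)

/-- A quasisimple group centralising an involution with at most four orbits of length two fixes them. -/
theorem fixes_of_centralizes {E : Subgroup (Perm α)} [Group.IsPerfect ↥E] {I : Type*} [Fintype I]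
    (hI : Fintype.card I ≤ 4) (f : I → Bool → α) (hf : ∀ i b j c, f i b = f j c → i = j ∧ b = c)
    {t : Perm α} (hswap : ∀ i b, t (f i b) = f i (!b)) (hfix : ∀ x, (∀ i b, f i b ≠ x) → t x = x)
    (hc : ∀ g ∈ E, t * g = g * t) : ∀ g ∈ E, ∀ (i : I) (b : Bool), g (f i b) = f i b := by
  classical
  have hmap : ∀ g : ↥E, ∀ i, ∃ j c, (g : Perm α) (f i false) = f j c ∧ (g : Perm α) (f i true) = f j (!c) := by
    intro g i
    have e := congrArg (fun q : Perm α => q (f i false)) (hc g.1 g.2)
    simp only [Perm.mul_apply, hswap, Bool.not_false] at e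
    by_contra hne
    push Not at hne
    rw [hfix _ (fun j c h => hne j c h.symm (by rw [← e, ← h, hswap]))] at e
    exact Bool.false_ne_true (hf _ _ _ _ ((g : Perm α).injective e)).2
  choose π c hπ using hmap
  have hπb : ∀ (g : ↥E) (i : I) (b : Bool), (g : Perm α) (f i b) = f (π g i) (xor b (c g i)) := fun g i b => by
    cases b
    · simpa using (hπ g i).1
    · simpa using (hπ g i).2
  have hmul : ∀ g h : ↥E, ∀ i, π (g * h) i = π g (π h i) ∧ c (g * h) i = xor (c h i) (c g (π h i)) := by
    intro g h i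
    have := (hπ (g * h) i).1
    rw [Subgroup.coe_mul, Perm.mul_apply, (hπ h i).1, hπb] at this
    exact ⟨(hf _ _ _ _ this).1.symm, (hf _ _ _ _ this).2.symm⟩
  have hone : ∀ i, π 1 i = i ∧ c 1 i = false := fun i => by
    have := (hπ 1 i).1
    exact ⟨(hf _ _ _ _ this).1.symm, (hf _ _ _ _ this).2.symm⟩
  let θ : ↥E →* Perm I :=
    { toFun := fun g => ⟨π g, π g⁻¹, fun i => by rw [← (hmul _ _ i).1, inv_mul_cancel, (hone i).1],
        fun i => by rw [← (hmul _ _ i).1, mul_inv_cancel, (hone i).1]⟩
      map_one' := Equiv.ext fun i => (hone i).1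
      map_mul' := fun g h => Equiv.ext fun i => (hmul g h i).1 }
  have hid : ∀ (g : ↥E) i, π g i = i := by
    intro g i
    haveI : Group.IsSolvable (Perm I) :=
      CfsgLib.FgsC.isSolvable_perm_of_card_le_four _ (by simpa using hI)
    by_contra hne
    haveI : Nontrivial ↥θ.range := (Subgroup.nontrivial_iff_exists_ne_one _).2
      ⟨_, ⟨g, rfl⟩, fun e => hne (congrArg (fun q : Perm I => q i) e)⟩
    haveI : Group.IsPerfect ↥θ.range := Group.IsPerfect.ofSurjective θ.rangeRestrict_surjective
    exact Group.IsPerfect.not_isSolvable ↥θ.range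
      (Group.isSolvable_of_isSolvable_injective θ.range.subtype_injective)
  intro g hg i b
  let ψ : ↥E →* Multiplicative (ZMod 2) := MonoidHom.mk'
    (fun h => Multiplicative.ofAdd (if c h i then 1 else 0))
    (fun x y => by
      rw [(hmul x y i).2, hid, ← ofAdd_add]
      cases c y i <;> cases c x i <;> simp <;> decide)
  have hψ : ψ (⟨g, hg⟩ : ↥E) = 1 := by
    have hle : (⟨g, hg⟩ : ↥E) ∈ ψ.ker := by
      have := Abelianization.commutator_subset_ker ψ
      rw [Group.IsPerfect.commutator_eq_top] at this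
      exact this trivial
    exact hle
  have hcf : c (⟨g, hg⟩ : ↥E) i = false := by
    by_contra e
    rw [Bool.not_eq_false] at e
    simp [ψ, e] at hψ
  have := hπb ⟨g, hg⟩ i b
  rwa [hid, hcf, Bool.xor_false] at this

/-- An abelian normal subgroup of exponent two contains no such involution. -/
theorem false_of_normal (hF : IsQuasisimple ↥(generalizedFittingSubgroup ↥H)) {N : Subgroup ↥H}
    (hN : N.Normal) (hN2 : ∀ g ∈ N, g * g = 1) {I : Type*} [Fintype I] [Nonempty I]
    (hI : Fintype.card I ≤ 4) (f : I → Bool → α) (hf : ∀ i b j c, f i b = f j c → i = j ∧ b = c)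
    {t : Perm α} (ht : t ∈ H) (htN : (⟨t, ht⟩ : ↥H) ∈ N)
    (hswap : ∀ i b, t (f i b) = f i (!b)) (hfix : ∀ x, (∀ i b, f i b ≠ x) → t x = x) : False := by
  classical
  set E := generalizedFittingSubgroup ↥H with hE
  have hEc : IsComponent E := ⟨(inferInstance : E.Normal).isSubnormal, hF⟩
  have hsolv : Group.IsSolvable ↥N := Group.isSolvable_of_comm fun a b => by
    have ha := hN2 a a.2
    have hb := hN2 b b.2
    have hab := hN2 _ (a * b).2
    refine Subtype.ext ?_
    show (a : ↥H) * b = b * a
    calc (a : ↥H) * b = a * (((a : ↥H) * b) * ((a : ↥H) * b)) * b := by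
          rw [show ((a : ↥H) * b) * ((a : ↥H) * b) = 1 from hab, mul_one]
      _ = ((a : ↥H) * a) * b * a * ((b : ↥H) * b) := by group
      _ = b * a := by rw [ha, hb, one_mul, mul_one]
  have hEN : N ≤ Subgroup.centralizer (E : Set ↥H) := by
    rw [← Subgroup.commutator_eq_bot_iff_le_centralizer, Subgroup.commutator_comm]
    exact CfsgLib.Components.component_commutator_eq_bot_of_isSolvable hEc hN.isSubnormal hsolv
  haveI := hF.1
  haveI : Group.IsPerfect ↥(E.map H.subtype) :=
    Group.IsPerfect.ofSurjective (f := (E.equivMapOfInjective _ H.subtype_injective).toMonoidHom)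
      (E.equivMapOfInjective _ H.subtype_injective).surjective
  have hfixE := fixes_of_centralizes (E := E.map H.subtype) hI f hf hswap hfix (by
    rintro _ ⟨g, hg, rfl⟩
    exact congrArg Subtype.val (Subgroup.mem_centralizer_iff.1 (hEN htN) g hg).symm)
  obtain ⟨i⟩ := ‹Nonempty I›
  have := hfixE t ⟨_, CfsgLib.Components.centralizer_fstar_le (hEN htN), rfl⟩ i false
  rw [hswap] at this
  exact Bool.false_ne_true (hf _ _ _ _ this).2.symm

/-- Pairs, their flips and an exchange force a 3-cycle. -/
theorem exists_threeCycle (hF : IsQuasisimple ↥(generalizedFittingSubgroup ↥H)) {m : ℕ} (hm : 4 ≤ m)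
    (f : Fin m → Bool → α) (hf : ∀ i b j c, f i b = f j c → i = j ∧ b = c)
    (hflip : ∀ i j, i ≠ j → ∃ t ∈ H, (∀ b, t (f i b) = f i (!b)) ∧ (∀ b, t (f j b) = f j (!b)) ∧
      ∀ x, (∀ b, x ≠ f i b) → (∀ b, x ≠ f j b) → t x = x)
    (ι : Fin m → Fin m) (hι : ∀ i, ι i ≠ i)
    (hout : ∀ S : Finset α, (∀ x ∈ S, ∀ i b, x ≠ f i b) → S.card ≤ 3) :
    ∃ a b c, ThreeCycle.P H a b c := by
  classical
  by_contra hno
  push Not at hno
  let Pr : Fin m → Finset α := fun i => {f i false, f i true}
  have hPr : ∀ i b, f i b ∈ Pr i := fun i b => by cases b <;> simp [Pr]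
  have hne : ∀ i, f i false ≠ f i true := fun i e => Bool.false_ne_true (hf _ _ _ _ e).2
  have hPrc : ∀ i, (Pr i).card = 2 := fun i => Finset.card_pair (hne i)
  have hmemPr : ∀ {i x}, x ∈ Pr i ↔ ∃ b, x = f i b := fun {i x} => by
    simp [Pr, Bool.exists_bool]
  have hdisj : ∀ i j, i ≠ j → Disjoint (Pr i) (Pr j) := fun i j hij => by
    rw [Finset.disjoint_left]
    intro x hx hy
    obtain ⟨b, rfl⟩ := hmemPr.1 hx
    obtain ⟨c, hc⟩ := hmemPr.1 hy
    exact hij (hf _ _ _ _ hc).1
  have hunion : ∀ i j, i ≠ j → Supp H (Pr i ∪ Pr j) := by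
    intro i j hij
    obtain ⟨t, ht, hi, hj, hx⟩ := hflip i j hij
    refine ⟨by rw [Finset.card_union_of_disjoint (hdisj i j hij), hPrc, hPrc], t, ht, ?_⟩
    ext x
    rw [Finset.mem_union, hmemPr, hmemPr, mem_support]
    constructor
    · intro h
      by_contra h'
      push Not at h'
      exact h (hx x h'.1 h'.2)
    · rintro (⟨b, rfl⟩ | ⟨b, rfl⟩) e
      · rw [hi] at e; exact Bool.not_ne_self b (hf _ _ _ _ e).2
      · rw [hj] at e; exact Bool.not_ne_self b (hf _ _ _ _ e).2
  have hthird : ∀ i j : Fin m, ∃ k, k ≠ i ∧ k ≠ j := fun i j => by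
    obtain ⟨k, -, hk⟩ := Finset.exists_mem_notMem_of_card_lt_card
      (s := ({i, j} : Finset (Fin m))) (t := Finset.univ)
      (by have := Finset.card_le_two (a := i) (b := j); simp only [Finset.card_univ, Fintype.card_fin]; omega)
    exact ⟨k, by simpa using hk⟩
  have hcut : ∀ S i j, i ≠ j → (S ∩ (Pr i ∪ Pr j)).card = (S ∩ Pr i).card + (S ∩ Pr j).card := fun S i j hij => by
    rw [Finset.inter_union_distrib_left, Finset.card_union_of_disjoint
      ((hdisj i j hij).mono Finset.inter_subset_right Finset.inter_subset_right)]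
  have hle2 : ∀ S i, (S ∩ Pr i).card ≤ 2 := fun S i =>
    (Finset.card_le_card Finset.inter_subset_right).trans (hPrc i).le
  -- a support is either odd on every pair or even on every pair
  have hodd : ∀ S, Supp H S → ∀ i, (S ∩ Pr i).card = 1 → ∀ j, (S ∩ Pr j).card = 1 := by
    intro S hS i hi j
    by_contra hj
    have hij : i ≠ j := fun e => hj (e ▸ hi)
    have h1 := card_inter_ne_one hno hS (hunion i j hij)
    rw [hcut S i j hij, hi] at h1
    have hj2 : (S ∩ Pr j).card = 2 := by have := hle2 S j; omega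
    obtain ⟨k, hki, hkj⟩ := hthird i j
    obtain ⟨l, -, hl⟩ := Finset.exists_mem_notMem_of_card_lt_card
      (s := ({i, j, k} : Finset (Fin m))) (t := Finset.univ)
      (by have := Finset.card_le_three (a := i) (b := j) (c := k)
          simp only [Finset.card_univ, Fintype.card_fin]; omega)
    simp only [Finset.mem_insert, Finset.mem_singleton, not_or] at hl
    have hk1 := card_inter_ne_one hno hS (hunion i k hki.symm)
    have hl1 := card_inter_ne_one hno hS (hunion i l (Ne.symm hl.1))
    rw [hcut S i k hki.symm, hi] at hk1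
    rw [hcut S i l (Ne.symm hl.1), hi] at hl1
    have hsum : ∑ q ∈ ({i, j, k, l} : Finset (Fin m)), (S ∩ Pr q).card ≤ S.card := by
      rw [← Finset.card_biUnion (fun a _ b _ hab => (hdisj a b hab).mono Finset.inter_subset_right
        Finset.inter_subset_right)]
      exact Finset.card_le_card (Finset.biUnion_subset.2 fun q _ => Finset.inter_subset_left)
    rw [Finset.sum_insert (by simp [hij, hki.symm, Ne.symm hl.1]),
      Finset.sum_insert (by simp [hkj.symm, Ne.symm hl.2.1]),
      Finset.sum_insert (by simp [Ne.symm hl.2.2]), Finset.sum_singleton, hS.1] at hsum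
    omega
  have hfull : ∀ S i, (S ∩ Pr i).card = 2 → Pr i ⊆ S := fun S i h => by
    rw [← Finset.eq_of_subset_of_card_le (Finset.inter_subset_right : S ∩ Pr i ⊆ Pr i) (by rw [hPrc, h])]
    exact Finset.inter_subset_left
  have hnone : ∀ S i, (S ∩ Pr i).card = 0 → Disjoint S (Pr i) := fun S i h =>
    Finset.disjoint_iff_inter_eq_empty.2 (Finset.card_eq_zero.1 h)
  -- an even support meeting the outside is one pair and two outside points
  have hsplit : ∀ S, Supp H S → ∀ x ∈ S, (∀ i b, x ≠ f i b) → (∀ i, (S ∩ Pr i).card ≠ 1) →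
      ∃ i y, y ≠ x ∧ (∀ i b, y ≠ f i b) ∧ S = {x, y} ∪ Pr i := by
    intro S hS x hx hxo heven
    have h4 := hS.1
    obtain ⟨i, hi⟩ : ∃ i, (S ∩ Pr i).card = 2 := by
      by_contra hcon
      push Not at hcon
      have := hout S fun y hy i b e => by
        have hz : (S ∩ Pr i).card = 0 := by have := hle2 S i; have := heven i; have := hcon i; omega
        exact Finset.disjoint_left.1 (hnone S i hz) hy (e ▸ hPr i b)
      omega
    have hsub := hfull S i hi
    have hxi : x ∉ Pr i := fun h => by obtain ⟨b, hb⟩ := hmemPr.1 h; exact hxo i b hb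
    have hcard : ((S \ Pr i).erase x).card = 1 := by
      rw [Finset.card_erase_of_mem (Finset.mem_sdiff.2 ⟨hx, hxi⟩), Finset.card_sdiff_of_subset hsub, hPrc, h4]
    obtain ⟨y, hy⟩ := Finset.card_eq_one.1 hcard
    have hy' : y ∈ (S \ Pr i).erase x := by rw [hy]; exact Finset.mem_singleton_self y
    simp only [Finset.mem_erase, Finset.mem_sdiff] at hy'
    have hS' : S = {x, y} ∪ Pr i := by
      refine (Finset.eq_of_subset_of_card_le (Finset.union_subset (by simp [Finset.insert_subset_iff, hx, hy'.2.1]) hsub) ?_).symm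
      rw [Finset.card_union_of_disjoint (by simp [hxi, hy'.2.2]), Finset.card_pair (Ne.symm hy'.1), hPrc, h4]
    refine ⟨i, y, hy'.1, fun j b e => ?_, hS'⟩
    have hji : j ≠ i := fun h => hy'.2.2 (e ▸ h ▸ hPr j b)
    have h2 : (S ∩ Pr j).card = 2 := by
      have h0 : (S ∩ Pr j).card ≠ 0 := Finset.card_ne_zero.2 ⟨y, Finset.mem_inter.2 ⟨hy'.2.1, e ▸ hPr j b⟩⟩
      have := hle2 S j; have := heven j; omega
    have hle := Finset.card_le_card (Finset.union_subset (Finset.union_subset hsub (hfull S j h2))
      (Finset.singleton_subset_iff.2 hx))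
    rw [Finset.card_union_of_disjoint (by
        rw [Finset.disjoint_singleton_right, Finset.mem_union, not_or]
        exact ⟨hxi, fun h => by obtain ⟨c, hc⟩ := hmemPr.1 h; exact hxo j c hc⟩),
      Finset.card_union_of_disjoint (hdisj i j hji.symm), hPrc, hPrc, Finset.card_singleton, h4] at hle
    omega
  by_cases hexodd : ∃ S₀ i₀, Supp H S₀ ∧ (S₀ ∩ Pr i₀).card = 1
  · obtain ⟨S₀, i₀, hS₀, hi₀⟩ := hexodd
    have hall₀ := hodd S₀ hS₀ i₀ hi₀
    let U : Finset α := Finset.univ.biUnion Pr
    have hsum₀ : ∑ q : Fin m, (S₀ ∩ Pr q).card = m := by simp [hall₀]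
    have hm4 : m = 4 := by
      have : ∑ q : Fin m, (S₀ ∩ Pr q).card ≤ S₀.card := by
        rw [← Finset.card_biUnion (fun a _ b _ hab => (hdisj a b hab).mono Finset.inter_subset_right
          Finset.inter_subset_right)]
        exact Finset.card_le_card (Finset.biUnion_subset.2 fun q _ => Finset.inter_subset_left)
      rw [hsum₀, hS₀.1] at this
      omega
    subst hm4
    have hoddsub : ∀ S, Supp H S → (∀ i, (S ∩ Pr i).card = 1) → S ⊆ U := by
      intro S hS h1
      have heq : Finset.univ.biUnion (fun q => S ∩ Pr q) = S := by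
        refine Finset.eq_of_subset_of_card_le (Finset.biUnion_subset.2 fun q _ => Finset.inter_subset_left) ?_
        rw [Finset.card_biUnion (fun a _ b _ hab => (hdisj a b hab).mono Finset.inter_subset_right
          Finset.inter_subset_right)]
        simp [h1, hS.1]
      rw [← heq]
      exact Finset.biUnion_subset.2 fun q _ => Finset.inter_subset_right.trans (Finset.subset_biUnion_of_mem Pr (Finset.mem_univ q))
    have hsub : ∀ S, Supp H S → S ⊆ U := by
      intro S hS x hx
      by_cases h1 : ∃ i, (S ∩ Pr i).card = 1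
      · obtain ⟨i, hi⟩ := h1
        exact hoddsub S hS (hodd S hS i hi) hx
      · push Not at h1
        by_contra hxU
        have hxo : ∀ i b, x ≠ f i b := fun i b e =>
          hxU (Finset.mem_biUnion.2 ⟨i, Finset.mem_univ _, e ▸ hPr i b⟩)
        obtain ⟨i, y, -, hyo, rfl⟩ := hsplit S hS x hx hxo h1
        have hout0 : ∀ z, (∀ j b, z ≠ f j b) → z ∉ S₀ := fun z hz h => by
          obtain ⟨q, -, hq⟩ := Finset.mem_biUnion.1 (hoddsub S₀ hS₀ hall₀ h)
          obtain ⟨b, hb⟩ := hmemPr.1 hq
          exact hz q b hb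
        apply card_inter_ne_one hno hS hS₀
        rw [Finset.inter_comm, Finset.inter_union_distrib_left, show S₀ ∩ {x, y} = ∅ from ?_,
          Finset.empty_union, hall₀]
        rw [← Finset.disjoint_iff_inter_eq_empty, Finset.disjoint_right]
        simp only [Finset.mem_insert, Finset.mem_singleton]
        rintro z (rfl | rfl)
        exacts [hout0 _ hxo, hout0 _ hyo]
    have hUinv : ∀ g ∈ H, ∀ x ∈ U, g x ∈ U := by
      intro g hg x hx
      obtain ⟨i, -, hi⟩ := Finset.mem_biUnion.1 hx
      exact hsub _ ((hunion i (ι i) (hι i).symm).conj hg)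
        (Finset.mem_map_of_mem g.toEmbedding (Finset.mem_union_left _ hi))
    let good : ↥H → Prop := fun g => (∀ x, x ∉ U → (g : Perm α) x = x) ∧ ∀ S, Supp H S →
      (∀ x ∈ U, ((g : Perm α) x ∈ S ↔ x ∈ S)) ∨ (∀ x ∈ U, ((g : Perm α) x ∈ S ↔ x ∉ S))
    let N : Subgroup ↥H :=
      { carrier := {g | good g}
        one_mem' := ⟨fun x _ => rfl, fun S _ => Or.inl fun x _ => Iff.rfl⟩
        mul_mem' := fun {g h} hg hh => ⟨fun x hx => by
            show (g : Perm α) ((h : Perm α) x) = x
            rw [hh.1 x hx, hg.1 x hx], fun S hS => by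
          have hU := fun x hx => hUinv (h : Perm α) h.2 x hx
          rcases hg.2 S hS with a | a <;> rcases hh.2 S hS with b | b
          · exact Or.inl fun x hx => (a _ (hU x hx)).trans (b x hx)
          · exact Or.inr fun x hx => (a _ (hU x hx)).trans (b x hx)
          · exact Or.inr fun x hx => (a _ (hU x hx)).trans (not_congr (b x hx))
          · exact Or.inl fun x hx => ((a _ (hU x hx)).trans (not_congr (b x hx))).trans not_not⟩
        inv_mem' := fun {g} hg => ⟨fun x hx => by
            have := hg.1 x hx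
            show (g : Perm α)⁻¹ x = x
            rw [Perm.inv_eq_iff_eq, this], fun S hS => by
          have hU := fun x hx => hUinv (g : Perm α)⁻¹ (H.inv_mem g.2) x hx
          rcases hg.2 S hS with a | a
          · exact Or.inl fun x hx => by
              have := a _ (hU x hx); rw [apply_inv] at this; exact this.symm
          · exact Or.inr fun x hx => by
              have := a _ (hU x hx); rw [apply_inv] at this
              exact (not_congr this).trans not_not |>.symm⟩ }
    have hNn : N.Normal := by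
      refine ⟨fun g hg k => ?_⟩
      have hU := fun x hx => hUinv (k : Perm α)⁻¹ (H.inv_mem k.2) x hx
      refine ⟨fun x hx => ?_, fun S hS => ?_⟩
      · show (k : Perm α) ((g : Perm α) ((k : Perm α)⁻¹ x)) = x
        rw [hg.1 _ fun h => hx (by simpa using hUinv k k.2 _ h), apply_inv]
      · have hmem : ∀ z, (k : Perm α) z ∈ S ↔ z ∈ S.map (k : Perm α)⁻¹.toEmbedding := fun z => by
          simp [Finset.mem_map_equiv, Perm.inv_def]
        rcases hg.2 _ (hS.conj (H.inv_mem k.2)) with a | a
        · refine Or.inl fun x hx => ?_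
          show (k : Perm α) ((g : Perm α) ((k : Perm α)⁻¹ x)) ∈ S ↔ _
          rw [hmem, a _ (hU x hx), ← hmem, apply_inv]
        · refine Or.inr fun x hx => ?_
          show (k : Perm α) ((g : Perm α) ((k : Perm α)⁻¹ x)) ∈ S ↔ _
          rw [hmem, a _ (hU x hx), ← hmem, apply_inv]
    have hN2 : ∀ g ∈ N, g * g = 1 := by
      intro g hg
      refine Subtype.ext (Equiv.ext fun x => ?_)
      show (g : Perm α) ((g : Perm α) x) = x
      by_cases hxU : x ∈ U
      swap
      · rw [hg.1 x hxU, hg.1 x hxU]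
      set y := (g : Perm α) ((g : Perm α) x)
      have hyU : y ∈ U := hUinv _ g.2 _ (hUinv _ g.2 _ hxU)
      have hsame : ∀ S, Supp H S → (y ∈ S ↔ x ∈ S) := fun S hS => by
        rcases hg.2 S hS with a | a
        · exact (a _ (hUinv _ g.2 _ hxU)).trans (a x hxU)
        · exact ((a _ (hUinv _ g.2 _ hxU)).trans (not_congr (a x hxU))).trans not_not
      obtain ⟨i, -, hi⟩ := Finset.mem_biUnion.1 hxU
      obtain ⟨j, -, hj⟩ := Finset.mem_biUnion.1 hyU
      by_cases hij : i = j
      · subst hij
        by_contra hne'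
        have h1 := hall₀ i
        obtain ⟨z, hz⟩ := Finset.card_eq_one.1 h1
        have hpair : Pr i = {x, y} := (Finset.eq_of_subset_of_card_le
          (by simp [Finset.insert_subset_iff, hi, hj]) (by rw [hPrc, Finset.card_pair (Ne.symm hne')])).symm
        have hzm : z ∈ S₀ ∩ Pr i := by rw [hz]; exact Finset.mem_singleton_self z
        rw [hpair, Finset.mem_inter, Finset.mem_insert, Finset.mem_singleton] at hzm
        have hboth : x ∈ S₀ ∧ y ∈ S₀ := by
          rcases hzm.2 with rfl | rfl
          · exact ⟨hzm.1, (hsame S₀ hS₀).2 hzm.1⟩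
          · exact ⟨(hsame S₀ hS₀).1 hzm.1, hzm.1⟩
        rw [hpair, Finset.inter_eq_right.2 (by simp [Finset.insert_subset_iff, hboth.1, hboth.2]),
          Finset.card_pair (Ne.symm hne')] at h1
        omega
      · exfalso
        obtain ⟨k, hki, hkj⟩ := hthird i j
        rcases Finset.mem_union.1 ((hsame _ (hunion i k hki.symm)).2 (Finset.mem_union_left _ hi)) with h | h
        · exact Finset.disjoint_left.1 (hdisj i j hij) h hj
        · exact Finset.disjoint_left.1 (hdisj k j hkj) h hj
    obtain ⟨t₁, ht₁, h₁a, h₁b, h₁o⟩ := hflip 0 1 (by decide)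
    obtain ⟨t₂, ht₂, h₂a, h₂b, h₂o⟩ := hflip 2 3 (by decide)
    have hswap : ∀ i b, (t₁ * t₂) (f i b) = f i (!b) := by
      intro i b
      rw [Perm.mul_apply]
      fin_cases i
      · simp only [Fin.zero_eta]
        rw [h₂o _ (fun c e => absurd (hf _ _ _ _ e).1 (by decide)) (fun c e => absurd (hf _ _ _ _ e).1 (by decide))]
        exact h₁a b
      · simp only [Fin.mk_one]
        rw [h₂o _ (fun c e => absurd (hf _ _ _ _ e).1 (by decide)) (fun c e => absurd (hf _ _ _ _ e).1 (by decide))]
        exact h₁b b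
      · show t₁ (t₂ (f 2 b)) = f 2 (!b)
        rw [h₂a]
        exact h₁o _ (fun c e => absurd (hf _ _ _ _ e).1 (by decide)) (fun c e => absurd (hf _ _ _ _ e).1 (by decide))
      · show t₁ (t₂ (f 3 b)) = f 3 (!b)
        rw [h₂b]
        exact h₁o _ (fun c e => absurd (hf _ _ _ _ e).1 (by decide)) (fun c e => absurd (hf _ _ _ _ e).1 (by decide))
    have hfix : ∀ x, (∀ i b, f i b ≠ x) → (t₁ * t₂) x = x := fun x hx => by
      rw [Perm.mul_apply, h₂o x (fun b => (hx _ b).symm) (fun b => (hx _ b).symm),
        h₁o x (fun b => (hx _ b).symm) (fun b => (hx _ b).symm)]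
    refine false_of_normal hF hNn hN2 (I := Fin 4) (by simp) f hf (H.mul_mem ht₁ ht₂) ?_ hswap hfix
    refine ⟨fun x hx => hfix x fun i b e => hx (Finset.mem_biUnion.2 ⟨i, Finset.mem_univ _, e ▸ hPr i b⟩),
      fun S hS => ?_⟩
    by_cases h1 : ∀ i, (S ∩ Pr i).card = 1
    · refine Or.inr fun x hx => ?_
      obtain ⟨i, -, hi⟩ := Finset.mem_biUnion.1 hx
      obtain ⟨b, rfl⟩ := hmemPr.1 hi
      obtain ⟨z, hz⟩ := Finset.card_eq_one.1 (h1 i)
      have key : ∀ c, f i c ∈ S ↔ f i c = z := fun c => by
        rw [← Finset.mem_singleton, ← hz, Finset.mem_inter]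
        simp [hPr i c]
      obtain ⟨c, rfl⟩ := hmemPr.1 (Finset.mem_inter.1 (hz ▸ Finset.mem_singleton_self z : z ∈ S ∩ Pr i)).2
      show (t₁ * t₂) (f i b) ∈ S ↔ _
      rw [hswap, key, key]
      constructor
      · intro e e'; exact Bool.not_ne_self b (((hf _ _ _ _ e).2).trans (hf _ _ _ _ e').2.symm)
      · intro e
        have : b ≠ c := fun h => e (by rw [h])
        rw [Bool.eq_not_iff.2 this, Bool.not_not]
    · refine Or.inl fun x hx => ?_
      obtain ⟨i, -, hi⟩ := Finset.mem_biUnion.1 hx
      obtain ⟨b, rfl⟩ := hmemPr.1 hi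
      show (t₁ * t₂) (f i b) ∈ S ↔ _
      rw [hswap]
      have hne1 : (S ∩ Pr i).card ≠ 1 := fun e => h1 (hodd S hS i e)
      have hcases : (S ∩ Pr i).card = 2 ∨ (S ∩ Pr i).card = 0 := by have := hle2 S i; omega
      rcases hcases with e | e
      · exact iff_of_true (hfull S i e (hPr i _)) (hfull S i e (hPr i _))
      · exact iff_of_false (Finset.disjoint_right.1 (hnone S i e) (hPr i _))
          (Finset.disjoint_right.1 (hnone S i e) (hPr i _))
  · push Not at hexodd
    have heven : ∀ S, Supp H S → ∀ i, (S ∩ Pr i).card ≠ 1 := fun S hS i => hexodd S i hS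
    let good : ↥H → Prop := fun g => ∀ x, (∀ S, Supp H S → ((g : Perm α) x ∈ S ↔ x ∈ S)) ∧
      ((∀ S, Supp H S → x ∉ S) → (g : Perm α) x = x)
    let N : Subgroup ↥H :=
      { carrier := {g | good g}
        one_mem' := fun x => ⟨fun S _ => Iff.rfl, fun _ => rfl⟩
        mul_mem' := fun {g h} hg hh x => ⟨fun S hS => ((hg _).1 S hS).trans ((hh x).1 S hS), fun hx => by
          show (g : Perm α) ((h : Perm α) x) = x
          rw [(hh x).2 hx, (hg x).2 hx]⟩
        inv_mem' := fun {g} hg x => ⟨fun S hS => by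
            have := (hg ((g : Perm α)⁻¹ x)).1 S hS
            rw [apply_inv] at this
            exact this.symm, fun hx => by
            show (g : Perm α)⁻¹ x = x
            rw [Perm.inv_eq_iff_eq, (hg x).2 hx]⟩ }
    have hNn : N.Normal := by
      refine ⟨fun g hg k x => ⟨fun S hS => ?_, fun hx => ?_⟩⟩
      · have hmem : ∀ z, (k : Perm α) z ∈ S ↔ z ∈ S.map (k : Perm α)⁻¹.toEmbedding := fun z => by
          simp [Finset.mem_map_equiv, Perm.inv_def]
        show (k : Perm α) ((g : Perm α) ((k : Perm α)⁻¹ x)) ∈ S ↔ _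
        rw [hmem, (hg _).1 _ (hS.conj (H.inv_mem k.2)), ← hmem, apply_inv]
      · show (k : Perm α) ((g : Perm α) ((k : Perm α)⁻¹ x)) = x
        rw [(hg _).2 fun S hS h => hx _ (hS.conj k.2) (by simpa [Finset.mem_map_equiv] using h),
          apply_inv]
    have hcov : ∀ i b, ¬ ∀ S, Supp H S → f i b ∉ S := fun i b h =>
      h _ (hunion i (ι i) (hι i).symm) (Finset.mem_union_left _ (hPr i b))
    -- a point with the same supports as `x` is `x` or its unique partner
    have htwin : ∀ x, (∃ S, Supp H S ∧ x ∈ S) → ∃ w, ∀ z, (∀ S, Supp H S → (z ∈ S ↔ x ∈ S)) → z = x ∨ z = w := by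
      rintro x ⟨S, hS, hxS⟩
      by_cases hin : ∃ i b, x = f i b
      · obtain ⟨i, b, rfl⟩ := hin
        refine ⟨f i (!b), fun z hz => ?_⟩
        obtain ⟨k, hki, -⟩ := hthird i i
        obtain ⟨l, hli, hlk⟩ := hthird i k
        have hik := (hz _ (hunion i k hki.symm)).2 (Finset.mem_union_left _ (hPr i b))
        have hil := (hz _ (hunion i l hli.symm)).2 (Finset.mem_union_left _ (hPr i b))
        rw [Finset.mem_union] at hik hil
        have hzi : z ∈ Pr i := by
          rcases hik with h | h
          · exact h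
          · rcases hil with h' | h'
            · exact h'
            · exact absurd h' (Finset.disjoint_left.1 (hdisj k l hlk.symm) h)
        obtain ⟨c, rfl⟩ := hmemPr.1 hzi
        cases b <;> cases c <;> simp
      · push Not at hin
        obtain ⟨i, w, -, -, rfl⟩ := hsplit S hS x hxS hin (heven S hS)
        refine ⟨w, fun z hz => ?_⟩
        have hm := (hz _ hS).2 hxS
        simp only [Finset.mem_union, Finset.mem_insert, Finset.mem_singleton] at hm
        rcases hm with h | h
        · exact h
        · exfalso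
          obtain ⟨c, rfl⟩ := hmemPr.1 h
          rcases Finset.mem_union.1 ((hz _ (hunion i (ι i) (hι i).symm)).1 (Finset.mem_union_left _ (hPr i c)))
            with h' | h' <;>
          · obtain ⟨d, hd⟩ := hmemPr.1 h'
            exact hin _ _ hd
    have hN2 : ∀ g ∈ N, g * g = 1 := by
      intro g hg
      refine Subtype.ext (Equiv.ext fun x => ?_)
      show (g : Perm α) ((g : Perm α) x) = x
      by_cases hx : ∀ S, Supp H S → x ∉ S
      · rw [(hg x).2 hx, (hg x).2 hx]
      push Not at hx
      obtain ⟨w, hw⟩ := htwin x hx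
      rcases hw _ ((hg x).1) with e | e
      · rw [e, e]
      · rcases hw _ (fun S hS => ((hg _).1 S hS).trans ((hg x).1 S hS)) with e' | e'
        · exact e'
        · have : (g : Perm α) x = x := (g : Perm α).injective (e'.trans e.symm)
          rw [this, this]
    have i₀ : Fin m := ⟨0, by omega⟩
    obtain ⟨t, ht, hta, htb, hto⟩ := hflip i₀ (ι i₀) (hι i₀).symm
    let f' : Bool → Bool → α := fun q b => if q then f i₀ b else f (ι i₀) b
    refine false_of_normal hF hNn hN2 (I := Bool) (by simp) f' ?_ ht ?_ ?_ ?_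
    · intro q b q' b' e
      cases q <;> cases q' <;> simp only [f', if_true, Bool.false_eq_true, if_false] at e
      · exact ⟨rfl, (hf _ _ _ _ e).2⟩
      · exact absurd (hf _ _ _ _ e).1 (hι i₀)
      · exact absurd (hf _ _ _ _ e).1 (hι i₀).symm
      · exact ⟨rfl, (hf _ _ _ _ e).2⟩
    · intro x
      refine ⟨fun S hS => ?_, fun hx => hto x (fun b e => hcov i₀ b (e ▸ hx)) (fun b e => hcov _ b (e ▸ hx))⟩
      have hsame : ∀ i b c, (f i b ∈ S ↔ f i c ∈ S) := fun i b c => by
        have hcases : (S ∩ Pr i).card = 2 ∨ (S ∩ Pr i).card = 0 := by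
          have := hle2 S i; have := heven S hS i; omega
        rcases hcases with e | e
        · exact iff_of_true (hfull S i e (hPr i _)) (hfull S i e (hPr i _))
        · exact iff_of_false (Finset.disjoint_right.1 (hnone S i e) (hPr i _))
            (Finset.disjoint_right.1 (hnone S i e) (hPr i _))
      show t x ∈ S ↔ _
      by_cases ha : ∃ b, x = f i₀ b
      · obtain ⟨b, rfl⟩ := ha
        rw [hta]; exact hsame _ _ _
      by_cases hb : ∃ b, x = f (ι i₀) b
      · obtain ⟨b, rfl⟩ := hb
        rw [htb]; exact hsame _ _ _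
      push Not at ha hb
      rw [hto x ha hb]
    · intro q b
      cases q
      · exact htb b
      · exact hta b
    · intro x hx
      exact hto x (fun b => (hx true b).symm) (fun b => (hx false b).symm)

end CfsgLib.LocalEven.DoubleTransposition
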