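import Mathlib
import Cfsg.Prelude.Def_PLocal
import Cfsg.Agent.Lib.OddOrder.QuadraticSection

/-!
In a group generated by two quadratic elements every involution is central.
-/

set_option autoImplicit false
set_option linter.unusedSimpArgs false
set_option linter.unusedSectionVars false

namespace CfsgLib.LocalEven.QuadPair

section Algebra

variable {R : Type*} [Ring R]

theorem four_eq : (4 : R) = 1 + 1 + (1 + 1) := by norm_num

/-- Elements of the span of `1, x, y, x * y` over the centraliser of `{x, y}`, together with the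
mirror element built from `x' = 2 - x` and `y' = 2 - y`. -/
def Pair (x y : R) (g h : R) : Prop :=
  ∃ a b c d : R, (Commute a x ∧ Commute a y) ∧ (Commute b x ∧ Commute b y) ∧
    (Commute c x ∧ Commute c y) ∧ (Commute d x ∧ Commute d y) ∧
    g = a + b * x + c * y + d * (x * y) ∧
    h = a + b * (2 - x) + c * (2 - y) + d * ((2 - y) * (2 - x))

variable {x y : R} (hx : (x - 1) * (x - 1) = 0) (hy : (y - 1) * (y - 1) = 0)

/-- The central element attached to the pair. -/
def cen (x y : R) : R := x * y + (2 - y) * (2 - x)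

include hx in
theorem sq_eq : x * x = 2 * x - 1 := by
  have : x * x - (2 * x - 1) = 0 := by rw [← hx]; ((try simp only [← one_add_one_eq_two, four_eq]); noncomm_ring)
  exact sub_eq_zero.1 this

include hx in
theorem mul_inv' : x * (2 - x) = 1 := by
  rw [mul_sub, sq_eq hx]; ((try simp only [← one_add_one_eq_two, four_eq]); noncomm_ring)

include hx in
theorem inv_mul' : (2 - x) * x = 1 := by
  rw [sub_mul, sq_eq hx]; ((try simp only [← one_add_one_eq_two, four_eq]); noncomm_ring)

include hx in
theorem cen_comm_left : Commute (cen x y) x := by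
  show cen x y * x = x * cen x y
  have e1 : cen x y * x = x * y * x + (2 - y) * ((2 - x) * x) := by unfold cen; ((try simp only [← one_add_one_eq_two, four_eq]); noncomm_ring)
  have e2 : x * cen x y = (x * x) * y + 2 * (x * (2 - x)) - x * y * (2 - x) := by
    unfold cen; ((try simp only [← one_add_one_eq_two, four_eq]); noncomm_ring)
  rw [e1, e2, inv_mul' hx, mul_inv' hx, sq_eq hx]
  ((try simp only [← one_add_one_eq_two, four_eq]); noncomm_ring)

include hy in
theorem cen_comm_right : Commute (cen x y) y := by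
  show cen x y * y = y * cen x y
  have e1 : cen x y * y = x * (y * y) + (2 - y) * (2 - x) * y := by unfold cen; ((try simp only [← one_add_one_eq_two, four_eq]); noncomm_ring)
  have e2 : y * cen x y = y * x * y + y * (2 - y) * (2 - x) := by unfold cen; ((try simp only [← one_add_one_eq_two, four_eq]); noncomm_ring)
  have e3 : (2 - y) * (2 - x) * y = 4 * y - 2 * (x * y) - 2 * (y * y) + y * x * y := by ((try simp only [← one_add_one_eq_two, four_eq]); noncomm_ring)
  rw [e1, e2, e3, mul_inv' hy, sq_eq hy]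
  ((try simp only [← one_add_one_eq_two, four_eq]); noncomm_ring)

include hx hy in
theorem pair_mul_left {g h : R} (hp : Pair x y g h) : Pair x y (g * x) ((2 - x) * h) := by
  obtain ⟨a, b, c, d, ha, hb, hc, hd, rfl, rfl⟩ := hp
  have he : Commute (cen x y) x ∧ Commute (cen x y) y := ⟨cen_comm_left hx, cen_comm_right hy⟩
  have h4 : ∀ z : R, Commute (4 : R) z := fun z => Nat.cast_commute 4 z
  have h2 : ∀ z : R, Commute (2 : R) z := fun z => Nat.cast_commute 2 z
  refine ⟨-b + c * (cen x y - 4) - 2 * d, a + 2 * b + 2 * c + d * cen x y, 2 * c + d, -c,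
    ⟨?_, ?_⟩, ⟨?_, ?_⟩, ⟨?_, ?_⟩, ⟨hc.1.neg_left, hc.2.neg_left⟩, ?_, ?_⟩
  · exact ((hb.1.neg_left).add_left (hc.1.mul_left (he.1.sub_left (h4 x)))).sub_left
      ((h2 x).mul_left hd.1)
  · exact ((hb.2.neg_left).add_left (hc.2.mul_left (he.2.sub_left (h4 y)))).sub_left
      ((h2 y).mul_left hd.2)
  · exact ((ha.1.add_left ((h2 x).mul_left hb.1)).add_left ((h2 x).mul_left hc.1)).add_left
      (hd.1.mul_left he.1)
  · exact ((ha.2.add_left ((h2 y).mul_left hb.2)).add_left ((h2 y).mul_left hc.2)).add_left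
      (hd.2.mul_left he.2)
  · exact ((h2 x).mul_left hc.1).add_left hd.1
  · exact ((h2 y).mul_left hc.2).add_left hd.2
  · have e1 : y * x = cen x y - 4 + 2 * x + 2 * y - x * y := by unfold cen; ((try simp only [← one_add_one_eq_two, four_eq]); noncomm_ring)
    have e2 : x * y * x = y + cen x y * x - 2 := by
      have e : cen x y * x = x * y * x + (2 - y) * ((2 - x) * x) := by unfold cen; ((try simp only [← one_add_one_eq_two, four_eq]); noncomm_ring)
      rw [e, inv_mul' hx]; ((try simp only [← one_add_one_eq_two, four_eq]); noncomm_ring)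
    calc (a + b * x + c * y + d * (x * y)) * x
        = a * x + b * (x * x) + c * (y * x) + d * (x * y * x) := by ((try simp only [← one_add_one_eq_two, four_eq]); noncomm_ring)
      _ = _ := by rw [sq_eq hx, e1, e2]; ((try simp only [← one_add_one_eq_two, four_eq]); noncomm_ring)
  · have e0 : ∀ z : R, Commute z x → Commute z (2 - x) := fun z hz => (h2 z).symm.sub_right hz
    have e1 : (2 - x) * (2 - y) = cen x y - 4 + 2 * (2 - x) + 2 * (2 - y) - (2 - y) * (2 - x) := by
      unfold cen; ((try simp only [← one_add_one_eq_two, four_eq]); noncomm_ring)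
    have e2 : (2 - x) * ((2 - y) * (2 - x)) = (2 - y) + cen x y * (2 - x) - 2 := by
      have e : (2 - x) * cen x y = (2 - x) * x * y + (2 - x) * ((2 - y) * (2 - x)) := by
        unfold cen; ((try simp only [← one_add_one_eq_two, four_eq]); noncomm_ring)
      rw [(e0 _ he.1).eq, e, inv_mul' hx]; ((try simp only [← one_add_one_eq_two, four_eq]); noncomm_ring)
    have e3 : (2 - x) * (2 - x) = 2 * (2 - x) - 1 := by
      rw [sub_mul, mul_inv' hx]
    calc (2 - x) * (a + b * (2 - x) + c * (2 - y) + d * ((2 - y) * (2 - x)))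
        = a * (2 - x) + b * ((2 - x) * (2 - x)) + c * ((2 - x) * (2 - y))
            + d * ((2 - x) * ((2 - y) * (2 - x))) := by
          rw [mul_add, mul_add, mul_add, ← (e0 a ha.1).eq, ← mul_assoc _ b, ← (e0 b hb.1).eq,
            ← mul_assoc _ c, ← (e0 c hc.1).eq, ← mul_assoc _ d, ← (e0 d hd.1).eq, mul_assoc,
            mul_assoc, mul_assoc]
      _ = _ := by rw [e3, e1, e2]; ((try simp only [← one_add_one_eq_two, four_eq]); noncomm_ring)

include hx hy in
theorem pair_mul_right {g h : R} (hp : Pair x y g h) : Pair x y (g * y) ((2 - y) * h) := by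
  obtain ⟨a, b, c, d, ha, hb, hc, hd, rfl, rfl⟩ := hp
  have h2 : ∀ z : R, Commute (2 : R) z := fun z => Nat.cast_commute 2 z
  refine ⟨-c, -d, a + 2 * c, b + 2 * d, ⟨hc.1.neg_left, hc.2.neg_left⟩,
    ⟨hd.1.neg_left, hd.2.neg_left⟩, ⟨ha.1.add_left ((h2 x).mul_left hc.1),
      ha.2.add_left ((h2 y).mul_left hc.2)⟩, ⟨hb.1.add_left ((h2 x).mul_left hd.1),
      hb.2.add_left ((h2 y).mul_left hd.2)⟩, ?_, ?_⟩
  · calc (a + b * x + c * y + d * (x * y)) * y
        = a * y + b * (x * y) + c * (y * y) + d * (x * (y * y)) := by ((try simp only [← one_add_one_eq_two, four_eq]); noncomm_ring)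
      _ = _ := by rw [sq_eq hy]; ((try simp only [← one_add_one_eq_two, four_eq]); noncomm_ring)
  · have e0 : ∀ z : R, Commute z y → Commute z (2 - y) := fun z hz => (h2 z).symm.sub_right hz
    have e3 : (2 - y) * (2 - y) = 2 * (2 - y) - 1 := by
      rw [sub_mul, mul_inv' hy]
    calc (2 - y) * (a + b * (2 - x) + c * (2 - y) + d * ((2 - y) * (2 - x)))
        = a * (2 - y) + b * ((2 - y) * (2 - x)) + c * ((2 - y) * (2 - y))
            + d * ((2 - y) * (2 - y) * (2 - x)) := by
          rw [mul_add, mul_add, mul_add, ← (e0 a ha.2).eq, ← mul_assoc _ b, ← (e0 b hb.2).eq,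
            ← mul_assoc _ c, ← (e0 c hc.2).eq, ← mul_assoc _ d, ← (e0 d hd.2).eq, mul_assoc,
            mul_assoc, mul_assoc, ← mul_assoc (2 - y) (2 - y)]
      _ = _ := by rw [e3]; ((try simp only [← one_add_one_eq_two, four_eq]); noncomm_ring)

theorem pair_lin {g h g' h' : R} (hp : Pair x y g h) (hq : Pair x y g' h') :
    Pair x y (2 * g - g') (2 * h - h') := by
  obtain ⟨a, b, c, d, ha, hb, hc, hd, rfl, rfl⟩ := hp
  obtain ⟨a', b', c', d', ha', hb', hc', hd', rfl, rfl⟩ := hq
  have h2 : ∀ z : R, Commute (2 : R) z := fun z => Nat.cast_commute 2 z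
  refine ⟨2 * a - a', 2 * b - b', 2 * c - c', 2 * d - d',
    ⟨((h2 x).mul_left ha.1).sub_left ha'.1, ((h2 y).mul_left ha.2).sub_left ha'.2⟩,
    ⟨((h2 x).mul_left hb.1).sub_left hb'.1, ((h2 y).mul_left hb.2).sub_left hb'.2⟩,
    ⟨((h2 x).mul_left hc.1).sub_left hc'.1, ((h2 y).mul_left hc.2).sub_left hc'.2⟩,
    ⟨((h2 x).mul_left hd.1).sub_left hd'.1, ((h2 y).mul_left hd.2).sub_left hd'.2⟩, ?_, ?_⟩
  · ((try simp only [← one_add_one_eq_two, four_eq]); noncomm_ring)
  · ((try simp only [← one_add_one_eq_two, four_eq]); noncomm_ring)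

include hx hy in
theorem commute_sum {g h : R} (hp : Pair x y g h) : Commute (g + h) x ∧ Commute (g + h) y := by
  obtain ⟨a, b, c, d, ha, hb, hc, hd, rfl, rfl⟩ := hp
  have h2 : ∀ z : R, Commute (2 : R) z := fun z => Nat.cast_commute 2 z
  have e : a + b * x + c * y + d * (x * y) + (a + b * (2 - x) + c * (2 - y) + d * ((2 - y) * (2 - x)))
      = 2 * a + b * 2 + c * 2 + d * cen x y := by unfold cen; ((try simp only [← one_add_one_eq_two, four_eq]); noncomm_ring)
  rw [e]
  exact ⟨((((h2 x).mul_left ha.1).add_left (hb.1.mul_left (h2 x))).add_left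
      (hc.1.mul_left (h2 x))).add_left (hd.1.mul_left (cen_comm_left hx)),
    ((((h2 y).mul_left ha.2).add_left (hb.2.mul_left (h2 y))).add_left
      (hc.2.mul_left (h2 y))).add_left (hd.2.mul_left (cen_comm_right hy))⟩

end Algebra

/-- In the image of a group generated by two quadratic elements every involution commutes with
them, provided the ring has no `2`-torsion. -/
theorem involution_commute {X : Type*} [Group X] {R : Type*} [Ring R] (ρ : X →* R)
    (htor : ∀ r : R, r + r = 0 → r = 0) {x y : X} (hx : (ρ x - 1) * (ρ x - 1) = 0)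
    (hy : (ρ y - 1) * (ρ y - 1) = 0) {g : X} (hg : g ∈ Subgroup.closure ({x, y} : Set X))
    (hg2 : ρ g * ρ g = 1) : Commute (ρ g) (ρ x) ∧ Commute (ρ g) (ρ y) := by
  have hinv : ∀ z : X, (ρ z - 1) * (ρ z - 1) = 0 → ρ z⁻¹ = 2 - ρ z := fun z hz =>
    left_inv_eq_right_inv (by rw [← map_mul, inv_mul_cancel, map_one]) (mul_inv' hz)
  have key : Pair (ρ x) (ρ y) (ρ g) (ρ g⁻¹) := by
    clear hg2
    induction hg using Subgroup.closure_induction_right with
    | one =>
      exact ⟨1, 0, 0, 0, ⟨Commute.one_left _, Commute.one_left _⟩,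
        ⟨Commute.zero_left _, Commute.zero_left _⟩, ⟨Commute.zero_left _, Commute.zero_left _⟩,
        ⟨Commute.zero_left _, Commute.zero_left _⟩, by simp, by simp⟩
    | mul_right z _ s hs ih =>
      rcases hs with rfl | rfl
      · rw [map_mul, mul_inv_rev, map_mul, hinv _ hx]
        exact pair_mul_left hx hy ih
      · rw [map_mul, mul_inv_rev, map_mul, hinv _ hy]
        exact pair_mul_right hx hy ih
    | mul_inv_cancel z _ s hs ih =>
      rcases hs with rfl | rfl
      · have h := pair_lin ih (pair_mul_left hx hy ih)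
        convert h using 1
        · rw [map_mul, hinv _ hx]; ((try simp only [← one_add_one_eq_two, four_eq]); noncomm_ring)
        · rw [mul_inv_rev, inv_inv, map_mul]; ((try simp only [← one_add_one_eq_two, four_eq]); noncomm_ring)
      · have h := pair_lin ih (pair_mul_right hx hy ih)
        convert h using 1
        · rw [map_mul, hinv _ hy]; ((try simp only [← one_add_one_eq_two, four_eq]); noncomm_ring)
        · rw [mul_inv_rev, inv_inv, map_mul]; ((try simp only [← one_add_one_eq_two, four_eq]); noncomm_ring)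
  obtain ⟨h1, h2⟩ := commute_sum hx hy key
  have e : ρ g⁻¹ = ρ g := left_inv_eq_right_inv (by rw [← map_mul, inv_mul_cancel, map_one]) hg2
  rw [e] at h1 h2
  constructor
  · refine sub_eq_zero.1 (htor _ ?_)
    have := sub_eq_zero.2 h1.eq
    rw [← this]; ((try simp only [← one_add_one_eq_two, four_eq]); noncomm_ring)
  · refine sub_eq_zero.1 (htor _ ?_)
    have := sub_eq_zero.2 h2.eq
    rw [← this]; ((try simp only [← one_add_one_eq_two, four_eq]); noncomm_ring)

end CfsgLib.LocalEven.QuadPair
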