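import Mathlib
import Cfsg.Agent.Lib.LocalEven.QuadInvolution
import Cfsg.Agent.Lib.OddOrder.QuadraticSection
import Cfsg.Agent.Lib.PGroups.Basic

/-!
A quadratic element on an irreducible module of odd characteristic has a centralizer of even order.
-/

set_option autoImplicit false
set_option linter.style.haveILetI false

namespace CfsgLib.LocalEven.QuadPair

open Subgroup
open scoped commutatorElement

universe u

variable {p : ℕ} [hp : Fact p.Prime] {W : Type u} [CommGroup W] [Finite W]

/-- `W` as a module for its automorphism group. -/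
def endRep (W : Type u) [CommGroup W] : MulAut W →* AddMonoid.End (Additive W) where
  toFun φ := MonoidHom.toAdditive φ.toMonoidHom
  map_one' := rfl
  map_mul' _ _ := rfl

theorem endRep_injective : Function.Injective (endRep W) := fun φ ψ h =>
  MulEquiv.ext fun v =>
    congrArg Additive.toMul (DFunLike.congr_fun h (Additive.ofMul v))

theorem endRep_quad {φ : MulAut W} (h : ∀ v, φ (φ v) * v = φ v * φ v) :
    (endRep W φ - 1) * (endRep W φ - 1) = 0 := by
  refine AddMonoidHom.ext fun v => ?_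
  show endRep W φ (endRep W φ v - v) - (endRep W φ v - v) = 0
  have h1 : endRep W φ (endRep W φ v) + v = endRep W φ v + endRep W φ v :=
    congrArg Additive.ofMul (h v.toMul)
  rw [map_sub, sub_sub_sub_comm, sub_eq_zero, sub_eq_sub_iff_add_eq_add]
  exact h1

omit hp in
theorem quad_conj_aut {φ : MulAut W} (h : ∀ v, φ (φ v) * v = φ v * φ v) (g : MulAut W) (v : W) :
    (g * φ * g⁻¹) ((g * φ * g⁻¹) v) * v = (g * φ * g⁻¹) v * (g * φ * g⁻¹) v := by
  simp only [MulAut.mul_apply]
  have h1 := congrArg g (h (g⁻¹ v))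
  rw [map_mul, map_mul, MulAut.apply_inv_self] at h1
  simpa [MulAut.inv_apply_self] using h1

omit [Finite W] in
/-- The action equation gives the vanishing double commutator. -/
theorem quad_bot {G : Type*} [Group G] {V : Subgroup G} (hV : IsMulCommutative V) {a : G}
    (ha : a ∈ normalizer (V : Set G))
    (h : ∀ v ∈ V, a * (a * v * a⁻¹) * a⁻¹ * v = a * v * a⁻¹ * (a * v * a⁻¹)) :
    ⁅⁅V, zpowers a⁆, zpowers a⁆ = ⊥ := by
  rw [commutator_eq_bot_iff_le_centralizer, commutator_comm, commutator_le]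
  intro k hk v hv
  let F : Subgroup G :=
    { carrier := {k | k ∈ normalizer (V : Set G) ∧ ∀ w ∈ V, ⁅k, w⁆ ∈ V ⊓ centralizer ({a} : Set G)}
      one_mem' := ⟨one_mem _, fun w _ => by rw [commutatorElement_one_left]; exact one_mem _⟩
      mul_mem' := fun {s t} hs ht => ⟨mul_mem hs.1 ht.1, fun w hw => by
        rw [show ⁅s * t, w⁆ = ⁅s, t * w * t⁻¹⁆ * ⁅t, w⁆ by
          simp only [commutatorElement_def]; group]
        exact mul_mem (hs.2 _ ((mem_normalizer_iff.1 ht.1 w).1 hw)) (ht.2 w hw)⟩
      inv_mem' := fun {s} hs => ⟨inv_mem hs.1, fun w hw => by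
        rw [show ⁅s⁻¹, w⁆ = ⁅s, s⁻¹ * w * s⁆⁻¹ by simp only [commutatorElement_def]; group]
        refine inv_mem (hs.2 _ ?_)
        simpa using (mem_normalizer_iff.1 (inv_mem hs.1) w).1 hw⟩ }
  have haF : a ∈ F := ⟨ha, fun w hw => by
    have h1 : a * w * a⁻¹ ∈ V := (mem_normalizer_iff.1 ha w).1 hw
    have h2 : a * (a * w * a⁻¹) * a⁻¹ ∈ V := (mem_normalizer_iff.1 ha _).1 h1
    refine ⟨by rw [commutatorElement_def]; exact V.mul_mem h1 (V.inv_mem hw),
      mem_centralizer_singleton_iff.2 ?_⟩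
    have h3 : w⁻¹ * (a * w * a⁻¹) = a * w * a⁻¹ * w⁻¹ := by
      simpa using congrArg Subtype.val (hV.is_comm.comm ⟨w⁻¹, inv_mem hw⟩ ⟨_, h1⟩)
    have e : a * ⁅a, w⁆ * a⁻¹ = ⁅a, w⁆ := by
      calc a * ⁅a, w⁆ * a⁻¹
          = a * (a * w * a⁻¹) * a⁻¹ * w * w⁻¹ * (a * w * a⁻¹)⁻¹ := by
            simp only [commutatorElement_def]; group
        _ = a * w * a⁻¹ * (a * w * a⁻¹) * w⁻¹ * (a * w * a⁻¹)⁻¹ := by rw [h w hw]
        _ = a * w * a⁻¹ * ((a * w * a⁻¹) * w⁻¹) * (a * w * a⁻¹)⁻¹ := by group
        _ = a * w * a⁻¹ * (w⁻¹ * (a * w * a⁻¹)) * (a * w * a⁻¹)⁻¹ := by rw [h3]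
        _ = _ := by simp only [commutatorElement_def]; group
    calc ⁅a, w⁆ * a = a * ⁅a, w⁆ * a⁻¹ * a := by rw [e]
      _ = _ := by group⟩
  have hkF := ((zpowers_le.2 haF) hk).2 v hv
  obtain ⟨n, rfl⟩ := mem_zpowers_iff.1 hk
  refine mem_centralizer_iff.2 fun b hb => ?_
  obtain ⟨m, rfl⟩ := mem_zpowers_iff.1 hb
  exact ((show Commute a ⁅a ^ n, v⁆ from
    (mem_centralizer_singleton_iff.1 hkF.2).symm).zpow_left m).eq

/-- The group generated by two quadratic automorphisms is a `p`-group or has even order. -/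
theorem isPGroup_or_even (hp2 : p ≠ 2) (hW : ∀ v : W, v ^ p = 1) {a b : MulAut W}
    (ha : ∀ v, a (a v) * v = a v * a v) (hb : ∀ v, b (b v) * v = b v * b v) :
    IsPGroup p (closure ({a, b} : Set (MulAut W))) ∨
      2 ∣ Nat.card (closure ({a, b} : Set (MulAut W))) := by
  set X := closure ({a, b} : Set (MulAut W)) with hX
  let S := SemidirectProduct W X X.subtype
  haveI : Finite S := Finite.of_equiv _ SemidirectProduct.equivProd.symm
  let V : Subgroup S := (SemidirectProduct.inl : W →* S).range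
  have haX : a ∈ X := subset_closure (Or.inl rfl)
  have hbX : b ∈ X := subset_closure (Or.inr rfl)
  let ai : S := SemidirectProduct.inr ⟨a, haX⟩
  let bi : S := SemidirectProduct.inr ⟨b, hbX⟩
  haveI hVn : V.Normal := by
    rw [show V = (SemidirectProduct.rightHom : S →* X).ker from
      SemidirectProduct.range_inl_eq_ker_rightHom]
    infer_instance
  have hVc : IsMulCommutative V := ⟨⟨fun s t => by
    obtain ⟨_, s, rfl⟩ := s
    obtain ⟨_, t, rfl⟩ := t
    refine Subtype.ext ?_
    show SemidirectProduct.inl s * SemidirectProduct.inl t =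
      SemidirectProduct.inl t * SemidirectProduct.inl s
    rw [← map_mul, mul_comm, map_mul]⟩⟩
  have hVe : Cfsg.IsElementaryAbelian p V := ⟨hVc, by
    rintro _ ⟨v, rfl⟩
    rw [← map_pow, hW, map_one]⟩
  have hconj : ∀ (x : X) (v : W), SemidirectProduct.inr x * SemidirectProduct.inl v *
      (SemidirectProduct.inr x : S)⁻¹ = SemidirectProduct.inl ((x : MulAut W) v) := fun x v => by
    rw [← map_inv, ← SemidirectProduct.inl_aut]
    rfl
  have hquad : ∀ (x : X), (∀ v, (x : MulAut W) ((x : MulAut W) v) * v =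
      (x : MulAut W) v * (x : MulAut W) v) →
      ⁅⁅V, zpowers (SemidirectProduct.inr x : S)⁆, zpowers (SemidirectProduct.inr x : S)⁆ = ⊥ := by
    intro x hx
    refine quad_bot hVc (by rw [normalizer_eq_top]; exact mem_top _) ?_
    rintro _ ⟨v, rfl⟩
    rw [hconj, hconj, ← map_mul, ← map_mul, hx v]
  have hnorm : (SemidirectProduct.inr : X →* S).range ≤ normalizer (V : Set S) := by
    rw [normalizer_eq_top]; exact le_top
  have hf : (SemidirectProduct.inr : X →* S).range ⊓ centralizer (V : Set S) = ⊥ := by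
    rw [eq_bot_iff]
    rintro _ ⟨⟨x, rfl⟩, hc⟩
    have : (x : MulAut W) = 1 := MulEquiv.ext fun v => SemidirectProduct.inl_injective (φ := X.subtype) (by
      rw [← hconj, ← hc _ ⟨v, rfl⟩, mul_inv_cancel_right]
      rfl)
    rw [mem_bot, show x = 1 from Subtype.ext this, map_one]
  have hmap : (closure ({ai, bi} : Set S)) = (⊤ : Subgroup X).map SemidirectProduct.inr := by
    have hgen : closure ({⟨a, haX⟩, ⟨b, hbX⟩} : Set X) = ⊤ := by
      apply map_injective X.subtype_injective
      rw [MonoidHom.map_closure, ← MonoidHom.range_eq_map, range_subtype, Set.image_pair]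
      rfl
    rw [← hgen, MonoidHom.map_closure, Set.image_pair]
  have hcard : Nat.card (closure ({ai, bi} : Set S)) = Nat.card X := by
    rw [hmap, ← Nat.card_congr ((⊤ : Subgroup X).equivMapOfInjective _
      SemidirectProduct.inr_injective).toEquiv, card_top]
  rcases CfsgLib.OddOrder.isPGroup_or_involves hp2 hVe hnorm hf (a := ai) (b := bi)
    ⟨_, rfl⟩ ⟨_, rfl⟩ (hquad _ ha) (hquad _ hb) with h | h
  · obtain ⟨k, hk⟩ := IsPGroup.iff_card.1 h
    exact Or.inl (IsPGroup.of_card (n := k) (hcard ▸ hk))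
  · exact Or.inr (hcard ▸ CfsgLib.OddOrder.InvolvesSL2.two_dvd_card hp2 h)

/-- An irreducible group of automorphisms of a `p`-group of exponent `p` has trivial `O_p`. -/
theorem pCore_range_eq_bot {G : Type*} [Group G] [Finite G] (hW : ∀ v : W, v ^ p = 1)
    [Nontrivial W] (φ : G →* MulAut W)
    (hirr : ∀ U : Subgroup W, (∀ g, ∀ v ∈ U, φ g v ∈ U) → U = ⊥ ∨ U = ⊤) :
    Cfsg.pCore p φ.range = ⊥ := by
  haveI : Finite φ.range := Finite.of_surjective φ.rangeRestrict φ.rangeRestrict_surjective
  set H := φ.range with hH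
  set R := Cfsg.pCore p H with hR
  have hRp : IsPGroup p R := CfsgLib.Base.isPGroup_pCore p H
  have hRn : R.Normal := Cfsg.pCore_normal p H
  let F : Subgroup W :=
    { carrier := {v | ∀ r ∈ R, (r : MulAut W) v = v}
      one_mem' := fun r _ => map_one _
      mul_mem' := fun {u v} hu hv r hr => by rw [map_mul, hu r hr, hv r hr]
      inv_mem' := fun {u} hu r hr => by rw [map_inv, hu r hr] }
  have hWp : IsPGroup p W := fun v => ⟨1, by rw [pow_one]; exact hW v⟩
  have hF : F ≠ ⊥ := by
    have h1 : (1 : W) ∈ MulAction.fixedPoints R W := fun r => map_one ((r : H) : MulAut W)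
    obtain ⟨z, hz, hzne⟩ := hRp.exists_fixed_point_of_prime_dvd_card_of_fixed_point (α := W)
      (hWp.card_eq_or_dvd.resolve_left (Finite.one_lt_card).ne') h1
    intro hb
    refine hzne (mem_bot.1 (hb ▸ (fun r hr => hz ⟨r, hr⟩ : z ∈ F))).symm
  have hFtop := (hirr F fun g v hv r hr => by
    have h2 := hv _ (hRn.conj_mem' r hr ⟨φ g, g, rfl⟩)
    have h3 := congrArg (φ g) h2
    simpa using h3).resolve_left hF
  refine (eq_bot_iff).2 fun r hr => mem_bot.2 (Subtype.ext (MulEquiv.ext fun v => ?_))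
  have hv : v ∈ F := hFtop ▸ mem_top v
  simpa using hv r hr

/-- A quadratic element on an irreducible module: its centralizer is proper of even order. -/
theorem even_centralizer (hp2 : p ≠ 2) {G : Type*} [Group G] [Finite G] (hW : ∀ v : W, v ^ p = 1)
    [Nontrivial W] (φ : G →* MulAut W)
    (hirr : ∀ U : Subgroup W, (∀ g, ∀ v ∈ U, φ g v ∈ U) → U = ⊥ ∨ U = ⊤) {a : G}
    (hap : ∃ k, φ a ^ p ^ k = 1) (ha1 : φ a ≠ 1)
    (hq : ∀ v, φ a (φ a v) * v = φ a v * φ a v) :
    (centralizer ({φ a} : Set (MulAut W))).comap φ ≠ ⊤ ∧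
      2 ∣ Nat.card ((centralizer ({φ a} : Set (MulAut W))).comap φ) := by
  set H := φ.range with hH
  haveI : Finite H := Finite.of_surjective φ.rangeRestrict φ.rangeRestrict_surjective
  have hcore : Cfsg.pCore p H = ⊥ := pCore_range_eq_bot hW φ hirr
  set x : H := ⟨φ a, a, rfl⟩ with hx
  have hxp : ∃ k, x ^ p ^ k = 1 := hap.imp fun k hk => Subtype.ext (by simpa using hk)
  constructor
  · intro htop
    refine ha1 ?_
    have hc : ∀ y : H, y * x = x * y := by
      rintro ⟨_, g, rfl⟩
      have hg : g ∈ (centralizer ({φ a} : Set (MulAut W))).comap φ := htop ▸ mem_top g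
      exact Subtype.ext (mem_centralizer_singleton_iff.1 hg)
    haveI : (zpowers x).Normal := ⟨fun y hy g => by
      obtain ⟨n, rfl⟩ := mem_zpowers_iff.1 hy
      rw [((show Commute g x from hc g).zpow_right n).eq, mul_inv_cancel_right]
      exact zpow_mem (mem_zpowers x) n⟩
    have hzp : IsPGroup p (zpowers x) := by
      obtain ⟨k, hk⟩ := hxp
      obtain ⟨i, -, hi⟩ := (Nat.dvd_prime_pow hp.out).1 (orderOf_dvd_of_pow_eq_one hk)
      exact IsPGroup.of_card (n := i) (by rw [Nat.card_zpowers, hi])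
    have := CfsgLib.Base.le_pCore hzp (mem_zpowers x)
    rw [hcore, mem_bot] at this
    exact congrArg Subtype.val this
  · have hne : ∃ g : H, ¬ IsPGroup p (closure ({x, g * x * g⁻¹} : Set H)) := by
      by_contra hall
      push Not at hall
      have := CfsgLib.OddOrder.mem_pCore_of_pairs x hall
      rw [hcore, mem_bot] at this
      exact ha1 (congrArg Subtype.val this)
    obtain ⟨⟨g, hgH⟩, hg⟩ := hne
    have hmap : (closure ({x, (⟨g, hgH⟩ : H) * x * (⟨g, hgH⟩ : H)⁻¹} : Set H)).map H.subtype =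
        closure ({φ a, g * φ a * g⁻¹} : Set (MulAut W)) := by
      rw [MonoidHom.map_closure, Set.image_pair]
      rfl
    rcases isPGroup_or_even hp2 hW hq (quad_conj_aut hq g) with h | h
    · exfalso
      rw [← hmap] at h
      exact hg (h.of_equiv (equivMapOfInjective _ _ H.subtype_injective).symm)
    set X := closure ({φ a, g * φ a * g⁻¹} : Set (MulAut W))
    have hXH : X ≤ H := by rw [← hmap]; exact map_subtype_le _
    haveI : Finite X := Finite.of_injective (inclusion hXH) (inclusion_injective hXH)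
    obtain ⟨z, hz⟩ := exists_prime_orderOf_dvd_card' 2 h
    have hz2 : endRep W (z : MulAut W) * endRep W (z : MulAut W) = 1 := by
      rw [← map_mul, ← pow_two, ← hz, ← SubmonoidClass.coe_pow, pow_orderOf_eq_one]
      exact map_one _
    have htor : ∀ r : AddMonoid.End (Additive W), r + r = 0 → r = 0 := by
      intro r hr
      refine AddMonoidHom.ext fun v => ?_
      have h1 : (r v).toMul ^ 2 = 1 := by
        rw [pow_two]; exact congrArg Additive.toMul (DFunLike.congr_fun hr v)
      have hco : Nat.Coprime 2 p := (Nat.coprime_primes Nat.prime_two hp.out).2 (Ne.symm hp2)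
      have h2 := pow_gcd_eq_one.mpr ⟨h1, hW (r v).toMul⟩
      rw [hco.gcd_eq_one, pow_one] at h2
      exact Additive.toMul.injective h2
    have hcom := (involution_commute (endRep W) htor (endRep_quad hq)
      (endRep_quad (quad_conj_aut hq g)) z.2 hz2).1
    have hcom' : (z : MulAut W) * φ a = φ a * z := endRep_injective (by
      rw [map_mul, map_mul]; exact hcom.eq)
    obtain ⟨l, hl⟩ := hXH z.2
    have hlL : l ∈ (centralizer ({φ a} : Set (MulAut W))).comap φ := by
      rw [mem_comap, mem_centralizer_singleton_iff, hl, hcom']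
    have h2 : 2 ∣ orderOf l := by
      have h3 : orderOf (z : MulAut W) ∣ orderOf l := hl ▸ orderOf_map_dvd φ l
      rwa [orderOf_coe, hz] at h3
    rw [show orderOf l = orderOf (⟨l, hlL⟩ : (centralizer ({φ a} : Set (MulAut W))).comap φ) from
      Subgroup.orderOf_coe (⟨l, hlL⟩ : (centralizer ({φ a} : Set (MulAut W))).comap φ)] at h2
    exact h2.trans (orderOf_dvd_natCard _)

end CfsgLib.LocalEven.QuadPair
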