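import Cfsg.Prelude.Def_Transfer
import Cfsg.Agent.Lib.PSL2.Dickson

/-!
Sylow subgroups extraspecial of order `p ^ 3`, exponent `p`: automizers of the maximal
abelian subgroups and the resulting bound on `p`.
-/

set_option autoImplicit false
set_option linter.style.haveILetI false

namespace CfsgLib.LocalEven.ExtraAut

open Matrix MulAction
open scoped LinearAlgebra.Projectivization

/-! ### Counting fixed points -/

section FixedPoints

variable {p : ℕ} [Fact p.Prime]

set_option maxRecDepth 10000 in
theorem perm_four_small : ∀ g : Equiv.Perm (Fin 4), g ^ 3 = 1 ∨ g ^ 4 = 1 := by decide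

set_option maxRecDepth 10000 in
theorem perm_four_order_four :
    (Finset.univ.filter fun g : Equiv.Perm (Fin 4) => g ^ 2 ≠ 1 ∧ g ^ 3 ≠ 1).card = 6 := by decide

set_option maxRecDepth 10000 in
theorem alt_five_small : ∀ g : alternatingGroup (Fin 5), g ^ 2 = 1 ∨ g ^ 3 = 1 ∨ g ^ 5 = 1 := by decide

set_option maxRecDepth 10000 in
theorem alt_four_small : ∀ g : alternatingGroup (Fin 4), g ^ 2 = 1 ∨ g ^ 3 = 1 := by decide

theorem dihedral_comm {n : ℕ} {x y : DihedralGroup n} (hx : x * x ≠ 1) (hy : y * y ≠ 1) :
    x * y = y * x := by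
  cases x with
  | sr i => exact absurd (DihedralGroup.sr_mul_self i) hx
  | r i =>
    cases y with
    | sr j => exact absurd (DihedralGroup.sr_mul_self j) hy
    | r j => simp [add_comm]

/-- In a `p'`-subgroup of `PGL₂(p)` an element of order at least six has the same fixed points as any other. -/
theorem fixed_bound {G : Type*} [Group G] [Finite G]
    (φ : G →* Matrix.ProjGenLinGroup (Fin 2) (ZMod p)) (hp' : ¬ p ∣ Nat.card φ.range)
    {ι : Type*} [Fintype ι] (x : ι → ℙ (ZMod p) (Fin 2 → ZMod p)) (hx : Function.Injective x)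
    (h : ι → G) (hfix : ∀ i, φ (h i) • x i = x i) :
    ((∀ i, 6 ≤ orderOf (φ (h i))) → Fintype.card ι ≤ 2) ∧
      ((∀ i, 4 ∣ orderOf (φ (h i))) → Fintype.card ι ≤ 12) := by
  classical
  have hP : CfsgLib.PSL2.P1Like p (Matrix.ProjGenLinGroup (Fin 2) (ZMod p)) (ℙ (ZMod p) (Fin 2 → ZMod p)) :=
    CfsgLib.PSL2.p1Like_pgl p
  let y : ι → φ.range := fun i => ⟨φ (h i), h i, rfl⟩
  have hord : ∀ i, orderOf (y i) = orderOf (φ (h i)) := fun i => (Subgroup.orderOf_coe (y i)).symm
  have hfib : ∀ i, φ (h i) ≠ 1 → ∀ j k, φ (h i) • x j = x j → φ (h i) • x k = x k →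
      i = j ∨ i = k ∨ j = k := by
    intro i hi j k hj hk
    by_contra hcon
    push Not at hcon
    exact hi (hP.sharp (hx.ne hcon.1) (hx.ne hcon.2.1) (hx.ne hcon.2.2) (hfix i) hj hk)
  have hcommcase : (∀ i, 3 ≤ orderOf (y i)) → (∀ i j, y i * y j = y j * y i) → Fintype.card ι ≤ 2 := by
    intro h3 hc
    have hne : ∀ i, φ (h i) ≠ 1 ∧ φ (h i) * φ (h i) ≠ 1 := by
      intro i
      have := (hord i).symm ▸ h3 i
      constructor
      · intro e; rw [e, orderOf_one] at this; omega
      · intro e
        have := Nat.le_of_dvd two_pos (orderOf_dvd_of_pow_eq_one ((pow_two _).trans e))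
        omega
    by_contra hcard
    push Not at hcard
    obtain ⟨i, j, k, hij, hik, hjk⟩ := Fintype.two_lt_card_iff.1 hcard
    have key : ∀ j k : ι, j ≠ i → φ (h j) • x i ≠ x i → k ≠ i → k ≠ j → False := by
      intro j k hji hmove hki hkj
      have hc' : φ (h i) * φ (h j) = φ (h j) * φ (h i) := congrArg Subtype.val (hc i j)
      have h1 : φ (h i) • x j = x j ∨ φ (h i) • x j ≠ x j := em _
      -- the second fixed point of `h i`
      have hb : φ (h i) • (φ (h j) • x i) = φ (h j) • x i := by
        rw [← mul_smul, hc', mul_smul, hfix]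
      have hc2 : φ (h i) • (φ (h j) • (φ (h j) • x i)) = φ (h j) • (φ (h j) • x i) := by
        rw [← mul_smul, hc', mul_smul, hb]
      by_cases hback : φ (h j) • (φ (h j) • x i) = x i
      · exact (hne j).2 (hP.swap_sq (Ne.symm hmove) rfl hback)
      · refine (hne i).1 (hP.sharp (Ne.symm hmove) (Ne.symm hback) ?_ (hfix i) hb hc2)
        intro e
        exact hmove (MulAction.injective (φ (h j)) e).symm
    have fixi : ∀ j, j ≠ i → φ (h i) • x j = x j := by
      intro j hji
      have hji' : φ (h j) • x i = x i := by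
        by_contra hmove
        obtain ⟨k, hki, hkj⟩ : ∃ k, k ≠ i ∧ k ≠ j := by
          rcases eq_or_ne j k with rfl | hne'
          · exact ⟨_, hij.symm, hjk⟩
          · exact ⟨k, hik.symm, hne'.symm⟩
        exact key j k hji hmove hki hkj
      have hc' : φ (h i) * φ (h j) = φ (h j) * φ (h i) := congrArg Subtype.val (hc i j)
      have hb : φ (h j) • (φ (h i) • x j) = φ (h i) • x j := by
        rw [← mul_smul, ← hc', mul_smul, hfix]
      by_contra hmove
      refine (hne j).1 (hP.sharp (hx.ne hji.symm) ?_ ?_ hji' (hfix j) hb)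
      · intro e
        exact hji (hx (MulAction.injective (φ (h i)) ((hfix i).trans e)).symm)
      · exact fun e => hmove e.symm
    rcases hfib i (hne i).1 j k (fixi j hij.symm) (fixi k hik.symm) with e | e | e
    · exact hij e
    · exact hik e
    · exact hjk e
  have htop : ∀ {K : Type} [Group K], Nonempty ((⊤ : Subgroup φ.range) ≃* K) →
      ∃ e : φ.range →* K, Function.Injective e := fun ⟨e⟩ =>
    ⟨(Subgroup.topEquiv.symm.trans e).toMonoidHom, (Subgroup.topEquiv.symm.trans e).injective⟩
  haveI : Finite φ.range := Finite.of_surjective φ.rangeRestrict φ.rangeRestrict_surjective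
  cases CfsgLib.PSL2.dickson (p := p) φ.range.subtype Subtype.val_injective (⊤ : Subgroup φ.range) with
  | cyclic hc _ =>
    haveI := hc
    have comm : ∀ i j, y i * y j = y j * y i := fun i j => by
      letI := IsCyclic.commGroup (α := (⊤ : Subgroup φ.range))
      exact congrArg Subtype.val (mul_comm (⟨y i, trivial⟩ : (⊤ : Subgroup φ.range)) ⟨y j, trivial⟩)
    refine ⟨fun h6 => hcommcase (fun i => by have := h6 i; rw [hord]; omega) comm,
      fun h4 => (hcommcase (fun i => ?_) comm).trans (by norm_num)⟩
    have := Nat.le_of_dvd (by rw [← hord]; exact orderOf_pos (y i)) (h4 i)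
    rw [hord]; omega
  | dihedral r hr k hk _ _ _ iso =>
    obtain ⟨e, he⟩ := htop iso
    have comm : (∀ i, 3 ≤ orderOf (y i)) → ∀ i j, y i * y j = y j * y i := by
      intro h3 i j
      have sq : ∀ i, e (y i) * e (y i) ≠ 1 := fun i heq => by
        rw [← map_mul, ← map_one e] at heq
        have := Nat.le_of_dvd two_pos (orderOf_dvd_of_pow_eq_one ((pow_two _).trans (he heq)))
        have := h3 i
        omega
      exact he (by rw [map_mul, map_mul, dihedral_comm (sq i) (sq j)])
    constructor
    · intro h6
      have h3 : ∀ i, 3 ≤ orderOf (y i) := fun i => by have := h6 i; rw [hord]; omega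
      exact hcommcase h3 (comm h3)
    · intro h4
      have h3 : ∀ i, 3 ≤ orderOf (y i) := fun i => by
        have := Nat.le_of_dvd (by rw [← hord]; exact orderOf_pos (y i)) (h4 i)
        rw [hord]; omega
      exact (hcommcase h3 (comm h3)).trans (by norm_num)
  | borel P hpH _ =>
    rw [Nat.card_congr Subgroup.topEquiv.toEquiv] at hpH
    exact absurd hpH hp'
  | tetra _ iso =>
    obtain ⟨e, he⟩ := htop iso
    have small : ∀ i, orderOf (φ (h i)) ∣ 2 ∨ orderOf (φ (h i)) ∣ 3 := fun i => by
      rw [← hord, ← orderOf_injective e he]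
      exact (alt_four_small (e (y i))).imp orderOf_dvd_of_pow_eq_one orderOf_dvd_of_pow_eq_one
    constructor <;> intro h6 <;> refine le_of_eq_of_le (Fintype.card_eq_zero_iff.2 ⟨fun i => ?_⟩) (Nat.zero_le _) <;>
      rcases small i with hd | hd
    · have := Nat.le_of_dvd two_pos hd; have := h6 i; omega
    · have := Nat.le_of_dvd three_pos hd; have := h6 i; omega
    · exact absurd ((h6 i).trans hd) (by norm_num)
    · exact absurd ((h6 i).trans hd) (by norm_num)
  | octa _ iso =>
    obtain ⟨e, he⟩ := htop iso
    have small : ∀ i, orderOf (φ (h i)) ∣ 3 ∨ orderOf (φ (h i)) ∣ 4 := fun i => by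
      rw [← hord, ← orderOf_injective e he]
      exact (perm_four_small (e (y i))).imp orderOf_dvd_of_pow_eq_one orderOf_dvd_of_pow_eq_one
    constructor
    · intro h6
      refine le_of_eq_of_le (Fintype.card_eq_zero_iff.2 ⟨fun i => ?_⟩) (Nat.zero_le _)
      rcases small i with hd | hd
      · have := Nat.le_of_dvd three_pos hd; have := h6 i; omega
      · have := Nat.le_of_dvd four_pos hd; have := h6 i; omega
    · intro h4
      have hmem : ∀ i, e (y i) ∈ (Finset.univ.filter fun g : Equiv.Perm (Fin 4) => g ^ 2 ≠ 1 ∧ g ^ 3 ≠ 1) := by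
        intro i
        have := h4 i
        rw [← hord, ← orderOf_injective e he] at this
        simp only [Finset.mem_filter, Finset.mem_univ, true_and]
        exact ⟨fun e2 => absurd (this.trans (orderOf_dvd_of_pow_eq_one e2)) (by norm_num),
          fun e3 => absurd (this.trans (orderOf_dvd_of_pow_eq_one e3)) (by norm_num)⟩
      calc Fintype.card ι = (Finset.univ : Finset ι).card := rfl
        _ ≤ 2 * (Finset.univ.filter fun g : Equiv.Perm (Fin 4) => g ^ 2 ≠ 1 ∧ g ^ 3 ≠ 1).card := by
          refine Finset.card_le_mul_card_image_of_maps_to (f := fun i => e (y i)) (fun i _ => hmem i) 2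
            fun g _ => ?_
          by_contra hlt
          push Not at hlt
          obtain ⟨i, j, k, hi, hj, hk, hij, hik, hjk⟩ := Finset.two_lt_card_iff.1 hlt
          simp only [Finset.mem_filter, Finset.mem_univ, true_and] at hi hj hk
          have e1 : φ (h i) = φ (h j) := congrArg Subtype.val (he (hi.trans hj.symm))
          have e2 : φ (h i) = φ (h k) := congrArg Subtype.val (he (hi.trans hk.symm))
          have hi1 : φ (h i) ≠ 1 := fun e1 => by
            have := h4 i; rw [e1, orderOf_one] at this; exact absurd this (by norm_num)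
          rcases hfib i hi1 j k (e1 ▸ hfix j) (e2 ▸ hfix k) with e | e | e
          · exact hij e
          · exact hik e
          · exact hjk e
        _ = 12 := by rw [perm_four_order_four]
  | icosa _ iso =>
    obtain ⟨e, he⟩ := htop iso
    have small : ∀ i, orderOf (φ (h i)) ∣ 2 ∨ orderOf (φ (h i)) ∣ 3 ∨ orderOf (φ (h i)) ∣ 5 := fun i => by
      rw [← hord, ← orderOf_injective e he]
      exact (alt_five_small (e (y i))).imp orderOf_dvd_of_pow_eq_one
        (Or.imp orderOf_dvd_of_pow_eq_one orderOf_dvd_of_pow_eq_one)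
    constructor <;> intro h6 <;> refine le_of_eq_of_le (Fintype.card_eq_zero_iff.2 ⟨fun i => ?_⟩) (Nat.zero_le _) <;>
      rcases small i with hd | hd | hd
    · have := Nat.le_of_dvd two_pos hd; have := h6 i; omega
    · have := Nat.le_of_dvd three_pos hd; have := h6 i; omega
    · have := Nat.le_of_dvd (by norm_num) hd; have := h6 i; omega
    · exact absurd ((h6 i).trans hd) (by norm_num)
    · exact absurd ((h6 i).trans hd) (by norm_num)
    · exact absurd ((h6 i).trans hd) (by norm_num)
  | subfield K iso =>
    refine absurd ?_ hp'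
    have hK : (Nat.card K) = p := by
      haveI : CharP K p := (RingHom.charP_iff_charP K.subtype p).2 inferInstance
      haveI := Fintype.ofFinite K
      have h1 : Nat.card K ≤ Nat.card (ZMod p) :=
        Nat.card_le_card_of_injective Subtype.val Subtype.val_injective
      rw [Nat.card_zmod] at h1
      refine le_antisymm h1 ?_
      rw [Nat.card_eq_fintype_card]
      obtain ⟨m, -, hm⟩ := FiniteField.card K p
      rw [hm]
      exact Nat.le_self_pow m.pos.ne' p
    have hSL : p ∣ Nat.card (Matrix.SpecialLinearGroup (Fin 2) K) := by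
      rw [CfsgLib.Classical.card_SL_two, hK]
      exact dvd_mul_right p _
    rw [← Nat.card_congr Subgroup.topEquiv.toEquiv]
    rcases iso with e | ⟨hodd, e⟩
    · obtain ⟨e⟩ := e
      rw [Nat.card_congr e.toEquiv, CfsgLib.Classical.card_PGL_eq_card_SL]; exact hSL
    · obtain ⟨e⟩ := e
      rw [Nat.card_congr e.toEquiv]
      rw [← CfsgLib.Classical.card_PSL_mul (F := K) 2 (by omega)] at hSL
      refine ((Fact.out : p.Prime).dvd_mul.1 hSL).resolve_left fun h => ?_
      have h2 := (Nat.prime_dvd_prime_iff_eq Fact.out Nat.prime_two).1 (h.trans (Nat.gcd_dvd_left _ _))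
      rw [hK, h2] at hodd
      exact absurd hodd (by decide)

end FixedPoints

end CfsgLib.LocalEven.ExtraAut
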