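import Mathlib
import Cfsg.Prelude.Def_Transfer
import Cfsg.Agent.Lib.PGroups.Extraspecial

/-!
# The least dimension of a faithful module of an extraspecial group
-/

set_option linter.style.haveILetI false
set_option autoImplicit false

namespace CfsgLib.LocalEven.ExtraDim

open scoped commutatorElement
open Polynomial

section Field

variable {E : Type*} [Group E] [Finite E] {p : ℕ} [Fact p.Prime]
variable {K : Type*} [Field K] {W : Type*} [AddCommGroup W] [Module K W]

theorem pow_le_finrank [FiniteDimensional K W] [Nontrivial W] (w : ℕ)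
    (hE : Cfsg.IsExtraspecial p E) (hcard : Nat.card E = p ^ (2 * w + 1))
    (R : E →* Module.End K W) (z : Subgroup.center E) (hz : orderOf z = p) (α : Kˣ)
    (hα : orderOf α = p) (hR : R (z : E) = (α : K) • (1 : Module.End K W)) :
    p ^ w ≤ Module.finrank K W := by
  classical
  have hgen : ∀ u : (Subgroup.center E), u ∈ Subgroup.zpowers z := by
    intro u
    have : Subgroup.zpowers z = ⊤ :=
      Subgroup.eq_top_of_card_eq _ (by rw [Nat.card_zpowers, hz, hE.2])
    rw [this]; exact Subgroup.mem_top u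
  let χ : (Subgroup.center E) →* Kˣ := monoidHomOfForallMemZpowers hgen (g' := α) (by rw [hα, hz])
  have hχz : χ z = α := monoidHomOfForallMemZpowers_apply_gen hgen (by rw [hα, hz])
  have hχpow : ∀ (u : (Subgroup.center E)) (k : ℕ), z ^ k = u → χ u = α ^ k := by
    intro u k hk
    rw [← hk, map_pow, hχz]
  have hpowex : ∀ u : (Subgroup.center E), ∃ k : ℕ, z ^ k = u := by
    intro u
    have : u ∈ Submonoid.powers z := by
      rw [mem_powers_iff_mem_zpowers]; exact hgen u
    exact this
  have hχR : ∀ u : (Subgroup.center E), R (u : E) = (χ u : K) • (1 : Module.End K W) := by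
    intro u
    obtain ⟨k, hk⟩ := hpowex u
    rw [hχpow u k hk, ← hk, SubmonoidClass.coe_pow, map_pow, hR, _root_.smul_pow, one_pow,
      Units.val_pow_eq_pow_val]
  have hχinj : ∀ u : (Subgroup.center E), χ u = 1 → u = 1 := by
    intro u hu
    obtain ⟨k, hk⟩ := hpowex u
    rw [hχpow u k hk, ← orderOf_dvd_iff_pow_eq_one, hα, ← hz, orderOf_dvd_iff_pow_eq_one, hk] at hu
    exact hu
  let Q := E ⧸ (Subgroup.center E)
  haveI : Fintype Q := Fintype.ofFinite _
  let s : Q → E := Quotient.out
  have hs : ∀ q : Q, (QuotientGroup.mk (s q) : Q) = q := fun q => QuotientGroup.out_eq' q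
  have hmemc : ∀ g x : E, ⁅g, x⁆ ∈ (Subgroup.center E) :=
    fun g x => CfsgLib.PGroups.Extraspecial.commutator_mem_center hE g x
  let lam : Q → (E →* K) := fun q =>
    { toFun := fun g => (χ ⟨⁅g, s q⁆, hmemc g (s q)⟩ : K)
      map_one' := by
        have : (⟨⁅(1 : E), s q⁆, hmemc 1 (s q)⟩ : (Subgroup.center E)) = 1 := Subtype.ext (by simp)
        rw [this, map_one, Units.val_one]
      map_mul' := fun a b => by
        rw [← Units.val_mul, ← map_mul]
        congr 2
        exact Subtype.ext (CfsgLib.PGroups.commutator_mul_left_of_central (hmemc b (s q))) }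
  have hlam : Function.Injective lam := by
    intro q q' h
    have hc : ∀ g : E, ⁅g, s q⁆ = ⁅g, s q'⁆ := by
      intro g
      have h1 : χ ⟨⁅g, s q⁆, hmemc g (s q)⟩ = χ ⟨⁅g, s q'⁆, hmemc g (s q')⟩ :=
        Units.ext (DFunLike.congr_fun h g)
      have h2 := hχinj (⟨⁅g, s q⁆, hmemc g (s q)⟩ * ⟨⁅g, s q'⁆, hmemc g (s q')⟩⁻¹)
        (by rw [map_mul, map_inv, h1, mul_inv_cancel])
      exact congrArg Subtype.val (mul_inv_eq_one.mp h2)
    have hmem : (s q)⁻¹ * s q' ∈ (Subgroup.center E) := by
      rw [Subgroup.mem_center_iff]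
      intro g
      have h1 := hc g
      rw [commutatorElement_def, commutatorElement_def] at h1
      have h2 : (s q) * g⁻¹ * (s q)⁻¹ = (s q') * g⁻¹ * (s q')⁻¹ := by
        simpa [mul_assoc] using h1
      have h3 : (s q)⁻¹ * s q' * g⁻¹ = g⁻¹ * ((s q)⁻¹ * s q') := by
        calc (s q)⁻¹ * s q' * g⁻¹ = (s q)⁻¹ * ((s q') * g⁻¹ * (s q')⁻¹) * s q' := by group
          _ = (s q)⁻¹ * ((s q) * g⁻¹ * (s q)⁻¹) * s q' := by rw [h2]
          _ = _ := by group
      have h4 : Commute ((s q)⁻¹ * s q') g⁻¹ := h3
      exact (Commute.inv_right_iff.mp h4).symm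
    rw [← hs q, ← hs q', QuotientGroup.eq]
    exact hmem
  have hli := (linearIndependent_monoidHom E K).comp lam hlam
  have hX : LinearIndependent K fun q : Q => R (s q) := by
    rw [Fintype.linearIndependent_iff]
    intro c hc q₀
    have hconj : ∀ (g : E) (q : Q), R g * R (s q) * R g⁻¹ = (lam q g) • R (s q) := by
      intro g q
      rw [← map_mul, ← map_mul, show g * s q * g⁻¹ = (⁅g, s q⁆ : E) * s q by
        rw [commutatorElement_def]; group, map_mul]
      show R ((⟨⁅g, s q⁆, hmemc g (s q)⟩ : (Subgroup.center E)) : E) * R (s q) = _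
      rw [hχR, smul_mul_assoc, one_mul]
      rfl
    have hzero : ∀ g : E, ∑ q, (c q * lam q g) • R (s q) = 0 := by
      intro g
      have : R g * (∑ q, c q • R (s q)) * R g⁻¹ = 0 := by rw [hc, mul_zero, zero_mul]
      rw [Finset.mul_sum, Finset.sum_mul] at this
      rw [← this]
      refine Finset.sum_congr rfl fun q _ => ?_
      rw [mul_smul_comm, smul_mul_assoc, hconj, smul_smul]
    have hzero' : ∀ (v : W) (ψ : W →ₗ[K] K), c q₀ * ψ (R (s q₀) v) = 0 := by
      intro v ψ
      refine Fintype.linearIndependent_iff.mp hli (fun q => c q * ψ (R (s q) v)) ?_ q₀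
      funext g
      have := congrArg (fun T : Module.End K W => ψ (T v)) (hzero g)
      simp only [LinearMap.sum_apply, LinearMap.smul_apply, map_sum, map_smul, smul_eq_mul,
        LinearMap.zero_apply, map_zero] at this
      rw [Finset.sum_apply]
      simp only [Function.comp_apply, Pi.smul_apply, smul_eq_mul, Pi.zero_apply]
      rw [← this]
      exact Finset.sum_congr rfl fun q _ => by ring
    by_contra hne
    obtain ⟨v, hv⟩ := exists_ne (0 : W)
    have hv' : R (s q₀) (R (s q₀)⁻¹ v) = v := by
      rw [← Module.End.mul_apply, ← map_mul, mul_inv_cancel, map_one, Module.End.one_apply]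
    refine hv ((Module.forall_dual_apply_eq_zero_iff K v).mp fun ψ => ?_)
    have := hzero' (R (s q₀)⁻¹ v) ψ
    rw [hv'] at this
    exact (mul_eq_zero.mp this).resolve_left hne
  have hle := hX.fintype_card_le_finrank
  have hQ : Fintype.card Q = p ^ (2 * w) := by
    rw [← Nat.card_eq_fintype_card]
    have h1 := Subgroup.card_eq_card_quotient_mul_card_subgroup (Subgroup.center E)
    rw [hcard, hE.2, pow_succ] at h1
    exact (Nat.eq_of_mul_eq_mul_right (Fact.out : p.Prime).pos h1).symm
  rw [Module.finrank_linearMap, hQ, two_mul, pow_add] at hle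
  exact Nat.mul_self_le_mul_self_iff.mp hle

end Field

section Kernel

variable {F : Type*} [Field F] {V : Type*} [AddCommGroup V] [Module F V]

theorem exists_irreducible_kernel (T : Module.End F V) :
    ∀ g : F[X], g ≠ 0 → LinearMap.ker (aeval T g) ≠ ⊥ →
      ∃ f : F[X], Irreducible f ∧ f ∣ g ∧ LinearMap.ker (aeval T f) ≠ ⊥ := by
  intro g
  refine WfDvdMonoid.induction_on_irreducible g (fun h => absurd rfl h) ?_ ?_
  · intro u hu _ hker
    exfalso
    obtain ⟨v, hv⟩ := hu.map (aeval T)
    refine hker ?_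
    rw [LinearMap.ker_eq_bot']
    intro x hx
    have : (↑v⁻¹ : Module.End F V) ((v : Module.End F V) x) = x := by
      rw [← Module.End.mul_apply, Units.inv_mul, Module.End.one_apply]
    rw [← this, hv, hx, map_zero]
  · intro a f ha hf ih hfa hker
    by_cases h : LinearMap.ker (aeval T f) = ⊥
    · have h2 : LinearMap.ker (aeval T a) ≠ ⊥ := by
        intro h2
        refine hker ?_
        rw [map_mul, Module.End.mul_eq_comp, LinearMap.ker_comp, h, Submodule.comap_bot]
        exact h2
      obtain ⟨f', h1, h3, h4⟩ := ih ha h2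
      exact ⟨f', h1, h3.mul_left f, h4⟩
    · exact ⟨f, hf, dvd_mul_right f a, h⟩

end Kernel

theorem bound {E : Type*} [Group E] [Finite E] {p r : ℕ} [Fact p.Prime] [Fact r.Prime]
    (hpr : p ≠ r) {V : Type*} [AddCommGroup V] [Module (ZMod r) V] [Finite V] (w n : ℕ)
    (hE : Cfsg.IsExtraspecial p E) (hcard : Nat.card E = p ^ (2 * w + 1))
    (ρ : E →* Module.End (ZMod r) V) (hρ : Function.Injective ρ)
    (hmin : ∀ k : ℕ, 1 ≤ k → p ∣ r ^ k - 1 → n ≤ k) : r ^ (n * p ^ w) ≤ Nat.card V := by
  classical
  have hpp : p.Prime := Fact.out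
  haveI : Nontrivial (Subgroup.center E) := by
    rw [← Finite.one_lt_card_iff_nontrivial, hE.2]; exact hpp.one_lt
  obtain ⟨z, hz⟩ : ∃ z : Subgroup.center E, orderOf z = p :=
    exists_prime_orderOf_dvd_card' p (dvd_of_eq hE.2.symm)
  set T := ρ (z : E) with hTdef
  have hzp : (z : E) ^ p = 1 := by
    rw [← SubmonoidClass.coe_pow, ← hz, pow_orderOf_eq_one, OneMemClass.coe_one]
  have hT1 : T ≠ 1 := by
    intro h
    have h1 : (z : E) = 1 := hρ (h.trans (map_one ρ).symm)
    rw [OneMemClass.coe_eq_one] at h1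
    rw [h1, orderOf_one] at hz
    exact hpp.ne_one hz.symm
  set g : (ZMod r)[X] := ∑ i ∈ Finset.range p, X ^ i with hgdef
  have hg1 : g * (X - 1) = X ^ p - 1 := geom_sum_mul X p
  have hg0 : g ≠ 0 := fun h => X_pow_sub_C_ne_zero hpp.pos (1 : ZMod r) (by
    rw [h, zero_mul] at hg1; rw [C_1]; exact hg1.symm)
  have hker : LinearMap.ker (aeval T g) ≠ ⊥ := by
    intro h
    refine hT1 (sub_eq_zero.mp ?_)
    have h1 := congrArg (aeval T) hg1
    rw [map_mul, map_sub, map_sub, aeval_X, map_pow, aeval_X, map_one, hTdef, ← map_pow, hzp,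
      map_one, sub_self] at h1
    refine LinearMap.ext fun v => ?_
    have h2 := LinearMap.congr_fun h1 v
    rw [Module.End.mul_apply, LinearMap.zero_apply] at h2
    exact LinearMap.ker_eq_bot'.mp h _ h2
  obtain ⟨f, hf, hfg, hfker⟩ := exists_irreducible_kernel T g hg0 hker
  haveI := Fact.mk hf
  set W := LinearMap.ker (aeval T f) with hW
  have hcomm : ∀ (e : E) (q : (ZMod r)[X]), ρ e * aeval T q = aeval T q * ρ e := by
    intro e q
    have h1 : Commute (ρ e) T :=
      (show Commute e (z : E) from Subgroup.mem_center_iff.mp z.2 e).map ρ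
    induction q using Polynomial.induction_on' with
    | add a b ha hb => rw [map_add, mul_add, ha, hb, add_mul]
    | monomial k c =>
      rw [aeval_monomial]
      exact ((Algebra.commute_algebraMap_right c (ρ e)).mul_right (h1.pow_right k)).eq
  have hstab : ∀ (q : (ZMod r)[X]), ∀ v ∈ W, aeval T q v ∈ W := by
    intro q v hv
    rw [hW, LinearMap.mem_ker] at hv ⊢
    rw [← Module.End.mul_apply, ← map_mul, mul_comm, map_mul, Module.End.mul_apply, hv, map_zero]
  have hEW : ∀ e : E, ∀ v ∈ W, ρ e v ∈ W := by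
    intro e v hv
    rw [hW, LinearMap.mem_ker] at hv ⊢
    rw [← Module.End.mul_apply, ← hcomm, Module.End.mul_apply, hv, map_zero]
  let TW : Module.End (ZMod r) W := T.restrict fun v hv => hEW (z : E) v hv
  have hTW : ∀ (q : (ZMod r)[X]) (v : W), ((aeval TW q v : W) : V) = aeval T q v := by
    intro q
    induction q using Polynomial.induction_on' with
    | add a b ha hb => intro v; simp [ha v, hb v]
    | monomial k c =>
      intro v
      have hk : ∀ (k : ℕ) (v : W), (((TW ^ k) v : W) : V) = (T ^ k) v := by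
        intro k
        induction k with
        | zero => intro v; rfl
        | succ k ih =>
          intro v
          rw [pow_succ', pow_succ', Module.End.mul_apply, Module.End.mul_apply]
          show T (((TW ^ k) v : W) : V) = _
          rw [ih]
      simp [aeval_monomial, Module.algebraMap_end_apply, hk]
  have hf0 : ∀ a ∈ Ideal.span ({f} : Set (ZMod r)[X]), aeval TW a = 0 := by
    intro a ha
    obtain ⟨b, rfl⟩ := Ideal.mem_span_singleton.mp ha
    refine LinearMap.ext fun v => Subtype.ext ?_
    rw [hTW, mul_comm, map_mul, Module.End.mul_apply, LinearMap.mem_ker.mp v.2, map_zero]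
    rfl
  let φ : AdjoinRoot f →ₐ[ZMod r] Module.End (ZMod r) W :=
    Ideal.Quotient.liftₐ (Ideal.span ({f} : Set (ZMod r)[X])) (aeval TW) hf0
  have hφmk : ∀ q : (ZMod r)[X], φ (AdjoinRoot.mk f q) = aeval TW q := fun q => rfl
  letI : Module (AdjoinRoot f) W := Module.compHom W φ.toRingHom
  have hsmul : ∀ (k : AdjoinRoot f) (v : W), k • v = φ k v := fun k v => rfl
  haveI : Finite W := inferInstance
  haveI : Module.Finite (AdjoinRoot f) W := Module.Finite.of_finite
  haveI : Nontrivial W := Submodule.nontrivial_iff_ne_bot.mpr hfker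
  let R : E →* Module.End (AdjoinRoot f) W :=
    { toFun := fun e =>
        { toFun := fun v => ⟨ρ e v, hEW e v v.2⟩
          map_add' := fun a b => Subtype.ext (map_add _ _ _)
          map_smul' := fun k v => by
            obtain ⟨q, rfl⟩ := AdjoinRoot.mk_surjective k
            refine Subtype.ext ?_
            show ρ e ((AdjoinRoot.mk f q • v : W) : V) =
              ((AdjoinRoot.mk f q • (⟨ρ e v, hEW e v v.2⟩ : W) : W) : V)
            rw [hsmul, hsmul, hφmk, hTW, hTW, ← Module.End.mul_apply, hcomm,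
              Module.End.mul_apply] }
      map_one' := LinearMap.ext fun v => Subtype.ext (by
        show ρ 1 (v : V) = _
        rw [map_one]; rfl)
      map_mul' := fun a b => LinearMap.ext fun v => Subtype.ext (by
        show ρ (a * b) (v : V) = _
        rw [map_mul]; rfl) }
  have hroot : R (z : E) = (AdjoinRoot.root f) • (1 : Module.End (AdjoinRoot f) W) := by
    refine LinearMap.ext fun v => Subtype.ext ?_
    show ρ (z : E) (v : V) = ((AdjoinRoot.root f • v : W) : V)
    rw [hsmul, ← AdjoinRoot.mk_X, hφmk, hTW, aeval_X]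
  have hrp : AdjoinRoot.root f ^ p = 1 := by
    have h1 : AdjoinRoot.mk f g = 0 := AdjoinRoot.mk_eq_zero.mpr hfg
    have h2 := congrArg (AdjoinRoot.mk f) hg1
    rw [map_mul, h1, zero_mul, map_sub, map_pow, AdjoinRoot.mk_X, map_one] at h2
    exact sub_eq_zero.mp h2.symm
  have hr1 : AdjoinRoot.root f ≠ 1 := by
    intro h
    have h1 : AdjoinRoot.mk f g = 0 := AdjoinRoot.mk_eq_zero.mpr hfg
    rw [hgdef, map_sum] at h1
    simp only [map_pow, AdjoinRoot.mk_X, h, one_pow, Finset.sum_const, Finset.card_range,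
      nsmul_eq_mul, mul_one] at h1
    rw [← map_natCast (algebraMap (ZMod r) (AdjoinRoot f)),
      map_eq_zero_iff _ (RingHom.injective _), ZMod.natCast_eq_zero_iff] at h1
    exact hpr ((Nat.prime_dvd_prime_iff_eq Fact.out hpp).mp h1).symm
  let α : (AdjoinRoot f)ˣ := Units.ofPowEqOne _ p hrp hpp.ne_zero
  have hαv : (α : AdjoinRoot f) = AdjoinRoot.root f := rfl
  have hα : orderOf α = p := by
    rw [← orderOf_units, hαv]
    exact orderOf_eq_prime hrp hr1
  have hle : p ^ w ≤ Module.finrank (AdjoinRoot f) W :=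
    pow_le_finrank w hE hcard R z hz α hα (by rw [hαv]; exact hroot)
  haveI : Module.Finite (ZMod r) (AdjoinRoot f) := (AdjoinRoot.powerBasis hf.ne_zero).finite
  haveI : Finite (AdjoinRoot f) := Module.finite_of_finite (ZMod r)
  haveI := Fintype.ofFinite (AdjoinRoot f)
  haveI := Fintype.ofFinite W
  have hd : Module.finrank (ZMod r) (AdjoinRoot f) = f.natDegree := by
    rw [(AdjoinRoot.powerBasis hf.ne_zero).finrank, AdjoinRoot.powerBasis_dim]
  have hK : Fintype.card (AdjoinRoot f) = r ^ f.natDegree := by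
    rw [Module.card_eq_pow_finrank (K := ZMod r) (V := AdjoinRoot f), ZMod.card, hd]
  have hdiv : p ∣ r ^ f.natDegree - 1 := by
    rw [← hα, ← hK, ← Fintype.card_units]
    exact orderOf_dvd_card
  have hn : n ≤ f.natDegree := hmin _ hf.natDegree_pos hdiv
  have h1 : r ^ (n * p ^ w) ≤ Nat.card W := by
    rw [Nat.card_eq_fintype_card, Module.card_eq_pow_finrank (K := AdjoinRoot f) (V := W), hK,
      ← pow_mul]
    exact Nat.pow_le_pow_right (Fact.out : r.Prime).pos (Nat.mul_le_mul hn hle)
  exact h1.trans (Nat.card_le_card_of_injective _ Subtype.val_injective)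

/-- The representation attached to an action on an abelian group of exponent dividing `r`. -/
def actEnd {A : Type*} [CommGroup A] (r : ℕ) [Module (ZMod r) (Additive A)] :
    MulAut A →* Module.End (ZMod r) (Additive A) where
  toFun f :=
    { toFun := fun v => Additive.ofMul (f v.toMul)
      map_add' := fun v u => congrArg Additive.ofMul (map_mul f v.toMul u.toMul)
      map_smul' := fun k v => ZMod.map_smul (AddMonoidHom.mk' (fun v : Additive A => Additive.ofMul (f v.toMul))
        (fun v u => congrArg Additive.ofMul (map_mul f v.toMul u.toMul))) k v }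
  map_one' := rfl
  map_mul' _ _ := rfl

theorem actEnd_injective {A : Type*} [CommGroup A] (r : ℕ) [Module (ZMod r) (Additive A)] :
    Function.Injective (actEnd (A := A) r) := fun f g h =>
  MulEquiv.ext fun x => congrArg Additive.toMul (LinearMap.congr_fun h (Additive.ofMul x))

theorem bound_module {E : Type*} [Group E] [Finite E] {p r : ℕ} [Fact p.Prime] [Fact r.Prime]
    (hpr : p ≠ r) {A : Type*} [CommGroup A] [Finite A] [Module (ZMod r) (Additive A)] (w n : ℕ)
    (hE : Cfsg.IsExtraspecial p E) (hcard : Nat.card E = p ^ (2 * w + 1))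
    (θ : E →* MulAut A) (hθ : Function.Injective θ)
    (hmin : ∀ k : ℕ, 1 ≤ k → p ∣ r ^ k - 1 → n ≤ k) : r ^ (n * p ^ w) ≤ Nat.card A := by
  haveI : Finite (Additive A) := Finite.of_equiv _ Additive.ofMul
  exact (bound hpr w n hE hcard ((actEnd (A := A) r).comp θ)
    ((actEnd_injective (A := A) r).comp hθ) hmin).trans_eq (Nat.card_congr Additive.toMul)

theorem bound_comm {E : Type*} [Group E] [Finite E] {p r : ℕ} [Fact p.Prime] [Fact r.Prime]
    (hpr : p ≠ r) {A : Type*} [CommGroup A] [Finite A] (hexp : ∀ a : A, a ^ r = 1) (w n : ℕ)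
    (hE : Cfsg.IsExtraspecial p E) (hcard : Nat.card E = p ^ (2 * w + 1))
    (θ : E →* MulAut A) (hθ : Function.Injective θ)
    (hmin : ∀ k : ℕ, 1 ≤ k → p ∣ r ^ k - 1 → n ≤ k) : r ^ (n * p ^ w) ≤ Nat.card A := by
  haveI : Module (ZMod r) (Additive A) :=
    AddCommGroup.zmodModule (n := r) (fun v : Additive A => by
      apply Additive.toMul.injective
      exact hexp v.toMul)
  exact bound_module hpr w n hE hcard θ hθ hmin

end CfsgLib.LocalEven.ExtraDim
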