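import Mathlib
import Cfsg.Prelude.Def_Transfer
import Cfsg.Agent.Lib.PGroups.Extraspecial

/-!
# Sylow subgroups extraspecial of order `p³` and exponent `p²`
-/

set_option linter.style.haveILetI false
set_option autoImplicit false

namespace CfsgLib.LocalEven.ExpSq

open scoped commutatorElement Pointwise
open Subgroup

variable {G : Type*} [Group G] [Finite G] {p : ℕ} [Fact p.Prime]

/-- The basic facts about the subgroup of elements of order at most `p`. -/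
theorem omega_facts (hp : p ≠ 2) (P : Sylow p G) (hE : Cfsg.IsExtraspecial p ↥P)
    (hcard : Nat.card P = p ^ 3) (hexp : Monoid.exponent ↥P = p ^ 2) :
    ∃ E : Subgroup G, (∀ x, x ∈ E ↔ x ∈ (P : Subgroup G) ∧ x ^ p = 1) ∧ Nat.card E = p ^ 2 ∧
      (∀ x ∈ E, ∀ y ∈ E, x * y = y * x) ∧
      (∀ x ∈ (P : Subgroup G), ∀ y ∈ (P : Subgroup G), (x * y) ^ p = x ^ p * y ^ p) ∧
      (Subgroup.center ↥P).map (P : Subgroup G).subtype ≤ E := by
  have hpp : p.Prime := Fact.out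
  have hpow : ∀ a b : ↥P, (a * b) ^ p = a ^ p * b ^ p := by
    intro a b
    have hc := CfsgLib.PGroups.Extraspecial.commutator_mem_center hE b a
    rw [CfsgLib.PGroups.mul_pow_of_central hc]
    obtain ⟨k, hk⟩ := hpp.dvd_choose_self (k := 2) (by norm_num) (by
      have := hpp.two_le; omega)
    rw [hk, pow_mul, CfsgLib.PGroups.pow_eq_one_of_mem_center_of_special hE.1 hc, one_pow, mul_one]
  let ψ : ↥P →* Subgroup.center ↥P :=
    { toFun := fun a => ⟨a ^ p, CfsgLib.PGroups.Extraspecial.pow_mem_center hE a⟩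
      map_one' := Subtype.ext (by simp)
      map_mul' := fun a b => Subtype.ext (hpow a b) }
  have hne : ψ.range ≠ ⊥ := by
    intro h
    have h1 : Monoid.exponent ↥P ∣ p := Monoid.exponent_dvd_of_forall_pow_eq_one fun a => by
      have : ψ a ∈ ψ.range := ⟨a, rfl⟩
      rw [h, Subgroup.mem_bot] at this
      exact congrArg Subtype.val this
    rw [hexp] at h1
    have h2 := Nat.le_of_dvd hpp.pos h1
    have := hpp.two_le
    nlinarith
  have hrange : Nat.card ψ.range = p := by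
    have h1 : Nat.card ψ.range ∣ p :=
      (Subgroup.card_subgroup_dvd_card _).trans (dvd_of_eq hE.2)
    rcases (Nat.dvd_prime hpp).1 h1 with h | h
    · exact absurd (Subgroup.card_eq_one.mp h) hne
    · exact h
  have hkerc : Nat.card ψ.ker = p ^ 2 := by
    have h1 := ψ.ker.card_mul_index
    rw [Subgroup.index_ker, hrange] at h1
    exact Nat.eq_of_mul_eq_mul_right hpp.pos ((h1.trans hcard).trans (pow_succ p 2))
  refine ⟨ψ.ker.map (P : Subgroup G).subtype, ?_, ?_, ?_, ?_, ?_⟩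
  · intro x
    constructor
    · rintro ⟨a, ha, rfl⟩
      refine ⟨a.2, ?_⟩
      have := congrArg (fun z : Subgroup.center ↥P => ((z : ↥P) : G)) (MonoidHom.mem_ker.mp ha)
      simpa [ψ] using this
    · rintro ⟨hx, hxp⟩
      exact ⟨⟨x, hx⟩, MonoidHom.mem_ker.mpr (Subtype.ext (Subtype.ext (by simpa [ψ] using hxp))),
        rfl⟩
  · exact (Subgroup.card_map_of_injective (Subgroup.subtype_injective _)).trans hkerc
  · rintro _ ⟨a, ha, rfl⟩ _ ⟨b, hb, rfl⟩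
    have := IsPGroup.commutative_of_card_eq_prime_sq (G := ψ.ker) hkerc ⟨a, ha⟩ ⟨b, hb⟩
    exact congrArg (fun z : ψ.ker => ((z : ↥P) : G)) this
  · intro x hx y hy
    exact congrArg Subtype.val (hpow ⟨x, hx⟩ ⟨y, hy⟩)
  · refine Subgroup.map_mono fun a ha => MonoidHom.mem_ker.mpr (Subtype.ext ?_)
    exact CfsgLib.PGroups.pow_eq_one_of_mem_center_of_special hE.1 ha

theorem stronglyClosed (hp : p ≠ 2) (P : Sylow p G) (hE : Cfsg.IsExtraspecial p ↥P)
    (hcard : Nat.card P = p ^ 3) (hexp : Monoid.exponent ↥P = p ^ 2) (z u g : G)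
    (hzZ : z ∈ (Subgroup.center ↥P).map (P : Subgroup G).subtype) (hgu : g * z * g⁻¹ = u)
    (huP : u ∈ (P : Subgroup G)) : u ∈ (Subgroup.center ↥P).map (P : Subgroup G).subtype := by
  classical
  have hpp : p.Prime := Fact.out
  obtain ⟨E, hEmem, hEcard, hEcomm, hpowP, hZE⟩ := omega_facts hp P hE hcard hexp
  set Z := (Subgroup.center ↥P).map (P : Subgroup G).subtype with hZdef
  have hEP : E ≤ (P : Subgroup G) := fun x hx => ((hEmem x).1 hx).1
  have hZcard : Nat.card Z = p := by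
    rw [hZdef]
    exact (Subgroup.card_map_of_injective (Subgroup.subtype_injective _)).trans hE.2
  have hZcomm : ∀ c ∈ Z, ∀ x ∈ (P : Subgroup G), x * c = c * x := by
    rintro _ ⟨c, hc, rfl⟩ x hx
    exact congrArg Subtype.val (Subgroup.mem_center_iff.mp hc ⟨x, hx⟩)
  have hmemZ : ∀ x ∈ (P : Subgroup G), (∀ y ∈ (P : Subgroup G), y * x = x * y) → x ∈ Z := by
    intro x hx h
    exact ⟨⟨x, hx⟩, Subgroup.mem_center_iff.mpr fun y => Subtype.ext (h y y.2), rfl⟩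
  have hcomZ : ∀ x ∈ (P : Subgroup G), ∀ y ∈ (P : Subgroup G), ⁅x, y⁆ ∈ Z := by
    intro x hx y hy
    exact ⟨⁅(⟨x, hx⟩ : ↥P), ⟨y, hy⟩⁆, CfsgLib.PGroups.Extraspecial.commutator_mem_center hE _ _,
      rfl⟩
  by_contra huZ
  have hz1 : z ≠ 1 := by
    rintro rfl
    exact huZ (by rw [← hgu, mul_one, mul_inv_cancel]; exact one_mem _)
  have hzp : z ^ p = 1 := ((hEmem z).1 (hZE hzZ)).2
  have huE : u ∈ E := (hEmem u).2 ⟨huP, by rw [← hgu, conj_pow, hzp, mul_one, mul_inv_cancel]⟩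
  -- an element fixing the centre and moving `u`
  obtain ⟨a, haP, hau⟩ : ∃ a ∈ (P : Subgroup G), a * u ≠ u * a := by
    by_contra h
    push_neg at h
    exact huZ (hmemZ u huP h)
  set z₀ := ⁅a, u⁆ with hz₀
  have hz₀Z : z₀ ∈ Z := hcomZ a haP u huP
  have hz₀1 : z₀ ≠ 1 := fun h => hau (commutatorElement_eq_one_iff_mul_comm.mp h)
  have hgen : ∀ c ∈ Z, ∀ d ∈ Z, d ≠ 1 → c ∈ Subgroup.zpowers d := by
    intro c hc d hd hd1
    have h1 : Nat.card (Subgroup.zpowers d) ∣ p :=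
      hZcard ▸ Subgroup.card_dvd_of_le (Subgroup.zpowers_le.mpr hd)
    rcases (Nat.dvd_prime hpp).1 h1 with h | h
    · exact absurd (Subgroup.zpowers_eq_bot.mp (Subgroup.card_eq_one.mp h)) hd1
    · have := Subgroup.eq_of_le_of_card_ge (Subgroup.zpowers_le.mpr hd) (by rw [h, hZcard])
      exact this.ge hc
  have hEgen : E = Subgroup.zpowers u ⊔ Subgroup.zpowers z₀ := by
    have hle : Subgroup.zpowers u ⊔ Subgroup.zpowers z₀ ≤ E :=
      sup_le (Subgroup.zpowers_le.mpr huE) (Subgroup.zpowers_le.mpr (hZE hz₀Z))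
    refine (Subgroup.eq_of_le_of_card_ge hle ?_).symm
    rw [hEcard]
    have hu1 : u ≠ 1 := fun h => huZ (h ▸ one_mem _)
    have huo : Nat.card (Subgroup.zpowers u) = p := by
      rw [Nat.card_zpowers]; exact orderOf_eq_prime ((hEmem u).1 huE).2 hu1
    have hlt : Subgroup.zpowers u < Subgroup.zpowers u ⊔ Subgroup.zpowers z₀ := by
      refine left_lt_sup.mpr fun h => ?_
      have h1 := Subgroup.eq_of_le_of_card_ge h (by
        rw [huo, Nat.card_zpowers, orderOf_eq_prime ((hEmem z₀).1 (hZE hz₀Z)).2 hz₀1])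
      exact huZ ((Subgroup.zpowers_le.mpr hz₀Z) (h1.ge (Subgroup.mem_zpowers u)))
    obtain ⟨k, hk2, hk⟩ := (Nat.dvd_prime_pow hpp).1 (hEcard ▸ Subgroup.card_dvd_of_le hle)
    have h2 : Nat.card (Subgroup.zpowers u) <
        Nat.card ↥(Subgroup.zpowers u ⊔ Subgroup.zpowers z₀) := by
      by_contra h3
      exact hlt.ne (Subgroup.eq_of_le_of_card_ge hlt.le (not_lt.mp h3))
    rw [huo, hk] at h2
    interval_cases k
    · have := hpp.one_lt; rw [pow_zero] at h2; omega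
    · simp at h2
    · rw [hk]
  -- elements of `P` normalize `E`
  have hPN : (P : Subgroup G) ≤ Subgroup.normalizer (E : Set G) := by
    intro x hx
    rw [Subgroup.mem_normalizer_iff]
    intro y
    rw [hEmem, hEmem, conj_pow, mul_inv_eq_one, mul_eq_left,
      Subgroup.mem_normalizer_iff.mp (Subgroup.le_normalizer hx) y]
  have hEcent : ∀ x ∈ (P : Subgroup G), x * u = u * x → x ∈ E := by
    intro x hx hxu
    by_contra hxE
    have hlt : E < E ⊔ Subgroup.zpowers x :=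
      left_lt_sup.mpr fun h => hxE (h (Subgroup.mem_zpowers x))
    have hle : E ⊔ Subgroup.zpowers x ≤ (P : Subgroup G) := sup_le hEP (Subgroup.zpowers_le.mpr hx)
    obtain ⟨k, hk3, hk⟩ := (Nat.dvd_prime_pow hpp).1 (hcard ▸ Subgroup.card_dvd_of_le hle)
    have h2 : Nat.card E < Nat.card ↥(E ⊔ Subgroup.zpowers x) := by
      by_contra h3
      exact hlt.ne (Subgroup.eq_of_le_of_card_ge hlt.le (not_lt.mp h3))
    rw [hEcard, hk, Nat.pow_lt_pow_iff_right hpp.one_lt] at h2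
    have hk' : k = 3 := by omega
    have htop := Subgroup.eq_of_le_of_card_ge hle (by rw [hk, hk', hcard])
    refine huZ (hmemZ u huP fun y hy => ?_)
    have h3 : E ⊔ Subgroup.zpowers x ≤ Subgroup.centralizer ({u} : Set G) :=
      sup_le (fun e he => Subgroup.mem_centralizer_singleton_iff.mpr (hEcomm e he u huE))
        (Subgroup.zpowers_le.mpr (Subgroup.mem_centralizer_singleton_iff.mpr hxu))
    exact Subgroup.mem_centralizer_singleton_iff.mp (h3 (htop.ge hy))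
  -- a Sylow subgroup with centre `⟨u⟩` normalizing `E`
  set C := Subgroup.centralizer ({u} : Set G) with hC
  have hEC : E ≤ C := fun e he => Subgroup.mem_centralizer_singleton_iff.mpr (hEcomm e he u huE)
  have hgP : ((g • P : Sylow p G) : Subgroup G) ≤ C := by
    intro x hx
    rw [Sylow.coe_subgroup_smul, Subgroup.mem_smul_pointwise_iff_exists] at hx
    obtain ⟨y, hy, rfl⟩ := hx
    rw [hC, Subgroup.mem_centralizer_singleton_iff, MulAut.smul_def, MulAut.conj_apply, ← hgu]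
    calc g * y * g⁻¹ * (g * z * g⁻¹) = g * (y * z) * g⁻¹ := by group
      _ = g * (z * y) * g⁻¹ := by rw [hZcomm z hzZ y hy]
      _ = _ := by group
  obtain ⟨S, hS⟩ := ((P.2.to_le hEP).comap_of_injective C.subtype
    (Subgroup.subtype_injective _)).exists_le_sylow
  obtain ⟨c, hc⟩ := MulAction.exists_smul_eq ↥C S ((g • P).subtype hgP)
  set h := g⁻¹ * (c : G) with hh
  have hconjP : ∀ e ∈ E, h * e * h⁻¹ ∈ (P : Subgroup G) := by
    intro e he
    have h1 : c • (⟨e, hEC he⟩ : ↥C) = c • ⟨e, hEC he⟩ := rfl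
    have h2 : c * (⟨e, hEC he⟩ : ↥C) * c⁻¹ ∈ ((g • P).subtype hgP : Subgroup ↥C) := by
      rw [← hc, Sylow.coe_subgroup_smul, Subgroup.mem_smul_pointwise_iff_exists]
      exact ⟨⟨e, hEC he⟩, hS he, by simp [MulAut.smul_def]⟩
    rw [Sylow.coe_subtype, Subgroup.mem_subgroupOf, Sylow.coe_subgroup_smul,
      Subgroup.mem_smul_pointwise_iff_exists] at h2
    obtain ⟨y, hy, hye⟩ := h2
    simp only [MulAut.smul_def, MulAut.conj_apply, Subgroup.coe_mul, Subgroup.coe_inv] at hye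
    have : h * e * h⁻¹ = y := by
      rw [hh]
      calc g⁻¹ * (c : G) * e * (g⁻¹ * (c : G))⁻¹ = g⁻¹ * ((c : G) * e * (c : G)⁻¹) * g := by group
        _ = g⁻¹ * (g * y * g⁻¹) * g := by rw [hye]
        _ = y := by group
    rw [this]; exact hy
  have hhE : ∀ e ∈ E, h * e * h⁻¹ ∈ E := fun e he =>
    (hEmem _).2 ⟨hconjP e he, by rw [conj_pow, ((hEmem e).1 he).2, mul_one, mul_inv_cancel]⟩
  have hhN : h ∈ Subgroup.normalizer (E : Set G) := by
    refine Subgroup.mem_normalizer_iff.mpr fun e => ⟨hhE e, fun he => ?_⟩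
    have hbij : Function.Surjective (fun e : E => (⟨h * e * h⁻¹, hhE e e.2⟩ : E)) :=
      Finite.injective_iff_surjective.mp fun e f hef => by
        have := congrArg Subtype.val hef
        exact Subtype.ext (by simpa using this)
    obtain ⟨f, hf⟩ := hbij ⟨_, he⟩
    have := congrArg Subtype.val hf
    simp only [mul_left_inj, mul_right_inj] at this
    exact this ▸ f.2
  have hhu : h * u * h⁻¹ = z := by
    have h1 : (c : G) * u = u * (c : G) := Subgroup.mem_centralizer_singleton_iff.mp c.2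
    rw [hh]
    calc g⁻¹ * (c : G) * u * (g⁻¹ * (c : G))⁻¹ = g⁻¹ * ((c : G) * u) * (c : G)⁻¹ * g := by group
      _ = g⁻¹ * u * g := by rw [h1]; group
      _ = z := by rw [← hgu]; group
  have hhQ : ∀ x ∈ (P : Subgroup G), h⁻¹ * x * h ∈ Subgroup.normalizer (E : Set G) :=
    fun x hx => Subgroup.mul_mem _ (Subgroup.mul_mem _ (Subgroup.inv_mem _ hhN) (hPN hx)) hhN
  have hqu : ∀ x ∈ (P : Subgroup G), (h⁻¹ * x * h) * u = u * (h⁻¹ * x * h) := by
    intro x hx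
    calc h⁻¹ * x * h * u = h⁻¹ * (x * (h * u * h⁻¹)) * h := by group
      _ = h⁻¹ * ((h * u * h⁻¹) * x) * h := by rw [hhu, hZcomm z hzZ x hx]
      _ = _ := by group
  -- a transvection moving the centre
  obtain ⟨x, hxP, hxz⟩ : ∃ x ∈ (P : Subgroup G), x * (h * z₀ * h⁻¹) ≠ (h * z₀ * h⁻¹) * x := by
    by_contra hcon
    push_neg at hcon
    have h1 := hmemZ _ (hconjP _ (hZE hz₀Z)) hcon
    obtain ⟨i, hi⟩ := Subgroup.mem_zpowers_iff.mp (hgen _ h1 z hzZ hz1)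
    refine huZ ?_
    rw [← hhu, conj_zpow, mul_left_inj, mul_right_inj] at hi
    have h2 : z₀ ∈ Subgroup.zpowers u := ⟨i, hi⟩
    have h3 : E ≤ Subgroup.zpowers u := by
      rw [hEgen]; exact sup_le le_rfl (Subgroup.zpowers_le.mpr h2)
    exfalso
    have h4 := Subgroup.card_le_of_le h3
    rw [hEcard, Nat.card_zpowers] at h4
    have h5 : orderOf u ≤ p := Nat.le_of_dvd hpp.pos (orderOf_dvd_of_pow_eq_one ((hEmem u).1 huE).2)
    have h6 := h4.trans h5
    have := hpp.two_le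
    nlinarith
  set b₁ := h⁻¹ * x * h with hb₁
  set e := ⁅b₁, z₀⁆ with he_def
  have he : e ∈ Subgroup.zpowers u ∧ e ≠ 1 := by
    have h1 : e = h⁻¹ * ⁅x, h * z₀ * h⁻¹⁆ * h := by
      rw [he_def, hb₁, commutatorElement_def, commutatorElement_def]; group
    refine ⟨?_, fun h2 => hxz (commutatorElement_eq_one_iff_mul_comm.mp ?_)⟩
    · obtain ⟨i, hi⟩ := Subgroup.mem_zpowers_iff.mp
        (hgen _ (hcomZ x hxP _ (hconjP _ (hZE hz₀Z))) z hzZ hz1)
      refine ⟨i, ?_⟩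
      show u ^ i = e
      rw [h1, ← hi, ← hhu, conj_zpow]
      group
    · rw [h1] at h2
      have : ⁅x, h * z₀ * h⁻¹⁆ = h * (h⁻¹ * ⁅x, h * z₀ * h⁻¹⁆ * h) * h⁻¹ := by group
      rw [this, h2]; group
  have hbe : ∀ w ∈ Subgroup.zpowers u, b₁ * w = w * b₁ := by
    rintro _ ⟨i, rfl⟩
    exact (Commute.zpow_right (hqu x hxP) i).eq
  have hiter : ∀ k : ℕ, b₁ ^ k * z₀ * (b₁ ^ k)⁻¹ = e ^ k * z₀ := by
    intro k
    induction k with
    | zero => simp
    | succ k ih =>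
      have h1 : b₁ * z₀ * b₁⁻¹ = e * z₀ := by rw [he_def, commutatorElement_def]; group
      have h2 : b₁ * e ^ k = e ^ k * b₁ := hbe _ (pow_mem he.1 k)
      calc b₁ ^ (k + 1) * z₀ * (b₁ ^ (k + 1))⁻¹ = b₁ * (b₁ ^ k * z₀ * (b₁ ^ k)⁻¹) * b₁⁻¹ := by
            rw [pow_succ']; group
        _ = b₁ * e ^ k * z₀ * b₁⁻¹ := by rw [ih]; group
        _ = e ^ k * (b₁ * z₀ * b₁⁻¹) := by rw [h2]; group
        _ = _ := by rw [h1, pow_succ, mul_assoc]
  obtain ⟨k, hk⟩ : ∃ k : ℕ, e ^ k = u⁻¹ := by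
    have h1 : Subgroup.zpowers e = Subgroup.zpowers u := by
      refine Subgroup.eq_of_le_of_card_ge (Subgroup.zpowers_le.mpr he.1) ?_
      rw [Nat.card_zpowers, Nat.card_zpowers, orderOf_eq_prime ((hEmem e).1 ?_).2 he.2]
      · exact Nat.le_of_dvd hpp.pos (orderOf_dvd_of_pow_eq_one ((hEmem u).1 huE).2)
      · exact (Subgroup.zpowers_le.mpr huE) he.1
    have h2 : u⁻¹ ∈ Submonoid.powers e := by
      rw [mem_powers_iff_mem_zpowers, h1]; exact inv_mem (Subgroup.mem_zpowers u)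
    exact h2
  set β := b₁ ^ k with hβ
  have hβz : β * z₀ * β⁻¹ = u⁻¹ * z₀ := by rw [hβ, hiter, hk]
  have hβu : β * u * β⁻¹ = u := by
    rw [hβ, mul_inv_eq_iff_eq_mul]
    exact (Commute.pow_left (hqu x hxP) k).eq
  have haz : a * z₀ * a⁻¹ = z₀ := by rw [hZcomm z₀ hz₀Z a haP, mul_inv_cancel_right]
  have hau' : a * u * a⁻¹ = z₀ * u := by rw [hz₀, commutatorElement_def]; group
  have huz : u * z₀ = z₀ * u := hEcomm u huE z₀ (hZE hz₀Z)
  set w := a * β * a with hw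
  have hwz : w * z₀ * w⁻¹ = u⁻¹ := by
    calc w * z₀ * w⁻¹ = a * (β * (a * z₀ * a⁻¹) * β⁻¹) * a⁻¹ := by rw [hw]; group
      _ = a * (u⁻¹ * z₀) * a⁻¹ := by rw [haz, hβz]
      _ = (a * u * a⁻¹)⁻¹ * (a * z₀ * a⁻¹) := by group
      _ = u⁻¹ := by rw [hau', haz]; group
  have hwu : w * u * w⁻¹ = z₀ := by
    calc w * u * w⁻¹ = a * (β * (a * u * a⁻¹) * β⁻¹) * a⁻¹ := by rw [hw]; group
      _ = a * ((β * z₀ * β⁻¹) * (β * u * β⁻¹)) * a⁻¹ := by rw [hau']; group
      _ = a * (u⁻¹ * (z₀ * u)) * a⁻¹ := by rw [hβz, hβu, mul_assoc u⁻¹]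
      _ = z₀ := by rw [← huz, inv_mul_cancel_left, haz]
  set m := w * w with hm
  have hmz : m * z₀ * m⁻¹ = z₀⁻¹ := by
    calc m * z₀ * m⁻¹ = w * (w * z₀ * w⁻¹) * w⁻¹ := by rw [hm]; group
      _ = (w * u * w⁻¹)⁻¹ := by rw [hwz]; group
      _ = _ := by rw [hwu]
  have hmu : m * u * m⁻¹ = u⁻¹ := by
    calc m * u * m⁻¹ = w * (w * u * w⁻¹) * w⁻¹ := by rw [hm]; group
      _ = _ := by rw [hwu, hwz]
  -- inversion on a generating set
  set CE := Subgroup.centralizer (E : Set G) with hCE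
  have hCEmem : ∀ y, y * u = u * y → y * z₀ = z₀ * y → y ∈ CE := by
    intro y h1 h2 d hd
    have h3 : E ≤ Subgroup.centralizer ({y} : Set G) := by
      rw [hEgen]
      exact sup_le (Subgroup.zpowers_le.mpr (Subgroup.mem_centralizer_singleton_iff.mpr h1.symm))
        (Subgroup.zpowers_le.mpr (Subgroup.mem_centralizer_singleton_iff.mpr h2.symm))
    exact Subgroup.mem_centralizer_singleton_iff.mp (h3 hd)
  have hcommute : ∀ y ∈ (P : Subgroup G), y⁻¹ * (m * y * m⁻¹) ∈ CE := by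
    intro y hy
    obtain ⟨i, hi⟩ := Subgroup.mem_zpowers_iff.mp (hgen _ (hcomZ y hy u huP) z₀ hz₀Z hz₀1)
    have hyz : y * z₀ * y⁻¹ = z₀ := by rw [hZcomm z₀ hz₀Z y hy, mul_inv_cancel_right]
    have hyu : y * u * y⁻¹ = z₀ ^ i * u := by rw [hi, commutatorElement_def]; group
    have hmz' : m⁻¹ * z₀ * m = z₀⁻¹ := by
      calc m⁻¹ * z₀ * m = m⁻¹ * (z₀⁻¹)⁻¹ * m := by rw [inv_inv]
        _ = m⁻¹ * (m * z₀ * m⁻¹)⁻¹ * m := by rw [hmz]
        _ = z₀⁻¹ := by group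
    have hmu' : m⁻¹ * u * m = u⁻¹ := by
      calc m⁻¹ * u * m = m⁻¹ * (u⁻¹)⁻¹ * m := by rw [inv_inv]
        _ = m⁻¹ * (m * u * m⁻¹)⁻¹ * m := by rw [hmu]
        _ = u⁻¹ := by group
    have key : ∀ d : G, (m * y * m⁻¹) * d * (m * y * m⁻¹)⁻¹ = y * d * y⁻¹ →
        y⁻¹ * (m * y * m⁻¹) * d = d * (y⁻¹ * (m * y * m⁻¹)) := by
      intro d hd
      calc y⁻¹ * (m * y * m⁻¹) * d
          = y⁻¹ * ((m * y * m⁻¹) * d * (m * y * m⁻¹)⁻¹) * (m * y * m⁻¹) := by group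
        _ = _ := by rw [hd]; group
    refine hCEmem _ (key u ?_) (key z₀ ?_)
    · calc m * y * m⁻¹ * u * (m * y * m⁻¹)⁻¹ = m * (y * (m⁻¹ * u * m) * y⁻¹) * m⁻¹ := by group
        _ = m * (y * u⁻¹ * y⁻¹) * m⁻¹ := by rw [hmu']
        _ = (m * (y * u * y⁻¹) * m⁻¹)⁻¹ := by group
        _ = ((m * z₀ * m⁻¹) ^ i * (m * u * m⁻¹))⁻¹ := by rw [hyu, conj_zpow]; group
        _ = (z₀⁻¹ ^ i * u⁻¹)⁻¹ := by rw [hmz, hmu]
        _ = u * z₀ ^ i := by group
        _ = z₀ ^ i * u := (Commute.zpow_right huz i).eq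
        _ = _ := hyu.symm
    · calc m * y * m⁻¹ * z₀ * (m * y * m⁻¹)⁻¹ = m * (y * (m⁻¹ * z₀ * m) * y⁻¹) * m⁻¹ := by group
        _ = m * (y * z₀⁻¹ * y⁻¹) * m⁻¹ := by rw [hmz']
        _ = (m * (y * z₀ * y⁻¹) * m⁻¹)⁻¹ := by group
        _ = z₀ := by rw [hyz, hmz, inv_inv]
        _ = _ := hyz.symm
  -- Frattini argument
  set K := (P : Subgroup G) ⊔ CE with hK
  have hPK : (P : Subgroup G) ≤ K := le_sup_left
  have hmK : ((m • P : Sylow p G) : Subgroup G) ≤ K := by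
    intro y hy
    rw [Sylow.coe_subgroup_smul, Subgroup.mem_smul_pointwise_iff_exists] at hy
    obtain ⟨v, hv, rfl⟩ := hy
    rw [MulAut.smul_def, MulAut.conj_apply, show m * v * m⁻¹ = v * (v⁻¹ * (m * v * m⁻¹)) by group]
    exact K.mul_mem (hPK hv) ((le_sup_right : CE ≤ K) (hcommute v hv))
  obtain ⟨r, hr⟩ := MulAction.exists_smul_eq ↥K ((m • P).subtype hmK) (P.subtype hPK)
  rw [Sylow.smul_subtype hmK r] at hr
  have hr' : (r : G) • (m • P) = P := Sylow.subtype_injective hr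
  rw [smul_smul, Sylow.smul_eq_iff_mem_normalizer] at hr'
  have hPCE : (P : Subgroup G) ≤ Subgroup.normalizer (CE : Set G) :=
    fun v hv => by
      have key : ∀ v ∈ (P : Subgroup G), ∀ d ∈ CE, v * d * v⁻¹ ∈ CE := by
        intro v hv d hd q hq
        have h1 := hd _ ((Subgroup.mem_normalizer_iff.mp (hPN (inv_mem hv)) q).mp hq)
        rw [inv_inv] at h1
        calc q * (v * d * v⁻¹) = v * ((v⁻¹ * q * v) * d) * v⁻¹ := by group
          _ = v * (d * (v⁻¹ * q * v)) * v⁻¹ := by rw [h1]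
          _ = _ := by group
      refine Subgroup.mem_normalizer_iff.mpr fun d => ⟨key v hv d, fun hd => ?_⟩
      have := key v⁻¹ (inv_mem hv) _ hd
      simpa [mul_assoc] using this
  have hr2 : (r : G) ∈ (((P : Subgroup G) : Set G) * (CE : Set G)) := by
    rw [← Subgroup.coe_mul_of_left_le_normalizer_right _ _ hPCE]
    exact r.2
  obtain ⟨y, hy, d, hd, hyd⟩ := Set.mem_mul.mp hr2
  set n := d * m with hn_def
  have hn : n ∈ Subgroup.normalizer ((P : Subgroup G) : Set G) := by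
    have : n = y⁻¹ * ((r : G) * m) := by rw [hn_def, ← hyd]; group
    rw [this]
    exact Subgroup.mul_mem _ (Subgroup.le_normalizer (inv_mem hy)) hr'
  have hnE : ∀ v ∈ E, n * v * n⁻¹ = m * v * m⁻¹ := by
    intro v hv
    have hmv : m * v * m⁻¹ ∈ E := by
      have hwN : w ∈ Subgroup.normalizer (E : Set G) := by
        rw [hw]
        exact Subgroup.mul_mem _ (Subgroup.mul_mem _ (hPN haP)
          (Subgroup.pow_mem _ (hhQ x hxP) k)) (hPN haP)
      exact (Subgroup.mem_normalizer_iff.mp (Subgroup.mul_mem _ hwN hwN) v).mp hv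
    calc n * v * n⁻¹ = d * (m * v * m⁻¹) * d⁻¹ := by rw [hn_def]; group
      _ = (m * v * m⁻¹) * d * d⁻¹ := by rw [← hd _ hmv]
      _ = _ := mul_inv_cancel_right _ _
  -- the action on a `p`-th power
  have hnu : n * u * n⁻¹ = u⁻¹ := (hnE u huE).trans hmu
  have hnz : n * z₀ * n⁻¹ = z₀⁻¹ := (hnE z₀ (hZE hz₀Z)).trans hmz
  have hna : n * a * n⁻¹ ∈ (P : Subgroup G) := (Subgroup.mem_normalizer_iff.mp hn a).mp haP
  set a' := n * a * n⁻¹ with ha'
  have ha'u : a' * u * a'⁻¹ = z₀ * u := by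
    have hnu' : n⁻¹ * u * n = u⁻¹ := by
      calc n⁻¹ * u * n = n⁻¹ * (u⁻¹)⁻¹ * n := by rw [inv_inv]
        _ = n⁻¹ * (n * u * n⁻¹)⁻¹ * n := by rw [hnu]
        _ = u⁻¹ := by group
    calc a' * u * a'⁻¹ = n * (a * (n⁻¹ * u * n) * a⁻¹) * n⁻¹ := by rw [ha']; group
      _ = n * (a * u⁻¹ * a⁻¹) * n⁻¹ := by rw [hnu']
      _ = (n * (a * u * a⁻¹) * n⁻¹)⁻¹ := by group
      _ = ((n * z₀ * n⁻¹) * (n * u * n⁻¹))⁻¹ := by rw [hau']; group
      _ = (z₀⁻¹ * u⁻¹)⁻¹ := by rw [hnu, hnz]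
      _ = u * z₀ := by group
      _ = _ := huz
  have hdiff : a' * a⁻¹ ∈ E := by
    refine hEcent _ (Subgroup.mul_mem _ hna (inv_mem haP)) ?_
    have h1 : a⁻¹ * u = z₀⁻¹ * u * a⁻¹ := by
      have h2 : a⁻¹ * z₀ = z₀ * a⁻¹ := hZcomm z₀ hz₀Z a⁻¹ (inv_mem haP)
      calc a⁻¹ * u = a⁻¹ * (z₀⁻¹ * (a * u * a⁻¹)) := by rw [hau']; group
        _ = (a⁻¹ * z₀⁻¹) * (a * u * a⁻¹) := by group
        _ = (z₀⁻¹ * a⁻¹) * (a * u * a⁻¹) := by
            rw [((show Commute a⁻¹ z₀ from h2).inv_right).eq]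
        _ = _ := by group
    calc a' * a⁻¹ * u = a' * (a⁻¹ * u) := by group
      _ = (a' * z₀⁻¹) * u * a⁻¹ := by rw [h1]; group
      _ = (z₀⁻¹ * a') * u * a⁻¹ := by rw [hZcomm z₀⁻¹ (inv_mem hz₀Z) a' hna]
      _ = z₀⁻¹ * (a' * u * a'⁻¹) * a' * a⁻¹ := by group
      _ = u * (a' * a⁻¹) := by rw [ha'u]; group
  have hfix : a' ^ p = a ^ p := by
    have h1 : a' = (a' * a⁻¹) * a := by group
    rw [h1, hpowP _ (hEP hdiff) _ haP, ((hEmem _).1 hdiff).2, one_mul]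
  have hapZ : a ^ p ∈ Z :=
    ⟨(⟨a, haP⟩ : ↥P) ^ p, CfsgLib.PGroups.Extraspecial.pow_mem_center hE _, rfl⟩
  obtain ⟨i, hi⟩ := Subgroup.mem_zpowers_iff.mp (hgen _ hapZ z₀ hz₀Z hz₀1)
  have hinv : n * a ^ p * n⁻¹ = (a ^ p)⁻¹ := by
    rw [← hi, ← conj_zpow, hnz, inv_zpow]
  rw [← conj_pow, ← ha', hfix] at hinv
  have hsq : (a ^ p) ^ 2 = 1 := by
    rw [sq]; exact mul_eq_one_iff_eq_inv.mpr hinv
  have hpp' : (a ^ p) ^ p = 1 := ((hEmem _).1 (hZE hapZ)).2
  have hone : a ^ p = 1 := by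
    have h1 := Nat.dvd_gcd (orderOf_dvd_of_pow_eq_one hsq) (orderOf_dvd_of_pow_eq_one hpp')
    rw [Nat.Coprime.gcd_eq_one ((Nat.coprime_primes Nat.prime_two hpp).mpr (Ne.symm hp))] at h1
    exact orderOf_eq_one_iff.mp (Nat.dvd_one.mp h1)
  exact hau (hEcomm a ((hEmem a).2 ⟨haP, hone⟩) u huE)

end CfsgLib.LocalEven.ExpSq
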