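import Cfsg.Agent.Lib.LocalEven.ExtraspecialAutomizer
import Cfsg.Agent.Lib.Fusion.SmallEssentialAbelian
import Cfsg.Agent.Lib.PGroups.Extraspecial

/-!
Sylow subgroups extraspecial of order `p ^ 3`, exponent `p`: elements of `N(P)` fixing a given
maximal abelian subgroup with prescribed action on `P / Z(P)`.
-/

set_option autoImplicit false
set_option linter.style.haveILetI false

namespace CfsgLib.LocalEven.ExtraAut

open Matrix
open scoped LinearAlgebra.Projectivization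

variable {G : Type*} [Group G] {p : ℕ} [Fact p.Prime]

theorem zpow_eq_of_cast {x : G} (hx : x ^ p = 1) {i j : ℤ} (h : (i : ZMod p) = (j : ZMod p)) :
    x ^ i = x ^ j := by
  rw [zpow_eq_zpow_iff_modEq]
  exact ((ZMod.intCast_eq_intCast_iff i j p).1 h).of_dvd
    (Int.natCast_dvd_natCast.2 (orderOf_dvd_of_pow_eq_one hx))

theorem cast_eq_of_zpow {x : G} (hx : x ^ p = 1) (hx1 : x ≠ 1) {i j : ℤ} (h : x ^ i = x ^ j) :
    (i : ZMod p) = (j : ZMod p) := by
  rw [zpow_eq_zpow_iff_modEq, orderOf_eq_prime hx hx1] at h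
  exact (ZMod.intCast_eq_intCast_iff i j p).2 h

/-- A shear and its powers. -/
theorem conj_zpow_shear {c a z : G} (ha : c * a * c⁻¹ = a) (hz : c * z * c⁻¹ = z * a) (n : ℤ) :
    c ^ n * a * (c ^ n)⁻¹ = a ∧ c ^ n * z * (c ^ n)⁻¹ = z * a ^ n := by
  have hca : Commute c a := by
    unfold Commute SemiconjBy
    exact mul_inv_eq_iff_eq_mul.1 ha
  have h1 : ∀ n : ℤ, c ^ n * a * (c ^ n)⁻¹ = a := fun n => by rw [(hca.zpow_left n).eq]; group
  refine ⟨h1 n, ?_⟩
  induction n using Int.induction_on with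
  | zero => simp
  | succ i ih =>
    rw [_root_.zpow_add_one, show c ^ (i : ℤ) * c * z * (c ^ (i : ℤ) * c)⁻¹ =
      c ^ (i : ℤ) * (c * z * c⁻¹) * (c ^ (i : ℤ))⁻¹ by group, hz,
      show c ^ (i : ℤ) * (z * a) * (c ^ (i : ℤ))⁻¹ =
      (c ^ (i : ℤ) * z * (c ^ (i : ℤ))⁻¹) * (c ^ (i : ℤ) * a * (c ^ (i : ℤ))⁻¹) by group, ih, h1,
      _root_.zpow_add_one, mul_assoc]
  | pred i ih =>
    have hz' : c⁻¹ * z * c = z * a⁻¹ := by
      have e : z = c⁻¹ * (z * a) * c := by rw [← hz]; group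
      calc c⁻¹ * z * c = c⁻¹ * (z * a) * c * (c⁻¹ * a * c)⁻¹ := by group
        _ = z * a⁻¹ := by rw [← e, mul_assoc c⁻¹ a c, hca.symm.eq, inv_mul_cancel_left]
    rw [_root_.zpow_sub_one, show c ^ (-(i : ℤ)) * c⁻¹ * z * (c ^ (-(i : ℤ)) * c⁻¹)⁻¹ =
      c ^ (-(i : ℤ)) * (c⁻¹ * z * c) * (c ^ (-(i : ℤ)))⁻¹ by group, hz',
      show c ^ (-(i : ℤ)) * (z * a⁻¹) * (c ^ (-(i : ℤ)))⁻¹ =
      (c ^ (-(i : ℤ)) * z * (c ^ (-(i : ℤ)))⁻¹) * (c ^ (-(i : ℤ)) * a * (c ^ (-(i : ℤ)))⁻¹)⁻¹ by group, ih, h1,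
      _root_.zpow_sub_one, mul_assoc]

variable [Finite G] (P : Sylow p G)

/-- The Sylow subgroups above a `p`-subgroup of a subgroup are conjugate inside it. -/
theorem exists_conj_back {g : G} {K : Subgroup G} (hP : (P : Subgroup G) ≤ K)
    (hg : ∀ x ∈ (P : Subgroup G), g * x * g⁻¹ ∈ K) :
    ∃ k ∈ K, k * g ∈ Subgroup.normalizer ((P : Subgroup G) : Set G) := by
  have hle : ((g • P : Sylow p G) : Subgroup G) ≤ K := by
    intro y hy
    rw [Sylow.coe_subgroup_smul, Subgroup.mem_pointwise_smul_iff_inv_smul_mem] at hy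
    have := hg _ hy
    simpa [MulAut.smul_def, mul_assoc] using this
  obtain ⟨k, hk⟩ := MulAction.exists_smul_eq ↥K ((g • P).subtype hle) (P.subtype hP)
  refine ⟨k, k.2, ?_⟩
  rw [Sylow.smul_subtype] at hk
  have hk2 : (k : G) • g • P = P := Sylow.subtype_injective hk
  rw [← mul_smul] at hk2
  exact Sylow.smul_eq_iff_mem_normalizer.1 hk2

section Basics

variable {P} (hE : Cfsg.IsExtraspecial p ↥(P : Subgroup G)) (hcard : Nat.card ↥(P : Subgroup G) = p ^ 3)
include hE hcard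

theorem sup_eq (A B : Subgroup G) (hAP : A ≤ (P : Subgroup G)) (hA : Nat.card A = p ^ 2)
    (hB : B ≤ (P : Subgroup G)) (hBA : ¬ B ≤ A) : A ⊔ B = (P : Subgroup G) := by
  have h1 : A ⊔ B ≤ (P : Subgroup G) := sup_le hAP hB
  refine Subgroup.eq_of_le_of_card_ge h1 ?_
  have h2 := Subgroup.card_dvd_of_le h1
  rw [hcard] at h2 ⊢
  obtain ⟨j, hj, hj'⟩ := (Nat.dvd_prime_pow Fact.out).1 h2
  rw [hj']
  refine Nat.pow_le_pow_right (Fact.out : p.Prime).pos ?_
  by_contra hlt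
  have h4 : j ≤ 2 := by omega
  refine hBA ((le_sup_right : B ≤ A ⊔ B).trans (Subgroup.eq_of_le_of_card_ge le_sup_left ?_).symm.le)
  rw [hj', hA]
  exact Nat.pow_le_pow_right (Fact.out : p.Prime).pos h4

theorem center_le (A : Subgroup G) (hAP : A ≤ (P : Subgroup G)) (hA : Nat.card A = p ^ 2)
    (z : ↥(P : Subgroup G)) (hz : z ∈ Subgroup.center ↥(P : Subgroup G)) : (z : G) ∈ A := by
  haveI := IsPGroup.isMulCommutative_of_card_eq_prime_sq hA
  by_contra hzA
  refine CfsgLib.PGroups.Extraspecial.not_isMulCommutative hE ⟨⟨fun x y => Subtype.ext ?_⟩⟩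
  have h := sup_eq hE hcard A (Subgroup.zpowers (z : G)) hAP hA (Subgroup.zpowers_le.2 z.2)
    (fun h => hzA (h (Subgroup.mem_zpowers _)))
  haveI : IsMulCommutative ↥(Subgroup.closure ((A : Set G) ∪ {(z : G)})) := by
    refine Subgroup.isMulCommutative_closure ?_
    rintro u (hu | rfl) v (hv | rfl)
    · exact Subgroup.mul_comm_of_mem_isMulCommutative A hu hv
    · exact congrArg Subtype.val (Subgroup.mem_center_iff.1 hz ⟨u, hAP hu⟩)
    · exact (congrArg Subtype.val (Subgroup.mem_center_iff.1 hz ⟨v, hAP hv⟩)).symm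
    · rfl
  have hc : (P : Subgroup G) = Subgroup.closure ((A : Set G) ∪ {(z : G)}) := by
    rw [Subgroup.closure_union, Subgroup.closure_eq, ← Subgroup.zpowers_eq_closure, h]
  exact Subgroup.mul_comm_of_mem_isMulCommutative (Subgroup.closure ((A : Set G) ∪ {(z : G)}))
    (hc ▸ x.2) (hc ▸ y.2)

theorem eq_of_shared (A B : Subgroup G) (hAP : A ≤ (P : Subgroup G)) (hBP : B ≤ (P : Subgroup G))
    (hA : Nat.card A = p ^ 2) (hB : Nat.card B = p ^ 2) {a : G} (haA : a ∈ A) (haB : a ∈ B)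
    (hanc : ¬ ∀ y ∈ (P : Subgroup G), y * a = a * y) : A = B := by
  by_contra hne
  have hnle : ¬ B ≤ A := fun h => hne (Subgroup.eq_of_le_of_card_ge h (by rw [hA, hB])).symm
  apply hanc
  haveI := IsPGroup.isMulCommutative_of_card_eq_prime_sq hA
  haveI := IsPGroup.isMulCommutative_of_card_eq_prime_sq hB
  have h : (P : Subgroup G) ≤ Subgroup.centralizer {a} := by
    rw [← sup_eq hE hcard A B hAP hA hBP hnle]
    exact sup_le
      (fun x hx => Subgroup.mem_centralizer_singleton_iff.2 (Subgroup.mul_comm_of_mem_isMulCommutative A hx haA))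
      (fun x hx => Subgroup.mem_centralizer_singleton_iff.2 (Subgroup.mul_comm_of_mem_isMulCommutative B hx haB))
  exact fun y hy => Subgroup.mem_centralizer_singleton_iff.1 (h hy)

theorem coord_in (hexp : ∀ x ∈ (P : Subgroup G), x ^ p = 1) (A : Subgroup G) (hAP : A ≤ (P : Subgroup G))
    (hA : Nat.card A = p ^ 2) {a : G} (haA : a ∈ A) (hanc : ¬ ∀ y ∈ (P : Subgroup G), y * a = a * y)
    (χ : ↥(P : Subgroup G) → (Fin 2 → ZMod p)) (χmul : ∀ x y, χ (x * y) = χ x + χ y)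
    (χzero : ∀ x, χ x = 0 ↔ x ∈ Subgroup.center ↥(P : Subgroup G))
    (χzpow : ∀ x (n : ℤ), χ (x ^ n) = (n : ZMod p) • χ x) {w : G} (hw : w ∈ A) :
    ∃ s : ZMod p, χ ⟨w, hAP hw⟩ = s • χ ⟨a, hAP haA⟩ := by
  set Zc := (Subgroup.center ↥(P : Subgroup G)).map (P : Subgroup G).subtype with hZc
  have hcy : Subgroup.zpowers a ≤ Subgroup.normalizer (Zc : Set G) := by
    rw [Subgroup.zpowers_le, Subgroup.mem_normalizer_iff]
    intro y
    have key : ∀ y ∈ Zc, a * y = y * a := by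
      rintro y ⟨y', hy', rfl⟩
      exact congrArg Subtype.val (Subgroup.mem_center_iff.1 hy' ⟨a, hAP haA⟩)
    constructor <;> intro hy
    · rwa [key y hy, mul_inv_cancel_right]
    · have h := key _ hy
      have : y = a * y * a⁻¹ := by
        calc y = a⁻¹ * (a * y * a⁻¹) * a := by group
          _ = a⁻¹ * a * (a * y * a⁻¹) := by rw [mul_assoc, ← h, ← mul_assoc]
          _ = a * y * a⁻¹ := by group
      rwa [this]
  have hle : Subgroup.zpowers a ⊔ Zc ≤ A := sup_le (Subgroup.zpowers_le.2 haA) (by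
    rintro y ⟨y', hy', rfl⟩
    exact center_le hE hcard A hAP hA y' hy')
  have heq : Subgroup.zpowers a ⊔ Zc = A := by
    refine Subgroup.eq_of_le_of_card_ge hle ?_
    have hd := Subgroup.card_dvd_of_le hle
    rw [hA] at hd ⊢
    obtain ⟨j, hj, hj'⟩ := (Nat.dvd_prime_pow Fact.out).1 hd
    rw [hj']
    refine Nat.pow_le_pow_right (Fact.out : p.Prime).pos ?_
    by_contra hlt
    have hZcard : Nat.card Zc = p := by
      rw [hZc, Subgroup.card_map_of_injective (P : Subgroup G).subtype_injective]; exact hE.2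
    have h1 : Zc = Subgroup.zpowers a ⊔ Zc := Subgroup.eq_of_le_of_card_ge le_sup_right (by
      rw [hZcard, hj']
      calc p ^ j ≤ p ^ 1 := Nat.pow_le_pow_right (Fact.out : p.Prime).pos (by omega)
        _ = p := pow_one p)
    obtain ⟨a', ha', he⟩ := h1.ge ((le_sup_left : Subgroup.zpowers a ≤ _) (Subgroup.mem_zpowers a))
    refine hanc fun y hy => ?_
    rw [← he]
    exact congrArg Subtype.val (Subgroup.mem_center_iff.1 ha' ⟨y, hy⟩)
  have hmem : w ∈ Subgroup.zpowers a ⊔ Zc := heq.ge hw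
  rw [← SetLike.mem_coe, Subgroup.coe_mul_of_left_le_normalizer_right _ _ hcy] at hmem
  obtain ⟨u, ⟨n, rfl⟩, v, ⟨v', hv', rfl⟩, he⟩ := hmem
  refine ⟨(n : ZMod p), ?_⟩
  rw [show (⟨w, hAP hw⟩ : ↥(P : Subgroup G)) = (⟨a, hAP haA⟩ : ↥(P : Subgroup G)) ^ n * v' from
    Subtype.ext (by simp only [Subgroup.coe_mul, SubgroupClass.coe_zpow]; exact he.symm),
    χmul, (χzero v').2 hv', add_zero, χzpow]

end Basics

/-- For a maximal abelian subgroup with a shear fixing a non-central element, `N(P)` contains an element acting on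
`P / Z(P)` triangularly with diagonal `(l, l⁻²)`, `l` of order `p - 1`. -/
theorem exists_good (hE : Cfsg.IsExtraspecial p ↥(P : Subgroup G)) (hcard : Nat.card ↥(P : Subgroup G) = p ^ 3)
    (hexp : ∀ x ∈ (P : Subgroup G), x ^ p = 1) (A : Subgroup G) (hAP : A ≤ (P : Subgroup G))
    (hA : Nat.card A = p ^ 2)
    (hlow : ∀ a z : G, a ∈ A → z ∈ A → z ≠ 1 → (∀ y ∈ (P : Subgroup G), y * z = z * y) →
      (¬ ∀ y ∈ (P : Subgroup G), y * a = a * y) → ∃ c : G, c * a * c⁻¹ = a ∧ c * z * c⁻¹ = z * a) :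
    ∃ (a b g : G) (l r : ℤ), a ∈ A ∧ b ∈ (P : Subgroup G) ∧ b ∉ A ∧ (¬ ∀ y ∈ (P : Subgroup G), y * a = a * y) ∧
      g ∈ Subgroup.normalizer ((P : Subgroup G) : Set G) ∧
      (∀ y ∈ (P : Subgroup G), y * ((g * a * g⁻¹)⁻¹ * a ^ l) = ((g * a * g⁻¹)⁻¹ * a ^ l) * y) ∧
      (∃ x ∈ A, g * b * g⁻¹ = b ^ r * x) ∧
      orderOf (l : ZMod p) = p - 1 ∧ (r : ZMod p) * (l : ZMod p) ^ 2 = 1 := by
  haveI := IsPGroup.isMulCommutative_of_card_eq_prime_sq hA
  have hAc : ∀ x ∈ A, ∀ y ∈ A, x * y = y * x := fun x hx y hy => Subgroup.mul_comm_of_mem_isMulCommutative A hx hy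
  have hsup : ∀ B : Subgroup G, B ≤ (P : Subgroup G) → ¬ B ≤ A → A ⊔ B = (P : Subgroup G) :=
    fun B hB hBA => sup_eq hE hcard A B hAP hA hB hBA
  have hcen := center_le hE hcard A hAP hA
  -- a and b
  obtain ⟨a, haA, hanc⟩ : ∃ a ∈ A, ¬ ∀ y ∈ (P : Subgroup G), y * a = a * y := by
    by_contra hcon
    push Not at hcon
    have h1 : Nat.card A ≤ Nat.card (Subgroup.center ↥(P : Subgroup G)) := by
      refine Nat.card_le_card_of_injective
        (fun x : A => (⟨⟨x, hAP x.2⟩, Subgroup.mem_center_iff.2 fun y => Subtype.ext (hcon x x.2 y y.2)⟩ :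
          Subgroup.center ↥(P : Subgroup G))) ?_
      intro x y hxy
      exact Subtype.ext (congrArg (fun t : Subgroup.center ↥(P : Subgroup G) => ((t : ↥(P : Subgroup G)) : G)) hxy)
    rw [hA, hE.2] at h1
    have := (Fact.out : p.Prime).two_le
    nlinarith
  obtain ⟨b, hbP, hbA⟩ : ∃ b ∈ (P : Subgroup G), b ∉ A := by
    by_contra hcon
    push Not at hcon
    have h1 := Subgroup.card_le_of_le (show (P : Subgroup G) ≤ A from hcon)
    rw [hcard, hA] at h1
    exact absurd h1 (Nat.pow_lt_pow_right (Fact.out : p.Prime).one_lt (by norm_num)).not_ge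
  obtain ⟨z, hz⟩ : ∃ z : G, z = b * a * b⁻¹ * a⁻¹ := ⟨_, rfl⟩
  have hzc : ∀ y ∈ (P : Subgroup G), y * z = z * y := fun y hy => hz ▸
    congrArg Subtype.val (Subgroup.mem_center_iff.1
      (CfsgLib.PGroups.Extraspecial.commutator_mem_center hE (⟨b, hbP⟩ : ↥(P : Subgroup G)) ⟨a, hAP haA⟩) ⟨y, hy⟩)
  have hzA : z ∈ A := hz ▸
    hcen _ (CfsgLib.PGroups.Extraspecial.commutator_mem_center hE (⟨b, hbP⟩ : ↥(P : Subgroup G)) ⟨a, hAP haA⟩)
  have hab : b * a ≠ a * b := by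
    intro hcomm
    apply hanc
    have hP : (P : Subgroup G) ≤ Subgroup.centralizer {a} := by
      rw [← hsup (Subgroup.zpowers b) (Subgroup.zpowers_le.2 hbP) (fun h => hbA (h (Subgroup.mem_zpowers _)))]
      refine sup_le (fun x hx => Subgroup.mem_centralizer_singleton_iff.2 (hAc x hx a haA)) ?_
      exact Subgroup.zpowers_le.2 (Subgroup.mem_centralizer_singleton_iff.2 hcomm)
    exact fun y hy => Subgroup.mem_centralizer_singleton_iff.1 (hP hy)
  have hz1 : z ≠ 1 := fun e => hab (mul_inv_eq_iff_eq_mul.1 (mul_inv_eq_one.1 (hz.symm.trans e)))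
  obtain ⟨c, hca, hcz⟩ := hlow a z haA hzA hz1 hzc hanc
  have haz : Commute a z := hAc a haA z hzA
  have hba : b * a * b⁻¹ = a * z := by
    rw [haz.eq, hz]; group
  have hbz : b * z * b⁻¹ = z := by rw [hzc b hbP]; group
  have hap : a ^ p = 1 := hexp a (hAP haA)
  have hzp : z ^ p = 1 := hexp z (hAP hzA)
  -- the diagonal element
  have hword : ∀ m ν : ℤ, (m : ZMod p) * ν = -1 → ∀ i : ℤ,
      MulAut.conj (b ^ m * c ^ ν * b ^ m) (a ^ i) = z ^ (m * i) ∧
      MulAut.conj (b ^ m * c ^ ν * b ^ m) (z ^ i) = a ^ (ν * i) := by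
    intro m ν hmν i
    have e1 : MulAut.conj (b ^ m) a = a * z ^ m := (conj_zpow_shear hbz hba m).2
    have e2 : MulAut.conj (b ^ m) z = z := (conj_zpow_shear hbz hba m).1
    have e3 : MulAut.conj (c ^ ν) a = a := (conj_zpow_shear hca hcz ν).1
    have e4 : MulAut.conj (c ^ ν) z = z * a ^ ν := (conj_zpow_shear hca hcz ν).2
    have hpow : ∀ x ∈ ({a, z} : Set G), x ^ (1 + m * ν) = 1 := by
      intro x hx
      have hxp : x ^ p = 1 := by rcases hx with rfl | rfl <;> assumption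
      rw [zpow_eq_of_cast hxp (j := 0) (by push_cast; rw [hmν]; ring), zpow_zero]
    have hsplit : ∀ x : G, MulAut.conj (b ^ m * c ^ ν * b ^ m) x =
        MulAut.conj (b ^ m) (MulAut.conj (c ^ ν) (MulAut.conj (b ^ m) x)) := fun x => by
      simp only [MulAut.conj_apply]; group
    have hWa : MulAut.conj (b ^ m * c ^ ν * b ^ m) a = z ^ m := by
      rw [hsplit, e1, map_mul (MulAut.conj (c ^ ν)), map_zpow (MulAut.conj (c ^ ν)), e3, e4,
        (haz.symm.zpow_right ν).mul_zpow m, map_mul (MulAut.conj (b ^ m)), map_mul (MulAut.conj (b ^ m)),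
        map_zpow (MulAut.conj (b ^ m)), map_zpow (MulAut.conj (b ^ m)), map_zpow (MulAut.conj (b ^ m)), e1, e2,
        (haz.zpow_right m).mul_zpow, ← _root_.zpow_mul z m ν, (haz.zpow_zpow ν (m * ν)).mul_zpow m]
      simp only [← _root_.zpow_mul]
      have c1 : Commute (z ^ m) (a ^ (ν * m)) := (haz.zpow_zpow (ν * m) m).symm
      calc a * z ^ m * (z ^ m * (a ^ (ν * m) * z ^ (m * ν * m)))
          = a * ((z ^ m * z ^ m) * a ^ (ν * m)) * z ^ (m * ν * m) := by group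
        _ = a * (a ^ (ν * m) * (z ^ m * z ^ m)) * z ^ (m * ν * m) := by rw [(c1.mul_left c1).eq]
        _ = a ^ (1 + ν * m) * z ^ (m + m * ν * m) * z ^ m := by group
        _ = z ^ m := by
            rw [zpow_eq_of_cast hap (i := 1 + ν * m) (j := 0) (by push_cast; linear_combination hmν),
              zpow_eq_of_cast hzp (i := m + m * ν * m) (j := 0)
                (by push_cast; linear_combination (m : ZMod p) * hmν), zpow_zero, zpow_zero, one_mul, one_mul]
    have hWz : MulAut.conj (b ^ m * c ^ ν * b ^ m) z = a ^ ν := by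
      rw [hsplit, e2, e4, map_mul (MulAut.conj (b ^ m)), map_zpow (MulAut.conj (b ^ m)), e2, e1,
        (haz.zpow_right m).mul_zpow ν, ← _root_.zpow_mul z, ← mul_assoc, ← (haz.zpow_left ν).eq, mul_assoc,
        ← _root_.zpow_one_add, hpow z (Or.inr rfl), mul_one]
    exact ⟨by rw [map_zpow, hWa, ← _root_.zpow_mul], by rw [map_zpow, hWz, ← _root_.zpow_mul]⟩
  obtain ⟨u, hu⟩ := IsCyclic.exists_ofOrder_eq_natCard (α := (ZMod p)ˣ)
  rw [Nat.card_eq_fintype_card, ZMod.card_units] at hu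
  obtain ⟨m, hm⟩ : ∃ m : ℤ, (m : ZMod p) = ((u⁻¹ : (ZMod p)ˣ) : ZMod p) := ZMod.intCast_surjective _
  obtain ⟨l, hl⟩ : ∃ l : ℤ, (l : ZMod p) = (u : ZMod p) := ZMod.intCast_surjective _
  have hml : (m : ZMod p) * l = 1 := by rw [hm, hl, ← Units.val_mul, inv_mul_cancel, Units.val_one]
  set g₀ := b ^ m * c ^ (-l) * b ^ m * (b ^ (-1 : ℤ) * c ^ (1 : ℤ) * b ^ (-1 : ℤ)) with hg₀
  have hga : g₀ * a * g₀⁻¹ = a ^ l := by
    have h1 := (hword (-1) 1 (by push_cast; ring) 1).1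
    have h2 := (hword m (-l) (by push_cast; rw [mul_neg, hml]) ((-1) * 1)).2
    rw [zpow_one a] at h1
    rw [show g₀ * a * g₀⁻¹ = MulAut.conj (b ^ m * c ^ (-l) * b ^ m)
      (MulAut.conj (b ^ (-1 : ℤ) * c ^ (1 : ℤ) * b ^ (-1 : ℤ)) a) by
        rw [← MulAut.mul_apply, ← map_mul]; rfl, h1, h2]
    ring_nf
  have hgz : g₀ * z * g₀⁻¹ = z ^ m := by
    have h1 := (hword (-1) 1 (by push_cast; ring) 1).2
    have h2 := (hword m (-l) (by push_cast; rw [mul_neg, hml]) (1 * 1)).1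
    rw [zpow_one z] at h1
    rw [show g₀ * z * g₀⁻¹ = MulAut.conj (b ^ m * c ^ (-l) * b ^ m)
      (MulAut.conj (b ^ (-1 : ℤ) * c ^ (1 : ℤ) * b ^ (-1 : ℤ)) z) by
        rw [← MulAut.mul_apply, ← map_mul]; rfl, h1, h2]
    ring_nf
  -- correction into N(P)
  let K : Subgroup G :=
    { carrier := {x | x * z * x⁻¹ = z ∧ ∃ i : ℤ, x * a * x⁻¹ = a * z ^ i}
      one_mem' := ⟨by simp, 0, by simp⟩
      mul_mem' := by
        rintro x y ⟨hx, i, hi⟩ ⟨hy, j, hj⟩
        refine ⟨by rw [show x * y * z * (x * y)⁻¹ = x * (y * z * y⁻¹) * x⁻¹ by group, hy, hx], i + j, ?_⟩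
        rw [show x * y * a * (x * y)⁻¹ = x * (y * a * y⁻¹) * x⁻¹ by group, hj, ← conj_mul, ← conj_zpow, hx, hi,
          mul_assoc, ← _root_.zpow_add]
      inv_mem' := by
        rintro x ⟨hx, i, hi⟩
        have hx' : x⁻¹ * z * x⁻¹⁻¹ = z := by
          conv_lhs => rw [← hx]
          group
        refine ⟨hx', -i, ?_⟩
        calc x⁻¹ * a * x⁻¹⁻¹ = x⁻¹ * (x * a * x⁻¹ * (z ^ i)⁻¹) * x⁻¹⁻¹ := by rw [hi]; group
          _ = a * (x⁻¹ * z * x⁻¹⁻¹) ^ (-i) := by rw [conj_zpow]; group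
          _ = a * z ^ (-i) := by rw [hx'] }
  have hPK : (P : Subgroup G) ≤ K := by
    rw [← hsup (Subgroup.zpowers b) (Subgroup.zpowers_le.2 hbP) (fun h => hbA (h (Subgroup.mem_zpowers _)))]
    refine sup_le (fun x hx => ⟨?_, 0, ?_⟩) (Subgroup.zpowers_le.2 ⟨hbz, 1, by rw [zpow_one]; exact hba⟩)
    · rw [hAc x hx z hzA]; group
    · rw [hAc x hx a haA]; group
  have hgP : ∀ x ∈ (P : Subgroup G), g₀ * x * g₀⁻¹ ∈ K := by
    intro x hx
    obtain ⟨hxz, i, hi⟩ := hPK hx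
    have hgim : MulAut.conj g₀ (z ^ l) = z := by
      rw [map_zpow, MulAut.conj_apply, hgz, ← _root_.zpow_mul,
        zpow_eq_of_cast hzp (j := 1) (by push_cast; exact hml), zpow_one]
    have hgia : MulAut.conj g₀ (a ^ m) = a := by
      rw [map_zpow, MulAut.conj_apply, hga, ← _root_.zpow_mul,
        zpow_eq_of_cast hap (j := 1) (by push_cast; rw [mul_comm]; exact hml), zpow_one]
    refine ⟨?_, (i * m) * m, ?_⟩
    · calc g₀ * x * g₀⁻¹ * z * (g₀ * x * g₀⁻¹)⁻¹
          = MulAut.conj g₀ (MulAut.conj x ((MulAut.conj g₀)⁻¹ z)) := by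
            simp only [MulAut.conj_apply, MulAut.conj_inv_apply]; group
        _ = MulAut.conj g₀ (MulAut.conj x (z ^ l)) := by
            rw [show (MulAut.conj g₀)⁻¹ z = z ^ l from (MulAut.conj g₀).injective (by
              rw [hgim]; exact (MulAut.conj g₀).apply_symm_apply z)]
        _ = z := by rw [map_zpow (MulAut.conj x), MulAut.conj_apply x, hxz, hgim]
    · calc g₀ * x * g₀⁻¹ * a * (g₀ * x * g₀⁻¹)⁻¹
          = MulAut.conj g₀ (MulAut.conj x ((MulAut.conj g₀)⁻¹ a)) := by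
            simp only [MulAut.conj_apply, MulAut.conj_inv_apply]; group
        _ = MulAut.conj g₀ (MulAut.conj x (a ^ m)) := by
            rw [show (MulAut.conj g₀)⁻¹ a = a ^ m from (MulAut.conj g₀).injective (by
              rw [hgia]; exact (MulAut.conj g₀).apply_symm_apply a)]
        _ = a * z ^ ((i * m) * m) := by
            rw [map_zpow, MulAut.conj_apply x, hi, (haz.zpow_right i).mul_zpow, map_mul, hgia,
              ← _root_.zpow_mul, map_zpow, MulAut.conj_apply, hgz, ← _root_.zpow_mul]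
            ring_nf
  obtain ⟨k, ⟨hkz, j, hkj⟩, hkN⟩ := exists_conj_back P hPK hgP
  set g := k * g₀ with hg
  have hgz' : g * z * g⁻¹ = z ^ m := by
    rw [hg, show k * g₀ * z * (k * g₀)⁻¹ = k * (g₀ * z * g₀⁻¹) * k⁻¹ by group, hgz, ← conj_zpow, hkz]
  have hga' : g * a * g⁻¹ = a ^ l * z ^ (j * l) := by
    rw [hg, show k * g₀ * a * (k * g₀)⁻¹ = k * (g₀ * a * g₀⁻¹) * k⁻¹ by group, hga, ← conj_zpow, hkj,
      (haz.zpow_right j).mul_zpow, ← _root_.zpow_mul]
  have hbNm : g * b * g⁻¹ ∈ (P : Subgroup G) := (Subgroup.mem_normalizer_iff.1 hkN b).1 hbP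
  obtain ⟨r, x, hxA, hrx⟩ : ∃ r : ℤ, ∃ x ∈ A, g * b * g⁻¹ = b ^ r * x := by
    have hN : Subgroup.zpowers b ≤ Subgroup.normalizer (A : Set G) := by
      rw [Subgroup.zpowers_le]
      haveI : (A.subgroupOf (P : Subgroup G)).Normal := CfsgLib.PGroups.Extraspecial.normal_of_center_le hE (by
        intro y hy
        exact Subgroup.mem_subgroupOf.2 (hcen y hy))
      exact (Subgroup.normal_subgroupOf_iff_le_normalizer hAP).1 inferInstance hbP
    have hmem : g * b * g⁻¹ ∈ Subgroup.zpowers b ⊔ A := by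
      rw [sup_comm, hsup (Subgroup.zpowers b) (Subgroup.zpowers_le.2 hbP) (fun h => hbA (h (Subgroup.mem_zpowers _)))]
      exact hbNm
    rw [← SetLike.mem_coe, Subgroup.coe_mul_of_left_le_normalizer_right _ _ hN] at hmem
    obtain ⟨u, ⟨r, rfl⟩, x, hx, he⟩ := hmem
    exact ⟨r, x, hx, he.symm⟩
  have hrl : (r : ZMod p) * (l : ZMod p) ^ 2 = 1 := by
    have h1 : g * (b * a * b⁻¹) * g⁻¹ = g * (a * z) * g⁻¹ := by rw [hba]
    have h2 : (g * b * g⁻¹) * (g * a * g⁻¹) * (g * b * g⁻¹)⁻¹ = g * (a * z) * g⁻¹ := by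
      rw [← h1]; group
    have hxa : x * (g * a * g⁻¹) * x⁻¹ = g * a * g⁻¹ := by
      rw [hAc x hxA _ (hga' ▸ mul_mem (A.zpow_mem haA l) (A.zpow_mem hzA _))]; group
    have hbr_a : MulAut.conj (b ^ r) a = a * z ^ r := (conj_zpow_shear hbz hba r).2
    have hbr_z : MulAut.conj (b ^ r) z = z := (conj_zpow_shear hbz hba r).1
    have hlhs : (g * b * g⁻¹) * (g * a * g⁻¹) * (g * b * g⁻¹)⁻¹ = MulAut.conj (b ^ r) (g * a * g⁻¹) := by
      rw [hrx, MulAut.conj_apply]
      calc b ^ r * x * (g * a * g⁻¹) * (b ^ r * x)⁻¹ = b ^ r * (x * (g * a * g⁻¹) * x⁻¹) * (b ^ r)⁻¹ := by group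
        _ = b ^ r * (g * a * g⁻¹) * (b ^ r)⁻¹ := by rw [hxa]
    have hrhs : g * (a * z) * g⁻¹ = (g * a * g⁻¹) * (g * z * g⁻¹) := conj_mul.symm
    rw [hlhs, hrhs, hgz', hga', map_mul (MulAut.conj (b ^ r)), map_zpow (MulAut.conj (b ^ r)),
      map_zpow (MulAut.conj (b ^ r)), hbr_a, hbr_z, (haz.zpow_right r).mul_zpow,
      ← _root_.zpow_mul, mul_assoc, mul_assoc, mul_right_inj, ← _root_.zpow_add, ← _root_.zpow_add] at h2
    have h3 := cast_eq_of_zpow hzp hz1 h2
    push_cast at h3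
    have h4 : (r : ZMod p) * l = m := by linear_combination h3
    rw [pow_two, ← mul_assoc, h4, hml]
  refine ⟨a, b, g, l, r, haA, hbP, hbA, hanc, hkN, fun y hy => ?_, ⟨x, hxA, hrx⟩, by rw [hl, orderOf_units, hu], hrl⟩
  have e : (g * a * g⁻¹)⁻¹ * a ^ l = (z ^ (j * l))⁻¹ := by rw [hga']; group
  rw [e]
  have hyz : Commute y z := hzc y hy
  exact ((hyz.zpow_right _).inv_right).eq

/-- At most two (for `p = 11` or `p ≥ 17`), resp. twelve (`p = 13`) maximal abelian subgroups with shears. -/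
theorem card_bound (hE : Cfsg.IsExtraspecial p ↥(P : Subgroup G))
    (hcard : Nat.card ↥(P : Subgroup G) = p ^ 3) (hexp : ∀ x ∈ (P : Subgroup G), x ^ p = 1)
    {ι : Type*} [Fintype ι] (A : ι → Subgroup G) (hinj : Function.Injective A)
    (hAP : ∀ i, A i ≤ (P : Subgroup G)) (hA : ∀ i, Nat.card ↥(A i) = p ^ 2)
    (hlow : ∀ i, ∀ a z : G, a ∈ A i → z ∈ A i → z ≠ 1 → (∀ y ∈ (P : Subgroup G), y * z = z * y) →
      (¬ ∀ y ∈ (P : Subgroup G), y * a = a * y) → ∃ c : G, c * a * c⁻¹ = a ∧ c * z * c⁻¹ = z * a) :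
    ((p = 11 ∨ 17 ≤ p) → Fintype.card ι ≤ 2) ∧ (p = 13 → Fintype.card ι ≤ 12) := by
  classical
  choose a b g l r haA hbP hbA hanc hgN hga hgb hl hr using
    fun i => exists_good P hE hcard hexp (A i) (hAP i) (hA i) (hlow i)
  set Z := Subgroup.center ↥(P : Subgroup G) with hZ
  letI : CommGroup (↥(P : Subgroup G) ⧸ Z) :=
    { (inferInstance : Group (↥(P : Subgroup G) ⧸ Z)) with
      mul_comm := by
        intro x y
        induction x using QuotientGroup.induction_on with | _ x => ?_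
        induction y using QuotientGroup.induction_on with | _ y => ?_
        rw [← QuotientGroup.mk_mul, ← QuotientGroup.mk_mul, QuotientGroup.eq]
        have h := CfsgLib.PGroups.Extraspecial.commutator_mem_center hE y⁻¹ x⁻¹
        rw [commutatorElement_def] at h
        convert h using 1
        group }
  have hQ : Nat.card (↥(P : Subgroup G) ⧸ Z) = p ^ 2 := by
    have h := Subgroup.card_eq_card_quotient_mul_card_subgroup Z
    rw [hcard, hE.2, pow_succ] at h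
    exact (Nat.eq_of_mul_eq_mul_right (Fact.out : p.Prime).pos h).symm
  haveI : Nontrivial (↥(P : Subgroup G) ⧸ Z) := Finite.one_lt_card_iff_nontrivial.1
    (hQ ▸ Nat.one_lt_pow two_ne_zero (Fact.out : p.Prime).one_lt)
  have hQp : ∀ x : ↥(P : Subgroup G) ⧸ Z, x ^ p = 1 := by
    intro x
    induction x using QuotientGroup.induction_on with | _ x => ?_
    rw [← QuotientGroup.mk_pow, show x ^ p = 1 from Subtype.ext (hexp x x.2)]
    rfl
  obtain ⟨e, he⟩ := exists_ne (1 : ↥(P : Subgroup G) ⧸ Z)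
  obtain ⟨f, hf⟩ : ∃ f, f ∉ Subgroup.zpowers e := by
    by_contra hcon
    push Not at hcon
    have h1 := Nat.card_zpowers e
    rw [(Subgroup.eq_top_iff' _).2 hcon, Subgroup.card_top, hQ, orderOf_eq_prime (hQp e) he] at h1
    have := (Fact.out : p.Prime).one_lt
    nlinarith
  obtain ⟨E, -⟩ := CfsgLib.Fusion.SmallEss.exists_coords hQ (hQp e) (hQp f) he hf
  let χ : ↥(P : Subgroup G) → (Fin 2 → ZMod p) := fun y => Multiplicative.toAdd (E.symm (QuotientGroup.mk y))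
  have χmul : ∀ x y, χ (x * y) = χ x + χ y := fun x y => by
    simp only [χ, QuotientGroup.mk_mul, map_mul, toAdd_mul]
  have χzero : ∀ x, χ x = 0 ↔ x ∈ Z := fun x => by
    rw [← QuotientGroup.eq_one_iff x]
    simp only [χ]
    rw [toAdd_eq_zero, MulEquiv.map_eq_one_iff]
  have χzpow : ∀ x (n : ℤ), χ (x ^ n) = (n : ZMod p) • χ x := fun x n => by
    simp only [χ, QuotientGroup.mk_zpow, map_zpow, toAdd_zpow, Int.cast_smul_eq_zsmul]
  have χsurj : Function.Surjective χ := fun v => by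
    obtain ⟨y, hy⟩ := QuotientGroup.mk_surjective (E (Multiplicative.ofAdd v))
    exact ⟨y, by simp only [χ, hy, MulEquiv.symm_apply_apply, toAdd_ofAdd]⟩
  let σ := (P : Subgroup G).normalizerMonoidHom
  let Mq : ↥(Subgroup.normalizer ((P : Subgroup G) : Set G)) →
      ((↥(P : Subgroup G) ⧸ Z) →* (↥(P : Subgroup G) ⧸ Z)) := fun n =>
    QuotientGroup.map Z Z (σ n).toMonoidHom (fun x hx => by
      rw [Subgroup.mem_comap]
      exact Subgroup.mem_center_iff.2 fun y => by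
        have := congrArg (σ n) (Subgroup.mem_center_iff.1 hx ((σ n).symm y))
        rwa [map_mul, map_mul, MulEquiv.apply_symm_apply] at this)
  let L : ↥(Subgroup.normalizer ((P : Subgroup G) : Set G)) → ((Fin 2 → ZMod p) →+ (Fin 2 → ZMod p)) := fun n =>
    MonoidHom.toAdditive (E.symm.toMonoidHom.comp ((Mq n).comp E.toMonoidHom))
  have hL : ∀ n y, L n (χ y) = χ (σ n y) := by
    intro n y
    show Multiplicative.toAdd (E.symm (Mq n (E (E.symm (QuotientGroup.mk y))))) = _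
    rw [MulEquiv.apply_symm_apply]
    rfl
  let Λ : ↥(Subgroup.normalizer ((P : Subgroup G) : Set G)) →* Module.End (ZMod p) (Fin 2 → ZMod p) :=
    { toFun := fun n => (L n).toZModLinearMap p
      map_one' := LinearMap.ext fun v => by
        obtain ⟨y, rfl⟩ := χsurj v
        show L 1 (χ y) = χ y
        rw [hL, map_one]
        rfl
      map_mul' := fun n m => LinearMap.ext fun v => by
        obtain ⟨y, rfl⟩ := χsurj v
        show L (n * m) (χ y) = L n (L m (χ y))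
        rw [hL, hL, hL, map_mul]
        rfl }
  have hΛ : ∀ n y, Λ n (χ y) = χ (σ n y) := hL
  let M : ↥(Subgroup.normalizer ((P : Subgroup G) : Set G)) →* GL (Fin 2) (ZMod p) :=
    ((LinearMap.toMatrixAlgEquiv' (R := ZMod p) (n := Fin 2)).toMulEquiv.toMonoidHom.comp Λ).toHomUnits
  have hM : ∀ n v, (M n).1 *ᵥ v = Λ n v := by
    intro n v
    show LinearMap.toMatrix' (Λ n) *ᵥ v = _
    rw [← Matrix.toLin'_apply, Matrix.toLin'_toMatrix']
  let φ := (Matrix.ProjGenLinGroup.mk).comp M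
  -- p'-order of the image
  have hp' : ¬ p ∣ Nat.card φ.range := by
    have hker : (P : Subgroup G).subgroupOf (Subgroup.normalizer ((P : Subgroup G) : Set G)) ≤ φ.ker := by
      intro n hn
      rw [MonoidHom.mem_ker]
      have : M n = 1 := by
        refine Units.ext ((Matrix.toLin' (R := ZMod p)).injective (LinearMap.ext fun v => ?_))
        rw [Matrix.toLin'_apply, hM, Units.val_one, Matrix.toLin'_one, LinearMap.id_apply]
        obtain ⟨y, rfl⟩ := χsurj v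
        rw [hΛ]
        rw [show σ n y = ⟨n, hn⟩ * y * (⟨n, hn⟩ : ↥(P : Subgroup G))⁻¹ from rfl, χmul, χmul]
        have : χ (⟨n, hn⟩ : ↥(P : Subgroup G))⁻¹ = - χ ⟨n, hn⟩ := by
          rw [← _root_.zpow_neg_one, χzpow]; simp
        rw [this]; abel
      show Matrix.ProjGenLinGroup.mk (M n) = 1
      rw [this, map_one]
    intro hdvd
    rw [← Subgroup.index_ker] at hdvd
    refine P.not_dvd_index (hdvd.trans ((Subgroup.index_dvd_of_le hker).trans ?_))
    exact Subgroup.relIndex_dvd_index_of_le Subgroup.le_normalizer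
  -- the fixed points
  let A' : ι → ↥(P : Subgroup G) := fun i => ⟨a i, hAP i (haA i)⟩
  have ha0 : ∀ i, χ (A' i) ≠ 0 := fun i h => hanc i fun y hy =>
    congrArg Subtype.val (Subgroup.mem_center_iff.1 ((χzero _).1 h) ⟨y, hy⟩)
  let x : ι → ℙ (ZMod p) (Fin 2 → ZMod p) := fun i => Projectivization.mk _ (χ (A' i)) (ha0 i)
  have hspan : ∀ i, ∀ (w : ↥(P : Subgroup G)) (c : ZMod p), χ w = c • χ (A' i) → (w : G) ∈ A i := by
    intro i w c hw
    obtain ⟨n, rfl⟩ := ZMod.intCast_surjective c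
    rw [← χzpow] at hw
    have h1 : χ ((A' i ^ n)⁻¹ * w) = 0 := by
      rw [χmul, hw, ← χmul, inv_mul_cancel, χzero]
      exact one_mem _
    have h2 : (((A' i ^ n)⁻¹ * w : ↥(P : Subgroup G)) : G) ∈ A i := by
      have hc : ∀ y : ↥(P : Subgroup G), y * ((A' i ^ n)⁻¹ * w) = ((A' i ^ n)⁻¹ * w) * y :=
        Subgroup.mem_center_iff.1 ((χzero _).1 h1)
      exact center_le hE hcard (A i) (hAP i) (hA i) _ (Subgroup.mem_center_iff.2 hc)
    have h3 := mul_mem ((A i).zpow_mem (haA i) n) h2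
    simpa [A'] using h3
  have hbsp : ∀ i, ∀ c : ZMod p, χ ⟨b i, hbP i⟩ ≠ c • χ (A' i) := fun i c h => hbA i (hspan i _ c h)
  have hx : Function.Injective x := by
    intro i j hij
    rw [Projectivization.mk_eq_mk_iff'] at hij
    obtain ⟨c, hc⟩ := hij
    by_contra hne
    have h1 : (A' i : G) ∈ A j := hspan j (A' i) c hc.symm
    refine hne (hinj (eq_of_shared hE hcard (A i) (A j) (hAP i) (hAP j) (hA i) (hA j) (haA i) h1 (hanc i)))
  have hga' : ∀ i, Λ ⟨g i, hgN i⟩ (χ (A' i)) = (l i : ZMod p) • χ (A' i) := by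
    intro i
    rw [hΛ, ← χzpow]
    have h1 : χ ((σ ⟨g i, hgN i⟩ (A' i))⁻¹ * A' i ^ (l i)) = 0 := by
      rw [χzero, Subgroup.mem_center_iff]
      exact fun y => Subtype.ext (hga i y y.2)
    rw [χmul, show χ (σ ⟨g i, hgN i⟩ (A' i))⁻¹ = - χ (σ ⟨g i, hgN i⟩ (A' i)) by
      rw [← _root_.zpow_neg_one, χzpow]; simp, neg_add_eq_zero] at h1
    exact h1
  have hgb' : ∀ i, ∃ s : ZMod p, Λ ⟨g i, hgN i⟩ (χ ⟨b i, hbP i⟩) =
      (r i : ZMod p) • χ ⟨b i, hbP i⟩ + s • χ (A' i) := by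
    intro i
    obtain ⟨w, hwA, hw⟩ := hgb i
    have he' : σ ⟨g i, hgN i⟩ ⟨b i, hbP i⟩ = (⟨b i, hbP i⟩ : ↥(P : Subgroup G)) ^ (r i) * ⟨w, hAP i hwA⟩ :=
      Subtype.ext (by simp only [Subgroup.coe_mul, SubgroupClass.coe_zpow]; exact hw)
    obtain ⟨s, hs⟩ := coord_in hE hcard hexp (A i) (hAP i) (hA i) (haA i) (hanc i) χ χmul χzero χzpow hwA
    exact ⟨s, by rw [hΛ, he', χmul, χzpow, hs]⟩
  have hfix : ∀ i, φ ⟨g i, hgN i⟩ • x i = x i := by
    intro i
    show Matrix.ProjGenLinGroup.mk (M ⟨g i, hgN i⟩) • Projectivization.mk _ _ _ = Projectivization.mk _ _ _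
    rw [CfsgLib.Classical.gl_smul_mk, Projectivization.mk_eq_mk_iff']
    exact ⟨(l i : ZMod p), by rw [hM, hga']⟩
  have hord : ∀ i, p - 1 ∣ 3 * orderOf (φ ⟨g i, hgN i⟩) := by
    intro i
    set n := orderOf (φ ⟨g i, hgN i⟩) with hn
    have h1 : Matrix.ProjGenLinGroup.mk (M ⟨g i, hgN i⟩ ^ n) = 1 := by
      rw [map_pow]; exact pow_orderOf_eq_one _
    obtain ⟨h10, h01, hd⟩ := CfsgLib.PSL2.entries_of_mk_eq_one h1
    obtain ⟨c, hc⟩ : ∃ c : ZMod p, ∀ v, (Λ ⟨g i, hgN i⟩ ^ n) v = c • v := by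
      refine ⟨(M ⟨g i, hgN i⟩ ^ n).1 0 0, fun v => ?_⟩
      rw [← map_pow Λ, ← hM, map_pow]
      generalize hU : (M ⟨g i, hgN i⟩ ^ n).1 = U at h10 h01 hd ⊢
      ext j; fin_cases j <;> simp [Matrix.mulVec, dotProduct, Fin.sum_univ_two, h10, h01, hd]
    obtain ⟨s, hs⟩ := hgb' i
    have hpa : ∀ k : ℕ, (Λ ⟨g i, hgN i⟩ ^ k) (χ (A' i)) = ((l i : ZMod p) ^ k) • χ (A' i) := by
      intro k
      induction k with
      | zero => simp
      | succ k ih => rw [pow_succ', Module.End.mul_apply, ih, map_smul, hga', smul_smul, pow_succ]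
    have hpb : ∀ k : ℕ, ∃ t : ZMod p, (Λ ⟨g i, hgN i⟩ ^ k) (χ ⟨b i, hbP i⟩) =
        ((r i : ZMod p) ^ k) • χ ⟨b i, hbP i⟩ + t • χ (A' i) := by
      intro k
      induction k with
      | zero => exact ⟨0, by simp⟩
      | succ k ih =>
        obtain ⟨t, ht⟩ := ih
        exact ⟨(r i : ZMod p) ^ k * s + t * (l i : ZMod p), by
          rw [pow_succ', Module.End.mul_apply, ht, map_add, map_smul, map_smul, hga', hs, smul_add, smul_smul,
            smul_smul, smul_smul, add_assoc, ← add_smul, pow_succ]⟩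
    have hcl : (l i : ZMod p) ^ n = c := by
      have := (hpa n).symm.trans (hc _)
      exact smul_left_injective (ZMod p) (ha0 i) this
    obtain ⟨t, ht⟩ := hpb n
    have hcr : (r i : ZMod p) ^ n = c := by
      by_contra hne
      refine hbsp i (-(((r i : ZMod p) ^ n - c)⁻¹ * t)) ?_
      have h2 : ((r i : ZMod p) ^ n - c) • χ ⟨b i, hbP i⟩ = (-t) • χ (A' i) := by
        rw [sub_smul, neg_smul, ← hc (χ ⟨b i, hbP i⟩), ht]; abel
      rw [← mul_neg, ← smul_smul, ← h2, smul_smul, inv_mul_cancel₀ (sub_ne_zero.2 hne), one_smul]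
    rw [← hl i]
    apply orderOf_dvd_of_pow_eq_one
    have h3 : ((r i : ZMod p) * (l i : ZMod p) ^ 2) ^ n = 1 := by rw [hr, one_pow]
    rw [mul_pow, hcr, ← hcl, ← pow_mul, ← pow_add] at h3
    rwa [show n + 2 * n = 3 * n by ring] at h3
  have hb := fixed_bound φ hp' x hx (fun i => ⟨g i, hgN i⟩) hfix
  have hpos : ∀ i, 0 < orderOf (φ ⟨g i, hgN i⟩) := fun i =>
    orderOf_pos_iff.2 (MonoidHom.isOfFinOrder φ (isOfFinOrder_of_finite _))
  constructor
  · intro hp
    refine hb.1 fun i => ?_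
    have h1 := hord i
    have h2 := hpos i
    rcases hp with rfl | hp
    · have h3 : 10 ∣ orderOf (φ ⟨g i, hgN i⟩) := (by norm_num : Nat.Coprime 10 3).dvd_of_dvd_mul_left h1
      exact le_trans (by norm_num) (Nat.le_of_dvd h2 h3)
    · by_contra hlt
      push Not at hlt
      have h3 := Nat.le_of_dvd (by omega) h1
      have hp17 : p = 17 ∨ 17 < p := by omega
      rcases hp17 with rfl | h17
      · have h4 : 16 ∣ orderOf (φ ⟨g i, hgN i⟩) := (by norm_num : Nat.Coprime 16 3).dvd_of_dvd_mul_left h1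
        have := Nat.le_of_dvd h2 h4
        omega
      · omega
  · rintro rfl
    refine hb.2 fun i => ?_
    have h1 : 3 * 4 ∣ 3 * orderOf (φ ⟨g i, hgN i⟩) := hord i
    exact (Nat.mul_dvd_mul_iff_left (by norm_num)).1 h1

end CfsgLib.LocalEven.ExtraAut
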