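import Cfsg.Prelude.Def_Transfer
import Cfsg.Prelude.Def_KGroupFacts
import Cfsg.Agent.Lib.PGroups.Basic

/-!
The automorphism group of an extraspecial `2`-group of plus type of width at least `3` does not
split over the inner automorphisms.
-/

set_option autoImplicit false

namespace CfsgLib.LocalEven

open Cfsg

universe u

section

variable {Q : Type u} [Group Q] [Finite Q] {z : Q}

/-- Squares and commutators lie in `{1, z}`. -/
structure XSpec (z : Q) : Prop where
  ne_one : z ≠ 1
  sq : z * z = 1
  comm : ∀ x : Q, x * z = z * x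
  center : ∀ x : Q, (∀ y, x * y = y * x) → x = 1 ∨ x = z
  square : ∀ x : Q, x * x = 1 ∨ x * x = z
  commutator : ∀ x y : Q, x * y = y * x ∨ x * y = y * x * z

theorem exists_xSpec (hQ : IsExtraspecial 2 Q) : ∃ z : Q, XSpec z := by
  haveI : Fact (Nat.Prime 2) := ⟨Nat.prime_two⟩
  obtain ⟨⟨hp, hfr, hder⟩, hcard⟩ := hQ
  obtain ⟨a, b, hab, huniv⟩ := Nat.card_eq_two_iff.1 hcard
  obtain ⟨z, hz1, hall⟩ : ∃ z : Subgroup.center Q, z ≠ 1 ∧ ∀ y : Subgroup.center Q, y = 1 ∨ y = z := by
    have hmem : ∀ y : Subgroup.center Q, y = a ∨ y = b := fun y => by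
      have : y ∈ ({a, b} : Set (Subgroup.center Q)) := huniv.symm ▸ Set.mem_univ y
      simpa using this
    rcases hmem 1 with h | h
    · exact ⟨b, h.symm ▸ hab.symm, fun y => (hmem y).imp_left fun e => e.trans h.symm⟩
    · exact ⟨a, h.symm ▸ hab, fun y => ((hmem y).imp_right fun e => e.trans h.symm).symm⟩
  have hc : ∀ x : Q, (∀ y, x * y = y * x) → x = 1 ∨ x = z := fun x hx => by
    rcases hall ⟨x, Subgroup.mem_center_iff.2 fun y => (hx y).symm⟩ with h | h
    · exact Or.inl (congrArg Subtype.val h)
    · exact Or.inr (congrArg Subtype.val h)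
  refine ⟨z, fun h => hz1 (Subtype.ext h), ?_, fun x => Subgroup.mem_center_iff.1 z.2 x, hc,
    fun x => ?_, fun x y => ?_⟩
  · rcases hall (z * z) with h | h
    · exact congrArg Subtype.val h
    · exact absurd (mul_eq_left.1 h) hz1
  · have h : x ^ 2 ∈ Subgroup.center Q := hfr ▸ CfsgLib.PGroups.pow_mem_frattini hp x
    rw [pow_two] at h
    exact hc _ fun y => (Subgroup.mem_center_iff.1 h y).symm
  · have h : x * y * x⁻¹ * y⁻¹ ∈ Subgroup.center Q := hder ▸ by
      rw [commutator_def]
      exact Subgroup.commutator_mem_commutator (Subgroup.mem_top x) (Subgroup.mem_top y)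
    rcases hc _ fun w => (Subgroup.mem_center_iff.1 h w).symm with h1 | h1
    · left; rwa [mul_inv_eq_one, mul_inv_eq_iff_eq_mul] at h1
    · right
      rw [mul_inv_eq_iff_eq_mul, mul_inv_eq_iff_eq_mul] at h1
      rw [h1, Subgroup.mem_center_iff.1 z.2 (y * x), ← mul_assoc]

theorem XSpec.commute_mul_iff (hz : XSpec z) (a x y : Q) :
    (x * y) * a = a * (x * y) ↔ (x * a = a * x ↔ y * a = a * y) := by
  have hzz : ∀ w, w * z * z = w := fun w => by rw [mul_assoc, hz.sq, mul_one]
  have hne : ∀ w, w * z ≠ w := fun w h => hz.ne_one (mul_eq_left.1 h)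
  rcases hz.commutator x a with hx | hx <;> rcases hz.commutator y a with hy | hy
  · have : x * y * a = a * (x * y) := by rw [mul_assoc, hy, ← mul_assoc, hx, mul_assoc]
    simp [this, hx, hy]
  · have : x * y * a = a * (x * y) * z := by rw [mul_assoc, hy]; simp only [← mul_assoc, hx]
    rw [this, hy]
    simp [hx, hne]
  · have : x * y * a = a * (x * y) * z := by
      rw [mul_assoc, hy, ← mul_assoc, hx, mul_assoc (a * x), ← hz.comm y]; simp only [mul_assoc]
    rw [this, hx]
    simp [hy, hne]
  · have : x * y * a = a * (x * y) := by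
      rw [mul_assoc, hy]
      simp only [← mul_assoc]
      rw [hx, mul_assoc (a * x) z y, ← hz.comm y]
      simp only [← mul_assoc, hzz]
    rw [hy, hx]
    simp [this, hne]

open Classical in
/-- The automorphism lifting the transvection of an element of order `4`. -/
noncomputable def transFun (a x : Q) : Q := if x * a = a * x then x else x * a

theorem XSpec.transFun_mul (hz : XSpec z) {a : Q} (ha : a * a = z) (x y : Q) :
    transFun a (x * y) = transFun a x * transFun a y := by
  have h := hz.commute_mul_iff a x y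
  unfold transFun
  by_cases hx : x * a = a * x <;> by_cases hy : y * a = a * y
  · rw [if_pos hx, if_pos hy, if_pos (h.2 (iff_of_true hx hy))]
  · rw [if_pos hx, if_neg hy, if_neg fun e => hy ((h.1 e).1 hx), mul_assoc]
  · rw [if_neg hx, if_pos hy, if_neg fun e => hx ((h.1 e).2 hy), mul_assoc, hy, ← mul_assoc]
  · rw [if_neg hx, if_neg hy, if_pos (h.2 (iff_of_false hx hy))]
    have hya : y * a = a * y * z := (hz.commutator y a).resolve_left hy
    calc x * y = x * (a * a * y * z) := by
          rw [ha, ← hz.comm y, mul_assoc y z z, hz.sq, mul_one]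
      _ = x * a * (y * a) := by rw [hya]; simp only [mul_assoc]

theorem XSpec.exists_trans (hz : XSpec z) {a : Q} (ha : a * a = z) :
    ∃ φ : MulAut Q, ∀ x, φ x = transFun a x := by
  let f : Q →* Q := MonoidHom.mk' (transFun a) (hz.transFun_mul ha)
  have hinj : Function.Injective f := by
    rw [injective_iff_map_eq_one]
    intro x hx
    change transFun a x = 1 at hx
    unfold transFun at hx
    split_ifs at hx with h
    · exact hx
    · exact absurd (by rw [eq_inv_of_mul_eq_one_left hx, inv_mul_cancel, mul_inv_cancel]) h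
  exact ⟨MulEquiv.ofBijective f (Finite.injective_iff_bijective.1 hinj), fun x => rfl⟩

theorem XSpec.center_mul (hz : XSpec z) {x y : Q} (h : ∀ w, (x * y) * w = w * (x * y)) (a : Q) :
    x * a = a * x ↔ y * a = a * y := (hz.commute_mul_iff a x y).1 (h a)

/-- The main obstruction. -/
theorem XSpec.not_isComplement' (hz : XSpec z) {a e f : Q} (ha : a * a = z) (he : e * e = 1)
    (hf : f * f = 1) (hae : a * e = e * a) (haf : a * f = f * a) (hef : e * f = f * e)
    (he1 : e ≠ 1) (hez : e ≠ z) (hf1 : f ≠ 1) (hfz : f ≠ z) (hfe : f ≠ e) (hfez : f ≠ e * z)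
    (L : Subgroup (MulAut Q)) : ¬ (Inn Q).IsComplement' L := by
  intro hL
  have hbot : Inn Q ⊓ L = ⊥ := disjoint_iff.1 hL.disjoint
  have hinner : ∀ c ∈ L, c ∈ Inn Q → c = 1 := fun c h1 h2 => Subgroup.mem_bot.1 (hbot.le ⟨h2, h1⟩)
  -- the element of `L` over a transvection
  have hsec : ∀ b : Q, b * b = z → ∃ l ∈ L, ∃ v : Q, ∀ x, l x = v * transFun b x * v⁻¹ := by
    intro b hb
    obtain ⟨φ, hφ⟩ := hz.exists_trans hb
    obtain ⟨c, hc, l, hl, hcl⟩ := Subgroup.mem_sup_of_normal_left.1
      (hL.sup_eq_top.ge (Subgroup.mem_top φ))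
    obtain ⟨w, rfl⟩ := hc
    refine ⟨l, hl, w⁻¹, fun x => ?_⟩
    have : φ x = w * l x * w⁻¹ := by rw [← hcl]; rfl
    rw [← hφ, this]; group
  have hzc : ∀ x y : Q, x * y = y * x * z → ¬ x * y = y * x := fun x y h h' =>
    hz.ne_one (mul_eq_left.1 (h.symm.trans h'))
  have hzmul : ∀ x y : Q, (x * z) * y = (x * y) * z := fun x y => by
    rw [mul_assoc, ← hz.comm y, ← mul_assoc]
  -- an element of `L` over a transvection squares to one
  have hself : ∀ b : Q, b * b = z → b ≠ 1 → b ≠ z → ∀ v : Q, ∀ l ∈ L,
      (∀ x, l x = v * transFun b x * v⁻¹) → ¬ v * b = b * v := by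
    intro b hb hb1 hbz v l hl hlx hvb
    -- `l * l` is conjugation by `v * v * b`
    have hll : l * l = MulAut.conj (v * v * b) := by
      ext x
      have hvf : transFun b v = v := if_pos hvb
      have hinv : transFun b v⁻¹ = v⁻¹ := if_pos (show Commute v⁻¹ b from Commute.inv_left hvb)
      have htt : transFun b (transFun b x) = b * x * b⁻¹ := by
        by_cases hx : x * b = b * x
        · rw [show transFun b x = x from if_pos hx, show transFun b x = x from if_pos hx, ← hx,
            mul_inv_cancel_right]
        · rw [show transFun b x = x * b from if_neg hx, show transFun b (x * b) = x * b * b from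
            if_neg fun e => hx (((hz.commute_mul_iff b x b).1 e).2 rfl), mul_assoc, hb,
            eq_mul_inv_iff_mul_eq, hzmul]
          rcases hz.commutator x b with h | h
          · exact absurd h hx
          · rw [h, mul_assoc, hz.sq, mul_one]
      rw [MulAut.mul_apply, hlx, hlx, hz.transFun_mul hb, hz.transFun_mul hb, hvf, hinv, htt,
        MulAut.conj_apply]
      group
    have h1 : l * l = 1 := hinner _ (L.mul_mem hl hl) ⟨_, hll.symm⟩
    rw [h1] at hll
    have hcen : ∀ w, (v * v * b) * w = w * (v * v * b) := fun w => by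
      have := congrArg (fun t : MulAut Q => t w) hll
      simp only [MulAut.one_apply, MulAut.conj_apply] at this
      exact mul_inv_eq_iff_eq_mul.1 this.symm
    rcases hz.center _ hcen with h | h <;> rcases hz.square v with h' | h' <;> rw [h'] at h
    · exact hb1 (by simpa using h)
    · exact hbz (by rw [eq_inv_of_mul_eq_one_right h]; exact inv_eq_of_mul_eq_one_right hz.sq)
    · exact hbz (by simpa using h)
    · exact hb1 (mul_eq_left.1 h)
  -- two commuting transvections
  have hpair : ∀ b c : Q, b * b = z → c * c = z → b * c = c * b →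
      b ≠ c → b ≠ c * z →
      b ≠ 1 → b ≠ z → c ≠ 1 → c ≠ z →
      ∀ l ∈ L, ∀ v : Q, (∀ x, l x = v * transFun b x * v⁻¹) →
      ∀ l' ∈ L, ∀ v' : Q, (∀ x, l' x = v' * transFun c x * v'⁻¹) → v * c = c * v := by
    intro b c hb hc hbc hne hnez hb1 hbz hc1 hcz l hl v hlx l' hl' v' hlx'
    by_contra hvc
    have hcomm : ∀ x, transFun b (transFun c x) = transFun c (transFun b x) := by
      intro x
      by_cases h1 : x * b = b * x <;> by_cases h2 : x * c = c * x
      · rw [show transFun c x = x from if_pos h2, show transFun b x = x from if_pos h1,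
          show transFun c x = x from if_pos h2]
      · rw [show transFun c x = x * c from if_neg h2, show transFun b x = x from if_pos h1,
          show transFun c x = x * c from if_neg h2,
          show transFun b (x * c) = x * c from if_pos ((hz.commute_mul_iff b x c).2 (iff_of_true h1 hbc.symm))]
      · rw [show transFun c x = x from if_pos h2, show transFun b x = x * b from if_neg h1,
          show transFun c (x * b) = x * b from if_pos ((hz.commute_mul_iff c x b).2 (iff_of_true h2 hbc))]
      · rw [show transFun c x = x * c from if_neg h2, show transFun b x = x * b from if_neg h1,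
          show transFun b (x * c) = x * c * b from
            if_neg fun e => h1 (((hz.commute_mul_iff b x c).1 e).2 hbc.symm),
          show transFun c (x * b) = x * b * c from
            if_neg fun e => h2 (((hz.commute_mul_iff c x b).1 e).2 hbc), mul_assoc, mul_assoc, hbc]
    obtain ⟨φb, hφb⟩ := hz.exists_trans hb
    obtain ⟨φc, hφc⟩ := hz.exists_trans hc
    have el : l = MulAut.conj v * φb := by ext x; rw [MulAut.mul_apply, MulAut.conj_apply, hφb, hlx]
    have el' : l' = MulAut.conj v' * φc := by
      ext x; rw [MulAut.mul_apply, MulAut.conj_apply, hφc, hlx']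
    have eφ : φb * φc = φc * φb := by
      ext x; simp only [MulAut.mul_apply, hφb, hφc]; exact hcomm x
    have hconj : ∀ (φ : MulAut Q) (w : Q), φ * MulAut.conj w = MulAut.conj (φ w) * φ := fun φ w => by
      ext x; simp [MulAut.mul_apply, MulAut.conj_apply, map_mul, map_inv]
    have e2 : l * l' = MulAut.conj (v * φb v') * (φb * φc) := by
      rw [el, el', map_mul, mul_assoc, ← mul_assoc φb, hconj]; simp only [mul_assoc]
    have e3 : l' * l = MulAut.conj (v' * φc v) * (φb * φc) := by
      rw [el, el', map_mul, mul_assoc, ← mul_assoc φc, hconj, eφ]; simp only [mul_assoc]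
    have e4 : (l * l') * (l' * l)⁻¹ = MulAut.conj ((v * φb v') * (v' * φc v)⁻¹) := by
      rw [e2, e3, map_mul MulAut.conj (v * φb v'), map_inv]; group
    have e5 := hinner _ (L.mul_mem (L.mul_mem hl hl') (L.inv_mem (L.mul_mem hl' hl))) ⟨_, e4.symm⟩
    rw [e4] at e5
    have hcen : ∀ w, ((v * φb v') * (v' * φc v)⁻¹) * w = w * ((v * φb v') * (v' * φc v)⁻¹) := by
      intro w
      have := congrArg (fun t : MulAut Q => t w) e5
      simp only [MulAut.one_apply, MulAut.conj_apply] at this
      exact mul_inv_eq_iff_eq_mul.1 this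
    have hφv : φc v = v * c := by rw [hφc]; exact if_neg hvc
    rw [hφv] at hcen
    set X := (v * φb v') with hX
    set Y := v' * (v * c) with hY
    have hrel : X = Y ∨ X = Y * z := by
      rcases hz.center _ hcen with h | h
      · exact Or.inl (mul_inv_eq_one.1 h)
      · exact Or.inr (by rw [mul_inv_eq_iff_eq_mul.1 h, ← hz.comm])
    have hvv : v * v' = v' * v ∨ v * v' = v' * v * z := hz.commutator v v'
    have hX' : X = v * v' ∨ X = v * v' * b := by
      rw [hX, hφb]; unfold transFun; split_ifs
      · exact Or.inl rfl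
      · exact Or.inr (mul_assoc _ _ _).symm
    rw [hY, ← mul_assoc v' v c] at hrel
    have hcases : c = 1 ∨ c = z ∨ b = c ∨ b = c * z := by
      rcases hvv with h1 | h1 <;> rcases hX' with h2 | h2 <;> rcases hrel with h3 | h3 <;>
        rw [h2, h1] at h3
      · exact Or.inl (mul_eq_left.1 h3.symm)
      · rw [mul_assoc] at h3
        have := mul_eq_left.1 h3.symm
        exact Or.inr (Or.inl (by rw [eq_inv_of_mul_eq_one_left this, inv_eq_of_mul_eq_one_right hz.sq]))
      · exact Or.inr (Or.inr (Or.inl (mul_left_cancel h3)))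
      · rw [mul_assoc _ c z] at h3
        exact Or.inr (Or.inr (Or.inr (mul_left_cancel h3)))
      · exact Or.inr (Or.inl (mul_left_cancel h3).symm)
      · exact Or.inl (mul_eq_left.1 (mul_right_cancel h3).symm)
      · rw [mul_assoc _ z b] at h3
        have := mul_left_cancel h3
        exact Or.inr (Or.inr (Or.inr (by rw [hz.comm c, ← this, ← mul_assoc, hz.sq, one_mul])))
      · rw [mul_assoc _ z b, mul_assoc _ c z, hz.comm c] at h3
        exact Or.inr (Or.inr (Or.inl (mul_left_cancel (mul_left_cancel h3))))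
    rcases hcases with h | h | h | h
    exacts [hc1 h, hcz h, hne h, hnez h]
  -- the four elements
  have ha1 : a ≠ 1 := fun h => hz.ne_one (by rw [← ha, h, mul_one])
  have haz : a ≠ z := fun h => hz.ne_one (by rw [← ha, h, hz.sq])
  have hmk : ∀ w : Q, w * w = 1 → a * w = w * a → (a * w) * (a * w) = z := fun w hw hc => by
    calc (a * w) * (a * w) = (w * a) * (a * w) := by rw [hc]
      _ = w * (a * a) * w := by simp only [mul_assoc]
      _ = z := by rw [ha, hz.comm w, mul_assoc, hw, mul_one]
  have hnot1 : ∀ b : Q, b * b = z → b ≠ 1 ∧ b ≠ z := fun b hb =>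
    ⟨fun h => hz.ne_one (by rw [← hb, h, mul_one]), fun h => hz.ne_one (by rw [← hb, h, hz.sq])⟩
  have hef2 : (e * f) * (e * f) = 1 := by
    calc (e * f) * (e * f) = (e * f) * (f * e) := by rw [hef]
      _ = e * (f * f) * e := by simp only [mul_assoc]
      _ = 1 := by rw [hf, mul_one, he]
  have hafe : a * (e * f) = (e * f) * a := by rw [← mul_assoc, hae, mul_assoc, haf, ← mul_assoc]
  obtain ⟨l, hl, v, hlx⟩ := hsec a ha
  have hnv := hself a ha ha1 haz v l hl hlx
  have hvw : ∀ w : Q, w * w = 1 → a * w = w * a → w ≠ 1 → w ≠ z → v * (a * w) = a * w * v := by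
    intro w hw hc hw1 hwz
    obtain ⟨l', hl', v', hlx'⟩ := hsec (a * w) (hmk w hw hc)
    refine hpair a (a * w) ha (hmk w hw hc) ?_ ?_ ?_ ha1 haz
      (hnot1 _ (hmk w hw hc)).1 (hnot1 _ (hmk w hw hc)).2 l hl v hlx l' hl' v' hlx'
    · rw [mul_assoc a w a, ← hc]
    · exact fun h => hw1 (mul_eq_left.1 h.symm)
    · intro h
      rw [mul_assoc] at h
      have := mul_eq_left.1 h.symm
      exact hwz (by rw [eq_inv_of_mul_eq_one_left this, inv_eq_of_mul_eq_one_right hz.sq])
  have h1 : e * f ≠ 1 := fun h => hfe (by
    rw [eq_inv_of_mul_eq_one_right h, inv_eq_of_mul_eq_one_right he])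
  have h2 : e * f ≠ z := fun h => hfez (by rw [← h, ← mul_assoc, he, one_mul])
  have hp : Commute v ((a * e) * (a * f) * (a * (e * f))) :=
    (Commute.mul_right (show Commute v (a * e) from hvw e he hae he1 hez)
      (show Commute v (a * f) from hvw f hf haf hf1 hfz)).mul_right (hvw _ hef2 hafe h1 h2)
  have hval : (a * e) * (a * f) * (a * (e * f)) = z * a := by
    calc (a * e) * (a * f) * (a * (e * f)) = a * (e * a) * f * a * (e * f) := by simp only [mul_assoc]
      _ = a * (a * e) * f * a * (e * f) := by rw [hae]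
      _ = (a * a) * ((e * f) * a) * (e * f) := by simp only [mul_assoc]
      _ = (a * a) * (a * (e * f)) * (e * f) := by rw [hafe]
      _ = (a * a) * a * ((e * f) * (e * f)) := by simp only [mul_assoc]
      _ = z * a := by rw [ha, hef2, mul_one]
  rw [hval] at hp
  refine hnv ?_
  have : z * (v * a) = z * (a * v) := by
    calc z * (v * a) = v * (z * a) := by rw [← mul_assoc, ← hz.comm, mul_assoc]
      _ = z * a * v := hp.eq
      _ = z * (a * v) := mul_assoc _ _ _
  exact mul_left_cancel this

end

theorem not_isComplement'_inn {Q : Type u} [Group Q] [Finite Q] (n : ℕ) (hn : 3 ≤ n)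
    (hQ : IsExtraspecial 2 Q) (hcard : Nat.card Q = 2 ^ (2 * n + 1))
    (hplus : ∃ E : Subgroup Q, IsElementaryAbelian 2 E ∧ Nat.card ↥E = 2 ^ (n + 1))
    (L : Subgroup (MulAut Q)) : ¬ (Inn Q).IsComplement' L := by
  obtain ⟨z, hz⟩ := exists_xSpec hQ
  obtain ⟨E, hE, hEcard⟩ := hplus
  obtain ⟨a, ha⟩ : ∃ a : Q, a * a = z := by
    by_contra hcon
    push Not at hcon
    have hsq : ∀ x : Q, x * x = 1 := fun x => (hz.square x).resolve_right (hcon x)
    have hcom : ∀ x y : Q, x * y = y * x := fun x y => by
      rw [← inv_eq_of_mul_eq_one_right (hsq (x * y)), mul_inv_rev, inv_eq_of_mul_eq_one_right (hsq x),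
        inv_eq_of_mul_eq_one_right (hsq y)]
    have hle : Nat.card Q ≤ 2 := by
      have hsurj : Function.Surjective fun b : Bool => if b then z else 1 := fun x => by
        rcases hz.center x (hcom x) with h | h
        · exact ⟨false, by simp [h]⟩
        · exact ⟨true, by simp [h]⟩
      have := Nat.card_le_card_of_surjective _ hsurj
      simpa using this
    have : 2 ^ 2 ≤ 2 ^ (2 * n + 1) := Nat.pow_le_pow_right (by norm_num) (by omega)
    omega
  -- the part of `E` centralising `a`
  set F := E ⊓ Subgroup.centralizer ({a} : Set Q) with hF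
  have hbig : 5 ≤ Nat.card F := by
    by_contra hcon
    have hbound : Nat.card E ≤ 2 * Nat.card F := by
      by_cases hEc : E ≤ Subgroup.centralizer ({a} : Set Q)
      · rw [hF, inf_eq_left.2 hEc]; omega
      obtain ⟨c, hc, hca⟩ := SetLike.not_le_iff_exists.1 hEc
      classical
      let g : E → Bool × F := fun x => if h : (x : Q) * a = a * x then
          (false, ⟨x, x.2, Subgroup.mem_centralizer_singleton_iff.2 h⟩)
        else (true, ⟨x * c, E.mul_mem x.2 hc, Subgroup.mem_centralizer_singleton_iff.2
          ((hz.commute_mul_iff a x c).2 (iff_of_false h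
            (fun e => hca (Subgroup.mem_centralizer_singleton_iff.2 e))))⟩)
      have hg : Function.Injective g := by
        intro x y hxy
        simp only [g] at hxy
        split_ifs at hxy with h1 h2 <;> simp only [Prod.mk.injEq, Bool.false_eq_true, false_and,
          Bool.true_eq_false, Subtype.mk.injEq, true_and] at hxy
        · exact Subtype.ext (congrArg (fun t : F => (t : Q)) hxy)
        · exact Subtype.ext (mul_right_cancel (congrArg (fun t : F => (t : Q)) hxy))
      have := Nat.card_le_card_of_injective g hg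
      simpa [Nat.card_prod] using this
    have h16 : 2 ^ 4 ≤ 2 ^ (n + 1) := Nat.pow_le_pow_right (by norm_num) (by omega)
    omega
  classical
  have hpick : ∀ s : Finset Q, s.card < Nat.card F → ∃ x ∈ F, x ∉ s := by
    intro s hs
    by_contra hcon
    push Not at hcon
    have := Nat.card_le_card_of_injective (fun x : F => (⟨x, hcon x x.2⟩ : s))
      fun x y h => Subtype.ext (congrArg (fun t : s => (t : Q)) h)
    rw [Nat.card_eq_finsetCard] at this
    omega
  obtain ⟨e, he, hes⟩ := hpick {1, z} (by have := Finset.card_le_two (a := (1 : Q)) (b := z); omega)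
  obtain ⟨f, hf, hfs⟩ := hpick {1, z, e, e * z} (by
    have := Finset.card_le_four (a := (1 : Q)) (b := z) (c := e) (d := e * z); omega)
  simp only [Finset.mem_insert, Finset.mem_singleton, not_or] at hes hfs
  have hsq1 : ∀ x ∈ F, x * x = 1 := fun x hx => by rw [← pow_two]; exact hE.2 x hx.1
  exact hz.not_isComplement' ha (hsq1 e he) (hsq1 f hf)
    (Subgroup.mem_centralizer_singleton_iff.1 he.2).symm (Subgroup.mem_centralizer_singleton_iff.1 hf.2).symm
    (congrArg Subtype.val (hE.1.is_comm.comm ⟨e, he.1⟩ ⟨f, hf.1⟩))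
    hes.1 hes.2 hfs.1 hfs.2.1 hfs.2.2.1 hfs.2.2.2 L

end CfsgLib.LocalEven
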