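import Cfsg.Agent.Lib.Fusion.SylowAux
import Cfsg.Agent.Lib.Base.Cores
import Cfsg.Prelude.Def_SubgroupEmbedding
import Cfsg.Prelude.Def_TwoFusion

/-!
# Extremely closed `p`-subgroups
-/

namespace CfsgLib.LocalEven.ExtremelyClosed

open Cfsg Subgroup

variable {G : Type*} [Group G] [Finite G] {p : ℕ} [Fact p.Prime]

theorem normalizer_le (H : Subgroup G) (hcl : IsExtremelyClosed H) {Q : Subgroup G}
    (hQ : IsPGroup p Q) (hHQ : H ≤ Q) : normalizer (Q : Set G) ≤ normalizer (H : Set G) := by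
  intro g hg
  set T := H ⊔ H.map (MulAut.conj g).toMonoidHom with hT
  have hTQ : T ≤ Q := sup_le hHQ (by
    rintro _ ⟨x, hx, rfl⟩
    exact (mem_normalizer_iff.1 hg x).1 (hHQ hx))
  have hTH : T = H := by
    rcases eq_or_lt_of_le (le_sup_left : H ≤ T) with e | hlt
    · exact e.symm
    · have := CfsgLib.Fusion.lt_inf_normalizer (hQ.to_le hTQ) hlt
      rw [hT, hcl g] at this
      exact absurd this (lt_irrefl H)
  have hle : H.map (MulAut.conj g).toMonoidHom ≤ H := le_sup_right.trans hTH.le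
  exact mem_normalizer_fintype fun x hx => hle ⟨x, hx, rfl⟩

theorem stronglyClosed (H : Subgroup G) (hcl : IsExtremelyClosed H) (P : Sylow p G)
    (hHP : H ≤ (P : Subgroup G)) :
    (P : Subgroup G) ≤ normalizer (H : Set G) ∧ IsStronglyClosed H (P : Subgroup G) := by
  have hPn := le_normalizer.trans (normalizer_le H hcl P.2 hHP)
  refine ⟨hPn, hHP, fun x hx g hg => ?_⟩
  rw [← hcl g]
  exact ⟨mem_sup_right ⟨x, hx, rfl⟩, hPn hg⟩

theorem abelian_decomp (H : Subgroup G) (hHp : IsPGroup p H) (hab : IsMulCommutative H)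
    (hcl : IsExtremelyClosed H) (g : G) (T : Subgroup G)
    (hT : T = H ⊔ H.map (MulAut.conj g).toMonoidHom) :
    H ⊔ (pPrimeCore p ↥T).map T.subtype = T ∧ H ⊓ (pPrimeCore p ↥T).map T.subtype = ⊥ := by
  have hHT : H ≤ T := hT ▸ le_sup_left
  have hN : T ⊓ normalizer (H : Set G) = H := hT ▸ hcl g
  obtain ⟨P, hP⟩ := IsPGroup.exists_le_sylow (hHp.of_equiv (subgroupOfEquivOfLe hHT).symm)
  have hPH : (P : Subgroup ↥T) = H.subgroupOf T := by
    rcases eq_or_lt_of_le hP with e | hlt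
    · exact e.symm
    · obtain ⟨-, x, ⟨hxP, hxn⟩, hxH⟩ :=
        SetLike.lt_iff_le_and_exists.1 (CfsgLib.Fusion.lt_inf_normalizer P.2 hlt)
      refine absurd ?_ hxH
      show (x : G) ∈ H
      rw [← hN]
      refine ⟨x.2, mem_normalizer_fintype fun y hy => ?_⟩
      exact (mem_normalizer_iff.1 hxn ⟨y, hHT hy⟩).1 hy
  have hB : normalizer ((P : Subgroup ↥T) : Set ↥T) ≤ centralizer ((P : Subgroup ↥T) : Set ↥T) := by
    rw [hPH]
    intro x hx
    have hxH : (x : G) ∈ H := by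
      rw [← hN]
      refine ⟨x.2, mem_normalizer_fintype fun y hy => ?_⟩
      exact (mem_normalizer_iff.1 hx ⟨y, hHT hy⟩).1 hy
    rw [mem_centralizer_iff]
    intro y hy
    exact Subtype.ext (congrArg Subtype.val (hab.is_comm.comm (⟨y, hy⟩ : H) ⟨x, hxH⟩) : _)
  have hK := MonoidHom.ker_transferSylow_isComplement' P hB
  set K := (MonoidHom.transferSylow P hB).ker
  have hKcop : (Nat.card K).Coprime p := by
    rw [← hK.index_eq_card]
    exact ((Fact.out : p.Prime).coprime_iff_not_dvd.2 P.not_dvd_index).symm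
  have hKle : K ≤ pPrimeCore p ↥T := CfsgLib.Base.le_pPrimeCore hKcop
  constructor
  · refine le_antisymm (sup_le hHT (map_subtype_le _)) ?_
    intro x hx
    have h1 : (⟨x, hx⟩ : ↥T) ∈ (P : Subgroup ↥T) ⊔ pPrimeCore p ↥T := by
      refine (sup_le_sup_left hKle _) ?_
      rw [hK.symm.sup_eq_top]; trivial
    have h2 := mem_map_of_mem T.subtype h1
    rw [Subgroup.map_sup, hPH, map_subgroupOf_eq_of_le hHT] at h2
    exact h2
  · rw [eq_bot_iff]
    rintro x ⟨hxH, y, hy, rfl⟩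
    have h1 : orderOf y ∣ Nat.card (pPrimeCore p ↥T) := by
      simpa using orderOf_dvd_natCard (⟨y, hy⟩ : pPrimeCore p ↥T)
    obtain ⟨n, hn⟩ := hHp ⟨_, hxH⟩
    have h2 : orderOf y ∣ p ^ n := orderOf_dvd_of_pow_eq_one
      (Subtype.ext (by simpa using congrArg Subtype.val hn))
    have h3 := Nat.eq_one_of_dvd_coprimes ((CfsgLib.Base.pPrimeCore_coprime p ↥T).pow_right n) h1 h2
    rw [orderOf_eq_one_iff] at h3
    simp [h3]

end CfsgLib.LocalEven.ExtremelyClosed
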