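import Cfsg.Agent.Lib.LocalEven.StrongEmb
import Cfsg.Agent.Lib.Transfer.NormalPComplement
import Cfsg.Agent.Lib.Base.Cores
import Cfsg.Prelude.Def_LocalStructure

/-!
`p`-closed and `p`-irreducible groups; `O^p` of subnormal subgroups.
-/

namespace CfsgLib.LocalEven

open Cfsg

variable {H : Type*} [Group H] [Finite H] {p : ℕ} [Fact p.Prime]

theorem isPClosed_iff_sylow_le (T : Sylow p H) :
    IsPClosed p H ↔ (T : Subgroup H) ≤ pCore p H := by
  constructor
  · exact fun h => CfsgLib.LocalEven.le_pCore (h T) T.isPGroup'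
  · intro h P
    have hP : (P : Subgroup H) = pCore p H := by
      have hTeq : (T : Subgroup H) = pCore p H := le_antisymm h (CfsgLib.LocalEven.pCore_le_sylow T)
      obtain ⟨g, rfl⟩ := MulAction.exists_smul_eq H T P
      rw [Sylow.coe_subgroup_smul, hTeq]
      exact Subgroup.Normal.conj_smul_eq_self g (pCore p H)
    rw [hP]; infer_instance

theorem isPClosed_subgroup_iff (T : Sylow p H) (N : Subgroup H) [hN : N.Normal] :
    IsPClosed p N ↔ (T : Subgroup H) ⊓ N ≤ pCore p H := by
  obtain ⟨Q, hQ⟩ : ∃ Q : Sylow p N, (Q : Subgroup N) = (T : Subgroup H).subgroupOf N :=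
    ⟨(T.isPGroup'.comap_subtype).toSylow
      (CfsgLib.Transfer.not_dvd_index_subgroupOf_of_normal T N), IsPGroup.toSylow_coe _ _⟩
  rw [isPClosed_iff_sylow_le Q, hQ]
  have hc : (pCore p N).map N.subtype = pCore p H ⊓ N := CfsgLib.Base.map_pCore_eq_inf N
  constructor
  · intro h
    have := Subgroup.map_mono (f := N.subtype) h
    rw [Subgroup.subgroupOf_map_subtype, hc] at this
    exact this.trans inf_le_left
  · intro h x hx
    have hx' : (x : H) ∈ (pCore p N).map N.subtype := hc ▸ ⟨h ⟨hx, x.2⟩, x.2⟩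
    obtain ⟨y, hy, e⟩ := hx'
    rwa [← Subtype.ext e]

theorem sylow_sup_eq_top_iff (T : Sylow p H) (N : Subgroup H) [N.Normal] :
    (T : Subgroup H) ⊔ N = ⊤ ↔ pResidual p H ≤ N := by
  constructor
  · intro h
    refine CfsgLib.Transfer.pResidual_le (IsPGroup.iff_card.1 ?_)
    intro q
    obtain ⟨x, rfl⟩ := QuotientGroup.mk'_surjective N q
    obtain ⟨t, ht, n, hn, rfl⟩ := Subgroup.mem_sup_of_normal_right.1 (h.ge (Subgroup.mem_top x))
    obtain ⟨k, hk⟩ := T.isPGroup' ⟨t, ht⟩
    refine ⟨k, ?_⟩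
    rw [map_mul, show QuotientGroup.mk' N n = 1 from (QuotientGroup.eq_one_iff n).2 hn, mul_one, ← map_pow,
      show t ^ p ^ k = 1 by simpa using congrArg Subtype.val hk, map_one]
  · intro h
    exact top_le_iff.1 ((CfsgLib.Transfer.sup_pResidual_eq_top T).ge.trans (sup_le_sup_left h _))

theorem pResidual_le_of_le_sup {N D : Subgroup H} [N.Normal] (hD : IsPGroup p D)
    (h : pResidual p H ≤ N ⊔ D) : pResidual p H ≤ N := by
  obtain ⟨T, hT⟩ := hD.exists_le_sylow
  rw [← sylow_sup_eq_top_iff T]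
  exact top_le_iff.1 ((CfsgLib.Transfer.sup_pResidual_eq_top T).ge.trans
    (sup_le le_sup_left (h.trans (sup_le le_sup_right (hT.trans le_sup_left)))))

theorem irreducible_normalClosure_sylow (hH : IsPIrreducible p H) (T : Sylow p H) :
    Subgroup.normalClosure ((T : Subgroup H) : Set H) = ⊤ := by
  set N := Subgroup.normalClosure ((T : Subgroup H) : Set H)
  have hTN : (T : Subgroup H) ≤ N := Subgroup.le_normalClosure
  have hR : pResidual p H ≤ N := hH.2 N Subgroup.normalClosure_normal fun hc =>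
    hH.1 ((isPClosed_iff_sylow_le T).2 ((le_inf le_rfl hTN).trans
      ((isPClosed_subgroup_iff T N).1 hc)))
  have := (sylow_sup_eq_top_iff T N).2 hR
  rwa [sup_eq_right.2 hTN] at this

theorem irreducible_commutator_sup (hH : IsPIrreducible p H) (T : Sylow p H) :
    commutator H ⊔ (T : Subgroup H) = ⊤ := by
  have hn : (commutator H ⊔ (T : Subgroup H)).Normal := by
    refine ⟨fun x hx g => ?_⟩
    have h1 : g * x * g⁻¹ * x⁻¹ ∈ commutator H := by
      rw [commutator_def]
      exact Subgroup.commutator_mem_commutator (Subgroup.mem_top g) (Subgroup.mem_top x)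
    have h2 := Subgroup.mul_mem _ ((le_sup_left : commutator H ≤ commutator H ⊔ (T : Subgroup H)) h1) hx
    simpa [mul_assoc] using h2
  exact top_le_iff.1 ((irreducible_normalClosure_sylow hH T).ge.trans
    (Subgroup.normalClosure_le_normal (le_sup_right : (T : Subgroup H) ≤ commutator H ⊔ (T : Subgroup H))))

theorem irreducible_pResidual_le_commutator (hH : IsPIrreducible p H) :
    pResidual p H ≤ commutator H := by
  obtain ⟨T⟩ : Nonempty (Sylow p H) := inferInstance
  rw [← sylow_sup_eq_top_iff T, sup_comm]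
  exact irreducible_commutator_sup hH T

theorem irreducible_commutator_eq (hH : IsPIrreducible p H) (T : Sylow p H) {Y : Subgroup H}
    (hYT : Y ≤ (T : Subgroup H)) (hTY : (T : Subgroup H) ≤ Subgroup.normalizer (Y : Set H))
    (hY : ¬ Y ≤ pCore p H) :
    ⁅pResidual p H, Y⁆ = pResidual p H ∧ pResidual p H ≤ Subgroup.normalClosure (Y : Set H) := by
  set R := pResidual p H
  have hRn : R.Normal := CfsgLib.Transfer.pResidual_normal
  have htop := CfsgLib.Transfer.sup_pResidual_eq_top T
  -- `[R, Y]` is normal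
  have hnC : (⁅R, Y⁆).Normal := by
    rw [← Subgroup.normalizer_eq_top_iff, eq_top_iff, ← htop]
    refine sup_le ?_ ?_
    · intro t ht
      apply mem_normalizer_of_conj
      rw [Subgroup.map_commutator, conj_map_eq_of_mem_normalizer (hTY ht),
        conj_map_eq_of_mem_normalizer (by rw [Subgroup.normalizer_eq_top_iff.2 hRn]; trivial)]
    · exact Subgroup.normalizer_commutator_ge_left R Y
  have hCR : ⁅R, Y⁆ ≤ R := Subgroup.commutator_le_left R Y
  have hnM : (Y ⊔ ⁅R, Y⁆).Normal := by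
    rw [← Subgroup.normalizer_eq_top_iff, eq_top_iff, ← htop]
    refine sup_le ?_ ?_
    · intro t ht
      apply mem_normalizer_of_conj
      rw [Subgroup.map_sup, conj_map_eq_of_mem_normalizer (hTY ht), conj_map_eq_of_mem_normalizer
        (by rw [Subgroup.normalizer_eq_top_iff.2 hnC]; trivial)]
    · intro r hr
      have key : ∀ r ∈ R, (Y ⊔ ⁅R, Y⁆).map (MulAut.conj r).toMonoidHom ≤ Y ⊔ ⁅R, Y⁆ := by
        intro r hr
        rw [Subgroup.map_sup]
        refine sup_le ?_ ((conj_map_eq_of_mem_normalizer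
          (Subgroup.normalizer_commutator_ge_left R Y hr)).le.trans le_sup_right)
        rintro _ ⟨y, hy, rfl⟩
        have e : (MulAut.conj r).toMonoidHom y = (r * y * r⁻¹ * y⁻¹) * y := by simp [mul_assoc]
        rw [e]
        exact Subgroup.mul_mem _ ((le_sup_right : ⁅R, Y⁆ ≤ Y ⊔ ⁅R, Y⁆)
          (Subgroup.commutator_mem_commutator hr hy)) ((le_sup_left : Y ≤ Y ⊔ ⁅R, Y⁆) hy)
      rw [Subgroup.mem_normalizer_iff]
      refine fun x => ⟨fun hx => key r hr ⟨x, hx, rfl⟩, fun hx => ?_⟩
      have := key r⁻¹ (R.inv_mem hr) ⟨_, hx, rfl⟩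
      simpa [mul_assoc] using this
  have hM : R ≤ Y ⊔ ⁅R, Y⁆ := hH.2 _ hnM fun hc => hY
    ((le_inf hYT le_sup_left).trans ((isPClosed_subgroup_iff T _).1 hc))
  have hRC : R ≤ ⁅R, Y⁆ :=
    pResidual_le_of_le_sup (T.isPGroup'.to_le hYT) (hM.trans_eq (sup_comm _ _))
  refine ⟨le_antisymm hCR hRC, hRC.trans (Subgroup.commutator_le.2 fun r _ y hy => ?_)⟩
  rw [commutatorElement_def]
  exact Subgroup.mul_mem _ (Subgroup.normalClosure_normal.conj_mem _
    (Subgroup.subset_normalClosure hy) r) (Subgroup.inv_mem _ (Subgroup.subset_normalClosure hy))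

theorem stronglyPIrreducible_isPIrreducible (hH : IsStronglyPIrreducible p H) :
    IsPIrreducible p H := by
  refine ⟨hH.1, fun N hN hnc => hH.2 N hN fun hc => hnc ?_⟩
  obtain ⟨T⟩ : Nonempty (Sylow p H) := inferInstance
  rw [isPClosed_subgroup_iff T]
  set A := (T : Subgroup H) ⊓ N ⊔ pCore p H with hA
  have hAn : A.Normal := by
    refine ⟨fun x hx g => ?_⟩
    have hxN : x ∈ N ⊔ pCore p H := (sup_le_sup_right inf_le_right (pCore p H)) hx
    obtain ⟨n, hn, q, hq, rfl⟩ := Subgroup.mem_sup_of_normal_right.1 hxN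
    have hnA : n ∈ A := by
      have := A.mul_mem hx ((le_sup_right : pCore p H ≤ A) ((pCore p H).inv_mem hq))
      simpa using this
    have h1 : n * g * n⁻¹ * g⁻¹ ∈ pCore p H :=
      hc (Subgroup.commutator_mem_commutator hn (Subgroup.mem_top g))
    have h2 : g * n * g⁻¹ ∈ A := by
      have := A.mul_mem ((le_sup_right : pCore p H ≤ A) ((pCore p H).inv_mem h1)) hnA
      simpa [mul_assoc] using this
    have h3 : g * q * g⁻¹ ∈ A :=
      (le_sup_right : pCore p H ≤ A) ((inferInstance : (pCore p H).Normal).conj_mem q hq g)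
    simpa [mul_assoc] using A.mul_mem h2 h3
  exact le_sup_left.trans (CfsgLib.LocalEven.le_pCore hAn
    (T.isPGroup'.to_le (sup_le inf_le_left (CfsgLib.LocalEven.pCore_le_sylow T))))

section Quotient

variable (D : Subgroup H) [D.Normal]

theorem isPClosed_quotient_iff (hD : IsPGroup p D) : IsPClosed p (H ⧸ D) ↔ IsPClosed p H := by
  obtain ⟨T⟩ : Nonempty (Sylow p H) := inferInstance
  have hDc : D ≤ pCore p H := CfsgLib.LocalEven.le_pCore inferInstance hD
  rw [isPClosed_iff_sylow_le T, isPClosed_iff_sylow_le (T.mapSurjective (QuotientGroup.mk'_surjective D)),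
    Sylow.coe_mapSurjective, CfsgLib.Base.pCore_quotient D hD, Subgroup.map_le_map_iff,
    QuotientGroup.ker_mk', sup_eq_left.2 hDc]

theorem isPClosed_map_iff (hD : IsPGroup p D) (N : Subgroup H) [N.Normal]
    [(N.map (QuotientGroup.mk' D)).Normal] :
    IsPClosed p ↥(N.map (QuotientGroup.mk' D)) ↔ IsPClosed p N := by
  obtain ⟨T⟩ : Nonempty (Sylow p H) := inferInstance
  have hDc : D ≤ pCore p H := CfsgLib.LocalEven.le_pCore inferInstance hD
  rw [isPClosed_subgroup_iff T, isPClosed_subgroup_iff (T.mapSurjective (QuotientGroup.mk'_surjective D)),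
    Sylow.coe_mapSurjective, CfsgLib.Base.pCore_quotient D hD]
  have e : (T : Subgroup H).map (QuotientGroup.mk' D) ⊓ N.map (QuotientGroup.mk' D) =
      ((T : Subgroup H) ⊓ N).map (QuotientGroup.mk' D) := by
    refine le_antisymm ?_ (Subgroup.map_inf_le _ _ _)
    rintro _ ⟨⟨t, ht, rfl⟩, n, hn, he⟩
    have hd : t⁻¹ * n ∈ D := by
      rw [← QuotientGroup.eq_one_iff]
      simpa [QuotientGroup.mk'_apply] using congrArg (fun z => (QuotientGroup.mk' D t)⁻¹ * z) he
    have hnT : n ∈ (T : Subgroup H) := by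
      have := (T : Subgroup H).mul_mem ht ((hDc.trans (CfsgLib.LocalEven.pCore_le_sylow T)) hd)
      simpa using this
    exact ⟨n, ⟨hnT, hn⟩, he⟩
  rw [e, Subgroup.map_le_map_iff, QuotientGroup.ker_mk', sup_eq_left.2 hDc]

theorem pResidual_map_le_map_iff (hD : IsPGroup p D) (N : Subgroup H) [N.Normal] :
    pResidual p (H ⧸ D) ≤ N.map (QuotientGroup.mk' D) ↔ pResidual p H ≤ N := by
  rw [← CfsgLib.Transfer.pResidual_map_of_surjective (QuotientGroup.mk' D)
    (QuotientGroup.mk'_surjective D), Subgroup.map_le_map_iff, QuotientGroup.ker_mk']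
  exact ⟨fun h => pResidual_le_of_le_sup hD h, fun h => h.trans le_sup_left⟩

theorem isPIrreducible_quotient_iff (hD : IsPGroup p D) :
    IsPIrreducible p (H ⧸ D) ↔ IsPIrreducible p H := by
  refine and_congr (not_congr (isPClosed_quotient_iff D hD)) ⟨fun h N hN hnc => ?_, fun h N hN hnc => ?_⟩
  · have := Subgroup.Normal.map hN (QuotientGroup.mk' D) (QuotientGroup.mk'_surjective D)
    exact (pResidual_map_le_map_iff D hD N).1 (h _ this fun hc => hnc ((isPClosed_map_iff D hD N).1 hc))
  · have hm : (N.comap (QuotientGroup.mk' D)).map (QuotientGroup.mk' D) = N :=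
      Subgroup.map_comap_eq_self_of_surjective (QuotientGroup.mk'_surjective D) N
    have hN' : (N.comap (QuotientGroup.mk' D)).Normal := hN.comap _
    have : ((N.comap (QuotientGroup.mk' D)).map (QuotientGroup.mk' D)).Normal := by rw [hm]; exact hN
    have h1 := isPClosed_map_iff D hD (N.comap (QuotientGroup.mk' D))
    have h2 := pResidual_map_le_map_iff D hD (N.comap (QuotientGroup.mk' D))
    rw [hm] at h1 h2
    exact h2.2 (h _ hN' fun hc => hnc (h1.2 hc))

theorem isStronglyPIrreducible_quotient_iff (hD : IsPGroup p D) :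
    IsStronglyPIrreducible p (H ⧸ D) ↔ IsStronglyPIrreducible p H := by
  have hDc : D ≤ pCore p H := CfsgLib.LocalEven.le_pCore inferInstance hD
  have key : ∀ N : Subgroup H, ⁅N.map (QuotientGroup.mk' D), (⊤ : Subgroup (H ⧸ D))⁆ ≤
      pCore p (H ⧸ D) ↔ ⁅N, (⊤ : Subgroup H)⁆ ≤ pCore p H := by
    intro N
    rw [← Subgroup.map_top_of_surjective _ (QuotientGroup.mk'_surjective D),
      ← Subgroup.map_commutator, CfsgLib.Base.pCore_quotient D hD, Subgroup.map_le_map_iff,
      QuotientGroup.ker_mk', sup_eq_left.2 hDc]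
  refine and_congr (not_congr (isPClosed_quotient_iff D hD)) ⟨fun h N hN hnc => ?_, fun h N hN hnc => ?_⟩
  · have := Subgroup.Normal.map hN (QuotientGroup.mk' D) (QuotientGroup.mk'_surjective D)
    exact (pResidual_map_le_map_iff D hD N).1 (h _ this fun hc => hnc ((key N).1 hc))
  · have hm : (N.comap (QuotientGroup.mk' D)).map (QuotientGroup.mk' D) = N :=
      Subgroup.map_comap_eq_self_of_surjective (QuotientGroup.mk'_surjective D) N
    have hN' : (N.comap (QuotientGroup.mk' D)).Normal := hN.comap _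
    have h2 := pResidual_map_le_map_iff D hD (N.comap (QuotientGroup.mk' D))
    rw [hm] at h2
    have h1 := key (N.comap (QuotientGroup.mk' D))
    rw [hm] at h1
    exact h2.2 (h _ hN' fun hc => hnc (h1.2 hc))

end Quotient

theorem isPIrreducible_of_minimalOver (T : Sylow p H) (hmin : IsMinimalOver (T : Subgroup H)) :
    IsPIrreducible p H := by
  obtain ⟨hgen, M, ⟨hM, hTM⟩, huniq⟩ := hmin
  have hTne : ¬ (T : Subgroup H).Normal := fun hn => hM.1 (top_le_iff.1 (hgen.ge.trans
    (by rw [Subgroup.normalClosure_eq_self]; exact hTM)))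
  refine ⟨fun hc => hTne (hc T), fun N hN hnc => ?_⟩
  rw [← sylow_sup_eq_top_iff T]
  by_contra hne
  obtain ⟨X, hX, hXle⟩ := (eq_top_or_exists_le_coatom ((T : Subgroup H) ⊔ N)).resolve_left hne
  have hXM : X = M := huniq X ⟨hX, le_sup_left.trans hXle⟩
  subst hXM
  obtain ⟨Q, hQ⟩ : ∃ Q : Sylow p N, (Q : Subgroup N) = (T : Subgroup H).subgroupOf N :=
    ⟨(T.isPGroup'.comap_subtype).toSylow
      (CfsgLib.Transfer.not_dvd_index_subgroupOf_of_normal T N), IsPGroup.toSylow_coe _ _⟩
  have hQ' : (Q : Subgroup N).map N.subtype = (T : Subgroup H) ⊓ N := by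
    rw [hQ, Subgroup.subgroupOf_map_subtype]
  have hF := Sylow.normalizer_sup_eq_top Q
  rw [hQ'] at hF
  have hTn : (T : Subgroup H) ≤ Subgroup.normalizer (((T : Subgroup H) ⊓ N : Subgroup H) : Set H) :=
    (le_inf Subgroup.le_normalizer (by rw [Subgroup.normalizer_eq_top_iff.2 hN]; exact le_top)).trans
      Subgroup.inf_normalizer_le_normalizer_inf
  have hnn : Subgroup.normalizer (((T : Subgroup H) ⊓ N : Subgroup H) : Set H) ≠ ⊤ := fun e =>
    hnc ((isPClosed_subgroup_iff T N).2 (CfsgLib.LocalEven.le_pCore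
      (Subgroup.normalizer_eq_top_iff.1 e) (T.isPGroup'.to_le inf_le_left)))
  obtain ⟨Z, hZ, hZle⟩ := (eq_top_or_exists_le_coatom _).resolve_left hnn
  have := huniq Z ⟨hZ, hTn.trans hZle⟩
  subst this
  exact hX.1 (top_le_iff.1 (hF.ge.trans (sup_le hZle (le_sup_right.trans hXle))))

omit [Finite H] [Fact p.Prime] in
theorem isCoatom_map_quotient {N M : Subgroup H} [N.Normal] (hM : IsCoatom M) (hNM : N ≤ M) :
    IsCoatom (M.map (QuotientGroup.mk' N)) := by
  have hc : (M.map (QuotientGroup.mk' N)).comap (QuotientGroup.mk' N) = M := by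
    rw [Subgroup.comap_map_eq, QuotientGroup.ker_mk', sup_eq_left.2 hNM]
  refine ⟨fun e => hM.1 (by rw [← hc, e, Subgroup.comap_top]), fun Z hZ => ?_⟩
  have hZ' : M < Z.comap (QuotientGroup.mk' N) := by
    rw [← hc]
    exact Subgroup.comap_lt_comap_of_surjective (QuotientGroup.mk'_surjective N) |>.2 hZ
  rw [← Subgroup.map_comap_eq_self_of_surjective (QuotientGroup.mk'_surjective N) Z, hM.2 _ hZ',
    Subgroup.map_top_of_surjective _ (QuotientGroup.mk'_surjective N)]

theorem minimalOver_quotient (T : Sylow p H) (hmin : IsMinimalOver (T : Subgroup H)) (N : Subgroup H)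
    [N.Normal] :
    IsPGroup p (H ⧸ N) ∨ IsMinimalOver ((T : Subgroup H).map (QuotientGroup.mk' N)) := by
  obtain ⟨hgen, M, ⟨hM, hTM⟩, huniq⟩ := hmin
  by_cases hTN : (T : Subgroup H) ⊔ N = ⊤
  · left
    intro q
    obtain ⟨x, rfl⟩ := QuotientGroup.mk'_surjective N q
    obtain ⟨t, ht, n, hn, rfl⟩ := Subgroup.mem_sup_of_normal_right.1 (hTN.ge (Subgroup.mem_top x))
    obtain ⟨k, hk⟩ := T.isPGroup' ⟨t, ht⟩
    refine ⟨k, ?_⟩
    rw [map_mul, show QuotientGroup.mk' N n = 1 from (QuotientGroup.eq_one_iff n).2 hn, mul_one, ← map_pow,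
      show t ^ p ^ k = 1 by simpa using congrArg Subtype.val hk, map_one]
  · right
    obtain ⟨X, hX, hXle⟩ := (eq_top_or_exists_le_coatom _).resolve_left hTN
    have hXM := huniq X ⟨hX, le_sup_left.trans hXle⟩
    subst hXM
    refine ⟨?_, X.map (QuotientGroup.mk' N),
      ⟨isCoatom_map_quotient hX (le_sup_right.trans hXle), Subgroup.map_mono hTM⟩, ?_⟩
    · have hn := (Subgroup.normalClosure_normal (s := ((T : Subgroup H).map
        (QuotientGroup.mk' N) : Set (H ⧸ N)))).comap (QuotientGroup.mk' N)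
      have hle : (⊤ : Subgroup H) ≤ (Subgroup.normalClosure ((T : Subgroup H).map
          (QuotientGroup.mk' N) : Set (H ⧸ N))).comap (QuotientGroup.mk' N) :=
        hgen.ge.trans (Subgroup.normalClosure_le_normal fun t ht =>
          Subgroup.subset_normalClosure ⟨t, ht, rfl⟩)
      rw [eq_top_iff]
      rintro q -
      obtain ⟨x, rfl⟩ := QuotientGroup.mk'_surjective N q
      exact hle (Subgroup.mem_top x)
    · rintro Z ⟨hZ, hTZ⟩
      have hZc := Subgroup.isCoatom_comap_of_surjective (QuotientGroup.mk'_surjective N) hZ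
      rw [← huniq _ ⟨hZc, (Subgroup.map_le_iff_le_comap).1 hTZ⟩,
        Subgroup.map_comap_eq_self_of_surjective (QuotientGroup.mk'_surjective N)]

/-- A subnormal subgroup of `p`-power index contains every element of order prime to `p`. -/
theorem mem_of_isSubnormal_index {B : Subgroup H} (hB : B.IsSubnormal) (hi : ∃ k, B.index = p ^ k)
    {g : H} (hg : (orderOf g).Coprime p) : g ∈ B := by
  induction hB with
  | top => exact Subgroup.mem_top g
  | step A K hle _ hn ih =>
    obtain ⟨k, hk⟩ := hi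
    obtain ⟨j, -, hj⟩ := (Nat.dvd_prime_pow (Fact.out : p.Prime)).1
      (hk ▸ Subgroup.index_dvd_of_le hle)
    have hgK : g ∈ K := ih ⟨j, hj⟩
    obtain ⟨i, -, hi'⟩ := (Nat.dvd_prime_pow (Fact.out : p.Prime)).1
      (show A.relIndex K ∣ p ^ k from hk ▸ Dvd.intro _ (Subgroup.relIndex_mul_index hle))
    have := CfsgLib.Transfer.mem_of_coprime_orderOf_of_index (p := p) (N := A.subgroupOf K)
      ⟨i, hi'⟩ (g := ⟨g, hgK⟩) (by rwa [Subgroup.orderOf_mk])
    exact this

theorem subnormal_pResidual_absorb (A B : Subgroup H) (hA : A.IsSubnormal) (hB : B.IsSubnormal)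
    (hAp : IsPGroup p A) (hBres : (pResidual p B).map B.subtype = B) :
    A ≤ Subgroup.normalizer (B : Set H) ∧
      (pResidual p ↥(A ⊔ B)).map (A ⊔ B).subtype = B := by
  set P := pCore p H
  have hAP : A ≤ P := CfsgLib.Base.le_pCore_of_isSubnormal hA hAp
  set X := B ⊔ P
  have hidx : ∃ k, (B.subgroupOf X).index = p ^ k := by
    obtain ⟨n, hn⟩ := CfsgLib.Base.pCore_eq_pow_card p H
    have h1 := CfsgLib.Base.card_sup_mul_card_inf B P
    have h2 : Nat.card B * (B.subgroupOf X).index = Nat.card X := by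
      rw [← Nat.card_congr (Subgroup.subgroupOfEquivOfLe (le_sup_left : B ≤ X)).toEquiv,
        Subgroup.card_mul_index]
    have h3 : (B.subgroupOf X).index ∣ p ^ n := by
      refine Dvd.intro (Nat.card ↥(B ⊓ P)) (Nat.eq_of_mul_eq_mul_left (Nat.card_pos (α := B)) ?_)
      rw [← hn, ← mul_assoc, h2]
      exact h1
    obtain ⟨k, -, hk⟩ := (Nat.dvd_prime_pow (Fact.out : p.Prime)).1 h3
    exact ⟨k, hk⟩
  have key : ∀ g ∈ X, (orderOf g).Coprime p → g ∈ B := fun g hg hc =>
    mem_of_isSubnormal_index hB.subgroupOf hidx (g := ⟨g, hg⟩) (by rwa [Subgroup.orderOf_mk])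
  have hBgen : B = Subgroup.closure {g : H | g ∈ B ∧ (orderOf g).Coprime p} := by
    refine le_antisymm ?_ ((Subgroup.closure_le _).2 fun g hg => hg.1)
    conv_lhs => rw [← hBres]
    rw [Subgroup.map_le_iff_le_comap, pResidual, Subgroup.closure_le]
    intro g hg
    exact Subgroup.subset_closure ⟨g.2, by rw [Subgroup.subtype_apply, Subgroup.orderOf_coe]; exact hg⟩
  have hAB : A ⊔ B ≤ X := sup_le (hAP.trans le_sup_right) le_sup_left
  refine ⟨fun a ha => ?_, le_antisymm ?_ ?_⟩
  · have hle : ∀ a ∈ A, B.map (MulAut.conj a).toMonoidHom ≤ B := by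
      intro a ha
      rw [hBgen, MonoidHom.map_closure, Subgroup.closure_le, ← hBgen]
      rintro _ ⟨g, ⟨hg, hc⟩, rfl⟩
      refine key _ ?_ ?_
      · exact X.mul_mem (X.mul_mem ((hAP.trans le_sup_right) ha) ((le_sup_left : B ≤ X) hg))
          (X.inv_mem ((hAP.trans le_sup_right) ha))
      · rwa [orderOf_injective (MulAut.conj a).toMonoidHom (MulAut.conj a).injective g]
    exact mem_normalizer_of_conj (Subgroup.eq_of_le_of_card_ge (hle a ha)
      (le_of_eq (Subgroup.card_map_of_injective (MulAut.conj a).injective).symm))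
  · rw [Subgroup.map_le_iff_le_comap, pResidual, Subgroup.closure_le]
    intro g hg
    exact key g (hAB g.2) (by rw [Subgroup.orderOf_coe]; exact hg)
  · conv_lhs => rw [hBgen]
    rw [Subgroup.closure_le]
    rintro g ⟨hg, hc⟩
    exact ⟨⟨g, (le_sup_right : B ≤ A ⊔ B) hg⟩,
      CfsgLib.Transfer.mem_pResidual_of_coprime (by rwa [Subgroup.orderOf_mk]), rfl⟩

end CfsgLib.LocalEven
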