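import Cfsg.Agent.Lib.LocalEven.PIrred
import Cfsg.Agent.Lib.LocalEven.StrongEmb3

/-!
Weakly closed `p`-subgroups.
-/

namespace CfsgLib.LocalEven

open Cfsg

variable {H : Type*} [Group H] [Finite H] {p : ℕ} [Fact p.Prime] {Q : Subgroup H}

theorem conj_map_eq_iff {x y : H} :
    Q.map (MulAut.conj x).toMonoidHom = Q.map (MulAut.conj y).toMonoidHom ↔
      y⁻¹ * x ∈ Subgroup.normalizer (Q : Set H) := by
  constructor
  · intro h
    apply mem_normalizer_of_conj
    rw [← conj_map_conj_map, h, conj_map_conj_map, inv_mul_cancel, conj_map_one]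
  · intro h
    conv_rhs => rw [← conj_map_eq_of_mem_normalizer h]
    rw [conj_map_conj_map, mul_inv_cancel_left]

/-- Any two conjugates of a weakly closed subgroup inside one `p`-subgroup are equal. -/
theorem wc_conj_eq (hwc : IsWeaklyClosedSubgroup p Q) {R : Subgroup H} (hR : IsPGroup p R)
    {x y : H} (hx : Q.map (MulAut.conj x).toMonoidHom ≤ R)
    (hy : Q.map (MulAut.conj y).toMonoidHom ≤ R) :
    Q.map (MulAut.conj x).toMonoidHom = Q.map (MulAut.conj y).toMonoidHom := by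
  obtain ⟨T, -, hT⟩ := hwc
  obtain ⟨P, hP⟩ := hR.exists_le_sylow
  obtain ⟨h, rfl⟩ := MulAction.exists_smul_eq H T P
  have key : ∀ z : H, Q.map (MulAut.conj z).toMonoidHom ≤ R →
      Q.map (MulAut.conj z).toMonoidHom = Q.map (MulAut.conj h).toMonoidHom := by
    intro z hz
    have h1 : Q.map (MulAut.conj (h⁻¹ * z)).toMonoidHom = Q := by
      refine hT _ ?_
      rw [← conj_map_conj_map]
      rintro _ ⟨w, hw, rfl⟩
      obtain ⟨t, ht, rfl⟩ := hP (hz hw)
      simp [mul_assoc]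
      exact ht
    calc Q.map (MulAut.conj z).toMonoidHom
        = (Q.map (MulAut.conj (h⁻¹ * z)).toMonoidHom).map (MulAut.conj h).toMonoidHom := by
          rw [conj_map_conj_map, mul_inv_cancel_left]
      _ = _ := by rw [h1]
  rw [key x hx, key y hy]

theorem wc_normalizer_le (hwc : IsWeaklyClosedSubgroup p Q) {R : Subgroup H} (hR : IsPGroup p R)
    (hQR : Q ≤ R) : Subgroup.normalizer (R : Set H) ≤ Subgroup.normalizer (Q : Set H) := by
  intro g hg
  apply mem_normalizer_of_conj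
  have h1 := wc_conj_eq hwc hR (x := g) (y := 1)
    ((Subgroup.map_mono hQR).trans (conj_map_eq_of_mem_normalizer hg).le)
    (by rw [conj_map_one]; exact hQR)
  rwa [conj_map_one] at h1

theorem wc_le_normalizer (hwc : IsWeaklyClosedSubgroup p Q) {R : Subgroup H} (hR : IsPGroup p R)
    (hQR : Q ≤ R) : R ≤ Subgroup.normalizer (Q : Set H) :=
  Subgroup.le_normalizer.trans (wc_normalizer_le hwc hR hQR)

theorem wc_isPGroup {Q : Subgroup H} (hwc : IsWeaklyClosedSubgroup p Q) : IsPGroup p Q :=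
  hwc.choose.isPGroup'.to_le hwc.choose_spec.1

/-- A `p`-subgroup normalized by `Q` normalizes `Q`. -/
theorem wc_normalized_le_normalizer (hwc : IsWeaklyClosedSubgroup p Q) {R : Subgroup H}
    (hR : IsPGroup p R) (hQR : Q ≤ Subgroup.normalizer (R : Set H)) :
    R ≤ Subgroup.normalizer (Q : Set H) :=
  le_sup_right.trans (wc_le_normalizer hwc
    ((wc_isPGroup hwc).to_sup_of_normal_right' hR hQR) le_sup_left)

theorem wc_of_normal_in_pGroups (hQp : IsPGroup p Q)
    (h : ∀ R : Subgroup H, IsPGroup p R → Q ≤ R →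
      Subgroup.normalizer (R : Set H) ≤ Subgroup.normalizer (Q : Set H)) :
    IsWeaklyClosedSubgroup p Q := by
  obtain ⟨T, hT⟩ := hQp.exists_le_sylow
  refine ⟨T, hT, fun g hg => conj_map_eq_of_mem_normalizer ?_⟩
  have hTN : (T : Subgroup H) ≤ Subgroup.normalizer (Q : Set H) :=
    Subgroup.le_normalizer.trans (h T T.isPGroup' hT)
  set T' := (T : Subgroup H).map (MulAut.conj g⁻¹).toMonoidHom with hT'
  have hQT' : Q ≤ T' := fun q hq => ⟨g * q * g⁻¹, hg ⟨q, hq, rfl⟩, by simp [mul_assoc]⟩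
  have hT'p : IsPGroup p T' := T.isPGroup'.map _
  have hT'N : T' ≤ Subgroup.normalizer (Q : Set H) :=
    Subgroup.le_normalizer.trans (h T' hT'p hQT')
  have hsyl : CfsgLib.Fusion.IsSylIn p (T : Subgroup H) (Subgroup.normalizer (Q : Set H)) :=
    ⟨hTN, T.isPGroup', fun C hC hTC _ => T.3 hC hTC⟩
  obtain ⟨n, hn, hnT⟩ := hsyl.exists_conj_le hT'p hT'N
  have hle : (T : Subgroup H).map (MulAut.conj (n * g⁻¹)).toMonoidHom ≤ (T : Subgroup H) := by
    rw [← conj_map_conj_map]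
    rintro _ ⟨a, ha, rfl⟩
    exact hnT a ha
  have hmem := h T T.isPGroup' hT (mem_normalizer_of_conj (Subgroup.eq_of_le_of_card_ge hle
    (le_of_eq (Subgroup.card_map_of_injective (MulAut.conj (n * g⁻¹)).injective).symm)))
  exact inv_mem_iff.1 ((Subgroup.mul_mem_cancel_left _ hn).1 hmem)

theorem wc_iff_normalizer (hQp : IsPGroup p Q) :
    IsWeaklyClosedSubgroup p Q ↔ ∀ R : Subgroup H, IsPGroup p R → Q ≤ R →
      Subgroup.normalizer (R : Set H) ≤ Subgroup.normalizer (Q : Set H) :=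
  ⟨fun h _ hR hQR => wc_normalizer_le h hR hQR, wc_of_normal_in_pGroups hQp⟩

theorem commutator_le_inf_iff {A B : Subgroup H} :
    ⁅A, B⁆ ≤ A ⊓ B ↔ B ≤ Subgroup.normalizer (A : Set H) ∧ A ≤ Subgroup.normalizer (B : Set H) := by
  constructor
  · intro h
    refine ⟨fun b hb => ?_, fun a ha => ?_⟩
    · rw [Subgroup.mem_normalizer_iff]
      have key : ∀ b ∈ B, ∀ a ∈ A, b * a * b⁻¹ ∈ A := fun b hb a ha => by
        have h1 := A.mul_mem (h (commutator_flip_mem' ha hb)).1 ha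
        simpa using h1
      refine fun a => ⟨key b hb a, fun ha => ?_⟩
      simpa [mul_assoc] using key b⁻¹ (B.inv_mem hb) _ ha
    · rw [Subgroup.mem_normalizer_iff]
      have key : ∀ a ∈ A, ∀ b ∈ B, a * b * a⁻¹ ∈ B := fun a ha b hb => by
        have h1 := B.mul_mem (h (Subgroup.commutator_mem_commutator ha hb)).2 hb
        simpa [commutatorElement_def] using h1
      refine fun b => ⟨key a ha b, fun hb => ?_⟩
      simpa [mul_assoc] using key a⁻¹ (A.inv_mem ha) _ hb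
  · rintro ⟨h1, h2⟩
    exact Subgroup.commutator_le.2 fun a ha b hb =>
      ⟨commElem_mem_right ha (h1 hb), commElem_mem_left hb (h2 ha)⟩
where
  commutator_flip_mem' {A B : Subgroup H} {a b : H} (ha : a ∈ A) (hb : b ∈ B) :
      b * a * b⁻¹ * a⁻¹ ∈ ⁅A, B⁆ := by
    rw [Subgroup.commutator_comm]
    exact Subgroup.commutator_mem_commutator hb ha

theorem wc_iff_commutator (hQp : IsPGroup p Q) :
    IsWeaklyClosedSubgroup p Q ↔ ∀ g : H,
      ⁅Q, Q.map (MulAut.conj g).toMonoidHom⁆ ≤ Q ⊓ Q.map (MulAut.conj g).toMonoidHom →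
      Q.map (MulAut.conj g).toMonoidHom = Q := by
  constructor
  · intro hwc g hg
    have h1 := wc_conj_eq hwc (x := g) (y := 1)
      (hQp.to_sup_of_normal_right' (hQp.map _) (commutator_le_inf_iff.1 hg).2)
      le_sup_right (by rw [conj_map_one]; exact le_sup_left)
    rwa [conj_map_one] at h1
  · intro h
    have hnorm : ∀ R : Subgroup H, IsPGroup p R → Q ≤ R → R ≤ Subgroup.normalizer (Q : Set H) := by
      intro R hR hQR
      by_contra hcon
      set N1 := R ⊓ Subgroup.normalizer (Q : Set H)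
      have hlt : N1 < R := lt_of_le_of_ne inf_le_left fun e => hcon (e ▸ inf_le_right)
      obtain ⟨x, hx, hxN⟩ := SetLike.exists_of_lt (CfsgLib.Fusion.lt_inf_normalizer hR hlt)
      apply hxN
      have hQN : Q ≤ N1 := le_inf hQR Subgroup.le_normalizer
      have hQx : Q.map (MulAut.conj x).toMonoidHom ≤ N1 :=
        (Subgroup.map_mono hQN).trans (conj_map_eq_of_mem_normalizer hx.2).le
      refine ⟨hx.1, mem_normalizer_of_conj (h x (commutator_le_inf_iff.2 ⟨hQx.trans inf_le_right, ?_⟩))⟩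
      have h3 := Subgroup.map_mono (f := (MulAut.conj x).toMonoidHom)
        (inf_le_right : N1 ≤ Subgroup.normalizer (Q : Set H))
      rw [conj_map_eq_of_mem_normalizer hx.2, map_conj_normalizer] at h3
      exact hQN.trans h3
    refine wc_of_normal_in_pGroups hQp fun R hR hQR g hg => ?_
    apply mem_normalizer_of_conj
    have hQg : Q.map (MulAut.conj g).toMonoidHom ≤ R :=
      (Subgroup.map_mono hQR).trans (conj_map_eq_of_mem_normalizer hg).le
    refine h g (commutator_le_inf_iff.2 ⟨hQg.trans (hnorm R hR hQR), ?_⟩)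
    rw [← map_conj_normalizer]
    exact hQR.trans ((conj_map_eq_of_mem_normalizer hg).ge.trans
      (Subgroup.map_mono (hnorm R hR hQR)))

theorem wc_subgroupOf (hwc : IsWeaklyClosedSubgroup p Q) {K : Subgroup H} (hQK : Q ≤ K) :
    IsWeaklyClosedSubgroup p (Q.subgroupOf K) := by
  refine (wc_iff_normalizer (wc_isPGroup hwc).comap_subtype).2 fun R hR hQR g hg => ?_
  have h1 : (g : H) ∈ Subgroup.normalizer ((R.map K.subtype : Subgroup H) : Set H) := by
    apply mem_normalizer_of_conj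
    conv_rhs => rw [← conj_map_eq_of_mem_normalizer hg]
    rw [Subgroup.map_map, Subgroup.map_map]
    rfl
  have h2 := wc_normalizer_le hwc (hR.map K.subtype) (by
    rw [← Subgroup.map_subgroupOf_eq_of_le hQK]; exact Subgroup.map_mono hQR) h1
  rw [Subgroup.mem_normalizer_iff] at h2 ⊢
  exact fun x => h2 x

/-- Conjugates of `Q` inside `K` are `K`-conjugates. -/
theorem wc_exists_conj (hwc : IsWeaklyClosedSubgroup p Q) {K : Subgroup H} (hQK : Q ≤ K) {g : H}
    (hg : Q.map (MulAut.conj g).toMonoidHom ≤ K) :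
    ∃ k ∈ K, Q.map (MulAut.conj g).toMonoidHom = Q.map (MulAut.conj k).toMonoidHom := by
  obtain ⟨P, hQP, hP⟩ := CfsgLib.Fusion.exists_isSylIn_of_isPGroup (wc_isPGroup hwc) hQK
  obtain ⟨k, hk, hkg⟩ := hP.exists_conj_le ((wc_isPGroup hwc).map (MulAut.conj g).toMonoidHom) hg
  refine ⟨k⁻¹, K.inv_mem hk, wc_conj_eq hwc (hP.2.1.map (MulAut.conj k⁻¹).toMonoidHom) ?_
    (Subgroup.map_mono hQP)⟩
  intro x hx
  exact ⟨k * x * k⁻¹, hkg x hx, by simp [mul_assoc]⟩

theorem wc_weakClosure_eq (hwc : IsWeaklyClosedSubgroup p Q) {K : Subgroup H} (hQK : Q ≤ K) :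
    weakClosure Q K = ⨆ k : K, Q.map (MulAut.conj (k : H)).toMonoidHom := by
  refine le_antisymm (iSup_le fun g => ?_) (iSup_le fun k => ?_)
  · obtain ⟨k, hk, e⟩ := wc_exists_conj hwc hQK g.2
    rw [e]
    exact le_iSup (fun k : K => Q.map (MulAut.conj (k : H)).toMonoidHom) ⟨k, hk⟩
  · exact le_iSup (fun g : {g : H // Q.map (MulAut.conj g).toMonoidHom ≤ K} =>
      Q.map (MulAut.conj (g : H)).toMonoidHom) ⟨k, (map_conj_le_iff k.2).2 hQK⟩

theorem le_normalizer_weakClosure {K : Subgroup H} :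
    K ≤ Subgroup.normalizer (weakClosure Q K : Set H) := by
  have key : ∀ k ∈ K, (weakClosure Q K).map (MulAut.conj k).toMonoidHom ≤ weakClosure Q K := by
    intro k hk
    rw [weakClosure, Subgroup.map_iSup]
    refine iSup_le fun g => ?_
    rw [conj_map_conj_map]
    refine le_iSup (fun g : {g : H // Q.map (MulAut.conj g).toMonoidHom ≤ K} =>
      Q.map (MulAut.conj (g : H)).toMonoidHom) ⟨k * g, ?_⟩
    rw [← conj_map_conj_map]
    exact (map_conj_le_iff hk).2 g.2
  intro k hk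
  exact mem_normalizer_of_conj (Subgroup.eq_of_le_of_card_ge (key k hk)
    (le_of_eq (Subgroup.card_map_of_injective (MulAut.conj k).injective).symm))

/-- Frattini argument for weakly closed subgroups. -/
theorem wc_factor (hwc : IsWeaklyClosedSubgroup p Q) {N : Subgroup H}
    (hQN : Q ≤ Subgroup.normalizer (N : Set H)) {n : H} (hn : n ∈ N) :
    ∃ a ∈ N ⊓ Subgroup.normalizer (Q : Set H), ∃ b ∈ ⁅N, Q⁆, n = a * b := by
  have hMN : ⁅N, Q⁆ ≤ N := Subgroup.commutator_le.2 fun x hx q hq => commElem_mem_right hx (hQN hq)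
  have hQM : Q ≤ Subgroup.normalizer ((⁅N, Q⁆ : Subgroup H) : Set H) :=
    Subgroup.normalizer_commutator_ge_right N Q
  have hg : Q.map (MulAut.conj n).toMonoidHom ≤ Q ⊔ ⁅N, Q⁆ := by
    rintro _ ⟨q, hq, rfl⟩
    have e : (MulAut.conj n).toMonoidHom q = (n * q * n⁻¹ * q⁻¹) * q := by simp
    rw [e]
    exact Subgroup.mul_mem _ ((le_sup_right : ⁅N, Q⁆ ≤ Q ⊔ ⁅N, Q⁆)
      (Subgroup.commutator_mem_commutator hn hq)) ((le_sup_left : Q ≤ Q ⊔ ⁅N, Q⁆) hq)
  obtain ⟨k, hk, e⟩ := wc_exists_conj hwc le_sup_left hg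
  obtain ⟨q, hq, m, hm, rfl⟩ := (CfsgLib.Coprime.mem_sup_iff_of_le_normalizer hQM).1 hk
  set m' := q * m * q⁻¹
  have hm' : m' ∈ ⁅N, Q⁆ := (Subgroup.mem_normalizer_iff.1 (hQM hq) m).1 hm
  have e' : Q.map (MulAut.conj n).toMonoidHom = Q.map (MulAut.conj m').toMonoidHom := by
    rw [e, show q * m = m' * q by simp [m'], ← conj_map_conj_map,
      conj_map_eq_of_mem_normalizer (Subgroup.le_normalizer hq)]
  have ha : m'⁻¹ * n ∈ Subgroup.normalizer (Q : Set H) := conj_map_eq_iff.1 e'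
  refine ⟨m'⁻¹ * n, ⟨N.mul_mem (N.inv_mem (hMN hm')) hn, ha⟩, (m'⁻¹ * n)⁻¹ * m' * (m'⁻¹ * n), ?_,
    by group⟩
  have hnM : m'⁻¹ * n ∈ Subgroup.normalizer ((⁅N, Q⁆ : Subgroup H) : Set H) :=
    Subgroup.normalizer_commutator_ge_left N Q (N.mul_mem (N.inv_mem (hMN hm')) hn)
  simpa using (Subgroup.mem_normalizer_iff.1 (Subgroup.inv_mem _ hnM) m').1 hm'

theorem wc_commutator_factor (hwc : IsWeaklyClosedSubgroup p Q) {N : Subgroup H}
    (hQN : Q ≤ Subgroup.normalizer (N : Set H)) {c : H} (hc : c ∈ ⁅N, Q⁆) :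
    ∃ a ∈ Q ⊓ ⁅N, Q⁆, ∃ b ∈ ⁅⁅N, Q⁆, Q⁆, c = a * b := by
  set M := ⁅N, Q⁆
  have hQM : Q ≤ Subgroup.normalizer (M : Set H) := Subgroup.normalizer_commutator_ge_right N Q
  have hQQ : Q ≤ Subgroup.normalizer ((⁅M, Q⁆ : Subgroup H) : Set H) :=
    Subgroup.normalizer_commutator_ge_right M Q
  have hle : M ≤ (Q ⊓ M) ⊔ ⁅M, Q⁆ := by
    refine Subgroup.commutator_le.2 fun n hn q hq => ?_
    obtain ⟨a, ha, b, hb, rfl⟩ := wc_factor hwc hQN hn
    show a * b * q * (a * b)⁻¹ * q⁻¹ ∈ _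
    have e : a * b * q * (a * b)⁻¹ * q⁻¹ =
        a * (b * q * b⁻¹ * q⁻¹) * a⁻¹ * (a * q * a⁻¹ * q⁻¹) := by group
    rw [e]
    refine Subgroup.mul_mem _ (Subgroup.mem_sup_right ?_) (Subgroup.mem_sup_left
      ⟨commElem_mem_left hq ha.2, Subgroup.commutator_mem_commutator ha.1 hq⟩)
    have haM : a ∈ Subgroup.normalizer ((⁅M, Q⁆ : Subgroup H) : Set H) := by
      apply mem_normalizer_of_conj
      rw [Subgroup.map_commutator, conj_map_eq_of_mem_normalizer
        (Subgroup.normalizer_commutator_ge_left N Q ha.1), conj_map_eq_of_mem_normalizer ha.2]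
    exact (Subgroup.mem_normalizer_iff.1 haM _).1 (Subgroup.commutator_mem_commutator hb hq)
  obtain ⟨a, ha, b, hb, e⟩ := (CfsgLib.Coprime.mem_sup_iff_of_le_normalizer
    ((inf_le_left : Q ⊓ M ≤ Q).trans hQQ)).1 (hle hc)
  exact ⟨a, ha, b, hb, e.symm⟩

end CfsgLib.LocalEven
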