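import Cfsg.Prelude.Def_Amalgam
import Cfsg.Agent.Lib.LocalEven.WeakClosed
import Cfsg.Agent.Lib.Transfer.NormalPComplement
import Cfsg.Agent.Lib.Base.Cores

/-!
The subgroups `O^p(⟨Q^{H Q}⟩)` for a weakly closed `Q` and two commuting-modulo-`N(Q)` factors.
-/

set_option autoImplicit false
set_option linter.style.haveILetI false

namespace CfsgLib.LocalEven.WeakClosureFactor

open Cfsg
open scoped commutatorElement Pointwise

variable {G : Type*} [Group G] [Finite G] {p : ℕ}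

/-- `O^p(W)` as a subgroup of the whole group. -/
def pr (p : ℕ) (W : Subgroup G) : Subgroup G := (pResidual p ↥W).map W.subtype

theorem pr_le (W : Subgroup G) : pr p W ≤ W := Subgroup.map_subtype_le _

theorem mem_pr {W : Subgroup G} {g : G} (hg : g ∈ W) (hc : (orderOf g).Coprime p) :
    g ∈ pr p W := by
  refine ⟨⟨g, hg⟩, CfsgLib.Transfer.mem_pResidual_of_coprime ?_, rfl⟩
  rwa [Subgroup.orderOf_mk]

theorem pr_le_of {W N : Subgroup G}
    (h : ∀ g ∈ W, (orderOf g).Coprime p → g ∈ N) : pr p W ≤ N := by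
  rw [pr, Subgroup.map_le_iff_le_comap, pResidual, Subgroup.closure_le]
  intro g hg
  exact h g g.2 (by simpa using hg)

theorem mem_normalizer_of_mapsTo {K : Subgroup G} {g : G}
    (h : ∀ k ∈ K, g * k * g⁻¹ ∈ K) : g ∈ Subgroup.normalizer (K : Set G) := by
  refine Subgroup.mem_normalizer_iff_map_conj_eq.2 ?_
  exact Subgroup.eq_of_le_of_card_ge (Subgroup.map_le_iff_le_comap.2 fun k hk => h k hk)
    (Subgroup.card_map_of_injective (MulAut.conj g).injective).ge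

/-- An element normalizes `O^p(W)` if it sends the generating elements back into it. -/
theorem mem_normalizer_pr {W : Subgroup G} {g : G}
    (h : ∀ k ∈ W, (orderOf k).Coprime p → g * k * g⁻¹ ∈ pr p W) :
    g ∈ Subgroup.normalizer (pr p W : Set G) := by
  refine mem_normalizer_of_mapsTo fun k hk => ?_
  exact (pr_le_of (N := (pr p W).comap (MulAut.conj g).toMonoidHom) h) hk

theorem normalizer_le_normalizer_pr {W : Subgroup G} :
    Subgroup.normalizer (W : Set G) ≤ Subgroup.normalizer (pr p W : Set G) := fun g hg =>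
  mem_normalizer_pr fun k hk hc => mem_pr ((Subgroup.mem_normalizer_iff.1 hg k).1 hk) (by
    rwa [show g * k * g⁻¹ = MulAut.conj g k from rfl, MulEquiv.orderOf_eq])

/-- A `p'`-element of `D R`, with `R` a `p`-group normalizing `D`, lies in `D`. -/
theorem mem_left_of_coprime [Fact p.Prime] {D R : Subgroup G} (hR : IsPGroup p R)
    (hn : R ≤ Subgroup.normalizer (D : Set G)) {g : G} (hg : g ∈ D ⊔ R)
    (hc : (orderOf g).Coprime p) : g ∈ D := by
  set X := D ⊔ R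
  haveI : (D.subgroupOf X).Normal :=
    (Subgroup.normal_subgroupOf_iff_le_normalizer le_sup_left).2
      (sup_le Subgroup.le_normalizer hn)
  set f := QuotientGroup.mk' (D.subgroupOf X)
  have hker : ∀ x : X, (x : G) ∈ D → f x = 1 := fun x hx =>
    (QuotientGroup.eq_one_iff x).2 (Subgroup.mem_subgroupOf.2 hx)
  have htop : (R.subgroupOf X).map f = ⊤ := by
    refine eq_top_iff.2 fun q _ => ?_
    obtain ⟨x, rfl⟩ := QuotientGroup.mk'_surjective (D.subgroupOf X) q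
    obtain ⟨d, hd, r, hr, hdr⟩ := Set.mem_mul.1 (show (x : G) ∈ (D : Set G) * (R : Set G) by
      rw [← Subgroup.coe_mul_of_right_le_normalizer_left D R hn]; exact x.2)
    refine ⟨⟨r, le_sup_right (a := D) hr⟩, hr, ?_⟩
    have e : x = ⟨d, le_sup_left (b := R) hd⟩ * ⟨r, le_sup_right (a := D) hr⟩ :=
      Subtype.ext hdr.symm
    rw [e, map_mul, hker ⟨d, le_sup_left (b := R) hd⟩ hd, one_mul]
  have hp : IsPGroup p (X ⧸ D.subgroupOf X) := by
    have h1 := (hR.of_equiv (Subgroup.subgroupOfEquivOfLe (le_sup_right (a := D))).symm).map f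
    rw [htop] at h1
    exact h1.of_equiv Subgroup.topEquiv
  have h1 : f ⟨g, hg⟩ = 1 := CfsgLib.Transfer.eq_one_of_coprime_orderOf hp
    (Nat.Coprime.coprime_dvd_left (orderOf_map_dvd f _) (by rwa [Subgroup.orderOf_mk]))
  exact Subgroup.mem_subgroupOf.1 ((QuotientGroup.eq_one_iff _).1 h1)

/-- A subgroup whose normal closure is the whole group supplements every normal subgroup with
`p`-group quotient. -/
theorem sup_eq_top [Fact p.Prime] {X : Type*} [Group X] [Finite X] (N R : Subgroup X) [N.Normal]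
    (hp : IsPGroup p (X ⧸ N)) (h : Subgroup.normalClosure (R : Set X) = ⊤) : N ⊔ R = ⊤ := by
  by_contra hne
  obtain ⟨M, hM, hle⟩ := (eq_top_or_exists_le_coatom
    (R.map (QuotientGroup.mk' N))).resolve_left fun he => hne (by
      rw [← Subgroup.comap_map_eq_self (f := QuotientGroup.mk' N) (H := N ⊔ R)
        (by rw [QuotientGroup.ker_mk']; exact le_sup_left), Subgroup.map_sup, he, sup_top_eq,
        Subgroup.comap_top])
  haveI := hp.isNilpotent
  have := Subgroup.NormalizerCondition.normal_of_coatom M Group.normalizerCondition_of_isNilpotent hM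
  have h2 : Subgroup.normalClosure (R : Set X) ≤ M.comap (QuotientGroup.mk' N) :=
    Subgroup.normalClosure_le_normal fun r hr => hle ⟨r, hr, rfl⟩
  rw [h, top_le_iff] at h2
  apply hM.1
  rw [← Subgroup.map_comap_eq_self_of_surjective (QuotientGroup.mk'_surjective N) M, h2,
    Subgroup.map_top_of_surjective _ (QuotientGroup.mk'_surjective N)]

/-- The core computation, done modulo `O_p`. -/
theorem commutator_eq_bot_core {X : Type*} [Group X] {H₁ H₂ Q K : Subgroup X} [H₁.Normal] [H₂.Normal]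
    (hQ : Q ≤ H₁ ⊔ H₂) (hcl : Subgroup.normalClosure (Q : Set X) = ⊤)
    (hCQ : ⁅⁅H₁, H₂⁆, Q⁆ = ⊥) (hKH : K ≤ H₁) (hK : K ≤ ⁅K, Q⁆) : ⁅K, H₂⁆ = ⊥ := by
  set C := ⁅H₁, H₂⁆
  have hCc : C ≤ Subgroup.center X := by
    have h1 : Subgroup.normalClosure (Q : Set X) ≤ Subgroup.centralizer (C : Set X) :=
      Subgroup.normalClosure_le_normal (Subgroup.le_centralizer_iff.1
        (Subgroup.commutator_eq_bot_iff_le_centralizer.1 hCQ))
    rw [hcl] at h1
    exact Subgroup.centralizer_eq_top_iff_subset.1 (top_le_iff.1 h1)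
  have hcen : ∀ A : Subgroup X, A ≤ Subgroup.center X → ∀ B : Subgroup X, ⁅A, B⁆ = ⊥ :=
    fun A hA B => Subgroup.commutator_eq_bot_iff_le_centralizer.2
      (hA.trans (Subgroup.center_le_centralizer _))
  have hKH2 : ⁅K, H₂⁆ ≤ C := Subgroup.commutator_mono hKH le_rfl
  have hH2K : ⁅H₂, K⁆ ≤ C := Subgroup.commutator_comm H₂ K ▸ hKH2
  have h22 : ⁅⁅H₂, H₂⁆, K⁆ = ⊥ := Subgroup.commutator_commutator_eq_bot_of_rotate
    (hcen _ (hH2K.trans hCc) _) (hcen _ (hKH2.trans hCc) _)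
  have hQH : ⁅Q, H₂⁆ ≤ Subgroup.centralizer (K : Set X) := by
    refine (Subgroup.commutator_mono hQ le_rfl).trans (Subgroup.commutator_le.2 fun x hx y hy => ?_)
    obtain ⟨a, ha, b, hb, rfl⟩ := Subgroup.mem_sup_of_normal_left.1 hx
    have e : ⁅a * b, y⁆ = (a * ⁅b, y⁆ * a⁻¹) * ⁅a, y⁆ := by
      simp [commutatorElement_def, mul_assoc]
    have h1 : ⁅b, y⁆ ∈ Subgroup.centralizer (K : Set X) :=
      Subgroup.commutator_eq_bot_iff_le_centralizer.1 h22 (Subgroup.commutator_mem_commutator hb hy)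
    have h2 : a * ⁅b, y⁆ * a⁻¹ * ⁅b, y⁆⁻¹ ∈ C := by
      have := Subgroup.commutator_mem_commutator ha
        (show ⁅b, y⁆ ∈ H₂ from Subgroup.commutator_le_self H₂
          (Subgroup.commutator_mem_commutator hb hy))
      exact this
    rw [e]
    refine mul_mem ?_ (Subgroup.center_le_centralizer _
      (hCc (Subgroup.commutator_mem_commutator ha hy)))
    have h3 := mul_mem (Subgroup.center_le_centralizer (K : Set X) (hCc h2)) h1
    rwa [inv_mul_cancel_right] at h3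
  have h3 : ⁅⁅K, Q⁆, H₂⁆ = ⊥ := Subgroup.commutator_commutator_eq_bot_of_rotate
    (Subgroup.commutator_eq_bot_iff_le_centralizer.2 hQH) (hcen _ (hH2K.trans hCc) _)
  exact le_bot_iff.1 ((Subgroup.commutator_mono hK le_rfl).trans h3.le)

theorem subgroupOf_commutator {Hc A B : Subgroup G} (hA : A ≤ Hc) (hB : B ≤ Hc) :
    ⁅A.subgroupOf Hc, B.subgroupOf Hc⁆ = ⁅A, B⁆.subgroupOf Hc := by
  apply Subgroup.map_injective Hc.subtype_injective
  rw [Subgroup.map_commutator, Subgroup.subgroupOf_map_subtype, Subgroup.subgroupOf_map_subtype,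
    Subgroup.subgroupOf_map_subtype, inf_of_le_left hA, inf_of_le_left hB, inf_of_le_left]
  exact (Subgroup.commutator_mono hA hB).trans (Subgroup.commutator_le_self Hc)

variable [Fact p.Prime]

/-- The transfer of the core computation to `Hc / O_p(Hc)`. -/
theorem commutator_le_pCore {Q Hc H₁ H₂ K : Subgroup G} (hQ : Q ≤ Hc)
    (hH₁ : H₁ ≤ Hc) (hH₂ : H₂ ≤ Hc) (hn₁ : Hc ≤ Subgroup.normalizer (H₁ : Set G))
    (hn₂ : Hc ≤ Subgroup.normalizer (H₂ : Set G)) (hprod : H₁ ⊔ H₂ = Hc)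
    (hcl : Subgroup.normalClosure ((Q.subgroupOf Hc : Subgroup ↥Hc) : Set ↥Hc) = ⊤)
    (hCQ : ⁅⁅H₁, H₂⁆, Q⁆ ≤ pCoreOf p Hc) (hKH : K ≤ H₁) (hK : K ≤ ⁅K, Q⁆) :
    ⁅K, H₂⁆ ≤ pCoreOf p Hc := by
  have : (H₁.subgroupOf Hc).Normal :=
    (Subgroup.normal_subgroupOf_iff_le_normalizer hH₁).2 hn₁
  have : (H₂.subgroupOf Hc).Normal :=
    (Subgroup.normal_subgroupOf_iff_le_normalizer hH₂).2 hn₂
  have hKc : K ≤ Hc := hKH.trans hH₁
  set π := QuotientGroup.mk' (pCore p ↥Hc) with hπ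
  have hsurj : Function.Surjective π := QuotientGroup.mk'_surjective _
  have := Subgroup.Normal.map (H := H₁.subgroupOf Hc) inferInstance π hsurj
  have := Subgroup.Normal.map (H := H₂.subgroupOf Hc) inferInstance π hsurj
  have hbot : ∀ A : Subgroup G, A ≤ pCoreOf p Hc → (A.subgroupOf Hc).map π = ⊥ := by
    intro A hA
    rw [Subgroup.map_eq_bot_iff, hπ, QuotientGroup.ker_mk']
    intro x hx
    obtain ⟨y, hy, hyx⟩ := hA (Subgroup.mem_subgroupOf.1 hx)
    rwa [Subtype.ext hyx] at hy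
  have hcomm : ∀ A B : Subgroup G, A ≤ Hc → B ≤ Hc →
      ⁅(A.subgroupOf Hc).map π, (B.subgroupOf Hc).map π⁆ = (⁅A, B⁆.subgroupOf Hc).map π := by
    intro A B hA hB
    rw [← Subgroup.map_commutator, subgroupOf_commutator hA hB]
  have h12 : ⁅H₁, H₂⁆ ≤ Hc := (Subgroup.commutator_mono hH₁ hH₂).trans (Subgroup.commutator_le_self Hc)
  have key := commutator_eq_bot_core (H₁ := (H₁.subgroupOf Hc).map π)
    (H₂ := (H₂.subgroupOf Hc).map π) (Q := (Q.subgroupOf Hc).map π)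
    (K := (K.subgroupOf Hc).map π) ?_ ?_ ?_ ?_ ?_
  · rw [hcomm K H₂ hKc hH₂, Subgroup.map_eq_bot_iff, hπ, QuotientGroup.ker_mk'] at key
    intro x hx
    have hxc : x ∈ Hc := ((Subgroup.commutator_mono hKc hH₂).trans (Subgroup.commutator_le_self Hc)) hx
    exact ⟨⟨x, hxc⟩, key (Subgroup.mem_subgroupOf.2 hx), rfl⟩
  · rw [← Subgroup.map_sup, ← Subgroup.subgroupOf_sup hH₁ hH₂, hprod, Subgroup.subgroupOf_self,
      Subgroup.map_top_of_surjective _ hsurj]
    exact le_top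
  · rw [← top_le_iff, ← Subgroup.map_top_of_surjective _ hsurj, ← hcl,
      Subgroup.map_normalClosure _ _ hsurj, Subgroup.coe_map]
  · rw [hcomm H₁ H₂ hH₁ hH₂, hcomm _ Q h12 hQ]
    exact hbot _ hCQ
  · exact Subgroup.map_mono (Subgroup.comap_mono hKH)
  · rw [hcomm K Q hKc hQ]
    exact Subgroup.map_mono (Subgroup.comap_mono hK)

variable {Q : Subgroup G}

theorem conj_le_weakClosure {K : Subgroup G} (hQK : Q ≤ K) : Q ≤ weakClosure Q K := fun x hx =>
  le_iSup (fun g : {g : G // Q.map (MulAut.conj g).toMonoidHom ≤ K} =>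
    Q.map (MulAut.conj (g : G)).toMonoidHom) ⟨1, by rintro _ ⟨q, hq, rfl⟩; simpa using hQK hq⟩
    ⟨x, hx, by simp⟩

theorem weakClosure_le (K : Subgroup G) : weakClosure Q K ≤ K := iSup_le fun g => g.2

/-- The normal closure of a weakly closed subgroup inside its weak closure is everything. -/
theorem normalClosure_weakClosure (hwc : IsWeaklyClosedSubgroup p Q) {K : Subgroup G}
    (hQK : Q ≤ K) :
    Subgroup.normalClosure ((Q.subgroupOf (weakClosure Q K) : Subgroup ↥(weakClosure Q K)) :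
      Set ↥(weakClosure Q K)) = ⊤ := by
  set W := weakClosure Q K
  set N := Subgroup.normalClosure ((Q.subgroupOf W : Subgroup ↥W) : Set ↥W)
  suffices W ≤ N.map W.subtype by
    refine eq_top_iff.2 fun x _ => ?_
    obtain ⟨y, hy, hyx⟩ := this x.2
    rwa [Subtype.ext hyx] at hy
  refine iSup_le fun g => ?_
  have hgW : Q.map (MulAut.conj (g : G)).toMonoidHom ≤ W :=
    le_iSup (fun g : {g : G // Q.map (MulAut.conj g).toMonoidHom ≤ K} =>
      Q.map (MulAut.conj (g : G)).toMonoidHom) g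
  obtain ⟨k, hk, e⟩ := wc_exists_conj hwc (conj_le_weakClosure hQK) hgW
  rw [e]
  rintro _ ⟨q, hq, rfl⟩
  refine ⟨⟨k, hk⟩ * ⟨q, conj_le_weakClosure hQK hq⟩ * ⟨k, hk⟩⁻¹, ?_, by simp⟩
  exact Subgroup.normalClosure_normal.conj_mem _
    (Subgroup.subset_normalClosure (Subgroup.mem_subgroupOf.2 hq)) _

/-- `W = O^p(W) Q` and `O^p(W) = [O^p(W), Q]`. -/
theorem weakClosure_residual (hQp : IsPGroup p Q) (hwc : IsWeaklyClosedSubgroup p Q) {K : Subgroup G}
    (hQK : Q ≤ K) :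
    pr p (weakClosure Q K) ⊔ Q = weakClosure Q K ∧
      ⁅pr p (weakClosure Q K), Q⁆ = pr p (weakClosure Q K) := by
  have hcl := normalClosure_weakClosure hwc hQK
  set W := weakClosure Q K
  have hQW : Q ≤ W := conj_le_weakClosure hQK
  set R := pr p W with hR
  have hRW : R ≤ W := pr_le W
  have hWR : W ≤ Subgroup.normalizer (R : Set G) :=
    Subgroup.le_normalizer.trans normalizer_le_normalizer_pr
  have h1 : R ⊔ Q = W := by
    refine le_antisymm (sup_le hRW hQW) fun x hx => ?_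
    have := CfsgLib.Transfer.pResidual_normal (G := ↥W) (p := p)
    have h2 := sup_eq_top (pResidual p ↥W) (Q.subgroupOf W)
      (CfsgLib.Transfer.isPGroup_quotient_pResidual (G := ↥W) (p := p)) hcl
    have h3 : (⟨x, hx⟩ : ↥W) ∈ pResidual p ↥W ⊔ Q.subgroupOf W := h2 ▸ Subgroup.mem_top _
    have h4 := Subgroup.mem_map_of_mem W.subtype h3
    rw [Subgroup.map_sup, Subgroup.subgroupOf_map_subtype, inf_of_le_left hQW] at h4
    exact h4
  refine ⟨h1, le_antisymm ?_ ?_⟩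
  · exact Subgroup.le_normalizer_iff.1 (hQW.trans hWR) |> fun h => by
      refine Subgroup.commutator_le.2 fun r hr q hq => ?_
      have h' := (Subgroup.mem_normalizer_iff.1 (hWR (hQW hq)) r⁻¹).1 (inv_mem hr)
      have := mul_mem hr h'
      simpa [commutatorElement_def, mul_assoc] using this
  · set D := ⁅R, Q⁆
    have hRD : R ≤ Subgroup.normalizer (D : Set G) := Subgroup.normalizer_commutator_ge_left R Q
    have hQD : Q ≤ Subgroup.normalizer (D : Set G) := Subgroup.normalizer_commutator_ge_right R Q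
    have hRn : ∀ r ∈ R, ∀ x ∈ D ⊔ Q, r * x * r⁻¹ ∈ D ⊔ Q := by
      intro r hr x hx
      suffices D ⊔ Q ≤ (D ⊔ Q).comap (MulAut.conj r).toMonoidHom from this hx
      refine sup_le (fun d hd => Subgroup.mem_sup_left
        ((Subgroup.mem_normalizer_iff.1 (hRD hr) d).1 hd)) fun q hq => ?_
      show r * q * r⁻¹ ∈ D ⊔ Q
      rw [show r * q * r⁻¹ = (r * q * r⁻¹ * q⁻¹) * q by group]
      exact mul_mem (Subgroup.mem_sup_left (Subgroup.commutator_mem_commutator hr hq))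
        (Subgroup.mem_sup_right hq)
    have hDW : D ⊔ Q ≤ W := sup_le ((Subgroup.commutator_mono hRW hQW).trans
      (Subgroup.commutator_le_self W)) hQW
    have hn : W ≤ Subgroup.normalizer ((D ⊔ Q : Subgroup G) : Set G) := by
      rw [← h1]
      exact sup_le (fun r hr => mem_normalizer_of_mapsTo (hRn r hr))
        ((le_sup_right : Q ≤ D ⊔ Q).trans Subgroup.le_normalizer)
    haveI : ((D ⊔ Q).subgroupOf W).Normal :=
      (Subgroup.normal_subgroupOf_iff_le_normalizer hDW).2 hn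
    have h5 : Subgroup.normalClosure ((Q.subgroupOf W : Subgroup ↥W) : Set ↥W) ≤
        (D ⊔ Q).subgroupOf W :=
      Subgroup.normalClosure_le_normal fun x hx => Subgroup.mem_sup_right hx
    rw [hcl] at h5
    exact pr_le_of fun g hg hc =>
      mem_left_of_coprime hQp hQD (h5 (Subgroup.mem_top (⟨g, hg⟩ : ↥W))) hc

/-- The facts about one factor. -/
theorem factor (hQp : IsPGroup p Q) (hwc : IsWeaklyClosedSubgroup p Q) {Hc H₁ H₂ : Subgroup G}
    (hQ : Q ≤ Hc) (hH₁ : H₁ ≤ Hc) (hH₂ : H₂ ≤ Hc) (hn₁ : Hc ≤ Subgroup.normalizer (H₁ : Set G))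
    (hn₂ : Hc ≤ Subgroup.normalizer (H₂ : Set G)) (hprod : H₁ ⊔ H₂ = Hc)
    (hcl : Subgroup.normalClosure ((Q.subgroupOf Hc : Subgroup ↥Hc) : Set ↥Hc) = ⊤)
    (hCQ : ⁅⁅H₁, H₂⁆, Q⁆ ≤ pCoreOf p Hc) (K : Subgroup G)
    (hK : K = pr p (weakClosure Q (H₁ ⊔ Q))) :
    (⁅K, Q⁆ = K ∧ ⁅K, H₁⁆ = K ∧ K ≤ ⁅H₁, H₁⁆ ∧ Hc ≤ Subgroup.normalizer (K : Set G)) ∧
      ⁅K, H₂⁆ ≤ pCoreOf p Hc ∧ K ≤ H₁ ∧ H₁ ≤ Subgroup.normalizer ((K ⊔ Q : Subgroup G) : Set G) := by
  obtain ⟨hW, hKQ⟩ := weakClosure_residual (K := H₁ ⊔ Q) hQp hwc le_sup_right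
  rw [← hK] at hW hKQ
  have hWn : H₁ ≤ Subgroup.normalizer ((weakClosure Q (H₁ ⊔ Q) : Subgroup G) : Set G) :=
    le_sup_left.trans le_normalizer_weakClosure
  have hKH : K ≤ H₁ := hK ▸ pr_le_of fun g hg hc =>
    mem_left_of_coprime hQp (hQ.trans hn₁) (weakClosure_le (H₁ ⊔ Q) hg) hc
  have hH₁K : H₁ ≤ Subgroup.normalizer (K : Set G) := hK ▸ hWn.trans normalizer_le_normalizer_pr
  have hKP : ⁅K, H₂⁆ ≤ pCoreOf p Hc :=
    commutator_le_pCore hQ hH₁ hH₂ hn₁ hn₂ hprod hcl hCQ hKH hKQ.ge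
  set P := pCoreOf p Hc with hP
  have hPp : IsPGroup p P := (CfsgLib.Base.isPGroup_pCore p ↥Hc).map Hc.subtype
  have hPc : P ≤ Hc := Subgroup.map_subtype_le _
  have hH₂K : H₂ ≤ Subgroup.normalizer (K : Set G) := by
    intro h hh
    rw [hK]
    refine mem_normalizer_pr fun k hk hc => ?_
    rw [← hK]
    have hkK : k ∈ K := hK ▸ mem_pr hk hc
    have e : h * k * h⁻¹ = k * ⁅k⁻¹, h⁆ := by rw [commutatorElement_def]; group
    have h1 : ⁅k⁻¹, h⁆ ∈ P ⊓ H₁ := by
      refine ⟨hKP (Subgroup.commutator_mem_commutator (inv_mem hkK) hh), ?_⟩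
      have h2 : h * k * h⁻¹ ∈ H₁ := (Subgroup.mem_normalizer_iff.1 (hn₁ (hH₂ hh)) k).1 (hKH hkK)
      rw [e] at h2
      simpa using mul_mem (inv_mem (hKH hkK)) h2
    refine mem_left_of_coprime (hPp.to_le inf_le_left) (inf_le_right.trans hH₁K) ?_ ?_
    · rw [e]
      exact mul_mem (Subgroup.mem_sup_left hkK) (Subgroup.mem_sup_right h1)
    · rwa [show h * k * h⁻¹ = MulAut.conj h k from rfl, MulEquiv.orderOf_eq]
  have hHcK : Hc ≤ Subgroup.normalizer (K : Set G) := hprod ▸ sup_le hH₁K hH₂K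
  have hKH1 : ⁅K, H₁⁆ = K := by
    refine le_antisymm ?_ ?_
    · rw [Subgroup.commutator_comm]
      refine Subgroup.commutator_le.2 fun a ha k hk => ?_
      exact mul_mem ((Subgroup.mem_normalizer_iff.1 (hH₁K ha) k).1 hk) (inv_mem hk)
    · set D := ⁅K, H₁⁆ with hD
      have hPD : P ≤ Subgroup.normalizer (D : Set G) := by
        intro x hx
        refine Subgroup.mem_normalizer_iff_map_conj_eq.2 ?_
        rw [hD, Subgroup.map_commutator, Subgroup.mem_normalizer_iff_map_conj_eq.1 (hHcK (hPc hx)),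
          Subgroup.mem_normalizer_iff_map_conj_eq.1 (hn₁ (hPc hx))]
      have h1 : K ≤ D ⊔ P := by
        refine hKQ.ge.trans (Subgroup.commutator_le.2 fun k hk q hq => ?_)
        obtain ⟨a, ha, b, hb, rfl⟩ := Set.mem_mul.1
          (show q ∈ (H₁ : Set G) * (H₂ : Set G) by
            rw [← Subgroup.coe_mul_of_right_le_normalizer_left H₁ H₂ (hH₂.trans hn₁), hprod]
            exact hQ hq)
        have e : ⁅k, a * b⁆ = ⁅k, a⁆ * (a * ⁅k, b⁆ * a⁻¹) := by
          simp [commutatorElement_def, mul_assoc]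
        rw [e]
        refine mul_mem (Subgroup.mem_sup_left (Subgroup.commutator_mem_commutator hk ha))
          (Subgroup.mem_sup_right ?_)
        obtain ⟨z, hz, hzx⟩ := hKP (Subgroup.commutator_mem_commutator hk hb)
        exact ⟨⟨a, hH₁ ha⟩ * z * ⟨a, hH₁ ha⟩⁻¹,
          (inferInstance : (pCore p ↥Hc).Normal).conj_mem z hz _, by simp only [map_mul, map_inv, hzx]; rfl⟩
      nth_rw 1 [hK]
      exact pr_le_of fun g hg hc => mem_left_of_coprime hPp hPD (h1 (hK ▸ mem_pr hg hc)) hc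
  refine ⟨⟨hKQ, hKH1, ?_, hHcK⟩, hKP, hKH, ?_⟩
  · exact hKH1.ge.trans (Subgroup.commutator_mono hKH le_rfl)
  · rw [hW]; exact hWn

/-- The statement on the two factors. -/
theorem main (hQp : IsPGroup p Q) (hwc : IsWeaklyClosedSubgroup p Q) (Hc : Subgroup G)
    (hHc : Hc = weakClosure Q ⊤) (H₁ H₂ : Subgroup G)
    (hn₁ : H₁ ≤ Hc ∧ Hc ≤ Subgroup.normalizer ((H₁ : Subgroup G) : Set G))
    (hn₂ : H₂ ≤ Hc ∧ Hc ≤ Subgroup.normalizer ((H₂ : Subgroup G) : Set G))
    (hprod : H₁ ⊔ H₂ = Hc) (hcomm : ⁅H₁, H₂⁆ ≤ Subgroup.normalizer ((Q : Subgroup G) : Set G))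
    (K₁ K₂ : Subgroup G) (hK₁ : K₁ = pr p (weakClosure Q (H₁ ⊔ Q)))
    (hK₂ : K₂ = pr p (weakClosure Q (H₂ ⊔ Q))) :
    (⁅K₁, Q⁆ = K₁ ∧ ⁅K₁, H₁⁆ = K₁ ∧ K₁ ≤ ⁅H₁, H₁⁆ ∧
        Hc ≤ Subgroup.normalizer ((K₁ : Subgroup G) : Set G)) ∧
      (⁅K₂, Q⁆ = K₂ ∧ ⁅K₂, H₂⁆ = K₂ ∧ K₂ ≤ ⁅H₂, H₂⁆ ∧
        Hc ≤ Subgroup.normalizer ((K₂ : Subgroup G) : Set G)) ∧
      K₁ ⊔ K₂ = pr p Hc ∧ ⁅K₁, K₂⁆ ≤ pCoreOf p Hc := by
  have hQ : Q ≤ Hc := hHc ▸ conj_le_weakClosure le_top
  have hcl := normalClosure_weakClosure hwc (Q := Q) (K := ⊤) le_top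
  rw [← hHc] at hcl
  set C := ⁅H₁, H₂⁆ with hC
  have hCHc : C ≤ Hc :=
    (Subgroup.commutator_mono hn₁.1 hn₂.1).trans (Subgroup.commutator_le_self Hc)
  have hCQ : ⁅C, Q⁆ ≤ pCoreOf p Hc := by
    have hCn : Hc ≤ Subgroup.normalizer (C : Set G) := fun x hx => by
      refine Subgroup.mem_normalizer_iff_map_conj_eq.2 ?_
      rw [hC, Subgroup.map_commutator, Subgroup.mem_normalizer_iff_map_conj_eq.1 (hn₁.2 hx),
        Subgroup.mem_normalizer_iff_map_conj_eq.1 (hn₂.2 hx)]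
    have hR : ⁅C, Q⁆ ≤ C ⊓ Q := by
      refine Subgroup.commutator_le.2 fun c hc q hq => ⟨?_, ?_⟩
      · rw [commutatorElement_def, mul_assoc c q, mul_assoc]
        exact C.mul_mem hc ((Subgroup.mem_normalizer_iff.1 (hCn (hQ hq)) _).1 (C.inv_mem hc))
      · exact Q.mul_mem ((Subgroup.mem_normalizer_iff.1 (hcomm hc) q).1 hq) (Q.inv_mem hq)
    refine hR.trans ?_
    haveI : (C.subgroupOf Hc).Normal := (Subgroup.normal_subgroupOf_iff_le_normalizer hCHc).2 hCn
    have hsn : ((C ⊓ Q).subgroupOf Hc).IsSubnormal := by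
      refine Subgroup.IsSubnormal.step _ (C.subgroupOf Hc) (Subgroup.comap_mono inf_le_left)
        (Subgroup.Normal.isSubnormal inferInstance) ?_
      refine (Subgroup.normal_subgroupOf_iff_le_normalizer (Subgroup.comap_mono inf_le_left)).2 ?_
      intro x hx
      replace hx : (x : G) ∈ C := hx
      rw [Subgroup.mem_normalizer_iff]
      intro y
      show ((y : G) ∈ C ∧ (y : G) ∈ Q) ↔ ((x : G) * (y : G) * (x : G)⁻¹ ∈ C ∧ (x : G) * (y : G) * (x : G)⁻¹ ∈ Q)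
      exact and_congr (Subgroup.mem_normalizer_iff.1 (Subgroup.le_normalizer hx) _)
        (Subgroup.mem_normalizer_iff.1 (hcomm hx) _)
    have hp : IsPGroup p ↥((C ⊓ Q).subgroupOf Hc) := (hQp.to_le inf_le_right).comap_subtype
    intro x hx
    exact ⟨⟨x, hCHc hx.1⟩, CfsgLib.Base.le_pCore_of_isSubnormal hsn hp hx, rfl⟩
  have f₁ := factor hQp hwc hQ hn₁.1 hn₂.1 hn₁.2 hn₂.2 hprod hcl hCQ K₁ hK₁
  have f₂ := factor hQp hwc hQ hn₂.1 hn₁.1 hn₂.2 hn₁.2 (by rw [sup_comm]; exact hprod) hcl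
    (by rw [Subgroup.commutator_comm H₂ H₁]; exact hCQ) K₂ hK₂
  refine ⟨f₁.1, f₂.1, le_antisymm ?_ ?_, (Subgroup.commutator_mono le_rfl f₂.2.2.1).trans f₁.2.1⟩
  · have : ∀ H : Subgroup G, H ≤ Hc → pr p (weakClosure Q (H ⊔ Q)) ≤ pr p Hc := fun H hH =>
      pr_le_of fun g hg hc => mem_pr (sup_le hH hQ (weakClosure_le _ hg)) hc
    exact sup_le (hK₁ ▸ this H₁ hn₁.1) (hK₂ ▸ this H₂ hn₂.1)
  · set N := K₁ ⊔ K₂ with hN
    have hNc : N ≤ Hc := sup_le (f₁.2.2.1.trans hn₁.1) (f₂.2.2.1.trans hn₂.1)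
    have hNn : Hc ≤ Subgroup.normalizer (N : Set G) := fun x hx =>
      Subgroup.mem_normalizer_iff_map_conj_eq.2 (by
        rw [hN, Subgroup.map_sup, Subgroup.mem_normalizer_iff_map_conj_eq.1 (f₁.1.2.2.2 hx),
          Subgroup.mem_normalizer_iff_map_conj_eq.1 (f₂.1.2.2.2 hx)])
    have hcase : ∀ H K : Subgroup G, H ≤ Hc → K ≤ N →
        H ≤ Subgroup.normalizer ((K ⊔ Q : Subgroup G) : Set G) →
        H ≤ Subgroup.normalizer ((N ⊔ Q : Subgroup G) : Set G) := by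
      intro H K hH hKN hHn x hx
      refine mem_normalizer_of_mapsTo fun y hy => ?_
      suffices N ⊔ Q ≤ (N ⊔ Q).comap (MulAut.conj x).toMonoidHom from this hy
      refine sup_le (fun n hn => Subgroup.mem_sup_left
        ((Subgroup.mem_normalizer_iff.1 (hNn (hH hx)) n).1 hn)) fun q hq => ?_
      exact sup_le_sup_right hKN Q
        ((Subgroup.mem_normalizer_iff.1 (hHn hx) q).1 (Subgroup.mem_sup_right hq))
    haveI : ((N ⊔ Q).subgroupOf Hc).Normal := by
      refine (Subgroup.normal_subgroupOf_iff_le_normalizer (sup_le hNc hQ)).2 ?_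
      calc Hc = H₁ ⊔ H₂ := hprod.symm
        _ ≤ _ := sup_le (hcase H₁ K₁ hn₁.1 le_sup_left f₁.2.2.2)
          (hcase H₂ K₂ hn₂.1 le_sup_right f₂.2.2.2)
    have h5 : Subgroup.normalClosure ((Q.subgroupOf Hc : Subgroup ↥Hc) : Set ↥Hc) ≤
        (N ⊔ Q).subgroupOf Hc :=
      Subgroup.normalClosure_le_normal fun x hx => Subgroup.mem_sup_right hx
    rw [hcl] at h5
    exact pr_le_of fun g hg hc => mem_left_of_coprime hQp (hQ.trans hNn)
      (h5 (Subgroup.mem_top (⟨g, hg⟩ : ↥Hc))) hc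

end CfsgLib.LocalEven.WeakClosureFactor
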