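import Cfsg.Agent.Lib.LocalEven.FrakM
import Cfsg.Agent.Lib.LocalEven.WeakClosureFactor
import Cfsg.Agent.Lib.Components.FStar

/-!
Characteristic-`p` overgroups of the preimage of `F*(M†/C(Y_M))`.
-/

set_option autoImplicit false
set_option linter.style.haveILetI false

namespace CfsgLib.LocalEven.FOvergroup

open Cfsg

variable {p : ℕ} [Fact p.Prime]

/-- A `p`-subgroup normalized by `F*` is trivial when `O_p = 1`. -/
theorem eq_bot_of_normalized_fstar {X : Type*} [Group X] [Finite X] (hO : pCore p X = ⊥)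
    {A : Subgroup X} (hA : IsPGroup p A)
    (hn : generalizedFittingSubgroup X ≤ Subgroup.normalizer (A : Set X)) : A = ⊥ := by
  set F := generalizedFittingSubgroup X
  have hAF : A ⊓ F = ⊥ := by
    haveI : ((A ⊓ F).subgroupOf F).Normal :=
      (Subgroup.normal_subgroupOf_iff_le_normalizer inf_le_right).2
        ((le_inf hn Subgroup.le_normalizer).trans Subgroup.inf_normalizer_le_normalizer_inf)
    have h1 : (A ⊓ F).subgroupOf F ≤ pCore p ↥F :=
      CfsgLib.Base.le_pCore (hA.to_le inf_le_left).comap_subtype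
    have h3 : (pCore p ↥F).map F.subtype ≤ pCore p X := by
      rw [CfsgLib.Base.map_pCore_eq_inf]; exact inf_le_left
    rw [hO, le_bot_iff] at h3
    rw [eq_bot_iff]
    intro x hx
    exact h3 ▸ ⟨⟨x, hx.2⟩, h1 hx, rfl⟩
  have hc : A ≤ Subgroup.centralizer (F : Set X) := by
    rw [← Subgroup.commutator_eq_bot_iff_le_centralizer, ← le_bot_iff, ← hAF]
    refine le_inf ?_ ?_
    · exact Subgroup.commutator_le.2 fun a ha f hf => commElem_mem_right ha (hn hf)
    · exact Subgroup.commutator_le_right A F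
  rw [← inf_eq_left.2 (hc.trans CfsgLib.Components.centralizer_fstar_le), hAF]

variable {G : Type*} [Group G] [Finite G]

/-- A subgroup of `D` normalized by the preimage of `F*(D/C)` and of `p`-power exponent modulo
`C = C_G(Y)` lies in `C`. -/
theorem le_of_normalized {Y D : Subgroup G} (hY : IsPRedIn p Y D)
    (hCD : Subgroup.centralizer (Y : Set G) ≤ D)
    [hn : ((Subgroup.centralizer (Y : Set G)).subgroupOf D).Normal] {A : Subgroup G} (hAD : A ≤ D)
    (hpow : ∀ a ∈ A, ∃ k, a ^ p ^ k ∈ Subgroup.centralizer (Y : Set G))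
    (hAn : ((generalizedFittingSubgroup (↥D ⧸ (Subgroup.centralizer (Y : Set G)).subgroupOf D)).comap
      (QuotientGroup.mk' ((Subgroup.centralizer (Y : Set G)).subgroupOf D))).map D.subtype ≤
        Subgroup.normalizer (A : Set G)) :
    A ≤ Subgroup.centralizer (Y : Set G) := by
  set C := Subgroup.centralizer (Y : Set G)
  set π := QuotientGroup.mk' (C.subgroupOf D) with hπ
  have hsurj : Function.Surjective π := QuotientGroup.mk'_surjective _
  have hker : ∀ x : ↥D, π x = 1 ↔ (x : G) ∈ C := fun x =>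
    (QuotientGroup.eq_one_iff x).trans Subgroup.mem_subgroupOf
  have hpg : ∀ B : Subgroup ↥D, (∀ b ∈ B, ∃ k, (b : G) ^ p ^ k ∈ C) → IsPGroup p ↥(B.map π) := by
    rintro B hB ⟨_, b, hb, rfl⟩
    obtain ⟨k, hk⟩ := hB b hb
    exact ⟨k, Subtype.ext (by
      show π b ^ p ^ k = 1
      rw [← map_pow, hker]; simpa using hk)⟩
  have hO : pCore p (↥D ⧸ C.subgroupOf D) = ⊥ := by
    set P := (pCore p (↥D ⧸ C.subgroupOf D)).comap π
    have h1 := hY.2.2.2 (P.map D.subtype) (Subgroup.map_subtype_le _) ?_ ?_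
    · rw [← Subgroup.map_comap_eq_self_of_surjective hsurj (pCore p (↥D ⧸ C.subgroupOf D)),
        Subgroup.map_eq_bot_iff]
      intro x hx
      exact (hker x).2 (h1 ⟨x, hx, rfl⟩)
    · intro d hd
      refine WeakClosureFactor.mem_normalizer_of_mapsTo ?_
      rintro _ ⟨x, hx, rfl⟩
      exact ⟨⟨d, hd⟩ * x * ⟨d, hd⟩⁻¹, (inferInstance : P.Normal).conj_mem x hx _, rfl⟩
    · rintro _ ⟨x, hx, rfl⟩
      obtain ⟨k, hk⟩ := CfsgLib.Base.isPGroup_pCore p (↥D ⧸ C.subgroupOf D) ⟨π x, hx⟩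
      refine ⟨k, ?_⟩
      have : π (x ^ p ^ k) = 1 := by rw [map_pow]; exact congrArg Subtype.val hk
      simpa using (hker _).1 this
  have h2 : (A.subgroupOf D).map π = ⊥ := by
    refine eq_bot_of_normalized_fstar hO (hpg _ fun b hb => hpow b hb) fun q hq => ?_
    obtain ⟨f, rfl⟩ := hsurj q
    have hf : (f : G) ∈ Subgroup.normalizer (A : Set G) := hAn ⟨f, hq, rfl⟩
    refine WeakClosureFactor.mem_normalizer_of_mapsTo ?_
    rintro _ ⟨a, ha, rfl⟩
    refine ⟨f * a * f⁻¹, ?_, by simp⟩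
    exact (Subgroup.mem_normalizer_iff.1 hf (a : G)).1 ha
  intro a ha
  exact (hker ⟨a, hAD ha⟩).1 ((Subgroup.map_eq_bot_iff _).1 h2 (Subgroup.mem_subgroupOf.2 ha))

theorem main {Y O D F H : Subgroup G} (hwc : IsWeaklyClosedSubgroup p O) (hOp : IsPGroup p O)
    (hYO : Y ≤ O) (hYel : IsElementaryAbelian p Y) (hOC : O ≤ Subgroup.centralizer (Y : Set G))
    (hND : Subgroup.normalizer (O : Set G) ≤ D)
    (hCD : Subgroup.centralizer (Y : Set G) ≤ D) (hCF : Subgroup.centralizer (Y : Set G) ≤ F)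
    (hkey : ∀ A : Subgroup G, A ≤ D → (∀ a ∈ A, ∃ k, a ^ p ^ k ∈ Subgroup.centralizer (Y : Set G)) →
      F ≤ Subgroup.normalizer (A : Set G) → A ≤ Subgroup.centralizer (Y : Set G))
    (hFH : F ≤ H) (hH : Subgroup.centralizer (pCore p ↥H : Set ↥H) ≤ pCore p ↥H) :
    Y ≤ largestPReducedOf p H := by
  set C := Subgroup.centralizer (Y : Set G) with hC
  have hCH : C ≤ H := hCF.trans hFH
  have hOH : O ≤ H := hOC.trans hCH
  have hYH : Y ≤ H := hYO.trans hOH
  set P := pCoreOf p H with hP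
  have hHP : H ≤ Subgroup.normalizer (P : Set G) := le_normalizer_pCoreOf p H
  have hPC : P ≤ C := by
    refine hkey P ((wc_normalized_le_normalizer hwc (isPGroup_pCoreOf H) (hOH.trans hHP)).trans hND)
      (fun a ha => ?_) (hFH.trans hHP)
    obtain ⟨k, hk⟩ := isPGroup_pCoreOf H ⟨a, ha⟩
    refine ⟨k, ?_⟩
    rw [show a ^ p ^ k = 1 by simpa using congrArg Subtype.val hk]
    exact one_mem _
  have hYc : Y ≤ Subgroup.centralizer (P : Set G) := Subgroup.le_centralizer_iff.1 hPC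
  have hYP : Y ≤ P := fun y hy => (charP_iff H).1 hH ⟨hYH hy, hYc hy⟩
  set s : Set G := {z | ∃ n ∈ H, ∃ y ∈ Y, n * y * n⁻¹ = z}
  set V := Subgroup.closure s with hV
  have hcen : ∀ z ∈ s, z ∈ P ∧ z ∈ Subgroup.centralizer (P : Set G) := by
    rintro _ ⟨n, hn, y, hy, rfl⟩
    refine ⟨(Subgroup.mem_normalizer_iff.1 (hHP hn) y).1 (hYP hy), fun r hr => ?_⟩
    have hr' : n⁻¹ * r * n ∈ P := by
      have := (Subgroup.mem_normalizer_iff.1 (hHP (H.inv_mem hn)) r).1 hr
      rwa [inv_inv] at this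
    have := hYc hy _ hr'
    calc r * (n * y * n⁻¹) = n * ((n⁻¹ * r * n) * y) * n⁻¹ := by group
      _ = n * (y * (n⁻¹ * r * n)) * n⁻¹ := by rw [this]
      _ = n * y * n⁻¹ * r := by group
  have hVel : IsElementaryAbelian p V := by
    refine elemAbelian_closure ?_ ?_
    · exact fun a ha b hb => ((hcen b hb).2 a (hcen a ha).1)
    · rintro _ ⟨n, hn, y, hy, rfl⟩
      rw [conj_pow, hYel.2 y hy, mul_one, mul_inv_cancel]
  have hYV : Y ≤ V := fun y hy =>
    Subgroup.subset_closure ⟨1, one_mem H, y, hy, by simp⟩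
  have hred : IsPRedIn p V H := by
    refine ⟨?_, ?_, hVel, fun D₀ hD₀H hD₀n hD₀p => ?_⟩
    · rw [hV, Subgroup.closure_le]
      exact fun z hz => pCoreOf_le p H (hcen z hz).1
    · intro h hh
      refine WeakClosureFactor.mem_normalizer_of_mapsTo fun v hv => ?_
      suffices V ≤ V.comap (MulAut.conj h).toMonoidHom from this hv
      rw [hV, Subgroup.closure_le]
      rintro _ ⟨n, hn, y, hy, rfl⟩
      exact Subgroup.subset_closure ⟨h * n, H.mul_mem hh hn, y, hy, by simp [mul_assoc]⟩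
    have hD₀Y : ∀ d ∈ D₀, ∃ k, d ^ p ^ k ∈ C := fun d hd => (hD₀p d hd).imp fun _ hk =>
      Subgroup.centralizer_le (SetLike.coe_subset_coe.2 hYV) hk
    -- `D₀` lies in `D`
    have hD₀D : D₀ ≤ D := by
      obtain ⟨T₀, hT₀⟩ := (hOp.comap_subtype (K := H)).exists_le_sylow
      have hT₀D : (T₀ : Subgroup ↥H).map H.subtype ≤ D :=
        (wc_le_normalizer hwc (T₀.isPGroup'.map _)
          (fun r hr => ⟨⟨r, hOH hr⟩, hT₀ hr, rfl⟩)).trans hND
      haveI : (D₀.subgroupOf H).Normal :=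
        (Subgroup.normal_subgroupOf_iff_le_normalizer hD₀H).2 hD₀n
      set D₀' := D₀.subgroupOf H
      obtain ⟨T₁, hT₁⟩ : ∃ Q : Sylow p ↥D₀', (Q : Subgroup ↥D₀') = (T₀ : Subgroup ↥H).subgroupOf D₀' :=
        ⟨(T₀.isPGroup'.comap_subtype).toSylow
          (CfsgLib.Transfer.not_dvd_index_subgroupOf_of_normal T₀ D₀'), IsPGroup.toSylow_coe _ _⟩
      have h4 : (⊤ : Subgroup ↥D₀') ≤ (D.comap H.subtype).comap D₀'.subtype := by
        rw [← CfsgLib.Transfer.sup_pResidual_eq_top T₁]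
        refine sup_le ?_ ?_
        · rw [hT₁]
          exact fun x hx => hT₀D ⟨_, hx, rfl⟩
        · rw [pResidual, Subgroup.closure_le]
          intro x hx
          refine hCD ?_
          obtain ⟨k, hk⟩ := hD₀Y ((x : ↥H) : G) x.2
          obtain ⟨m, hm⟩ := exists_pow_eq_self_of_coprime (x := ((x : ↥H) : G)) (n := p ^ k)
            (by simpa using (Nat.Coprime.pow_right k hx).symm)
          show ((x : ↥H) : G) ∈ C
          rw [← hm]
          exact pow_mem hk m
      intro d hd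
      exact h4 (Subgroup.mem_top (⟨⟨d, hD₀H hd⟩, hd⟩ : ↥D₀'))
    have hD₀C : D₀ ≤ C := hkey D₀ hD₀D hD₀Y (hFH.trans hD₀n)
    rw [hV, Subgroup.le_centralizer_iff, Subgroup.closure_le]
    rintro _ ⟨n, hn, y, hy, rfl⟩ d hd
    have hd' : n⁻¹ * d * n ∈ D₀ := by
      have := (Subgroup.mem_normalizer_iff.1 (hD₀n (H.inv_mem hn)) d).1 hd
      rwa [inv_inv] at this
    have := hD₀C hd' y hy
    calc d * (n * y * n⁻¹) = n * ((n⁻¹ * d * n) * y) * n⁻¹ := by group
      _ = n * (y * (n⁻¹ * d * n)) * n⁻¹ := by rw [this]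
      _ = n * y * n⁻¹ * d := by group
  exact hYV.trans hred.le_largest

end CfsgLib.LocalEven.FOvergroup
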