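import Cfsg.Agent.Lib.LocalEven.ResidualFrattini
import Cfsg.Agent.Lib.LocalEven.CommutatorAB
import Cfsg.Agent.Lib.Components.FStar
import Cfsg.Agent.Lib.Components.PConstrained
import Cfsg.Agent.Lib.Base.Cores
import Cfsg.Agent.Lib.Coprime.Action
import Cfsg.Agent.Lib.Coprime.Action2

/-!
# `p`-groups acting on `F*` of a group with trivial `O_p`
-/

namespace CfsgLib.LocalEven.FStarAction

open Cfsg Subgroup CfsgLib.Components
open scoped commutatorElement

variable {G : Type*} [Group G] [Finite G] {p : ℕ} [Fact p.Prime]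

theorem coprime_of_pGroup {Y R : Subgroup G} (hY : IsPGroup p Y) (hR : (Nat.card R).Coprime p) :
    (Nat.card Y).Coprime (Nat.card R) := by
  obtain ⟨n, hn⟩ := IsPGroup.iff_card.1 hY
  exact hn ▸ hR.symm.pow_left n

theorem eq_bot_of_coprime_pGroup {Y : Subgroup G} (hY : IsPGroup p Y)
    (hcop : (Nat.card Y).Coprime p) : Y = ⊥ := by
  obtain ⟨n, hn⟩ := IsPGroup.iff_card.1 hY
  rcases n with - | n
  · exact Subgroup.card_eq_one.1 (by simpa using hn)
  · rw [hn, Nat.coprime_pow_left_iff (Nat.succ_pos n)] at hcop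
    exact absurd (by simpa using hcop) (Fact.out : p.Prime).ne_one

/-- `L` is the product of its components and its Fitting subgroup, a `p'`-group. -/
structure IsGood (p : ℕ) (L : Subgroup G) : Prop where
  pCore_eq : pCore p L = ⊥
  fstar_eq : generalizedFittingSubgroup L = ⊤

theorem isGood_of_subnormal {H : Type*} [Group H] [Finite H] (hO : pCore p H = ⊥) {L : Subgroup H}
    (hL : L.IsSubnormal) (hLF : L ≤ generalizedFittingSubgroup H) : IsGood p L := by
  constructor
  · rw [← Subgroup.map_eq_bot_iff_of_injective (pCore p L) L.subtype_injective]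
    exact le_bot_iff.1 (hO ▸ CfsgLib.Base.map_pCore_le_of_isSubnormal hL)
  · refine Subgroup.map_injective L.subtype_injective ?_
    rw [map_fstar_of_isSubnormal hL, inf_eq_right.2 hLF, ← MonoidHom.range_eq_map, range_subtype]

theorem isGood_of_subnormal_in {H L : Subgroup G} (hO : pCore p H = ⊥)
    (hLF : L ≤ (generalizedFittingSubgroup H).map H.subtype) (hLsn : (L.subgroupOf H).IsSubnormal) :
    IsGood p L := by
  have hLH : L ≤ H := hLF.trans (map_subtype_le _)
  have h : IsGood p (L.subgroupOf H) := isGood_of_subnormal hO hLsn fun x hx => by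
    obtain ⟨y, hy, he⟩ := hLF hx
    rwa [← (Subtype.ext he : y = x)]
  let e := subgroupOfEquivOfLe hLH
  exact ⟨by rw [← CfsgLib.Base.map_pCore_mulEquiv e, h.pCore_eq, Subgroup.map_bot],
    by rw [← fstar_map_equiv e, h.fstar_eq, map_top_of_surjective _ e.surjective]⟩

section Core

variable {L : Subgroup G} (hg : IsGood p L)

include hg

theorem coprime_fitting :
    (Nat.card ((fittingSubgroup L).map L.subtype : Subgroup G)).Coprime p := by
  haveI := CfsgLib.Base.fittingSubgroup_normal' L
  haveI := CfsgLib.Base.isNilpotent_fittingSubgroup L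
  rw [← Nat.card_congr ((fittingSubgroup L).equivMapOfInjective _ L.subtype_injective).toEquiv]
  exact ResidualFrattini.coprime_card_of_nilpotent hg.pCore_eq _

omit [Fact p.Prime] in
theorem layer_sup_fitting :
    (layer L).map L.subtype ⊔ (fittingSubgroup L).map L.subtype = L := by
  rw [← Subgroup.map_sup]
  show (generalizedFittingSubgroup L).map L.subtype = L
  rw [hg.fstar_eq, ← MonoidHom.range_eq_map, range_subtype]

/-- The main splitting. -/
theorem split (Y : Subgroup G) (hY : IsPGroup p Y) (hYL : Y ≤ normalizer (L : Set G)) :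
    ⁅L, Y⁆ ⊔ (L ⊓ centralizer (Y : Set G)) = L ∧ ⁅L, Y⁆ = ⁅⁅L, Y⁆, Y⁆ := by
  set D := ⁅L, Y⁆ with hD
  set D' := ⁅D, Y⁆ with hD'
  set C := L ⊓ centralizer (Y : Set G) with hC
  have hDL : D ≤ L := CfsgLib.Coprime.commutator_le_of_le_normalizer hYL
  have hYD : Y ≤ normalizer (D : Set G) := normalizer_commutator_ge_right L Y
  have hD'D : D' ≤ D := CfsgLib.Coprime.commutator_le_of_le_normalizer hYD
  have hDn : (D.subgroupOf L).Normal :=
    (normal_subgroupOf_iff_le_normalizer hDL).2 (normalizer_commutator_ge_left L Y)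
  have hD'n : ((D'.subgroupOf L).subgroupOf (D.subgroupOf L)).Normal := by
    refine (normal_subgroupOf_iff_le_normalizer (comap_mono hD'D)).2 fun x hx => ?_
    refine mem_normalizer_fintype fun y hy => ?_
    exact (mem_normalizer_iff.1 (normalizer_commutator_ge_left D Y (hx : (x : G) ∈ D)) y).1 hy
  have hDs : (D.subgroupOf L).IsSubnormal := hDn.isSubnormal
  have hD's : (D'.subgroupOf L).IsSubnormal :=
    IsSubnormal.step _ _ (comap_mono hD'D) hDs hD'n
  -- components
  have hE : (layer L).map L.subtype ≤ D' ⊔ C := by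
    rw [map_le_iff_le_comap, layer_le_iff]
    intro K0 hK0
    rw [← map_le_iff_le_comap]
    set K := K0.map L.subtype with hK
    have hperf : ⁅K, K⁆ = K := by rw [hK, ← map_commutator, component_commutator_self hK0]
    have hKL : K ≤ L := map_subtype_le _
    have hKY : ⁅K, Y⁆ ≤ D := commutator_mono hKL le_rfl
    have hcase : ∀ X : Subgroup G, X ≤ L → (X.subgroupOf L).IsSubnormal →
        K ≤ X ∨ ⁅K, X⁆ = ⊥ := by
      intro X hX hXs
      rcases component_le_or_commutator_eq_bot hK0 hXs with h | h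
      · left
        have := map_mono (f := L.subtype) h
        rwa [map_subgroupOf_eq_of_le hX] at this
      · right
        have := congrArg (Subgroup.map L.subtype) h
        rwa [map_commutator, map_subgroupOf_eq_of_le hX, Subgroup.map_bot] at this
    have hcent : ∀ X : Subgroup G, ⁅K, Y⁆ ≤ X → ⁅K, X⁆ = ⊥ → K ≤ D' ⊔ C := by
      intro X hX h
      refine le_trans (le_inf hKL ?_) le_sup_right
      refine commutator_eq_bot_iff_le_centralizer.1 (commutator_eq_bot_of_perfect hperf ?_)
      rw [eq_bot_iff, ← h, commutator_comm K X]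
      exact commutator_mono hX le_rfl
    rcases hcase D hDL hDs with h1 | h1
    · rcases hcase D' (hD'D.trans hDL) hD's with h2 | h2
      · exact h2.trans le_sup_left
      · exact hcent D' (commutator_mono h1 le_rfl) h2
    · exact hcent D hKY h1
  -- the Fitting subgroup
  set R := (fittingSubgroup L).map L.subtype with hR
  have hYR : Y ≤ normalizer (R : Set G) :=
    hYL.trans (CfsgLib.Base.normalizer_le_normalizer_map_subtype L _)
  have hcopR := coprime_of_pGroup hY (coprime_fitting hg)
  have hsolv : Group.IsSolvable Y ∨ Group.IsSolvable R :=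
    Or.inl (haveI := hY.isNilpotent; inferInstance)
  have hRL : R ≤ L := map_subtype_le _
  have hF : R ≤ D' ⊔ C := by
    rw [← CfsgLib.Coprime.commutator_sup_centralizer hYR hcopR hsolv]
    refine sup_le_sup ?_ (inf_le_inf_right _ hRL)
    rw [← CfsgLib.Coprime.commutator_commutator_eq hYR hcopR hsolv]
    exact commutator_mono (commutator_mono hRL le_rfl) le_rfl
  have hLle : L ≤ D' ⊔ C := (layer_sup_fitting hg).ge.trans (sup_le hE hF)
  have hCD' : C ≤ normalizer (D' : Set G) := by
    refine CommutatorAB.normalizes_commutator ?_ (inf_le_right.trans (centralizer_le_normalizer _))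
    exact inf_le_left.trans (normalizer_commutator_ge_left L Y)
  refine ⟨le_antisymm (sup_le hDL inf_le_left) (hLle.trans (sup_le_sup_right hD'D C)),
    le_antisymm ?_ hD'D⟩
  rw [hD, commutator_le]
  intro l hl y hy
  obtain ⟨d, hd, c, hc, rfl⟩ := CommutatorAB.exists_mul_of_mem_sup hCD' (hLle hl)
  have hcy : c * y * c⁻¹ = y := by
    rw [← mem_centralizer_iff.1 hc.2 y hy]; group
  have e : ⁅d * c, y⁆ = ⁅d, y⁆ := by
    simp only [commutatorElement_def]
    calc d * c * y * (d * c)⁻¹ * y⁻¹ = d * (c * y * c⁻¹) * d⁻¹ * y⁻¹ := by group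
      _ = _ := by rw [hcy]
  rw [e]
  exact commutator_mono hD'D le_rfl (commutator_mem_commutator hd hy)

/-- If `[L, Q] = L`, the elements of `L` fixed by `Q` lie in `L'`. -/
theorem fixed_le_derived (Q : Subgroup G) (hQ : IsPGroup p Q) (hQL : Q ≤ normalizer (L : Set G))
    (hLQ : ⁅L, Q⁆ = L) : L ⊓ centralizer (Q : Set G) ≤ ⁅L, L⁆ := by
  set T := L ⊔ Q with hT
  set L' := ⁅L, L⁆ with hL'
  have hL'L : L' ≤ L := commutator_le_self L
  have hTn : T ≤ normalizer (L' : Set G) :=
    (sup_le le_normalizer hQL).trans fun g hg => CommutatorAB.normalizes_commutator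
      (A := zpowers g) (zpowers_le.2 hg) (zpowers_le.2 hg) (mem_zpowers g)
  haveI : (L'.subgroupOf T).Normal :=
    (normal_subgroupOf_iff_le_normalizer (hL'L.trans le_sup_left)).2 hTn
  let q := QuotientGroup.mk' (L'.subgroupOf T)
  set V := (L.subgroupOf T).map q with hV
  set A := (Q.subgroupOf T).map q with hA
  haveI hVc : IsMulCommutative V := by
    refine ⟨⟨?_⟩⟩
    rintro ⟨_, u, hu, rfl⟩ ⟨_, v, hv, rfl⟩
    refine Subtype.ext ?_
    show q u * q v = q v * q u
    rw [← commutatorElement_eq_one_iff_mul_comm, ← map_commutatorElement]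
    exact (QuotientGroup.eq_one_iff _).2
      (commutator_mem_commutator (H₁ := L) (H₂ := L) hu hv : (⁅(u : G), (v : G)⁆) ∈ L')
  have hAV : A ≤ normalizer (V : Set (T ⧸ L'.subgroupOf T)) := by
    refine (map_mono ?_).trans (le_normalizer_map q)
    intro a ha
    refine mem_normalizer_fintype fun y hy => ?_
    exact (mem_normalizer_iff.1 (hQL ha) y).1 hy
  have hVdvd : Nat.card V ∣ Nat.card ((fittingSubgroup L).map L.subtype : Subgroup G) := by
    set R := (fittingSubgroup L).map L.subtype with hR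
    have hRL : R ≤ L := map_subtype_le _
    have hVeq : V = (R.subgroupOf T).map q := by
      refine le_antisymm ?_ (map_mono (comap_mono hRL))
      have hle : L ≤ ((((R.subgroupOf T).map q).comap q)).map T.subtype := by
        conv_lhs => rw [← layer_sup_fitting hg]
        refine sup_le ?_ fun r hr => ⟨⟨r, mem_sup_left (hRL hr)⟩, ⟨_, hr, rfl⟩, rfl⟩
        intro x hx
        have hxL : x ∈ L := map_subtype_le _ hx
        refine ⟨⟨x, mem_sup_left hxL⟩, ?_, rfl⟩
        have hxL' : x ∈ L' := by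
          rw [← layer_commutator_self, map_commutator] at hx
          exact commutator_mono (map_subtype_le _) (map_subtype_le _) hx
        show q _ ∈ (R.subgroupOf T).map q
        rw [show q ⟨x, mem_sup_left hxL⟩ = 1 from (QuotientGroup.eq_one_iff _).2 hxL']
        exact one_mem _
      rw [hV, map_le_iff_le_comap]
      intro y hy
      obtain ⟨z, hz, he⟩ := hle hy
      rwa [← (Subtype.ext he : z = y)]
    rw [hVeq]
    exact (Subgroup.card_map_dvd _ q).trans
      (Nat.card_congr (subgroupOfEquivOfLe (hRL.trans le_sup_left)).toEquiv).dvd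
  have hcop : (Nat.card A).Coprime (Nat.card V) := by
    refine coprime_of_pGroup ?_ ((coprime_fitting hg).coprime_dvd_left hVdvd)
    exact (hQ.of_equiv (subgroupOfEquivOfLe (le_sup_right : Q ≤ T)).symm).map q
  have hVA : ⁅V, A⁆ = V := by
    rw [hV, hA, ← map_commutator]
    congr 1
    refine Subgroup.map_injective T.subtype_injective ?_
    rw [map_commutator, map_subgroupOf_eq_of_le (le_sup_right : Q ≤ T),
      map_subgroupOf_eq_of_le (le_sup_left : L ≤ T), hLQ]
  rintro x ⟨hxL, hxQ⟩
  have h := CfsgLib.Coprime.centralizer_inf_commutator_eq_bot hAV hcop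
  rw [hVA] at h
  have hx : q ⟨x, mem_sup_left hxL⟩ ∈ (⊥ : Subgroup (T ⧸ L'.subgroupOf T)) := by
    rw [← h]
    refine ⟨⟨⟨_, hxL, rfl⟩, ?_⟩, ⟨_, hxL, rfl⟩⟩
    rintro _ ⟨a, ha, rfl⟩
    rw [← map_mul, ← map_mul]
    exact congrArg q (Subtype.ext (mem_centralizer_iff.1 hxQ _ ha))
  have h9 := (QuotientGroup.eq_one_iff (⟨x, mem_sup_left hxL⟩ : T)).1 (mem_bot.1 hx)
  exact h9

end Core

variable {H : Type*} [Group H] [Finite H]

theorem pSubgroup_centralizing_eq_bot (hO : pCore p H = ⊥) {Y : Subgroup H} (hY : IsPGroup p Y)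
    (h : Y ≤ centralizer (generalizedFittingSubgroup H : Set H)) : Y = ⊥ := by
  haveI := CfsgLib.Base.fittingSubgroup_normal' H
  haveI := CfsgLib.Base.isNilpotent_fittingSubgroup H
  exact eq_bot_of_coprime_pGroup hY ((ResidualFrattini.coprime_card_of_nilpotent hO _).coprime_dvd_left
    (card_dvd_of_le (h.trans centralizer_fstar_le_fitting)))

/-- `S2816`. -/
theorem fstar_commutator (hO : pCore p H = ⊥) (Y : Subgroup H) (hY : IsPGroup p Y) :
    (∀ K : Subgroup H, K.IsSubnormal → Y ≤ K →
      ⁅generalizedFittingSubgroup H, Y⁆ = ⁅(generalizedFittingSubgroup K).map K.subtype, Y⁆ ∧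
      ⁅(generalizedFittingSubgroup K).map K.subtype, Y⁆ =
        ⁅⁅(generalizedFittingSubgroup K).map K.subtype, Y⁆, Y⁆) ∧
    (∀ Y₀ : Subgroup H, Y₀ ≤ Y → ⁅⁅generalizedFittingSubgroup H, Y⁆, Y₀⁆ = ⊥ → Y₀ = ⊥) := by
  set Φ := generalizedFittingSubgroup H with hΦ
  have hΦn : ∀ W : Subgroup H, W ≤ normalizer (Φ : Set H) := fun W => by
    rw [normalizer_eq_top_iff.2 (inferInstance : Φ.Normal)]; exact le_top
  have hgood : IsGood p Φ := isGood_of_subnormal hO (inferInstance : Φ.Normal).isSubnormal le_rfl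
  refine ⟨fun K hK hYK => ?_, fun Y₀ hY₀ h => ?_⟩
  · obtain ⟨-, hDD⟩ := split hgood Y hY (hΦn Y)
    set D := ⁅Φ, Y⁆ with hD
    have hDK : D ≤ K := by
      induction hK with
      | top => exact le_top
      | step A B hle _ hn ih =>
        rw [hDD]
        refine (commutator_mono (ih (hYK.trans hle)) hYK).trans ?_
        exact le_normalizer_iff_commutator_le_right.1
          ((normal_subgroupOf_iff_le_normalizer hle).1 hn)
    have hFK := map_fstar_of_isSubnormal hK
    rw [← hΦ] at hFK
    have h1 : D = ⁅(generalizedFittingSubgroup K).map K.subtype, Y⁆ := by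
      rw [hFK]
      refine le_antisymm ?_ (commutator_mono inf_le_left le_rfl)
      conv_lhs => rw [hDD]
      exact commutator_mono (le_inf (commutator_le_left Φ Y) hDK) le_rfl
    exact ⟨h1, by rw [← h1]; exact hDD⟩
  · refine pSubgroup_centralizing_eq_bot hO (hY.to_le hY₀) ?_
    obtain ⟨-, hDD⟩ := split hgood Y₀ (hY.to_le hY₀) (hΦn Y₀)
    have h2 : ⁅Φ, Y₀⁆ = ⊥ := by
      rw [hDD, eq_bot_iff, ← h]
      exact commutator_mono (commutator_mono le_rfl hY₀) le_rfl
    exact le_centralizer_iff.1 (commutator_eq_bot_iff_le_centralizer.1 h2)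

/-- `S2815`. -/
theorem quasisimple_residual (hp : p ∣ Nat.card H) (hO : pCore p H = ⊥)
    (hq : IsQuasisimple ↥(pResidual p H)) :
    pResidual p H = generalizedFittingSubgroup H ∧
    (∀ Y : Subgroup H, IsPGroup p Y → Y ≠ ⊥ → ⁅pResidual p H, Y⁆ = pResidual p H ∧
      pResidual p H ≤ ⨆ k : ↥(pResidual p H), Y.map (MulAut.conj (k : H)).toMonoidHom) ∧
    (∀ C : Subgroup H, C.Normal → ¬ pResidual p H ≤ C → (Nat.card C).Coprime p) ∧
    IsPIrreducible p H := by
  haveI hKn := CfsgLib.Transfer.pResidual_normal (G := H) (p := p)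
  set K := pResidual p H with hKdef
  have hKc : IsComponent K := ⟨hKn.isSubnormal, hq⟩
  haveI := CfsgLib.Base.fittingSubgroup_normal' H
  haveI := CfsgLib.Base.isNilpotent_fittingSubgroup H
  have hFK : fittingSubgroup H ≤ K :=
    ResidualFrattini.le_pResidual (ResidualFrattini.coprime_card_of_nilpotent hO _)
  have hfs : K = generalizedFittingSubgroup H := by
    refine le_antisymm ((component_le_layer hKc).trans layer_le_fstar) (sup_le ?_ hFK)
    rw [layer_le_iff]
    intro L hL
    rcases component_le_or_commutator_eq_bot hL hKn.isSubnormal with h | h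
    · exact h
    · exfalso
      have hperf : Group.IsPerfect L := hL.2.1
      have htop := pResidual_eq_top_of_perfect (p := p) hperf
      have hLK : L ≤ K := by
        intro x hx
        have h1 := mem_map_of_mem L.subtype (htop.symm ▸ mem_top (⟨x, hx⟩ : L) :
          (⟨x, hx⟩ : L) ∈ pResidual p L)
        exact CfsgLib.Transfer.map_pResidual_le L.subtype h1
      have h2 : ⁅L, L⁆ = ⊥ := le_bot_iff.1 (h ▸ commutator_mono le_rfl hLK)
      rw [component_commutator_self hL] at h2
      exact component_ne_bot hL h2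
  have hYK : ∀ Y : Subgroup H, IsPGroup p Y → Y ≠ ⊥ → ⁅K, Y⁆ = K := by
    intro Y hY hY1
    have hle : ⁅K, Y⁆ ≤ K := commutator_le_left K Y
    have hn : ((⁅K, Y⁆).subgroupOf K).Normal :=
      (normal_subgroupOf_iff_le_normalizer hle).2 (normalizer_commutator_ge_left K Y)
    rcases quasisimple_normal_eq_top_or_le_center hq ((⁅K, Y⁆).subgroupOf K) with h | h
    · exact le_antisymm hle (subgroupOf_eq_top.1 h)
    · exfalso
      apply hY1
      refine pSubgroup_centralizing_eq_bot hO hY (le_centralizer_iff.1 ?_)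
      rw [← hfs]
      refine commutator_eq_bot_iff_le_centralizer.1
        (commutator_eq_bot_of_perfect (component_commutator_self hKc) ?_)
      rw [commutator_eq_bot_iff_le_centralizer]
      intro z hz
      rw [mem_centralizer_iff]
      intro k hk
      exact congrArg Subtype.val (mem_center_iff.1 (h (x := ⟨z, hle hz⟩) hz) ⟨k, hk⟩)
  have h3 : ∀ C : Subgroup H, C.Normal → ¬ K ≤ C → (Nat.card C).Coprime p := by
    intro C hC hKC
    have h := component_commutator_eq_bot_of_not_le hKc hC.isSubnormal hKC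
    refine (ResidualFrattini.coprime_card_of_nilpotent hO (fittingSubgroup H)).coprime_dvd_left
      (card_dvd_of_le ?_)
    refine le_trans ?_ centralizer_fstar_le_fitting
    rw [← hfs]
    exact le_centralizer_iff.1 (commutator_eq_bot_iff_le_centralizer.1 h)
  refine ⟨hfs, fun Y hY hY1 => ⟨hYK Y hY hY1, ?_⟩, h3, fun hcl => ?_, fun N hN hNc => ?_⟩
  · set U := ⨆ k : K, Y.map (MulAut.conj (k : H)).toMonoidHom with hU
    conv_lhs => rw [← hYK Y hY hY1]
    rw [commutator_le]
    intro k hk y hy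
    have h1 : k * y * k⁻¹ ∈ U := mem_iSup_of_mem (⟨k, hk⟩ : K) ⟨y, hy, by simp⟩
    have h2 : y ∈ U := mem_iSup_of_mem (1 : K) ⟨y, hy, by simp⟩
    rw [commutatorElement_def]
    exact mul_mem h1 (inv_mem h2)
  · have P : Sylow p H := Classical.ofNonempty
    have h1 := ResidualFrattini.isPGroup_le_bot hO (hcl P) P.2
    have h2 := P.dvd_card_of_dvd_card hp
    rw [h1, card_bot] at h2
    exact (Fact.out : p.Prime).ne_one (Nat.dvd_one.1 h2)
  · by_contra hle
    refine hNc fun P => ?_
    have hP : (P : Subgroup N) = ⊥ :=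
      eq_bot_of_coprime_pGroup P.2 ((h3 N hN hle).coprime_dvd_left (Subgroup.card_subgroup_dvd_card _))
    rw [hP]; infer_instance

/-- `S2817`. -/
theorem largest_centralized (hO : pCore p H = ⊥) (Q : Subgroup H) (hQ : IsPGroup p Q)
    (L : Subgroup H) (hL : L = ⁅generalizedFittingSubgroup H, Q⁆) (F : Subgroup H)
    (hF : F ≤ generalizedFittingSubgroup H ∧
      generalizedFittingSubgroup H ≤ normalizer (F : Set H) ∧ Q ≤ centralizer (F : Set H) ∧
      ∀ N : Subgroup H, N ≤ generalizedFittingSubgroup H →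
        generalizedFittingSubgroup H ≤ normalizer (N : Set H) → Q ≤ centralizer (N : Set H) → N ≤ F) :
    F = generalizedFittingSubgroup H ⊓ centralizer ((L ⊔ Q : Subgroup H) : Set H) ∧
    ⁅L, Q⁆ = L ∧ L ⊓ F ≤ (frattini ↥L).map L.subtype ∧
    (∀ B : Subgroup H, IsPGroup p B → B ≤ normalizer (Q : Set H) → ⁅L, B⁆ ≤ F → ⁅L, B⁆ = ⊥) ∧
    (Nat.card ↥(centralizer ((F ⊔ L : Subgroup H) : Set H))).Coprime p := by
  set Φ := generalizedFittingSubgroup H with hΦ
  obtain ⟨hFΦ, hΦF, hQF, hmax⟩ := hF
  have hΦn : ∀ W : Subgroup H, W ≤ normalizer (Φ : Set H) := fun W => by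
    rw [normalizer_eq_top_iff.2 (inferInstance : Φ.Normal)]; exact le_top
  have hΦs : Φ.IsSubnormal := (inferInstance : Φ.Normal).isSubnormal
  have hgood : IsGood p Φ := isGood_of_subnormal hO hΦs le_rfl
  obtain ⟨-, hDD⟩ := split hgood Q hQ (hΦn Q)
  rw [← hL] at hDD
  have hLΦ : L ≤ Φ := hL ▸ commutator_le_left Φ Q
  have hΦL : Φ ≤ normalizer (L : Set H) := hL ▸ normalizer_commutator_ge_left Φ Q
  have hQL : Q ≤ normalizer (L : Set H) := hL ▸ normalizer_commutator_ge_right Φ Q
  have hsub : ∀ W : Subgroup H, W ≤ Φ → Φ ≤ normalizer (W : Set H) → W.IsSubnormal := fun W h1 h2 =>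
    IsSubnormal.step W Φ h1 hΦs ((normal_subgroupOf_iff_le_normalizer h1).2 h2)
  have hgL : IsGood p L := isGood_of_subnormal hO (hsub L hLΦ hΦL) hLΦ
  have hFLQ : F ≤ centralizer ((L ⊔ Q : Subgroup H) : Set H) := by
    have hFL : F ≤ centralizer (L : Set H) := by
      rw [hL]
      refine le_centralizer_iff.1 (commutator_eq_bot_iff_le_centralizer.1 ?_)
      refine commutator_commutator_eq_bot_of_rotate ?_ ?_
      · rw [commutator_eq_bot_iff_le_centralizer.2 hQF, commutator_bot_left]
      · refine le_bot_iff.1 ?_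
        calc ⁅⁅F, Φ⁆, Q⁆ ≤ ⁅F, Q⁆ :=
              commutator_mono (le_normalizer_iff_commutator_le_left.1 hΦF) le_rfl
          _ = ⊥ := commutator_eq_bot_iff_le_centralizer.2 (le_centralizer_iff.1 hQF)
    refine le_centralizer_iff.1 (sup_le (le_centralizer_iff.1 hFL) hQF)
  have heq : F = Φ ⊓ centralizer ((L ⊔ Q : Subgroup H) : Set H) := by
    refine le_antisymm (le_inf hFΦ hFLQ) (hmax _ inf_le_left ?_
      (le_centralizer_iff.1 (inf_le_right.trans (centralizer_le (SetLike.coe_subset_coe.2 le_sup_right)))))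
    refine le_trans (le_inf le_normalizer ?_) inf_normalizer_le_normalizer_inf
    refine le_trans (fun f hf => ?_) (normalizer_le_normalizer_centralizer _)
    refine mem_normalizer_fintype fun x hx => ?_
    have hle : (L ⊔ Q).map (MulAut.conj f).toMonoidHom ≤ L ⊔ Q := by
      rw [Subgroup.map_sup]
      refine sup_le ?_ ?_
      · rintro _ ⟨l, hl, rfl⟩
        exact mem_sup_left ((mem_normalizer_iff.1 (hΦL hf) l).1 hl)
      · rintro _ ⟨y, hy, rfl⟩
        show f * y * f⁻¹ ∈ L ⊔ Q
        have e : f * y * f⁻¹ = ⁅f, y⁆ * y := by simp only [commutatorElement_def]; group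
        rw [e]
        exact mul_mem (mem_sup_left (hL ▸ commutator_mem_commutator hf hy)) (mem_sup_right hy)
    exact hle ⟨x, hx, rfl⟩
  have hFcL : F ≤ centralizer (L : Set H) :=
    hFLQ.trans (centralizer_le (SetLike.coe_subset_coe.2 le_sup_left))
  have hFd : L ⊓ F ≤ ⁅L, L⁆ :=
    (inf_le_inf_left L (le_centralizer_iff.1 hQF)).trans (fixed_le_derived hgL Q hQ hQL hDD.symm)
  refine ⟨heq, hDD.symm, ?_, ?_, ?_⟩
  · intro x hx
    refine ⟨⟨x, hx.1⟩, ?_, rfl⟩
    show (⟨x, hx.1⟩ : L) ∈ ⨅ M ∈ {M : Subgroup L | IsCoatom M}, M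
    rw [mem_iInf]; intro M
    rw [mem_iInf]; intro hM
    by_contra hxM
    set z : L := ⟨x, hx.1⟩ with hz
    have hzc : z ∈ center L := mem_center_iff.2 fun y =>
      Subtype.ext (mem_centralizer_iff.1 (hFcL hx.2) y y.2)
    have hgen : M ⊔ zpowers z = ⊤ := hM.2 _ (left_lt_sup.2 fun h => hxM (zpowers_le.1 h))
    haveI hMn : M.Normal := by
      refine normalizer_eq_top_iff.1 (top_le_iff.1 (hgen ▸ sup_le le_normalizer ?_))
      rw [zpowers_le]
      exact centralizer_le_normalizer _ (mem_centralizer_iff.2 fun m _ => mem_center_iff.1 hzc m)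
    have hder : ∀ u v : L, ⁅u, v⁆ ∈ M := by
      intro u v
      obtain ⟨m, hm, a, ha, rfl⟩ := mem_sup_of_normal_left.1 (hgen.symm ▸ mem_top u)
      obtain ⟨n, hn, b, hb, rfl⟩ := mem_sup_of_normal_left.1 (hgen.symm ▸ mem_top v)
      have ca : ∀ w, Commute a w := fun w => ((mem_center_iff.1 (zpowers_le.2 hzc ha)) w).symm
      have cb : ∀ w, Commute b w := fun w => ((mem_center_iff.1 (zpowers_le.2 hzc hb)) w).symm
      have e : ⁅m * a, n * b⁆ = ⁅m, n⁆ := by
        simp only [commutatorElement_def, mul_inv_rev]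
        calc m * a * (n * b) * (a⁻¹ * m⁻¹) * (b⁻¹ * n⁻¹)
            = m * (a * n) * (b * a⁻¹) * (m⁻¹ * b⁻¹) * n⁻¹ := by group
          _ = m * (n * a) * (a⁻¹ * b) * (b⁻¹ * m⁻¹) * n⁻¹ := by
              rw [(ca n).eq, ((cb a⁻¹)).eq, ((cb m).inv_inv).eq]
          _ = m * n * m⁻¹ * n⁻¹ := by group
      rw [e, commutatorElement_def]
      exact mul_mem (mul_mem (mul_mem hm hn) (inv_mem hm)) (inv_mem hn)
    have hle : ⁅L, L⁆ ≤ M.map L.subtype := by
      rw [commutator_le]
      intro u hu v hv
      exact ⟨⁅⟨u, hu⟩, ⟨v, hv⟩⁆, hder _ _, rfl⟩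
    obtain ⟨y, hy, he⟩ := hle (hFd hx)
    exact hxM ((Subtype.ext he : y = z) ▸ hy)
  · intro B hB hBQ hLB
    have hBL : B ≤ normalizer (L : Set H) := hL ▸ CommutatorAB.normalizes_commutator (hΦn B) hBQ
    have hW : ⁅L, B⁆ ≤ L ⊓ F :=
      le_inf (CfsgLib.Coprime.commutator_le_of_le_normalizer hBL) hLB
    have h1 : ⁅⁅L, L⁆, B⁆ = ⊥ := by
      have hz : ⁅⁅L, B⁆, L⁆ = ⊥ := by
        rw [commutator_eq_bot_iff_le_centralizer]
        exact hLB.trans hFcL
      exact commutator_commutator_eq_bot_of_rotate hz (by rwa [commutator_comm B L])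
    obtain ⟨-, hBB⟩ := split hgL B hB hBL
    rw [hBB, eq_bot_iff, ← h1]
    exact commutator_mono (hW.trans hFd) le_rfl
  · rw [Nat.coprime_comm, (Fact.out : p.Prime).coprime_iff_not_dvd]
    intro hdvd
    obtain ⟨b, hb⟩ := exists_prime_orderOf_dvd_card' p hdvd
    set B := zpowers (b : H) with hBdef
    have hBp : IsPGroup p B := IsPGroup.of_card (n := 1)
      (by rw [hBdef, Nat.card_zpowers, Subgroup.orderOf_coe, hb, pow_one])
    have hBc : B ≤ centralizer ((F ⊔ L : Subgroup H) : Set H) := zpowers_le.2 b.2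
    have hBF : B ≤ centralizer (F : Set H) :=
      hBc.trans (centralizer_le (SetLike.coe_subset_coe.2 le_sup_left))
    have hBL : B ≤ centralizer (L : Set H) :=
      hBc.trans (centralizer_le (SetLike.coe_subset_coe.2 le_sup_right))
    -- `W = C_Φ(L)`
    set W := Φ ⊓ centralizer (L : Set H) with hWdef
    have hΦW : Φ ≤ normalizer (W : Set H) :=
      (le_inf le_normalizer (hΦL.trans (normalizer_le_normalizer_centralizer _))).trans
        inf_normalizer_le_normalizer_inf
    have hQW : Q ≤ normalizer (W : Set H) :=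
      (le_inf (hΦn Q) (hQL.trans (normalizer_le_normalizer_centralizer _))).trans
        inf_normalizer_le_normalizer_inf
    have hgW : IsGood p W := isGood_of_subnormal hO (hsub W inf_le_left hΦW) inf_le_left
    have hWc : W ≤ centralizer (B : Set H) := by
      conv_lhs => rw [← (split hgW Q hQ hQW).1]
      refine sup_le ((commutator_mono inf_le_left le_rfl).trans
        (hL ▸ le_centralizer_iff.1 hBL)) ?_
      refine le_trans ?_ (le_centralizer_iff.1 hBF)
      rw [heq]
      refine le_inf (inf_le_left.trans inf_le_left) ?_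
      refine le_centralizer_iff.1 (sup_le (le_centralizer_iff.1 (inf_le_left.trans inf_le_right))
        (le_centralizer_iff.1 inf_le_right))
    have hΦB : ⁅Φ, B⁆ ≤ W := by
      refine le_inf (commutator_le_left Φ B) ?_
      rw [commutator_le]
      intro f hf c hc
      rw [mem_centralizer_iff]
      intro l hl
      have h1 : c * l * c⁻¹ = l := by
        rw [← mem_centralizer_iff.1 (hBL hc) l hl]; group
      have h2 : c * (f⁻¹ * l * f) * c⁻¹ = f⁻¹ * l * f := by
        rw [← mem_centralizer_iff.1 (hBL hc) (f⁻¹ * l * f)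
          (by simpa using (mem_normalizer_iff.1 (hΦL (inv_mem hf)) l).1 hl)]
        group
      simp only [commutatorElement_def]
      symm
      rw [← mul_inv_eq_iff_eq_mul]
      calc f * c * f⁻¹ * c⁻¹ * l * (f * c * f⁻¹ * c⁻¹)⁻¹
          = f * c * f⁻¹ * (c⁻¹ * (c * l * c⁻¹) * c) * f * c⁻¹ * f⁻¹ := by rw [h1]; group
        _ = f * (c * (f⁻¹ * l * f) * c⁻¹) * f⁻¹ := by group
        _ = l := by rw [h2]; group
    obtain ⟨-, hBB⟩ := split hgood B hBp (hΦn B)
    have hzero : ⁅Φ, B⁆ = ⊥ := by
      rw [hBB, eq_bot_iff]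
      exact (commutator_mono (hΦB.trans hWc) le_rfl).trans
        (commutator_eq_bot_iff_le_centralizer.2 le_rfl).le
    have hbot := pSubgroup_centralizing_eq_bot hO hBp
      (le_centralizer_iff.1 (commutator_eq_bot_iff_le_centralizer.1 hzero))
    rw [hBdef, zpowers_eq_bot] at hbot
    rw [← Subgroup.orderOf_coe, hbot, orderOf_one] at hb
    exact (Fact.out : p.Prime).ne_one hb.symm

end CfsgLib.LocalEven.FStarAction
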