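import Cfsg.Agent.Lib.LocalEven.OrbitProd
import Cfsg.Agent.Lib.LocalEven.S4Section
import Cfsg.Agent.Lib.FgsB.OddInverted
import Cfsg.Agent.Lib.Transfer.Alperin
import Cfsg.Agent.Lib.Fusion.Invariant

/-!
An element of an abelian normal `p`-subgroup centralised by the normalizer of `J(R)` is central,
for `p` odd, for `S₄`-free groups, or for a `p`-th power.
-/

set_option autoImplicit false

namespace CfsgLib.LocalEven

open Cfsg Equiv
open scoped IsMulCommutative

universe u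

variable {G : Type u} [Group G]

theorem involves_of_subgroup {H : Type} [Group H] {L : Subgroup G}
    (h : Involves H L) : Involves H G := by
  obtain ⟨K, R, hn, ⟨e⟩⟩ := h
  set ι := K.equivMapOfInjective L.subtype L.subtype_injective with hι
  exact involves_of_surjective (E := K.map L.subtype)
    ((e.toMonoidHom.comp (QuotientGroup.mk' (R.subgroupOf K))).comp ι.symm.toMonoidHom)
    ((e.surjective.comp (QuotientGroup.mk'_surjective _)).comp ι.symm.surjective)

theorem mem_centralizer_conj {g x a : G} :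
    a ∈ Subgroup.centralizer ({g * x * g⁻¹} : Set G) ↔
      g⁻¹ * a * g ∈ Subgroup.centralizer ({x} : Set G) := by
  rw [Subgroup.mem_centralizer_singleton_iff, Subgroup.mem_centralizer_singleton_iff]
  constructor <;> intro h
  · calc g⁻¹ * a * g * x = g⁻¹ * (a * (g * x * g⁻¹)) * g := by group
      _ = g⁻¹ * ((g * x * g⁻¹) * a) * g := by rw [h]
      _ = x * (g⁻¹ * a * g) := by group
  · calc a * (g * x * g⁻¹) = g * (g⁻¹ * a * g * x) * g⁻¹ := by group
      _ = g * (x * (g⁻¹ * a * g)) * g⁻¹ := by rw [h]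
      _ = (g * x * g⁻¹) * a := by group

variable [Finite G] {p : ℕ} [Fact p.Prime]

/-- Normalizers of subgroups carrying a member of `maxAb R` outside the core of `M` lie in `M`. -/
theorem forall_normalizer_le (R : Sylow p G) {M : Subgroup G} (hM : M ≠ ⊤)
    (hRM : (R : Subgroup G) ≤ M)
    (hJM : Subgroup.normalizer (jAb (R : Subgroup G) : Set G) ≤ M)
    (hsub : ∀ L : Subgroup G, (R : Subgroup G) ≤ L → L ≠ ⊤ → L ≤ M)
    (hrec : ∀ H : Subgroup G, H ≤ (R : Subgroup G) → Subgroup.normalizer (H : Set G) ≠ ⊤ →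
      CfsgLib.Fusion.IsSylIn p ((R : Subgroup G) ⊓ Subgroup.normalizer (H : Set G))
        (Subgroup.normalizer (H : Set G)) →
      Subgroup.normalizer (H : Set G) ⊓ Subgroup.normalizer
        (jAb ((R : Subgroup G) ⊓ Subgroup.normalizer (H : Set G)) : Set G) ≤ M →
      Subgroup.normalizer (H : Set G) ≤ M) :
    ∀ H : Subgroup G, H ≤ (R : Subgroup G) →
      (∃ A ∈ maxAb (R : Subgroup G), A ≤ H ∧ ¬ A ≤ M.normalCore) →
      Subgroup.normalizer (H : Set G) ≤ M := by
  by_contra hcon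
  push Not at hcon
  let P : Subgroup G → Prop := fun H => H ≤ (R : Subgroup G) ∧
    (∃ A ∈ maxAb (R : Subgroup G), A ≤ H ∧ ¬ A ≤ M.normalCore) ∧
    ¬ Subgroup.normalizer (H : Set G) ≤ M
  have hne : {H | P H}.Nonempty := by
    obtain ⟨H, h1, h2, h3⟩ := hcon
    exact ⟨H, h1, h2, h3⟩
  obtain ⟨H, ⟨hHR, ⟨A, hA, hAH, hAK⟩, hHM⟩, hmax⟩ := Set.exists_max_image {H | P H}
    (fun H => Nat.card ↥((R : Subgroup G) ⊓ Subgroup.normalizer (H : Set G))) (Set.toFinite _) hne
  set N := Subgroup.normalizer (H : Set G) with hN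
  set U := (R : Subgroup G) ⊓ N with hU
  have hHU : H ≤ U := le_inf hHR Subgroup.le_normalizer
  have hUp : IsPGroup p U := R.2.to_le inf_le_left
  have hNtop : N ≠ ⊤ := by
    intro h
    have hn : H.Normal := Subgroup.normalizer_eq_top_iff.1 h
    exact hAK (hAH.trans (Subgroup.normal_le_normalCore.2 (hHR.trans hRM)))
  have hUR : U < (R : Subgroup G) := lt_of_le_of_ne inf_le_left fun e =>
    hHM (hsub N (e ▸ inf_le_right) hNtop)
  have hbig : ∀ H' : Subgroup G, U < (R : Subgroup G) ⊓ Subgroup.normalizer (H' : Set G) →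
      ¬ P H' := fun H' hlt hP =>
    (hmax H' hP).not_gt (CfsgLib.Transfer.card_lt_card_of_lt hlt)
  have hUj : Subgroup.normalizer (U : Set G) ≤ Subgroup.normalizer (jAb U : Set G) :=
    normalizer_le_normalizer_jAb U
  -- `U` is a Sylow subgroup of `N ⊓ M`
  have hsylM : CfsgLib.Fusion.IsSylIn p (R : Subgroup G) M :=
    ⟨hRM, R.2, fun C hC hle _ => R.3 hC hle⟩
  have hsylNM : ∀ C : Subgroup G, IsPGroup p C → U ≤ C → C ≤ N → C ≤ M → C = U := by
    intro C hC hUC hCN hCM
    by_contra hne'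
    obtain ⟨m, hm, hmC⟩ := hsylM.exists_conj_le hC hCM
    set c := (MulAut.conj m).toMonoidHom
    refine (hmax (H.map c) ⟨?_, ⟨A.map c, map_conj_mem_maxAb hA ?_, Subgroup.map_mono hAH, ?_⟩, ?_⟩).not_gt ?_
    · rintro _ ⟨h, hh, rfl⟩; exact hmC h (hUC (hHU hh))
    · rintro _ ⟨h, hh, rfl⟩; exact hmC h (hUC (hHU (hAH hh)))
    · intro h
      refine hAK fun a ha => ?_
      have := (Subgroup.normalCore_normal M).conj_mem _ (h ⟨a, ha, rfl⟩) m⁻¹
      simpa [c, mul_assoc] using this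
    · intro h
      refine hHM fun n hn => ?_
      have h1 : m * n * m⁻¹ ∈ Subgroup.normalizer (H.map c : Set G) := by
        refine mem_normalizer_of_conj ?_
        rw [conj_map_conj_map, show m * n * m⁻¹ * m = m * n by group, ← conj_map_conj_map,
          conj_map_eq_of_mem_normalizer hn]
      have := M.mul_mem (M.mul_mem (M.inv_mem hm) (h h1)) hm
      simpa [mul_assoc] using this
    · have hlt : Nat.card U < Nat.card C :=
        CfsgLib.Transfer.card_lt_card_of_lt (lt_of_le_of_ne hUC (Ne.symm hne'))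
      refine hlt.trans_le ?_
      rw [← Subgroup.card_map_of_injective (K := C) (f := c) (MulAut.conj m).injective]
      refine Subgroup.card_le_of_le (le_inf ?_ ?_)
      · rintro _ ⟨h, hh, rfl⟩; exact hmC h hh
      · rintro _ ⟨h, hh, rfl⟩
        refine mem_normalizer_of_conj ?_
        change (H.map c).map (MulAut.conj (m * h * m⁻¹)).toMonoidHom = _
        rw [conj_map_conj_map, show m * h * m⁻¹ * m = m * h by group, ← conj_map_conj_map,
          conj_map_eq_of_mem_normalizer (hCN hh)]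
  have hsyl : CfsgLib.Fusion.IsSylIn p U N := by
    by_contra h
    obtain ⟨b, hbN, hbU, hbn, k, hk⟩ := CfsgLib.Fusion.exists_normalizing inf_le_right hUp h
    have hbM : b ∈ M := by
      by_contra hbM
      exact hbig U (CfsgLib.Fusion.lt_inf_normalizer R.2 hUR)
        ⟨inf_le_left, ⟨A, hA, hAH.trans hHU, hAK⟩, fun h' => hbM (h' hbn)⟩
    have hzp : IsPGroup p (Subgroup.zpowers b) := by
      obtain ⟨j, -, hj⟩ := (Nat.dvd_prime_pow Fact.out).1 (orderOf_dvd_of_pow_eq_one hk)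
      exact IsPGroup.iff_card.2 ⟨j, by rw [Nat.card_zpowers, hj]⟩
    have hC : U ⊔ Subgroup.zpowers b = U := hsylNM _
      (IsPGroup.to_sup_of_normal_left' hUp hzp (Subgroup.zpowers_le.2 hbn)) le_sup_left
      (sup_le inf_le_right (Subgroup.zpowers_le.2 hbN))
      (sup_le (inf_le_left.trans hRM) (Subgroup.zpowers_le.2 hbM))
    exact hbU (hC.le (Subgroup.mem_sup_right (Subgroup.mem_zpowers b)))
  refine hHM (hrec H hHR hNtop hsyl ?_)
  by_contra h
  refine hbig (jAb U) ((CfsgLib.Fusion.lt_inf_normalizer R.2 hUR).trans_le (inf_le_inf_left _ hUj))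
    ⟨(jAb_le U).trans inf_le_left, ⟨A, hA, le_jAb ((mem_maxAb_iff_of_le inf_le_left hA
      (hAH.trans hHU)).2 ⟨hA, hAH.trans hHU⟩), hAK⟩, fun h' => h (inf_le_right.trans h')⟩

/-- A member of `maxAb R` inside a conjugate `gMg⁻¹ ≠ M` lies in the core of `M`. -/
theorem le_normalCore_of_le_conj (R : Sylow p G) {M : Subgroup G} (hRM : (R : Subgroup G) ≤ M)
    (hJM : Subgroup.normalizer (jAb (R : Subgroup G) : Set G) ≤ M)
    (hH : ∀ H : Subgroup G, H ≤ (R : Subgroup G) →
      (∃ A ∈ maxAb (R : Subgroup G), A ≤ H ∧ ¬ A ≤ M.normalCore) →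
      Subgroup.normalizer (H : Set G) ≤ M)
    {g : G} (hg : g ∉ M) {A : Subgroup G} (hA : A ∈ maxAb (R : Subgroup G))
    (hAg : A ≤ M.map (MulAut.conj g).toMonoidHom) : A ≤ M.normalCore := by
  by_contra hAK
  let S : Set G := {g | g ∉ M ∧ ∃ A ∈ maxAb (R : Subgroup G),
    A ≤ M.map (MulAut.conj g).toMonoidHom ∧ ¬ A ≤ M.normalCore}
  have hne : S.Nonempty := ⟨g, hg, A, hA, hAg, hAK⟩
  obtain ⟨g, ⟨hg, A, hA, hAg, hAK⟩, hmax⟩ := Set.exists_max_image S
    (fun g => Nat.card ↥((R : Subgroup G) ⊓ M.map (MulAut.conj g).toMonoidHom)) (Set.toFinite _) hne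
  set T := (R : Subgroup G) ⊓ M.map (MulAut.conj g).toMonoidHom with hT
  have hAT : A ≤ T := le_inf (mem_maxAb.1 hA).1 hAg
  have hsylM : CfsgLib.Fusion.IsSylIn p (R : Subgroup G) M :=
    ⟨hRM, R.2, fun C hC hle _ => R.3 hC hle⟩
  have hTN := hH T inf_le_left ⟨A, hA, hAT, hAK⟩
  have hTp : IsPGroup p T := R.2.to_le inf_le_left
  obtain ⟨m, hm, hmT⟩ := hsylM.exists_conj_le (hTp.map (MulAut.conj g⁻¹).toMonoidHom) (by
    rintro _ ⟨t, ht, rfl⟩
    obtain ⟨y, hy, rfl⟩ := ht.2
    simpa [mul_assoc] using hy)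
  set c := g * m⁻¹ with hc
  have hcM : c ∉ M := fun h => hg (by simpa [hc] using M.mul_mem h hm)
  have hcg : M.map (MulAut.conj c).toMonoidHom = M.map (MulAut.conj g).toMonoidHom := by
    rw [hc, ← conj_map_conj_map,
      conj_map_eq_of_mem_normalizer (Subgroup.le_normalizer (M.inv_mem hm))]
  set Q := (R : Subgroup G).map (MulAut.conj c).toMonoidHom with hQ
  have hQp : IsPGroup p Q := R.2.map _
  have hTQ : T ≤ Q := by
    intro t ht
    refine ⟨_, hmT _ ⟨t, ht, rfl⟩, ?_⟩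
    simp [hc, mul_assoc]
  have hQM : Q ≤ M.map (MulAut.conj g).toMonoidHom := hcg ▸ Subgroup.map_mono hRM
  have hlt : T < Q := by
    refine lt_of_le_of_ne hTQ fun e => hcM ?_
    have hTR : T = (R : Subgroup G) := Subgroup.eq_of_le_of_card_ge inf_le_left
      (le_of_eq (by rw [e, hQ, Subgroup.card_map_of_injective (MulAut.conj c).injective]))
    exact hJM (normalizer_le_normalizer_jAb _ (mem_normalizer_of_conj
      (by rw [← hQ, ← e, hTR])))
  set T2 := Q ⊓ Subgroup.normalizer (T : Set G) with hT2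
  have hlt2 : T < T2 := CfsgLib.Fusion.lt_inf_normalizer hQp hlt
  obtain ⟨n, hn, hnT⟩ := hsylM.exists_conj_le (hQp.to_le inf_le_left)
    (show T2 ≤ M from inf_le_right.trans hTN)
  refine (hmax (n * g) ⟨fun h => hg (by simpa [mul_assoc] using M.mul_mem (M.inv_mem hn) h),
    A.map (MulAut.conj n).toMonoidHom, map_conj_mem_maxAb hA ?_, ?_, ?_⟩).not_gt ?_
  · rintro _ ⟨a, ha, rfl⟩; exact hnT a (hlt2.le (hAT ha))
  · rw [← conj_map_conj_map]; exact Subgroup.map_mono hAg
  · intro h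
    refine hAK fun a ha => ?_
    have := (Subgroup.normalCore_normal M).conj_mem _ (h ⟨a, ha, rfl⟩) n⁻¹
    simpa [mul_assoc] using this
  · refine (CfsgLib.Transfer.card_lt_card_of_lt hlt2).trans_le ?_
    rw [← Subgroup.card_map_of_injective (K := T2) (f := (MulAut.conj n).toMonoidHom)
      (MulAut.conj n).injective]
    refine Subgroup.card_le_of_le (le_inf ?_ ?_)
    · rintro _ ⟨a, ha, rfl⟩; exact hnT a ha
    · rw [← conj_map_conj_map]
      exact Subgroup.map_mono (inf_le_left.trans hQM)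

/-- Some member of `maxAb R` lies outside the core of a proper `M ⊇ N(J(R))`. -/
theorem exists_maxAb_not_le_normalCore (R : Sylow p G) {M : Subgroup G} (hM : M ≠ ⊤)
    (hJM : Subgroup.normalizer (jAb (R : Subgroup G) : Set G) ≤ M) :
    ∃ A ∈ maxAb (R : Subgroup G), ¬ A ≤ M.normalCore := by
  by_contra hcon
  push Not at hcon
  set K := M.normalCore
  set P := (R : Subgroup G) ⊓ K with hP
  have hsyl : CfsgLib.Fusion.IsSylIn p P K := CfsgLib.Fusion.isSylIn_inf
    (⟨le_top, R.2, fun C hC hle _ => R.3 hC hle⟩ : CfsgLib.Fusion.IsSylIn p (R : Subgroup G) ⊤)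
    le_top fun b _ n hn => (Subgroup.normalCore_normal M).conj_mem n hn b
  have hJ : jAb P = jAb (R : Subgroup G) := by
    obtain ⟨A, hA⟩ := maxAb_nonempty (R : Subgroup G)
    have hAP : A ≤ P := le_inf (mem_maxAb.1 hA).1 (hcon A hA)
    refine le_antisymm (sSup_le fun B hB => le_jAb ((mem_maxAb_iff_of_le inf_le_left hA hAP).1 hB).1)
      (sSup_le fun B hB => le_jAb ((mem_maxAb_iff_of_le inf_le_left hA hAP).2
        ⟨hB, le_inf (mem_maxAb.1 hB).1 (hcon B hB)⟩))
  obtain ⟨Q, hQ⟩ := (CfsgLib.Fusion.exists_sylow_iff inf_le_right).2 hsyl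
  have hfr := Sylow.normalizer_sup_eq_top Q
  rw [hQ, Subgroup.map_subgroupOf_eq_of_le inf_le_right] at hfr
  exact hM (eq_top_iff.2 (hfr ▸ sup_le
    ((normalizer_le_normalizer_jAb P).trans (hJ ▸ hJM)) (Subgroup.normalCore_le M)))

/-- The transfer of the induction hypothesis to a subgroup. -/
theorem wc_sub {U W L : Subgroup G}
    (IH : ∀ (R : Sylow p L) (V : Subgroup L), V.Normal → IsMulCommutative V →
      V ≤ (R : Subgroup L) → ∀ x ∈ V, (R : Subgroup L) ≤ Subgroup.centralizer {x} →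
      Subgroup.normalizer (jAb (R : Subgroup L) : Set L) ≤ Subgroup.centralizer {x} →
      (p ≠ 2 ∨ ¬ Involves (Perm (Fin 4)) L ∨
        ∃ z ∈ V, (R : Subgroup L) ≤ Subgroup.centralizer {z} ∧ z ^ p = x) →
      Subgroup.centralizer ({x} : Set L) = ⊤)
    (hU : CfsgLib.Fusion.IsSylIn p U L) (hW : IsMulCommutative W) (hWU : W ≤ U)
    (hLW : L ≤ Subgroup.normalizer (W : Set G)) {x : G} (hxW : x ∈ W)
    (hUx : U ≤ Subgroup.centralizer ({x} : Set G))
    (hJ : L ⊓ Subgroup.normalizer (jAb U : Set G) ≤ Subgroup.centralizer ({x} : Set G))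
    (hc : p ≠ 2 ∨ ¬ Involves (Perm (Fin 4)) G ∨
        ∃ z ∈ W, U ≤ Subgroup.centralizer ({z} : Set G) ∧ z ^ p = x) :
    L ≤ Subgroup.centralizer ({x} : Set G) := by
  obtain ⟨Q, hQ⟩ := (CfsgLib.Fusion.exists_sylow_iff hU.1).2 hU
  have hUL := hU.1
  have hcen : ∀ (z : G) (hz : z ∈ L), U ≤ Subgroup.centralizer ({z} : Set G) →
      (Q : Subgroup L) ≤ Subgroup.centralizer ({⟨z, hz⟩} : Set L) := fun z hz h q hq =>
    Subgroup.mem_centralizer_singleton_iff.2 (Subtype.ext
      (Subgroup.mem_centralizer_singleton_iff.1 (h (Subgroup.mem_subgroupOf.1 (hQ ▸ hq)))))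
  have hWn : (W.subgroupOf L).Normal :=
    (Subgroup.normal_subgroupOf_iff_le_normalizer (hWU.trans hUL)).2 hLW
  have hWc : IsMulCommutative (W.subgroupOf L) :=
    ⟨⟨fun a b => Subtype.ext (Subtype.ext (CfsgLib.PLocal.comm_of_mem hW a.2 b.2))⟩⟩
  have hxL : x ∈ L := hUL (hWU hxW)
  have hjQ : (jAb (Q : Subgroup L)).map L.subtype = jAb U := by
    rw [map_subtype_jAb, hQ, Subgroup.map_subgroupOf_eq_of_le hUL]
  have key := IH Q (W.subgroupOf L) hWn hWc (hQ ▸ Subgroup.comap_mono hWU) ⟨x, hxL⟩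
    (Subgroup.mem_subgroupOf.2 hxW) (hcen x hxL hUx) ?_ ?_
  · intro l hl
    exact Subgroup.mem_centralizer_singleton_iff.2 (congrArg Subtype.val
      (Subgroup.mem_centralizer_singleton_iff.1 (key.ge (Subgroup.mem_top (⟨l, hl⟩ : L)))))
  · intro n hn
    refine Subgroup.mem_centralizer_singleton_iff.2 (Subtype.ext
      (Subgroup.mem_centralizer_singleton_iff.1 (hJ ⟨n.2, mem_normalizer_of_conj_mem fun y hy => ?_⟩)))
    rw [← hjQ] at hy ⊢
    obtain ⟨q, hq, rfl⟩ := hy
    exact ⟨n * q * n⁻¹, (Subgroup.mem_normalizer_iff.1 hn q).1 hq, rfl⟩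
  · rcases hc with h | h | ⟨z, hz, hzU, hzp⟩
    · exact Or.inl h
    · exact Or.inr (Or.inl fun h' => h (involves_of_subgroup h'))
    · exact Or.inr (Or.inr ⟨⟨z, hUL (hWU hz)⟩, Subgroup.mem_subgroupOf.2 hz, hcen _ _ hzU,
        Subtype.ext hzp⟩)

/-- A bad orbit for `p = 2` produces a section `S₄`. -/
theorem involves_of_bad_orbit [hp2 : Fact (Nat.Prime 2)] (R : Sylow 2 G) {V : Subgroup G} [V.Normal]
    (hV : IsMulCommutative V) (hVR : V ≤ (R : Subgroup G)) {x : G} (hxV : x ∈ V)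
    (hRM : (R : Subgroup G) ≤ Subgroup.centralizer ({x} : Set G))
    (hkey : ∀ g : G, g ∉ Subgroup.centralizer ({x} : Set G) → ∀ D ∈ maxAb (R : Subgroup G),
      D ≤ Subgroup.centralizer ({g * x * g⁻¹} : Set G) →
      D ≤ (Subgroup.centralizer ({x} : Set G)).normalCore)
    {A : Subgroup G} (hA : A ∈ maxAb (R : Subgroup G))
    (hAK : ¬ A ≤ (Subgroup.centralizer ({x} : Set G)).normalCore)
    {g : G} (hg : g ∉ Subgroup.centralizer ({x} : Set G))
    (hcard : Nat.card A = 2 * Nat.card ↥(A ⊓ Subgroup.centralizer ({g * x * g⁻¹} : Set G))) :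
    Involves (Perm (Fin 4)) G := by
  classical
  obtain ⟨hAR, hc, -⟩ := mem_maxAb.1 hA
  set M := Subgroup.centralizer ({x} : Set G)
  set K := M.normalCore with hK
  set w := g * x * g⁻¹ with hwdef
  set A₀ := A ⊓ Subgroup.centralizer ({w} : Set G)
  have hwV : w ∈ V := ‹V.Normal›.conj_mem x hxV g
  set C := V ⊓ Subgroup.centralizer (A : Set G) with hCdef
  set C₁ := V ⊓ Subgroup.centralizer (A₀ : Set G) with hC₁def
  have hCC : C ≤ C₁ := inf_le_inf_left _ (Subgroup.centralizer_le inf_le_left)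
  have hwC₁ : w ∈ C₁ :=
    ⟨hwV, fun a ha => Subgroup.mem_centralizer_singleton_iff.1 ha.2⟩
  have hoff := card_offender hA hV hVR (inf_le_left : A₀ ≤ A)
  have hC₁le : Nat.card C₁ ≤ 2 * Nat.card C := by
    rw [hcard, mul_comm 2, mul_assoc] at hoff
    exact Nat.le_of_mul_le_mul_left hoff Nat.card_pos
  have hwC : w ∉ C := fun h => by
    have hle : A ≤ A₀ := le_inf le_rfl fun a ha =>
      Subgroup.mem_centralizer_singleton_iff.2 (h.2 a ha)
    have := Subgroup.card_le_of_le hle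
    have : 0 < Nat.card A₀ := Nat.card_pos
    omega
  have hidx : (C.subgroupOf C₁).index = 2 := by
    have h1 := Subgroup.card_mul_index (C.subgroupOf C₁)
    rw [Nat.card_congr (Subgroup.subgroupOfEquivOfLe hCC).toEquiv] at h1
    have h2 : (C.subgroupOf C₁).index ≠ 1 := fun h => hwC (Subgroup.mem_subgroupOf.1
      (show (⟨w, hwC₁⟩ : C₁) ∈ C.subgroupOf C₁ from Subgroup.index_eq_one.1 h ▸ Subgroup.mem_top _))
    have h0 : (C.subgroupOf C₁).index ≠ 0 := Subgroup.index_ne_zero_of_finite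
    have h3 : 0 < Nat.card C := Nat.card_pos
    have h4 : Nat.card C * (C.subgroupOf C₁).index ≤ Nat.card C * 2 := by omega
    have := Nat.le_of_mul_le_mul_left h4 h3
    omega
  -- `A₀` lies in the core
  have hA₀K : A₀ ≤ K := by
    have hsupc : IsMulCommutative ↥(A₀ ⊔ C₁) := isMulCommutative_sup
      (isMulCommutative_of_le_centralizer ((inf_le_left.trans (le_centralizer_of_isMulCommutative hc)).trans
        (Subgroup.centralizer_le inf_le_left)))
      (isMulCommutative_of_le_centralizer ((inf_le_left.trans (le_centralizer_of_isMulCommutative hV)).trans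
        (Subgroup.centralizer_le inf_le_left))) (Subgroup.le_centralizer_iff.1 inf_le_right)
    have hD : A₀ ⊔ C₁ ∈ maxAb (R : Subgroup G) := by
      refine mem_maxAb.2 ⟨sup_le (inf_le_left.trans hAR) (inf_le_left.trans hVR), hsupc,
        fun B hB hBc => ((mem_maxAb.1 hA).2.2 B hB hBc).trans ?_⟩
      have h1 := CfsgLib.Coprime.card_sup_mul_card_inf (H := A₀) (N := C₁)
        ((Subgroup.le_centralizer_iff.1 inf_le_right).trans (Subgroup.centralizer_le_normalizer _))
      have h2 : Nat.card ↥(A₀ ⊓ C₁) ≤ Nat.card C := Subgroup.card_le_of_le fun y hy =>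
        ⟨hy.2.1, le_centralizer_of_isMulCommutative hc hy.1.1⟩
      have h3 : Nat.card C₁ = 2 * Nat.card C := by
        have h1 := Subgroup.card_mul_index (C.subgroupOf C₁)
        rw [Nat.card_congr (Subgroup.subgroupOfEquivOfLe hCC).toEquiv, hidx] at h1
        omega
      rw [h3, ← mul_assoc, mul_comm (Nat.card A₀) 2, ← hcard] at h1
      refine Nat.le_of_mul_le_mul_right ?_ (Nat.card_pos (α := C))
      calc Nat.card A * Nat.card C = _ := h1.symm
        _ ≤ _ := Nat.mul_le_mul_left _ h2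
    exact le_sup_left.trans (hkey g hg _ hD (sup_le inf_le_right fun y hy =>
      Subgroup.mem_centralizer_singleton_iff.2 (CfsgLib.PLocal.comm_of_mem hV hy.1 hwV)))
  -- the span of the conjugates
  set V₁ := Subgroup.closure (Set.range fun h : G => h * x * h⁻¹) with hV₁
  have hV₁V : V₁ ≤ V := (Subgroup.closure_le V).2 (by
    rintro _ ⟨h, rfl⟩; exact ‹V.Normal›.conj_mem x hxV h)
  have hKV₁ : ∀ k ∈ K, ∀ v ∈ V₁, k * v * k⁻¹ = v := by
    intro k hk v hv
    have : V₁ ≤ Subgroup.centralizer ({k} : Set G) := (Subgroup.closure_le _).2 (by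
      rintro _ ⟨h, rfl⟩
      have h1 := Subgroup.normalCore_le M ((Subgroup.normalCore_normal M).conj_mem k hk h⁻¹)
      rw [inv_inv, ← mem_centralizer_conj] at h1
      exact Subgroup.mem_centralizer_singleton_iff.2 (Subgroup.mem_centralizer_singleton_iff.1 h1).symm)
    rw [mul_inv_eq_iff_eq_mul]
    exact (Subgroup.mem_centralizer_singleton_iff.1 (this hv)).symm
  have hfaith : ∀ k : G, (∀ v ∈ V₁, k * v * k⁻¹ = v) → k ∈ K := fun k hk h => by
    have h1 : k ∈ Subgroup.centralizer ({h⁻¹ * x * h⁻¹⁻¹} : Set G) :=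
      Subgroup.mem_centralizer_singleton_iff.2
        (mul_inv_eq_iff_eq_mul.1 (hk _ (Subgroup.subset_closure ⟨h⁻¹, rfl⟩)))
    simpa using mem_centralizer_conj.1 h1
  have hnorm : ∀ k : G, ∀ v ∈ V₁, k * v * k⁻¹ ∈ V₁ := by
    intro k v hv
    have : V₁ ≤ V₁.comap (MulAut.conj k).toMonoidHom := (Subgroup.closure_le _).2 (by
      rintro _ ⟨h, rfl⟩
      exact Subgroup.subset_closure ⟨k * h, by simp [mul_assoc]⟩)
    exact this hv
  have hV₁C₁ : V₁ ≤ C₁ := fun v hv => ⟨hV₁V hv, fun a ha =>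
    mul_inv_eq_iff_eq_mul.1 (hKV₁ a (hA₀K ha) v hv)⟩
  obtain ⟨b, hbA, hbK⟩ := SetLike.not_le_iff_exists.1 hAK
  have hb₀ : b ∉ A₀ := fun h => hbK (hA₀K h)
  have hbw : b * w * b⁻¹ ≠ w := fun h => hb₀ ⟨hbA,
    Subgroup.mem_centralizer_singleton_iff.2 (mul_inv_eq_iff_eq_mul.1 h)⟩
  have hbC : ∀ c ∈ C, b * c * b⁻¹ = c := fun c hc' => by
    rw [mul_inv_eq_iff_eq_mul]; exact hc'.2 b hbA
  have hbb : b * b ∈ A₀ := by
    have hi : (A₀.subgroupOf A).index = 2 := by
      have h1 := Subgroup.card_mul_index (A₀.subgroupOf A)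
      rw [Nat.card_congr (Subgroup.subgroupOfEquivOfLe (inf_le_left : A₀ ≤ A)).toEquiv, hcard,
        mul_comm 2] at h1
      exact Nat.eq_of_mul_eq_mul_left Nat.card_pos h1
    exact Subgroup.mem_subgroupOf.1
      (Subgroup.mul_self_mem_of_index_two hi (⟨b, hbA⟩ : A))
  set e := b * w * b⁻¹ * w⁻¹ with hedef
  have hwV₁ : w ∈ V₁ := Subgroup.subset_closure ⟨g, rfl⟩
  have hdiv : ∀ v ∈ C₁, v ∉ C → v * w⁻¹ ∈ C := fun v hv hvC =>
    Subgroup.mem_subgroupOf.1 ((Subgroup.mul_mem_iff_of_index_two hidx (a := (⟨v, hv⟩ : C₁))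
      (b := (⟨w, hwC₁⟩ : C₁)⁻¹)).2 (by simp [Subgroup.mem_subgroupOf, hvC, hwC]))
  have heC : e ∈ C := hdiv _ (hV₁C₁ (hnorm b w hwV₁)) fun h => hbw (by
    have h' := hbC _ h
    have h'' : b * (b * w * b⁻¹) = b * w * b⁻¹ * b := mul_inv_eq_iff_eq_mul.1 h'
    calc b * w * b⁻¹ = b⁻¹ * (b * (b * w * b⁻¹)) := by group
      _ = w := by rw [h'']; group)
  have hbe : b * e * b⁻¹ = e := hbC e heC
  have heV₁ : e ∈ V₁ := V₁.mul_mem (hnorm b w hwV₁) (V₁.inv_mem hwV₁)
  have he1 : e ≠ 1 := fun h => hbw (mul_inv_eq_one.1 h)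
  have hb2w : (b * b) * w * (b * b)⁻¹ = w := hKV₁ _ (hA₀K hbb) w hwV₁
  have hee : e * e = 1 := by
    have h2 : b * w * b⁻¹ = e * w := by rw [hedef]; group
    have h3 : (b * b) * w * (b * b)⁻¹ = e * (e * w) := by
      rw [show (b * b) * w * (b * b)⁻¹ = b * (b * w * b⁻¹) * b⁻¹ by group, h2,
        show b * (e * w) * b⁻¹ = (b * e * b⁻¹) * (b * w * b⁻¹) by group, hbe, h2]
    rw [hb2w, ← mul_assoc] at h3
    exact mul_eq_right.1 h3.symm
  have hact : ∀ v ∈ V₁, ∃ a ∈ V₁, (a = 1 ∨ a = e) ∧ b * v * b⁻¹ = a * v := by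
    intro v hv
    by_cases hvC : v ∈ C
    · exact ⟨1, V₁.one_mem, Or.inl rfl, by rw [hbC v hvC, one_mul]⟩
    · refine ⟨e, heV₁, Or.inr rfl, ?_⟩
      have h1 := hbC _ (hdiv v (hV₁C₁ hv) hvC)
      have h2 : b * v * b⁻¹ = (v * w⁻¹) * (b * w * b⁻¹) := by
        conv_rhs => rw [← h1]
        group
      rw [h2, show b * w * b⁻¹ = e * w by rw [hedef]; group,
        ← mul_assoc, CfsgLib.PLocal.comm_of_mem hV
          (V.mul_mem (hV₁V hv) (V.inv_mem hwV)) (hV₁V heV₁)]
      group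
  -- an element of odd order inverted by `b`
  have hKM : K ≤ M := Subgroup.normalCore_le M
  have hbbK : (QuotientGroup.mk' K b) ^ 2 = 1 := by
    rw [pow_two, ← map_mul]; exact (QuotientGroup.eq_one_iff _).2 (hA₀K hbb)
  obtain ⟨k', r, hr, hr2, hkr, hinv⟩ := CfsgLib.FgsB.exists_odd_prime_inverted_by hbbK
    fun N hN hNp hbN => hbK (by
      have hle : N.comap (QuotientGroup.mk' K) ≤ M := by
        intro n hn
        obtain ⟨s, hs, hse⟩ := (le_pCore hN hNp).trans
          (pCore_le_sylow (R.mapSurjective (QuotientGroup.mk'_surjective K))) hn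
        have h1 := hKM (QuotientGroup.eq.1 hse)
        simpa using M.mul_mem (hRM hs) h1
      exact Subgroup.normal_le_normalCore.2 hle (show b ∈ N.comap (QuotientGroup.mk' K) from hbN))
  obtain ⟨k, rfl⟩ := QuotientGroup.mk'_surjective K k'
  have hinv' : b * k * b⁻¹ * k ∈ K := by
    rw [← QuotientGroup.eq_one_iff]
    have : QuotientGroup.mk' K (b * k * b⁻¹ * k) = 1 := by
      rw [map_mul, map_mul, map_mul, map_inv, hinv, inv_mul_cancel]
    exact this
  have hkn : ∀ n : ℕ, k ^ n ∈ K → r ∣ n := fun n hn => hkr ▸ orderOf_dvd_of_pow_eq_one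
    (by rw [← map_pow]; exact (QuotientGroup.eq_one_iff _).2 hn)
  have hkrK : k ^ r ∈ K := (QuotientGroup.eq_one_iff _).1 (by
    have := pow_orderOf_eq_one (QuotientGroup.mk' K k)
    rw [hkr, ← map_pow] at this; exact this)
  have hrel : ∀ v ∈ V₁, b * (k * (b⁻¹ * v * b) * k⁻¹) * b⁻¹ = k⁻¹ * v * k := by
    intro v hv
    calc b * (k * (b⁻¹ * v * b) * k⁻¹) * b⁻¹
        = (b * k * b⁻¹ * k) * (k⁻¹ * v * k⁻¹⁻¹) * (b * k * b⁻¹ * k)⁻¹ := by group
      _ = k⁻¹ * v * k⁻¹⁻¹ := hKV₁ _ hinv' _ (hnorm k⁻¹ v hv)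
      _ = k⁻¹ * v * k := by rw [inv_inv]
  have hk4 : ¬ r ∣ 4 := fun h => hr2 ((Nat.prime_dvd_prime_iff_eq hr Nat.prime_two).1
    (hr.dvd_of_dvd_pow (show r ∣ 2 ^ 2 from h)))
  set f := k * e * k⁻¹ with hfdef
  have hfV₁ : f ∈ V₁ := hnorm k e heV₁
  have hne : e ≠ f := by
    intro hef
    refine hk4 (hkn 4 (hfaith _ fun v hv => ?_))
    have hka : ∀ a, (a = 1 ∨ a = e) → k * a * k⁻¹ = a ∧ b * a * b⁻¹ = a ∧ a * a = 1 := by
      rintro a (rfl | rfl)
      · simp
      · exact ⟨hef.symm, hbe, hee⟩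
    have hsq : ∀ v ∈ V₁, ∃ c, k * c * k⁻¹ = c ∧ c * c = 1 ∧ (k ^ 2) * v * (k ^ 2)⁻¹ = c * v := by
      intro v hv
      obtain ⟨a, haV, ha, hbv⟩ := hact v hv
      obtain ⟨a', haV', ha', hbkv⟩ := hact _ (hnorm k v hv)
      obtain ⟨h1, h2, h3⟩ := hka a ha
      obtain ⟨h1', h2', h3'⟩ := hka a' ha'
      have hbiv : b⁻¹ * v * b = a * v := by
        have : b * (a * v) * b⁻¹ = v := by
          rw [show b * (a * v) * b⁻¹ = (b * a * b⁻¹) * (b * v * b⁻¹) by group, h2, hbv,
            ← mul_assoc, h3, one_mul]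
        calc b⁻¹ * v * b = b⁻¹ * (b * (a * v) * b⁻¹) * b := by rw [this]
          _ = a * v := by group
      have h4 := hrel v hv
      rw [hbiv, show b * (k * (a * v) * k⁻¹) * b⁻¹ =
          (b * (k * a * k⁻¹) * b⁻¹) * (b * (k * v * k⁻¹) * b⁻¹) by group, h1, h2, hbkv] at h4
      refine ⟨a * a', ?_, ?_, ?_⟩
      · rw [show k * (a * a') * k⁻¹ = (k * a * k⁻¹) * (k * a' * k⁻¹) by group, h1, h1']
      · rw [mul_assoc, ← mul_assoc a', CfsgLib.PLocal.comm_of_mem hV (hV₁V haV') (hV₁V haV),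
          mul_assoc, h3', mul_one, h3]
      · have h5 : v = (a * a') * (k ^ 2 * v * (k ^ 2)⁻¹) := by
          calc v = k * (k⁻¹ * v * k) * k⁻¹ := by group
            _ = (k * a * k⁻¹) * ((k * a' * k⁻¹) * (k ^ 2 * v * (k ^ 2)⁻¹)) := by rw [← h4]; group
            _ = _ := by simp only [h1, h1', mul_assoc]
        conv_rhs => rw [h5]
        rw [← mul_assoc, show a * a' * (a * a') = 1 by
          rw [mul_assoc, ← mul_assoc a', CfsgLib.PLocal.comm_of_mem hV (hV₁V haV') (hV₁V haV),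
            mul_assoc, h3', mul_one, h3], one_mul]
    obtain ⟨c, hc1, hc2, hc3⟩ := hsq v hv
    calc k ^ 4 * v * (k ^ 4)⁻¹ = k ^ 2 * (k ^ 2 * v * (k ^ 2)⁻¹) * (k ^ 2)⁻¹ := by group
      _ = (k * (k * c * k⁻¹) * k⁻¹) * (k ^ 2 * v * (k ^ 2)⁻¹) := by
          conv_lhs => rw [hc3]
          simp only [pow_two]; group
      _ = v := by rw [hc1, hc1, hc3, ← mul_assoc, hc2, one_mul]
  have hbie : b⁻¹ * e * b = e := by
    conv_lhs => rw [← hbe]
    group
  have h7 := hrel e heV₁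
  rw [hbie, ← hfdef] at h7
  obtain ⟨a, -, ha, hbf⟩ := hact f hfV₁
  have hae : a = e := by
    refine ha.resolve_left fun h => hne ?_
    rw [h, one_mul, h7] at hbf
    obtain ⟨j, hj⟩ := hr.odd_of_ne_two hr2
    have h2 : k ^ 2 * e * (k ^ 2)⁻¹ = e := by
      have := congrArg (fun t => k * t * k⁻¹) hbf
      simp only [hfdef] at this
      calc k ^ 2 * e * (k ^ 2)⁻¹ = k * (k * e * k⁻¹) * k⁻¹ := by simp only [pow_two]; group
        _ = k * (k⁻¹ * e * k) * k⁻¹ := this.symm
        _ = e := by group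
    have h3 : ∀ i : ℕ, (k ^ 2) ^ i * e * ((k ^ 2) ^ i)⁻¹ = e := by
      intro i
      induction i with
      | zero => simp
      | succ i ih =>
        rw [pow_succ, show (k ^ 2) ^ i * k ^ 2 * e * ((k ^ 2) ^ i * k ^ 2)⁻¹ =
          (k ^ 2) ^ i * (k ^ 2 * e * (k ^ 2)⁻¹) * ((k ^ 2) ^ i)⁻¹ by group, h2, ih]
    have h4 : k ^ r * e * (k ^ r)⁻¹ = e := hKV₁ _ hkrK e heV₁
    rw [hj, pow_succ', pow_mul, show k * (k ^ 2) ^ j * e * (k * (k ^ 2) ^ j)⁻¹ =
      k * ((k ^ 2) ^ j * e * ((k ^ 2) ^ j)⁻¹) * k⁻¹ by group, h3] at h4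
    exact h4.symm
  rw [hae] at hbf
  rw [hbf] at h7
  have hff : f * f = 1 := by
    rw [hfdef, show k * e * k⁻¹ * (k * e * k⁻¹) = k * (e * e) * k⁻¹ by group, hee]; group
  have hfe : f * e = e * f := CfsgLib.PLocal.comm_of_mem hV (hV₁V hfV₁) (hV₁V heV₁)
  have hkf : k * f * k⁻¹ = e * f := by
    have h8 : k * (e * f) * k⁻¹ = e := by rw [h7]; group
    rw [show k * (e * f) * k⁻¹ = (k * e * k⁻¹) * (k * f * k⁻¹) by group, ← hfdef] at h8
    calc k * f * k⁻¹ = f * (f * (k * f * k⁻¹)) := by rw [← mul_assoc f f, hff, one_mul]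
      _ = e * f := by rw [h8, hfe]
  exact involves_perm_four hee hff hfe he1
    (fun h => he1 (by simpa [hfdef] using h)) hne rfl hkf hbe hbf

/-- The inductive statement. -/
theorem wc_aux (n : ℕ) : ∀ (G : Type u) [Group G] [Finite G], Nat.card G = n →
    ∀ (R : Sylow p G) (V : Subgroup G), V.Normal → IsMulCommutative V → V ≤ (R : Subgroup G) →
      ∀ x ∈ V, (R : Subgroup G) ≤ Subgroup.centralizer {x} →
      Subgroup.normalizer (jAb (R : Subgroup G) : Set G) ≤ Subgroup.centralizer {x} →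
      (p ≠ 2 ∨ ¬ Involves (Perm (Fin 4)) G ∨
        ∃ z ∈ V, (R : Subgroup G) ≤ Subgroup.centralizer {z} ∧ z ^ p = x) →
      Subgroup.centralizer ({x} : Set G) = ⊤ := by
  induction n using Nat.strong_induction_on with
  | _ n IH =>
  intro G _ _ hn R V hVn hVc hVR x hxV hRx hJx hcond
  classical
  have hp : p.Prime := Fact.out
  induction ho : orderOf x using Nat.strong_induction_on generalizing x with
  | _ o ihx =>
  by_contra hM
  have hx1 : x ≠ 1 := fun h => hM (eq_top_iff.2 fun g _ => by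
    rw [h, Subgroup.mem_centralizer_singleton_iff, mul_one, one_mul])
  -- the `p`-th power is central
  have hxp : ∀ g : G, MulAut.conjNormal g ((⟨x, hxV⟩ : V) ^ p) = (⟨x, hxV⟩ : V) ^ p := by
    have hpow : ∀ g : G, g ∈ Subgroup.centralizer ({x} : Set G) →
        g ∈ Subgroup.centralizer ({x ^ p} : Set G) := fun g h =>
      Subgroup.mem_centralizer_singleton_iff.2
        (Commute.pow_right (Subgroup.mem_centralizer_singleton_iff.1 h : Commute g x) p)
    have hlt : orderOf (x ^ p) < o := by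
      obtain ⟨k, hk⟩ := R.2 ⟨x, hVR hxV⟩
      obtain ⟨j, -, hj⟩ := (Nat.dvd_prime_pow hp).1
        (orderOf_dvd_of_pow_eq_one (congrArg Subtype.val hk : x ^ p ^ k = 1))
      rcases j with _ | j
      · rw [pow_zero, orderOf_eq_one_iff] at hj; exact absurd hj hx1
      rw [← ho, orderOf_pow_of_dvd hp.ne_zero (hj ▸ dvd_pow_self p (by omega))]
      exact Nat.div_lt_self (hj ▸ pow_pos hp.pos _) hp.one_lt
    have key := ihx _ hlt (x ^ p) (V.pow_mem hxV p) (fun g h => hpow g (hRx h))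
      (fun g h => hpow g (hJx h)) (by
        rcases hcond with h | h | ⟨z, hz, hzR, hzp⟩
        · exact Or.inl h
        · exact Or.inr (Or.inl h)
        · exact Or.inr (Or.inr ⟨x, hxV, hRx, rfl⟩)) rfl
    intro g
    refine conjNormal_eq_self_iff.2 ?_
    simp only [SubmonoidClass.coe_pow]
    exact key ▸ Subgroup.mem_top g
  set M := Subgroup.centralizer ({x} : Set G) with hMdef
  have htop : ∀ {L : Subgroup G}, L ≠ ⊤ → Nat.card L < n := fun hL =>
    hn ▸ lt_of_le_of_ne (Subgroup.card_le_card_group _) (fun e => hL (Subgroup.eq_top_of_card_eq _ e))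
  have hsylR : ∀ L : Subgroup G, (R : Subgroup G) ≤ L →
      CfsgLib.Fusion.IsSylIn p (R : Subgroup G) L := fun L hL =>
    ⟨hL, R.2, fun C hC hle _ => R.3 hC hle⟩
  have hsub : ∀ L : Subgroup G, (R : Subgroup G) ≤ L → L ≠ ⊤ → L ≤ M := fun L hL hLt =>
    wc_sub (IH _ (htop hLt) L rfl) (hsylR L hL) hVc hVR
      (by rw [Subgroup.normalizer_eq_top_iff.2 hVn]; exact le_top) hxV hRx
      (inf_le_right.trans hJx) hcond
  have hrec : ∀ H : Subgroup G, H ≤ (R : Subgroup G) → Subgroup.normalizer (H : Set G) ≠ ⊤ →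
      CfsgLib.Fusion.IsSylIn p ((R : Subgroup G) ⊓ Subgroup.normalizer (H : Set G))
        (Subgroup.normalizer (H : Set G)) →
      Subgroup.normalizer (H : Set G) ⊓ Subgroup.normalizer
        (jAb ((R : Subgroup G) ⊓ Subgroup.normalizer (H : Set G)) : Set G) ≤ M →
      Subgroup.normalizer (H : Set G) ≤ M := by
    intro H hHR hNt hsyl hj
    set N := Subgroup.normalizer (H : Set G)
    have hfix : ∀ y : G, (R : Subgroup G) ≤ Subgroup.centralizer ({y} : Set G) → y ∈ N := fun y hy =>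
      Subgroup.centralizer_le_normalizer (H : Set G) fun h hh =>
        Subgroup.mem_centralizer_singleton_iff.1 (hy (hHR hh))
    refine wc_sub (W := V ⊓ N) (IH _ (htop hNt) N rfl) hsyl
      (isMulCommutative_of_le_centralizer ((inf_le_left.trans
        (le_centralizer_of_isMulCommutative hVc)).trans (Subgroup.centralizer_le inf_le_left)))
      (inf_le_inf_right _ hVR) (fun m hm => mem_normalizer_of_conj_mem fun y hy =>
        ⟨hVn.conj_mem y hy.1 m, N.mul_mem (N.mul_mem hm hy.2) (N.inv_mem hm)⟩)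
      ⟨hxV, hfix x hRx⟩ (inf_le_left.trans hRx) hj ?_
    rcases hcond with h | h | ⟨z, hz, hzR, hzp⟩
    · exact Or.inl h
    · exact Or.inr (Or.inl h)
    · exact Or.inr (Or.inr ⟨z, ⟨hz, hfix z hzR⟩, inf_le_left.trans hzR, hzp⟩)
  have hH := forall_normalizer_le R hM hRx hJx hsub hrec
  obtain ⟨A, hA, hAK⟩ := exists_maxAb_not_le_normalCore R hM hJx
  have hAR := (mem_maxAb.1 hA).1
  have hkey : ∀ g : G, g ∉ M → ∀ D ∈ maxAb (R : Subgroup G),
      D ≤ Subgroup.centralizer ({g * x * g⁻¹} : Set G) → D ≤ M.normalCore := fun g hg D hD hDg =>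
    le_normalCore_of_le_conj R hRx hJx hH hg hD fun d hd =>
      ⟨g⁻¹ * d * g, mem_centralizer_conj.1 (hDg hd), by simp [mul_assoc]⟩
  -- the product over the other conjugates
  have hmoved : ∀ y : V, Subgroup.centralizer ({(y : G)} : Set G) = M →
      ∀ w ∈ (orb V ⊤ y).erase y, ∃ g : G, g ∉ M ∧ MulAut.conjNormal g y = w ∧
        ¬ A ≤ Subgroup.centralizer ({(w : G)} : Set G) := by
    intro y hy w hw
    obtain ⟨hwy, hw⟩ := Finset.mem_erase.1 hw
    obtain ⟨g, -, rfl⟩ := mem_orb.1 hw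
    have hg : g ∉ M := fun h => hwy (conjNormal_eq_self_iff.2 (hy.symm ▸ h))
    refine ⟨g, hg, rfl, fun h => hAK (le_normalCore_of_le_conj R hRx hJx hH hg hA fun d hd => ?_)⟩
    have h1 := h hd
    rw [MulAut.conjNormal_apply, mem_centralizer_conj, hy] at h1
    exact ⟨g⁻¹ * d * g, h1, by simp [mul_assoc]⟩
  have hinv : ∀ y : V, Subgroup.centralizer ({(y : G)} : Set G) = M →
      ∀ a ∈ A, ∀ w ∈ (orb V ⊤ y).erase y, MulAut.conjNormal a w ∈ (orb V ⊤ y).erase y := by
    intro y hy a ha w hw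
    obtain ⟨hwy, hw⟩ := Finset.mem_erase.1 hw
    refine Finset.mem_erase.2 ⟨fun h => hwy ((MulAut.conjNormal a).injective ?_),
      conjNormal_mem_orb (Subgroup.mem_top a) hw⟩
    rw [h, conjNormal_eq_self_iff.2 (hy.symm ▸ hRx (hAR ha))]
  set xV : V := ⟨x, hxV⟩ with hxVdef
  have hxM : Subgroup.centralizer ({(xV : G)} : Set G) = M := rfl
  have hwp : ∀ (g : G), (MulAut.conjNormal g xV) ^ p = xV ^ p := fun g => by
    rw [← map_pow]; exact hxp g
  have hfinish : ∀ d : V, (∀ g : G, MulAut.conjNormal g d = d) →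
      (∀ g : G, MulAut.conjNormal g (xV * d) = xV * d) → False := by
    intro d hd hxd
    refine hM (eq_top_iff.2 fun g _ => (conjNormal_eq_self_iff (w := xV)).1 ?_)
    have := hxd g
    rw [map_mul, hd g] at this
    exact mul_right_cancel this
  have hcentpow : ∀ d ∈ Subgroup.zpowers (xV ^ p), ∀ g : G, MulAut.conjNormal g d = d := by
    rintro d ⟨i, rfl⟩ g
    simp only [map_zpow, hxp g]
  by_cases hz : p = 2 ∧ ∃ z ∈ V, (R : Subgroup G) ≤ Subgroup.centralizer {z} ∧ z ^ p = x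
  · -- a square
    obtain ⟨hp2, z, hz, hzR, hzp⟩ := hz
    set zV : V := ⟨z, hz⟩
    -- the number of conjugates of `z` under `M`
    set S := (Subgroup.centralizer ({z} : Set G)).subgroupOf M with hS
    have hcards : (orb V M zV).card = S.index := by
      have h0 : ∀ a b : M, (a : M ⧸ S) = b ↔
          MulAut.conjNormal (a : G) zV = MulAut.conjNormal (b : G) zV := fun a b => by
        rw [QuotientGroup.eq, hS, Subgroup.mem_subgroupOf, Subgroup.coe_mul, Subgroup.coe_inv,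
          ← conjNormal_eq_self_iff (w := zV), map_mul, map_inv, MulAut.mul_apply,
          MulAut.inv_apply, MulEquiv.symm_apply_eq]
        exact eq_comm
      rw [Subgroup.index_eq_card, ← Nat.card_eq_finsetCard]
      refine (Nat.card_congr (Equiv.ofBijective
        (fun q : M ⧸ S => (⟨Quotient.liftOn' q (fun a => MulAut.conjNormal (a : G) zV)
          (fun a b h => (h0 a b).1 (Quotient.sound' h)),
          Quotient.inductionOn' q fun a => mem_orb.2 ⟨a, a.2, rfl⟩⟩ : orb V M zV)) ⟨?_, ?_⟩)).symm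
      · intro q q'
        refine Quotient.inductionOn₂' q q' fun a b h => (h0 a b).2 (congrArg Subtype.val h)
      · rintro ⟨u, hu⟩
        obtain ⟨a, ha, rfl⟩ := mem_orb.1 hu
        exact ⟨((⟨a, ha⟩ : M) : M ⧸ S), rfl⟩
    have hodd : ¬ p ∣ S.index := fun h => R.not_dvd_index (dvd_trans h (dvd_trans
      (Subgroup.relIndex_dvd_of_le_left M hzR) ⟨M.index, (Subgroup.relIndex_mul_index hRx).symm⟩))
    set P := ∏ u ∈ orb V M zV, u with hPdef
    have hzV2 : ∀ m ∈ M, MulAut.conjNormal m (zV ^ p) = zV ^ p := fun m hm => by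
      refine conjNormal_eq_self_iff.2 ?_
      simp only [SubmonoidClass.coe_pow, zV, hzp]
      exact hm
    have hP2 : P ^ p = xV ^ S.index := by
      rw [hPdef, prod_orb_pow hzV2, hcards]
      congr 1
      exact Subtype.ext (by simp [zV, xV, hzp])
    obtain ⟨k, hk⟩ := R.2 ⟨x, hVR hxV⟩
    have hk' : xV ^ p ^ k = 1 := Subtype.ext (congrArg Subtype.val hk :)
    obtain ⟨m, hm⟩ := exists_pow_eq_self_of_coprime (Nat.Coprime.coprime_dvd_right
      (orderOf_dvd_of_pow_eq_one hk') (Nat.Coprime.pow_right k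
        ((hp.coprime_iff_not_dvd.2 hodd).symm)))
    set y := P ^ m with hydef
    have hy2 : y ^ p = xV := by rw [hydef, ← pow_mul, mul_comm, pow_mul, hP2, hm]
    have hyM : Subgroup.centralizer ({(y : G)} : Set G) = M := by
      refine le_antisymm (fun g hg => ?_) fun g hg => ?_
      · rw [hMdef, Subgroup.mem_centralizer_singleton_iff, show x = (y : G) ^ p from
          (congrArg Subtype.val hy2).symm]
        exact Commute.pow_right (Subgroup.mem_centralizer_singleton_iff.1 hg : Commute g (y : G)) p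
      · refine conjNormal_eq_self_iff.1 ?_
        rw [hydef, map_pow, conjNormal_prod_orb hg]
    have hsq : ∀ u : V, ∀ g : G, u = MulAut.conjNormal g y → u ^ p = MulAut.conjNormal g xV :=
      fun u g h => by rw [h, ← map_pow, hy2]
    set D := (Subgroup.zpowers (xV ^ p)).comap (powMonoidHom p : V →* V) with hD
    have hmem : ∏ u ∈ (orb V ⊤ y).erase y, u ∈ D := by
      refine prod_mem_of_orbits _ (hinv y hyM) fun w hw => ?_
      obtain ⟨g, -, hgw, hnot⟩ := hmoved y hyM w hw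
      have h4 : w ^ 4 = xV ^ p := by
        have : (4 : ℕ) = p * p := by rw [hp2]
        rw [this, pow_mul, hsq w g hgw.symm, hwp]
      have := orbit_prod_sq hA R.2 hp2 hVR hnot (fun g => by rw [h4]; exact hxp g)
      rw [h4] at this
      change (∏ u ∈ orb V A w, u) ^ p ∈ Subgroup.zpowers (xV ^ p)
      rwa [hp2] at this ⊢
    refine hfinish ((∏ u ∈ (orb V ⊤ y).erase y, u) ^ p) (hcentpow _ hmem) fun g => ?_
    rw [← hy2, ← mul_pow, Finset.mul_prod_erase _ (fun u => u) (mem_orb_self y), map_pow,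
      conjNormal_prod_orb (Subgroup.mem_top g)]
  · have hgood : ∏ u ∈ (orb V ⊤ xV).erase xV, u ∈ Subgroup.zpowers (xV ^ p) := by
      refine prod_mem_of_orbits _ (hinv xV hxM) fun w hw => ?_
      obtain ⟨g, hg, hgw, hnot⟩ := hmoved xV hxM w hw
      have hwp' : w ^ p = xV ^ p := hgw ▸ hwp g
      rcases orbit_prod hA R.2 hVR hnot (fun g => by rw [hwp']; exact hxp g) with h | ⟨hp2, hcard⟩
      · rwa [hwp'] at h
      · exfalso
        subst hp2
        rcases hcond with h | h | h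
        · exact h rfl
        · refine h (involves_of_bad_orbit R hVc hVR hxV hRx hkey hA hAK hg ?_)
          rw [show g * x * g⁻¹ = (w : G) by rw [← hgw, MulAut.conjNormal_apply]]
          exact hcard
        · exact hz ⟨rfl, h⟩
    refine hfinish _ (hcentpow _ hgood) fun g => ?_
    rw [Finset.mul_prod_erase _ (fun u => u) (mem_orb_self xV),
      conjNormal_prod_orb (Subgroup.mem_top g)]

/-- An element of an abelian normal `p`-subgroup centralised by `R` and `N(J(R))` is central when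
`p` is odd, or `G` is `S₄`-free, or it is the `p`-th power of an element centralised by `R`. -/
theorem wc_central (R : Sylow p G) {V : Subgroup G} [V.Normal] (hV : IsMulCommutative V)
    (hVR : V ≤ (R : Subgroup G)) {x : G} (hxV : x ∈ V)
    (hRx : (R : Subgroup G) ≤ Subgroup.centralizer {x})
    (hJx : Subgroup.normalizer (jAb (R : Subgroup G) : Set G) ≤ Subgroup.centralizer {x})
    (hc : p ≠ 2 ∨ ¬ Involves (Perm (Fin 4)) G ∨
        ∃ z ∈ V, (R : Subgroup G) ≤ Subgroup.centralizer {z} ∧ z ^ p = x) :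
    Subgroup.centralizer ({x} : Set G) = ⊤ :=
  wc_aux (Nat.card G) G rfl R V inferInstance hV hVR x hxV hRx hJx hc

end CfsgLib.LocalEven
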