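import Mathlib
import Cfsg.Agent.Lib.LocalEven.CharP
import Cfsg.Agent.Lib.Components.Balance
import Cfsg.Agent.Lib.PGroups.Basic
import Cfsg.Agent.Lib.Base.Transport

/-!
# The L-lemma
-/

set_option linter.style.haveILetI false
set_option linter.unusedSectionVars false
set_option autoImplicit false

namespace CfsgLib.LocalEven.LLem

open Cfsg Subgroup
open scoped Pointwise

variable {H : Type*} [Group H] [Finite H] {p : ℕ} [Fact p.Prime]

/-- The conjugate `gXg⁻¹`. -/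
abbrev cj (g : H) (X : Subgroup H) : Subgroup H := X.map (MulAut.conj g).toMonoidHom

theorem cj_mul (a b : H) (X : Subgroup H) : cj (a * b) X = cj a (cj b X) :=
  CfsgLib.Components.map_conj_mul a b X

theorem cj_one (X : Subgroup H) : cj (1 : H) X = X := CfsgLib.Components.map_conj_one X

theorem cj_le_iff {g : H} {X Y : Subgroup H} : cj g X ≤ Y ↔ X ≤ cj g⁻¹ Y := by
  constructor <;> intro h
  · have := Subgroup.map_mono (f := (MulAut.conj g⁻¹).toMonoidHom) h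
    change cj g⁻¹ (cj g X) ≤ cj g⁻¹ Y at this
    rwa [← cj_mul, inv_mul_cancel, cj_one] at this
  · have := Subgroup.map_mono (f := (MulAut.conj g).toMonoidHom) h
    change cj g X ≤ cj g (cj g⁻¹ Y) at this
    rwa [← cj_mul, mul_inv_cancel, cj_one] at this

theorem cj_eq_self {g : H} {X : Subgroup H} (h : g ∈ normalizer (X : Set H)) : cj g X = X :=
  CfsgLib.Base.map_conj_eq_self_iff.2 h

theorem cj_eq_self_of_mem {g : H} {X : Subgroup H} (h : g ∈ X) : cj g X = X :=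
  cj_eq_self (le_normalizer h)

theorem card_cj (g : H) (X : Subgroup H) : Nat.card ↥(cj g X) = Nat.card X :=
  Subgroup.card_map_of_injective (MulAut.conj g).injective

theorem isPGroup_cj {X : Subgroup H} (h : IsPGroup p X) (g : H) : IsPGroup p ↥(cj g X) := h.map _

theorem exists_cj_le {X S : Subgroup H} (hSX : S ≤ X) (hS : IsPGroup p S)
    (hmax : ∀ Q ≤ X, S ≤ Q → IsPGroup p Q → Q = S) {Q : Subgroup H} (hQX : Q ≤ X)
    (hQ : IsPGroup p Q) : ∃ l ∈ X, Q ≤ cj l S := by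
  obtain ⟨P, hP⟩ := (hS.comap_of_injective X.subtype X.subtype_injective).exists_le_sylow
  obtain ⟨R, hR⟩ := (hQ.comap_of_injective X.subtype X.subtype_injective).exists_le_sylow
  have hPS : (P : Subgroup ↥X).map X.subtype = S := hmax _ (Subgroup.map_subtype_le _)
    (fun x hx => ⟨⟨x, hSX hx⟩, hP hx, rfl⟩) (P.2.map _)
  obtain ⟨l, hl⟩ := MulAction.exists_smul_eq ↥X P R
  refine ⟨l, l.2, fun x hx => ?_⟩
  have hxR : (⟨x, hQX hx⟩ : ↥X) ∈ (R : Subgroup ↥X) := hR hx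
  rw [← hl, Sylow.coe_subgroup_smul] at hxR
  obtain ⟨y, hy, hyx⟩ := hxR
  refine ⟨(y : H), hPS.le ⟨y, hy, rfl⟩, ?_⟩
  exact congrArg Subtype.val hyx

theorem exists_gt_normalizing {R Q : Subgroup H} (hRQ : R < Q) (hQ : IsPGroup p Q) :
    ∃ U : Subgroup H, R < U ∧ U ≤ Q ∧ U ≤ normalizer (R : Set H) := by
  haveI := hQ.isNilpotent
  have hlt : R.subgroupOf Q < ⊤ := lt_top_iff_ne_top.2 fun h => hRQ.not_ge (subgroupOf_eq_top.1 h)
  obtain ⟨u, hu, hu'⟩ := SetLike.exists_of_lt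
    (Group.normalizerCondition_of_isNilpotent (R.subgroupOf Q) hlt)
  have hun : (u : H) ∈ normalizer (R : Set H) := by
    refine Subgroup.mem_normalizer_iff.2 fun x => ⟨fun hx => ?_, fun hx => ?_⟩
    · exact (Subgroup.mem_normalizer_iff.1 hu ⟨x, hRQ.le hx⟩).1 hx
    · have hxQ : x ∈ Q := by
        have := Q.mul_mem (Q.mul_mem (Q.inv_mem u.2) (hRQ.le hx)) u.2
        simpa [mul_assoc] using this
      exact (Subgroup.mem_normalizer_iff.1 hu ⟨x, hxQ⟩).2 hx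
  refine ⟨R ⊔ Subgroup.zpowers (u : H), lt_of_le_of_ne le_sup_left fun h => hu' ?_,
    sup_le hRQ.le (Subgroup.zpowers_le.2 u.2), sup_le le_normalizer (Subgroup.zpowers_le.2 hun)⟩
  exact h.ge (Subgroup.mem_sup_right (Subgroup.mem_zpowers _))

/-- The subgroups over which the minimal choice is made. -/
def IsMem (p : ℕ) (A M X : Subgroup H) : Prop :=
  ∃ (g : H) (S : Subgroup H), A ⊔ Cfsg.pCore p H ≤ S ∧ S ≤ X ∧ IsPGroup p S ∧
    (∀ Q ≤ X, S ≤ Q → IsPGroup p Q → Q = S) ∧ S ≤ cj g M ∧ ¬ X ≤ cj g M ∧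
    (∀ Y, S ≤ Y → Y < X → Y ≤ cj g M) ∧ ¬ A ≤ Cfsg.pCoreOf p X

variable {A M : Subgroup H}

theorem exists_minimal_mem (T : Sylow p H) (hM : IsCoatom M) (hTM : (T : Subgroup H) ≤ M)
    (huniq : ∀ M' : Subgroup H, IsCoatom M' → (T : Subgroup H) ≤ M' → M' = M)
    (hAT : A ≤ (T : Subgroup H)) (hA : ¬ A ≤ Cfsg.pCore p H) :
    ∃ L, IsMem p A M L ∧ ∀ X, X < L → ¬ IsMem p A M X := by
  have hne : {X | IsMem p A M X}.Nonempty := by
    refine ⟨⊤, 1, T, sup_le hAT ?_, le_top, T.2, fun Q _ hTQ hQ => T.3 hQ hTQ, ?_, ?_, ?_, ?_⟩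
    · obtain ⟨R, hR⟩ := (CfsgLib.LocalEven.isPGroup_pCore (p := p) (G := H)).exists_le_sylow
      obtain ⟨g, hg⟩ := MulAction.exists_smul_eq H R T
      intro x hx
      have hx' : g⁻¹ * x * g ∈ (R : Subgroup H) := hR (by
        simpa using (inferInstance : (Cfsg.pCore p H).Normal).conj_mem x hx g⁻¹)
      rw [← hg, Sylow.coe_subgroup_smul]
      exact ⟨_, hx', by simp [mul_assoc]⟩
    · rw [cj_one]; exact hTM
    · rw [cj_one]; exact fun h => hM.1 (top_le_iff.1 h)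
    · intro Y hY hlt
      obtain ⟨Z, hZ, hYZ⟩ := (eq_top_or_exists_le_coatom Y).resolve_left hlt.ne
      rw [cj_one, ← huniq Z hZ (hY.trans hYZ)]
      exact hYZ
    · refine fun h => hA (h.trans ?_)
      refine CfsgLib.LocalEven.le_pCore (Subgroup.normalizer_eq_top_iff.1 (top_le_iff.1
        (CfsgLib.LocalEven.le_normalizer_pCoreOf p ⊤))) (CfsgLib.LocalEven.isPGroup_pCoreOf ⊤)
  obtain ⟨L, hL, hmin⟩ := (Set.toFinite {X | IsMem p A M X}).exists_minimal hne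
  exact ⟨L, hL, fun X hX hXm => hX.not_ge (hmin hXm hX.le)⟩

theorem unique_maximal {L : Subgroup H} (hmin : ∀ X, X < L → ¬ IsMem p A M X) {g : H}
    {S : Subgroup H} (hBS : A ⊔ Cfsg.pCore p H ≤ S) (hSL : S ≤ L) (hS : IsPGroup p S)
    (hmax : ∀ Q ≤ L, S ≤ Q → IsPGroup p Q → Q = S) (hSM : S ≤ cj g M) (hLM : ¬ L ≤ cj g M)
    (huniq : ∀ Y, S ≤ Y → Y < L → Y ≤ cj g M) (hAL : ¬ A ≤ Cfsg.pCoreOf p L) :
    ∀ Y, A ⊔ Cfsg.pCore p H ≤ Y → Y < L → Y ≤ cj g M := by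
  classical
  set B := A ⊔ Cfsg.pCore p H with hB
  -- the conjugates of the unique maximal subgroup
  have huc : ∀ l ∈ L, ∀ Y, cj l S ≤ Y → Y < L → Y ≤ cj (l * g) M := by
    intro l hl Y hY hlt
    rw [cj_mul]
    have h1 : S ≤ cj l⁻¹ Y := cj_le_iff.1 hY
    have h2 : cj l⁻¹ Y < L := by
      refine lt_of_le_of_ne ?_ fun h => hlt.ne ?_
      · rw [← cj_eq_self_of_mem (L.inv_mem hl)]; exact Subgroup.map_mono hlt.le
      · have := congrArg (cj l) h
        rwa [← cj_mul, mul_inv_cancel, cj_one, cj_eq_self_of_mem hl] at this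
    have := huniq _ h1 h2
    rwa [cj_le_iff, inv_inv] at this
  by_contra hcon
  push_neg at hcon
  obtain ⟨Y₀, hBY₀, hY₀L, hY₀M⟩ := hcon
  let Bad : Set (Subgroup H) := {R | B ≤ R ∧ IsPGroup p ↥R ∧ ∃ Y, R ≤ Y ∧ Y < L ∧
    ∃ l ∈ L, R ≤ cj l S ∧ ¬ Y ≤ cj (l * g) M}
  have hBadne : Bad.Nonempty :=
    ⟨B, le_rfl, hS.to_le hBS, Y₀, hBY₀, hY₀L, 1, L.one_mem, by rw [cj_one]; exact hBS,
      by rwa [one_mul]⟩
  obtain ⟨R, hRbad, hRmax⟩ := Set.exists_max_image Bad (fun R => Nat.card R) (Set.toFinite _) hBadne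
  obtain ⟨hBR, hR, Y, hRY, hYL, l, hl, hRl, hYl⟩ := hRbad
  have good : ∀ R' : Subgroup H, R < R' → IsPGroup p R' → ∀ Z, R' ≤ Z → Z < L → ∀ m ∈ L,
      R' ≤ cj m S → Z ≤ cj (m * g) M := by
    intro R' hlt hR' Z hZ hZL m hm hRm
    by_contra hc
    have hle := hRmax R' ⟨hBR.trans hlt.le, hR', Z, hZ, hZL, m, hm, hRm, hc⟩
    exact hlt.ne (Subgroup.eq_of_le_of_card_ge hlt.le hle)
  have hlS : cj l S ≤ L := by
    rw [← cj_eq_self_of_mem hl]; exact Subgroup.map_mono hSL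
  have hRne : R ≠ cj l S := fun h => hYl (huc l hl Y (h ▸ hRY) hYL)
  obtain ⟨U, hRU, hUl, hUn⟩ := exists_gt_normalizing (lt_of_le_of_ne hRl hRne) (isPGroup_cj hS l)
  have hUp : IsPGroup p U := (isPGroup_cj hS l).to_le hUl
  have hNlt : ∀ R' : Subgroup H, R' ≤ L → A ≤ R' → IsPGroup p R' →
      L ⊓ normalizer (R' : Set H) < L := by
    intro R' hR'L hAR' hR'
    refine lt_of_le_of_ne inf_le_left fun h => hAL (hAR'.trans ?_)
    exact CfsgLib.LocalEven.le_pCoreOf hR'L (inf_eq_left.1 h) hR'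
  have hRL : R ≤ L := hRY.trans hYL.le
  have hAR : A ≤ R := le_sup_left.trans hBR
  set N := L ⊓ normalizer (R : Set H) with hN
  have hUN : U ≤ N := le_inf (hUl.trans hlS) hUn
  -- `R` is a Sylow subgroup of `Y`
  have hRsyl : ∀ Q ≤ Y, R ≤ Q → IsPGroup p Q → Q = R := by
    intro Q hQY hRQ hQ
    by_contra hne
    obtain ⟨V, hRV, hVQ, hVn⟩ := exists_gt_normalizing (lt_of_le_of_ne hRQ (Ne.symm hne)) hQ
    have hVY : V ≤ Y := hVQ.trans hQY
    obtain ⟨m, hm, hVm⟩ := exists_cj_le hSL hS hmax (hVY.trans hYL.le) (hQ.to_le hVQ)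
    have h1 : Y ≤ cj (m * g) M := good V hRV (hQ.to_le hVQ) Y hVY hYL m hm hVm
    have h2 : N ≤ cj (m * g) M :=
      good V hRV (hQ.to_le hVQ) N (le_inf (hVY.trans hYL.le) hVn) (hNlt R hRL hAR hR) m hm hVm
    have hlt : L ⊓ cj (m * g) M < L := lt_of_le_of_ne inf_le_left fun h => by
      refine hLM ?_
      have h3 := inf_eq_left.1 h
      rw [← cj_eq_self_of_mem hm, cj_mul] at h3
      have := cj_le_iff.1 h3
      rwa [← cj_mul, inv_mul_cancel, cj_one] at this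
    have h4 : L ⊓ cj (m * g) M ≤ cj (l * g) M :=
      good U hRU hUp _ (le_inf (hUl.trans hlS) (hUN.trans h2)) hlt l hl hUl
    exact hYl ((le_inf hYL.le h1).trans h4)
  -- a minimal subgroup over `R` outside the maximal subgroup
  obtain ⟨X, ⟨hRX, hXY, hXl⟩, hXmin⟩ := (Set.toFinite {X : Subgroup H | R ≤ X ∧ X ≤ Y ∧
    ¬ X ≤ cj (l * g) M}).exists_minimal ⟨Y, hRY, le_rfl, hYl⟩
  have hXL : X < L := hXY.trans_lt hYL
  have hXu : ∀ Z, R ≤ Z → Z < X → Z ≤ cj (l * g) M := fun Z hZ hlt => by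
    by_contra hc
    exact hlt.not_ge (hXmin ⟨hZ, hlt.le.trans hXY, hc⟩ hlt.le)
  set W := ⨆ (h : H) (_ : h ∈ L) (_ : cj h B ≤ R), cj h B with hW
  have hWR : W ≤ R := iSup_le fun h => iSup_le fun _ => iSup_le fun hh => hh
  have hBW : B ≤ W :=
    le_iSup_of_le 1 (le_iSup_of_le L.one_mem (le_iSup_of_le (by rwa [cj_one]) (cj_one B).ge))
  have hWle : ∀ h ∈ L, cj h B ≤ R → cj h B ≤ Cfsg.pCoreOf p X := by
    intro h hh hhR
    by_contra hc
    refine hmin (cj h⁻¹ X) (lt_of_le_of_ne ?_ fun he => ?_) ?_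
    · rw [← cj_eq_self_of_mem (L.inv_mem hh)]; exact Subgroup.map_mono hXL.le
    · have := congrArg (cj h) he
      rw [← cj_mul, mul_inv_cancel, cj_one, cj_eq_self_of_mem hh] at this
      exact hXL.ne this
    have hmap : ∀ Z, cj h (cj h⁻¹ Z) = Z := fun Z => by rw [← cj_mul, mul_inv_cancel, cj_one]
    refine ⟨h⁻¹ * (l * g), cj h⁻¹ R, cj_le_iff.1 hhR, Subgroup.map_mono hRX,
      isPGroup_cj hR _, fun Q hQX hRQ hQ => ?_, ?_, ?_, fun Z hZ hlt => ?_, fun hAX => hc ?_⟩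
    · have h1 : R ≤ cj h Q := (hmap R).ge.trans (Subgroup.map_mono hRQ)
      have h2 : cj h Q ≤ X := (Subgroup.map_mono hQX).trans (hmap X).le
      have h3 := hRsyl _ (h2.trans hXY) h1 (isPGroup_cj hQ _)
      rw [← h3, ← cj_mul, inv_mul_cancel, cj_one]
    · rw [cj_mul]
      refine Subgroup.map_mono ?_
      exact (hRl.trans (Subgroup.map_mono hSM)).trans (cj_mul l g M).ge
    · rw [cj_mul h⁻¹]
      intro h1
      exact hXl ((Subgroup.map_le_map_iff_of_injective (MulAut.conj h⁻¹).injective).1 h1)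
    · rw [cj_mul h⁻¹]
      have h1 : R ≤ cj h Z := (hmap R).ge.trans (Subgroup.map_mono hZ)
      have h2 : cj h Z < X := by
        refine lt_of_le_of_ne ((Subgroup.map_mono hlt.le).trans (hmap X).le) fun he => hlt.ne ?_
        rw [← he, ← cj_mul, inv_mul_cancel, cj_one]
      exact cj_le_iff.1 (hXu _ h1 h2)
    · rw [cj_le_iff]
      have hOp : Cfsg.pCore p H ≤ Cfsg.pCoreOf p (cj h⁻¹ X) := by
        refine CfsgLib.LocalEven.le_pCoreOf ?_ (le_top.trans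
          (Subgroup.normalizer_eq_top_iff.2 inferInstance).ge)
          CfsgLib.LocalEven.isPGroup_pCore
        refine le_trans ?_ (Subgroup.map_mono hRX)
        exact le_sup_right.trans (cj_le_iff.1 hhR)
      exact (sup_le hAX hOp).trans (CfsgLib.LocalEven.map_pCoreOf p _ (MulAut.conj h⁻¹).injective X).ge
  have hWX : W ≤ Cfsg.pCoreOf p X := iSup_le fun h => iSup_le fun hh => iSup_le fun hhR => hWle h hh hhR
  -- both `X` and `U` normalise `W`
  have hstab : ∀ u ∈ L, (∀ h ∈ L, cj h B ≤ R → cj u (cj h B) ≤ R) → cj u W ≤ W := by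
    intro u hu hpres
    rw [hW]
    simp only [cj, Subgroup.map_iSup]
    refine iSup_le fun h => iSup_le fun hh => iSup_le fun hhR => ?_
    have h1 : cj (u * h) B ≤ R := by rw [cj_mul]; exact hpres h hh hhR
    exact le_iSup_of_le (u * h) (le_iSup_of_le (L.mul_mem hu hh) (le_iSup_of_le h1 (cj_mul u h B).ge))
  have hnorm : ∀ u, cj u W ≤ W → u ∈ normalizer (W : Set H) := fun u hu =>
    CfsgLib.Base.map_conj_eq_self_iff.1 (Subgroup.eq_of_le_of_card_ge hu (card_cj u W).ge)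
  have hOR : Cfsg.pCoreOf p X ≤ R := by
    obtain ⟨m, hm, hle⟩ := exists_cj_le hRX hR (fun Q hQ => hRsyl Q (hQ.trans hXY))
      (CfsgLib.LocalEven.pCoreOf_le p X) (CfsgLib.LocalEven.isPGroup_pCoreOf X)
    rw [← cj_eq_self (CfsgLib.LocalEven.le_normalizer_pCoreOf p X hm)] at hle
    exact (Subgroup.map_le_map_iff_of_injective (MulAut.conj m).injective).1 hle
  have hXW : X ≤ normalizer (W : Set H) := fun x hx => hnorm x <| hstab x (hXL.le hx)
    fun h hh hhR => (Subgroup.map_mono (hWle h hh hhR)).trans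
      ((cj_eq_self (CfsgLib.LocalEven.le_normalizer_pCoreOf p X hx)).le.trans hOR)
  have hUW : U ≤ normalizer (W : Set H) := fun x hx => hnorm x <| hstab x (hlS (hUl hx))
    fun h _ hhR => (Subgroup.map_mono hhR).trans (cj_eq_self (hUn hx)).le
  exact hXl ((le_inf hXL.le hXW).trans (good U hRU hUp _ (le_inf (hUl.trans hlS) hUW)
    (hNlt W (hWR.trans hRL) (le_sup_left.trans hBW) (hR.to_le hWR)) l hl hUl))

theorem exists_L (T : Sylow p H) (hM : IsCoatom M) (hTM : (T : Subgroup H) ≤ M)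
    (huniq₀ : ∀ M' : Subgroup H, IsCoatom M' → (T : Subgroup H) ≤ M' → M' = M)
    (hAT : A ≤ (T : Subgroup H)) (hA : ¬ A ≤ Cfsg.pCore p H) :
    ∃ L : Subgroup H, A ⊔ Cfsg.pCore p H ≤ L ∧ ∃ L₀ : Subgroup H, A ⊔ Cfsg.pCoreOf p L ≤ L₀ ∧
      L₀ < L ∧ (∀ X : Subgroup H, A ⊔ Cfsg.pCoreOf p L ≤ X → X < L → X ≤ L₀) ∧
      (∃ g : H, L₀ = L ⊓ cj g M) ∧
      ∀ x ∈ L, x ∉ L₀ → (A ⊔ cj x A) ⊔ Cfsg.pCoreOf p L = L := by
  obtain ⟨L, ⟨g, S, hBS, hSL, hS, hmax, hSM, hLM, huniq, hAL⟩, hmin⟩ :=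
    exists_minimal_mem T hM hTM huniq₀ hAT hA
  have hU := unique_maximal hmin hBS hSL hS hmax hSM hLM huniq hAL
  have hlt : L ⊓ cj g M < L := lt_of_le_of_ne inf_le_left fun h => hLM (inf_eq_left.1 h)
  have hOS : Cfsg.pCoreOf p L ≤ S := by
    obtain ⟨m, hm, hle⟩ := exists_cj_le hSL hS hmax (CfsgLib.LocalEven.pCoreOf_le p L)
      (CfsgLib.LocalEven.isPGroup_pCoreOf L)
    rw [← cj_eq_self (CfsgLib.LocalEven.le_normalizer_pCoreOf p L hm)] at hle
    exact (Subgroup.map_le_map_iff_of_injective (MulAut.conj m).injective).1 hle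
  have hOp : Cfsg.pCore p H ≤ Cfsg.pCoreOf p L :=
    CfsgLib.LocalEven.le_pCoreOf (le_sup_right.trans (hBS.trans hSL))
      (le_top.trans (Subgroup.normalizer_eq_top_iff.2 inferInstance).ge)
      CfsgLib.LocalEven.isPGroup_pCore
  have hAS : A ≤ S := le_sup_left.trans hBS
  refine ⟨L, hBS.trans hSL, L ⊓ cj g M,
    le_inf (sup_le (hAS.trans hSL) (CfsgLib.LocalEven.pCoreOf_le p L))
      ((sup_le hAS hOS).trans hSM), hlt, ?_, ⟨g, rfl⟩, ?_⟩
  · exact fun X hX hXL => le_inf hXL.le (hU X (sup_le (le_sup_left.trans hX)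
      (hOp.trans (le_sup_right.trans hX))) hXL)
  intro x hx hx0
  set L₀ := L ⊓ cj g M with hL₀
  have hB : A ⊔ Cfsg.pCore p H ≤ L₀ := le_inf (hBS.trans hSL) (hBS.trans hSM)
  -- `L₀` is not normal in `L`
  have hnn : ¬ L ≤ normalizer (L₀ : Set H) := by
    intro hn
    have hSn : L ⊓ normalizer (S : Set H) < L :=
      lt_of_le_of_ne inf_le_left fun h => hAL (hAS.trans
        (CfsgLib.LocalEven.le_pCoreOf hSL (inf_eq_left.1 h) hS))
    have hN0 : L ⊓ normalizer (S : Set H) ≤ L₀ :=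
      le_inf inf_le_left (huniq _ (le_inf hSL le_normalizer) hSn)
    refine hLM fun y hy => ?_
    have hSy : cj y S ≤ L₀ := (Subgroup.map_mono (le_inf hSL hSM)).trans (cj_eq_self (hn hy)).le
    obtain ⟨m, hm, hle⟩ := exists_cj_le (le_inf hSL hSM) hS
      (fun Q hQ => hmax Q (hQ.trans inf_le_left)) hSy (isPGroup_cj hS y)
    have heq : cj y S = cj m S :=
      Subgroup.eq_of_le_of_card_ge hle (by rw [card_cj, card_cj])
    have hmy : m⁻¹ * y ∈ L₀ := hN0 ⟨L.mul_mem (L.inv_mem hm.1) hy,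
      CfsgLib.Base.map_conj_eq_self_iff.1 (show cj (m⁻¹ * y) S = S by
        rw [cj_mul, heq, ← cj_mul, inv_mul_cancel, cj_one])⟩
    have := L₀.mul_mem hm hmy
    rw [mul_inv_cancel_left] at this
    exact this.2
  by_contra hne
  set Z := (A ⊔ cj x A) ⊔ Cfsg.pCoreOf p L with hZ
  have hxAL : cj x A ≤ L := (Subgroup.map_mono (hAS.trans hSL)).trans (cj_eq_self_of_mem hx).le
  have hZL : Z < L :=
    lt_of_le_of_ne (sup_le (sup_le (hAS.trans hSL) hxAL) (CfsgLib.LocalEven.pCoreOf_le p L)) hne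
  have hZ0 : Z ≤ L₀ := le_inf hZL.le (hU Z (sup_le (le_sup_left.trans le_sup_left)
    (hOp.trans le_sup_right)) hZL)
  have hA0 : A ≤ cj x⁻¹ L₀ := cj_le_iff.1 ((le_sup_right.trans le_sup_left).trans hZ0)
  have hB' : A ⊔ Cfsg.pCore p H ≤ cj x⁻¹ L₀ := by
    refine sup_le hA0 ?_
    rw [← cj_le_iff, cj_eq_self (show x ∈ normalizer (Cfsg.pCore p H : Set H) by
      rw [Subgroup.normalizer_eq_top_iff.2 inferInstance]; trivial)]
    exact le_sup_right.trans hB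
  have hlt' : cj x⁻¹ L₀ < L := by
    refine lt_of_le_of_ne ((Subgroup.map_mono inf_le_left).trans
      (cj_eq_self_of_mem (L.inv_mem hx)).le) fun h => hlt.ne ?_
    refine Subgroup.eq_of_le_of_card_ge inf_le_left (le_of_eq ?_)
    exact ((congrArg (fun K : Subgroup H => Nat.card K) h).symm.trans (card_cj x⁻¹ L₀))
  have heq : cj x⁻¹ L₀ = L₀ :=
    Subgroup.eq_of_le_of_card_ge (le_inf hlt'.le (hU _ hB' hlt')) (card_cj x⁻¹ L₀).ge
  have hxn : x ∈ L ⊓ normalizer (L₀ : Set H) :=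
    ⟨hx, by simpa using inv_mem (CfsgLib.Base.map_conj_eq_self_iff.1 heq)⟩
  have hNlt : L ⊓ normalizer (L₀ : Set H) < L :=
    lt_of_le_of_ne inf_le_left fun h => hnn (inf_eq_left.1 h)
  have hle : L ⊓ normalizer (L₀ : Set H) ≤ cj g M :=
    hU _ (le_inf (hBS.trans hSL) (hB.trans le_normalizer)) hNlt
  exact hx0 ⟨hx, hle hxn⟩

end CfsgLib.LocalEven.LLem
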