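import Mathlib
import Cfsg.Agent.Lib.LocalEven.PIrred
import Cfsg.Agent.Lib.LocalEven.LLemma
import Cfsg.Agent.Lib.LocalEven.SubnormalSylow
import Cfsg.Agent.Lib.Transfer.NormalPComplement

/-!
# A transitive invariant family of subgroups
-/

set_option linter.style.haveILetI false
set_option linter.unusedSectionVars false
set_option autoImplicit false

namespace CfsgLib.LocalEven.Family

open Cfsg Subgroup
open CfsgLib.LocalEven.LLem
open scoped commutatorElement Pointwise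

universe u

variable {H : Type u} [Group H] [Finite H] {p : ℕ} [Fact p.Prime]

/-- `O^p(F)` inside the ambient group. -/
abbrev res (p : ℕ) (F : Subgroup H) : Subgroup H := (Cfsg.pResidual p ↥F).map F.subtype

theorem res_le_iff {F X : Subgroup H} :
    res p F ≤ X ↔ ∀ g ∈ F, (orderOf g).Coprime p → g ∈ X := by
  rw [res, Subgroup.map_le_iff_le_comap, Cfsg.pResidual, Subgroup.closure_le]
  constructor
  · intro h g hg hc
    exact h (show (⟨g, hg⟩ : ↥F) ∈ {x : ↥F | Nat.Coprime (orderOf x) p} from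
      by simpa [Subgroup.orderOf_mk] using hc)
  · intro h x hx
    exact h x x.2 (by simpa [Subgroup.orderOf_coe] using hx)

theorem mem_res {F : Subgroup H} {g : H} (hg : g ∈ F) (hc : (orderOf g).Coprime p) :
    g ∈ res p F := res_le_iff.1 le_rfl g hg hc

theorem res_le (F : Subgroup H) : res p F ≤ F := Subgroup.map_subtype_le _

theorem res_mono {F K : Subgroup H} (h : res p F ≤ K) : res p F ≤ res p K :=
  res_le_iff.2 fun _ hg hc => mem_res (h (mem_res hg hc)) hc

theorem cj_res_le (h : H) (F : Subgroup H) : cj h (res p F) ≤ res p (cj h F) :=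
  cj_le_iff.2 (res_le_iff.2 fun g hg hc =>
    ⟨(MulAut.conj h) g, mem_res ⟨g, hg, rfl⟩ (by rwa [MulEquiv.orderOf_eq]),
      by simp [mul_assoc]⟩)

theorem res_cj (h : H) (F : Subgroup H) : res p (cj h F) = cj h (res p F) := by
  refine le_antisymm ?_ (cj_res_le h F)
  have := cj_res_le (p := p) h⁻¹ (cj h F)
  rw [← cj_mul, inv_mul_cancel, cj_one] at this
  have h2 := Subgroup.map_mono (f := (MulAut.conj h).toMonoidHom) this
  change cj h (cj h⁻¹ _) ≤ cj h _ at h2
  rwa [← cj_mul, mul_inv_cancel, cj_one] at h2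

/-- Elements of `p`-power order act trivially through a central section of order prime to `p`. -/
theorem commute_of_central {F Z : Subgroup H} {x : H} (hZF : F ≤ centralizer (Z : Set H))
    (hZ : (Nat.card Z).Coprime p) (hx : ∀ e ∈ F, ⁅e, x⁆ ∈ Z) {e : H} (he : e ∈ F)
    (hep : ∃ k, orderOf e = p ^ k) : e * x = x * e := by
  have hmul : ∀ a ∈ F, ∀ b ∈ F, ⁅a * b, x⁆ = ⁅b, x⁆ * ⁅a, x⁆ := by
    intro a ha b hb
    have hc : ⁅b, x⁆ * a = a * ⁅b, x⁆ := Subgroup.mem_centralizer_iff.1 (hZF ha) _ (hx b hb)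
    calc ⁅a * b, x⁆ = a * ⁅b, x⁆ * (x * a⁻¹ * x⁻¹) := by rw [commutatorElement_def, commutatorElement_def]; group
      _ = ⁅b, x⁆ * a * (x * a⁻¹ * x⁻¹) := by rw [hc]
      _ = ⁅b, x⁆ * ⁅a, x⁆ := by rw [commutatorElement_def a x]; group
  have hpow : ∀ n : ℕ, ⁅e ^ n, x⁆ = ⁅e, x⁆ ^ n := by
    intro n
    induction n with
    | zero => simp [commutatorElement_def]
    | succ n ih =>
      rw [pow_succ, hmul _ (pow_mem he n) _ he, ih, ← pow_succ']
  obtain ⟨k, hk⟩ := hep
  have h1 : ⁅e, x⁆ ^ p ^ k = 1 := by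
    rw [← hpow, ← hk, pow_orderOf_eq_one]; simp [commutatorElement_def]
  have hd : orderOf ⁅e, x⁆ ∣ Nat.card Z := by
    have := orderOf_dvd_natCard (⟨⁅e, x⁆, hx e he⟩ : ↥Z)
    rwa [Subgroup.orderOf_mk] at this
  have h2 := Nat.dvd_gcd hd (orderOf_dvd_of_pow_eq_one h1)
  rw [(hZ.pow_right k).gcd_eq_one, Nat.dvd_one, orderOf_eq_one_iff] at h2
  exact commutatorElement_eq_one_iff_mul_comm.1 h2

/-- An element of order prime to `p` in `A B`, with `B` a normal `p`-subgroup, lies in `A` when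
`A` is normalised by `B`. -/
theorem mem_of_mem_sup {A B : Subgroup H} (hB : IsPGroup p B) (hn : B ≤ normalizer (A : Set H))
    {g : H} (hg : g ∈ A ⊔ B) (hc : (orderOf g).Coprime p) : g ∈ A := by
  haveI : (A.subgroupOf (A ⊔ B)).Normal :=
    normal_subgroupOf_of_le_normalizer (sup_le le_normalizer hn)
  have hidx : ∃ k, (A.subgroupOf (A ⊔ B)).index = p ^ k := by
    obtain ⟨k, hk⟩ := hB.index (A.subgroupOf B)
    refine ⟨k, ?_⟩
    show A.relIndex (A ⊔ B) = p ^ k
    rw [← hk]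
    have := Subgroup.relIndex_sup_right (K := A.subgroupOf (A ⊔ B)) (H := B.subgroupOf (A ⊔ B))
    rw [← subgroupOf_sup le_sup_right le_sup_left, relIndex_subgroupOf (sup_le le_sup_right le_sup_left),
      relIndex_subgroupOf le_sup_right] at this
    first
      | exact this
      | (rw [sup_comm] at this; exact this)
  exact CfsgLib.Transfer.mem_of_coprime_orderOf_of_index hidx (g := ⟨g, hg⟩)
    (by rwa [Subgroup.orderOf_mk])

theorem coprime_card_of_abelian_subnormal (hO : Cfsg.pCore p H = ⊥) {Z : Subgroup H}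
    (hZ : Z.IsSubnormal) (hab : Z ≤ centralizer (Z : Set H)) : (Nat.card Z).Coprime p := by
  refine ((Fact.out : p.Prime).coprime_iff_not_dvd.2 fun hd => ?_).symm
  obtain ⟨R⟩ := (inferInstance : Nonempty (Sylow p ↥Z))
  haveI hRn : (R : Subgroup ↥Z).Normal := ⟨fun r hr g => by
    have : g * r * g⁻¹ = r := mul_inv_eq_iff_eq_mul.2 <|
      Subtype.ext (Subgroup.mem_centralizer_iff.1 (hab g.2) r r.2).symm
    rwa [this]⟩
  have h1 : ((R : Subgroup ↥Z).map Z.subtype).IsSubnormal := by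
    refine IsSubnormal.step _ _ (Subgroup.map_subtype_le _) hZ ?_
    rw [Subgroup.subgroupOf, Subgroup.comap_map_eq_self_of_injective Z.subtype_injective]
    exact hRn
  have h2 := CfsgLib.Base.le_pCore_of_isSubnormal h1 (R.2.map Z.subtype)
  rw [hO, le_bot_iff, Subgroup.map_eq_bot_iff_of_injective _ Z.subtype_injective] at h2
  exact R.ne_bot_of_dvd_card hd h2

theorem sup_residual {N : Subgroup H} (S : Sylow p H) (h : Cfsg.pResidual p H ≤ N) :
    (S : Subgroup H) ⊔ N = ⊤ :=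
  top_le_iff.1 ((CfsgLib.Transfer.sup_pResidual_eq_top S).ge.trans (sup_le_sup_left h _))

theorem sSup_normal {𝒦 : Set (Subgroup H)} (hinv : ∀ h : H, ∀ E ∈ 𝒦, cj h E ∈ 𝒦) :
    (sSup 𝒦).Normal := by
  have key : ∀ g : H, cj g (sSup 𝒦) ≤ sSup 𝒦 := fun g => by
    rw [cj, sSup_eq_iSup, Subgroup.map_iSup]
    refine iSup_le fun E => ?_
    rw [Subgroup.map_iSup]
    exact iSup_le fun hE => le_iSup_of_le (cj g E) (le_iSup_of_le (hinv g E hE) le_rfl)
  exact ⟨fun x hx g => key g ⟨x, hx, rfl⟩⟩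

/-- The main statement in a group with trivial `O_p`. -/
theorem core (hO : Cfsg.pCore p H = ⊥) (S : Sylow p H) {𝒦 : Set (Subgroup H)} (hne : 𝒦.Nonempty)
    (hinv : ∀ h : H, ∀ E ∈ 𝒦, cj h E ∈ 𝒦)
    (htr : ∀ E ∈ 𝒦, ∀ K ∈ 𝒦, ∃ h : H, K = cj h E)
    (hres : Cfsg.pResidual p H ≤ sSup 𝒦)
    (hnorm : ∀ E ∈ 𝒦, sSup 𝒦 ≤ normalizer (E : Set H))
    (hgen : ∀ E ∈ 𝒦, ∀ X : Subgroup H, (∀ e ∈ E, (∃ k, orderOf e = p ^ k) → e ∈ X) → E ≤ X)
    (hstr : ∀ E ∈ 𝒦, ∀ A : Subgroup H, A ≤ E → E ≤ normalizer (A : Set H) →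
      res p E ≤ A ∨ A ≤ centralizer (E : Set H)) :
    (∀ L : Subgroup H, L.Normal → Cfsg.pResidual p H ≤ L ∨ (S : Subgroup H) ⊓ L = ⊥) ∧
      ∀ E ∈ 𝒦, ∀ K ∈ 𝒦, res p E = res p K ∨ ⁅E, K⁆ = ⊥ := by
  set N := sSup 𝒦 with hN
  haveI hNn : N.Normal := sSup_normal hinv
  have hsn : ∀ E ∈ 𝒦, E.IsSubnormal := fun E hE =>
    IsSubnormal.step _ _ (le_sSup hE) hNn.isSubnormal (normal_subgroupOf_of_le_normalizer (hnorm E hE))
  have hcent : ∀ E ∈ 𝒦, ∀ A : Subgroup H, A ≤ E → E ≤ normalizer (A : Set H) →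
      A ≤ centralizer (E : Set H) → (Nat.card A).Coprime p := fun E hE A hAE hEA hAc =>
    coprime_card_of_abelian_subnormal hO
      (IsSubnormal.step _ _ hAE (hsn E hE) (normal_subgroupOf_of_le_normalizer hEA))
      (hAc.trans (Subgroup.centralizer_le hAE))
  refine ⟨fun L hL => ?_, fun E hE K hK => ?_⟩
  · haveI := hL
    by_cases hall : ∀ E ∈ 𝒦, L ⊓ E ≤ centralizer (E : Set H)
    · right
      have hLE : ∀ E ∈ 𝒦, E ≤ normalizer ((L ⊓ E : Subgroup H) : Set H) := fun E _ =>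
        (le_inf (le_top.trans (Subgroup.normalizer_eq_top_iff.2 hL).ge) le_normalizer).trans
          Subgroup.inf_normalizer_le_normalizer_inf
      have hL1 : L ⊓ N ≤ centralizer (N : Set H) := by
        intro l hl
        have hmem : N ≤ centralizer ({l} : Set H) := sSup_le fun E hE => hgen E hE _ fun e he hep => by
          refine Subgroup.mem_centralizer_singleton_iff.2 (commute_of_central (Z := L ⊓ E)
            (Subgroup.le_centralizer_iff.1 (hall E hE))
            (hcent E hE _ inf_le_right (hLE E hE) (hall E hE)) (fun f hf => ⟨?_, ?_⟩) he hep)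
          · rw [commutatorElement_def]
            exact L.mul_mem (hL.conj_mem l hl.1 f) (L.inv_mem hl.1)
          · rw [commutatorElement_def, mul_assoc, mul_assoc, ← mul_assoc l]
            exact E.mul_mem hf ((Subgroup.mem_normalizer_iff.1 (hnorm E hE hl.2) f⁻¹).1 (E.inv_mem hf))
        exact Subgroup.mem_centralizer_iff.2 fun y hy =>
          Subgroup.mem_centralizer_singleton_iff.1 (hmem hy)
      have hZco : (Nat.card ↥(L ⊓ N)).Coprime p :=
        coprime_card_of_abelian_subnormal hO (inferInstance : (L ⊓ N).Normal).isSubnormal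
          (hL1.trans (Subgroup.centralizer_le inf_le_right))
      set D := (S : Subgroup H) ⊓ L with hD
      have hDN : ∀ d ∈ D, N ≤ centralizer ({d} : Set H) := fun d hd =>
        sSup_le fun E hE => hgen E hE _ fun e he hep => by
          refine Subgroup.mem_centralizer_singleton_iff.2 (commute_of_central (Z := L ⊓ N)
            (Subgroup.le_centralizer_iff.1 (hL1.trans (Subgroup.centralizer_le (le_sSup hE))))
            hZco (fun f hf => ⟨?_, ?_⟩) he hep)
          · rw [commutatorElement_def]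
            exact L.mul_mem (hL.conj_mem d hd.2 f) (L.inv_mem hd.2)
          · rw [commutatorElement_def, mul_assoc, mul_assoc, ← mul_assoc d]
            exact N.mul_mem (le_sSup hE hf) (hNn.conj_mem f⁻¹ (N.inv_mem (le_sSup hE hf)) d)
      have hDn : D.Normal := by
        refine ⟨fun d hd g => ?_⟩
        obtain ⟨s, hs, n, hn, rfl⟩ :=
          Subgroup.mem_sup_of_normal_right.1 ((sup_residual S hres).ge (mem_top g))
        have e : s * n * d * (s * n)⁻¹ = s * d * s⁻¹ := by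
          have := Subgroup.mem_centralizer_singleton_iff.1 (hDN d hd hn)
          calc s * n * d * (s * n)⁻¹ = s * (n * d) * n⁻¹ * s⁻¹ := by group
            _ = s * d * s⁻¹ := by rw [this]; group
        rw [e]
        exact ⟨(S : Subgroup H).mul_mem ((S : Subgroup H).mul_mem hs hd.1) ((S : Subgroup H).inv_mem hs),
          hL.conj_mem d hd.2 s⟩
      exact le_bot_iff.1 (hO ▸ CfsgLib.LocalEven.le_pCore hDn (S.2.to_le inf_le_left))
    · left
      push Not at hall
      obtain ⟨E, hE, hnot⟩ := hall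
      have hEL : res p E ≤ L := ((hstr E hE (L ⊓ E) inf_le_right
        ((le_inf (le_top.trans (Subgroup.normalizer_eq_top_iff.2 hL).ge) le_normalizer).trans
          Subgroup.inf_normalizer_le_normalizer_inf)).resolve_right hnot).trans inf_le_left
      set π := QuotientGroup.mk' L with hπ
      have hK : ∀ K ∈ 𝒦, K.map π ≤ Cfsg.pCore p (H ⧸ L) := by
        intro K hK
        obtain ⟨h, rfl⟩ := htr E hE K hK
        refine CfsgLib.Base.le_pCore_of_isSubnormal
          ((hsn _ hK).map (QuotientGroup.mk'_surjective L)) ?_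
        have hres' : res p (cj h E) ≤ L := by
          rw [res_cj]
          rintro _ ⟨x, hx, rfl⟩
          exact hL.conj_mem x (hEL hx) h
        haveI := CfsgLib.Transfer.pResidual_normal (G := ↥(cj h E)) (p := p)
        have hq : IsPGroup p (↥(cj h E) ⧸ Cfsg.pResidual p ↥(cj h E)) :=
          CfsgLib.Transfer.isPGroup_quotient_pResidual
        intro y
        obtain ⟨z, hz, hzy⟩ := y.2
        obtain ⟨k, hk⟩ := hq (QuotientGroup.mk ⟨z, hz⟩)
        refine ⟨k, Subtype.ext ?_⟩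
        rw [← QuotientGroup.mk_pow, QuotientGroup.eq_one_iff] at hk
        rw [SubmonoidClass.coe_pow, ← hzy, ← map_pow, OneMemClass.coe_one]
        exact (QuotientGroup.eq_one_iff _).2 (hres' ⟨_, hk, rfl⟩)
      have hNmap : N.map π ≤ Cfsg.pCore p (H ⧸ L) :=
        Subgroup.map_le_iff_le_comap.2 (sSup_le fun K hK' => Subgroup.map_le_iff_le_comap.1 (hK K hK'))
      rw [Cfsg.pResidual, Subgroup.closure_le]
      intro g hg
      have hgN : π g ∈ Cfsg.pCore p (H ⧸ L) :=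
        hNmap ⟨g, hres (CfsgLib.Transfer.mem_pResidual_of_coprime hg), rfl⟩
      have h1 := CfsgLib.Transfer.eq_one_of_coprime_orderOf
        (CfsgLib.LocalEven.isPGroup_pCore (p := p) (G := H ⧸ L)) (x := ⟨π g, hgN⟩)
        (Nat.Coprime.coprime_dvd_left (by rw [Subgroup.orderOf_mk]; exact orderOf_map_dvd π g) hg)
      exact (QuotientGroup.eq_one_iff g).1 (congrArg Subtype.val h1)
  · set A := E ⊓ K with hA
    have hEA : E ≤ normalizer (A : Set H) :=
      (le_inf le_normalizer ((le_sSup hE).trans (hnorm K hK))).trans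
        Subgroup.inf_normalizer_le_normalizer_inf
    rcases hstr E hE A inf_le_left hEA with h | h
    · left
      obtain ⟨g, hg⟩ := htr E hE K hK
      refine Subgroup.eq_of_le_of_card_ge (res_mono (h.trans inf_le_right)) ?_
      rw [hg, res_cj, card_cj]
    · right
      rw [Subgroup.commutator_eq_bot_iff_le_centralizer]
      refine hgen E hE _ fun e he hep => Subgroup.mem_centralizer_iff.2 fun k hk => ?_
      refine (commute_of_central (Z := A) (Subgroup.le_centralizer_iff.1 h)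
        (hcent E hE A inf_le_left hEA h) (fun f hf => ⟨?_, ?_⟩) he hep).symm
      · rw [commutatorElement_def, mul_assoc, mul_assoc, ← mul_assoc k]
        exact E.mul_mem hf ((Subgroup.mem_normalizer_iff.1
          (((le_sSup hK).trans (hnorm E hE)) hk) f⁻¹).1 (E.inv_mem hf))
      · rw [commutatorElement_def]
        exact K.mul_mem ((Subgroup.mem_normalizer_iff.1 (((le_sSup hE).trans (hnorm K hK)) hf) k).1 hk)
          (K.inv_mem hk)

variable {𝒦 : Set (Subgroup H)}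

theorem bar_isSubnormal (hinv : ∀ h : H, ∀ E ∈ 𝒦, cj h E ∈ 𝒦)
    (hnorm : ∀ E ∈ 𝒦, sSup 𝒦 ⊔ Cfsg.pCore p H ≤ normalizer ((E ⊔ Cfsg.pCore p H : Subgroup H) : Set H))
    {E : Subgroup H} (hE : E ∈ 𝒦) : (E ⊔ Cfsg.pCore p H).IsSubnormal := by
  haveI := sSup_normal hinv
  exact IsSubnormal.step _ _ (sup_le_sup_right (le_sSup hE) _)
    (inferInstance : (sSup 𝒦 ⊔ Cfsg.pCore p H).Normal).isSubnormal
    (normal_subgroupOf_of_le_normalizer (hnorm E hE))

theorem sylow_inf_max (S : Sylow p H) {E : Subgroup H} (hbar : (E ⊔ Cfsg.pCore p H).IsSubnormal) :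
    ∀ R ≤ E, (S : Subgroup H) ⊓ E ≤ R → IsPGroup p R → R = (S : Subgroup H) ⊓ E := by
  intro R hRE hle hR
  set P := Cfsg.pCore p H
  have hPS : P ≤ (S : Subgroup H) := CfsgLib.LocalEven.pCore_le_sylow S
  have hRP : IsPGroup p ↥(R ⊔ P) := IsPGroup.to_sup_of_normal_right hR CfsgLib.LocalEven.isPGroup_pCore
  have hle2 : (E ⊔ P) ⊓ (S : Subgroup H) ≤ R ⊔ P := by
    rintro x ⟨hx, hxS⟩
    obtain ⟨e, he, q, hq, rfl⟩ := Subgroup.mem_sup_of_normal_right.1 hx
    refine Subgroup.mul_mem_sup (hle ⟨?_, he⟩) hq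
    have := (S : Subgroup H).mul_mem hxS ((S : Subgroup H).inv_mem (hPS hq))
    rwa [mul_inv_cancel_right] at this
  have heq : (E ⊔ P) ⊓ (S : Subgroup H) = R ⊔ P :=
    SubSyl.eq_of_le_of_not_dvd hle2 hRP fun hd => SubSyl.not_dvd_inf S hbar
      (hd.trans (dvd_of_mul_right_eq _ (relIndex_mul_relIndex _ _ (E ⊔ P) hle2 (sup_le_sup_right hRE P))))
  exact le_antisymm (le_inf (le_sup_left.trans (heq.ge.trans inf_le_right)) hRE) hle

theorem isMinimalOver_family (hne : 𝒦.Nonempty) (hinv : ∀ h : H, ∀ E ∈ 𝒦, cj h E ∈ 𝒦)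
    (htr : ∀ E ∈ 𝒦, ∀ K ∈ 𝒦, ∃ h : H, K = cj h E) (hres : Cfsg.pResidual p H ≤ sSup 𝒦)
    (hnorm : ∀ E ∈ 𝒦, sSup 𝒦 ⊔ Cfsg.pCore p H ≤ normalizer ((E ⊔ Cfsg.pCore p H : Subgroup H) : Set H))
    (hmin : ∀ E ∈ 𝒦, ∀ T : Sylow p ↥E, Cfsg.IsMinimalOver (T : Subgroup ↥E)) (S : Sylow p H) :
    Cfsg.IsMinimalOver (S : Subgroup H) := by
  classical
  set P := Cfsg.pCore p H with hP
  haveI hNn := sSup_normal hinv
  set Nb := sSup 𝒦 ⊔ P with hNb
  have hPS : P ≤ (S : Subgroup H) := CfsgLib.LocalEven.pCore_le_sylow S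
  have hSN : ∀ x : H, ∃ s ∈ (S : Subgroup H), ∃ n ∈ Nb, s * n = x := fun x =>
    Subgroup.mem_sup_of_normal_right.1
      ((sup_residual S (hres.trans le_sup_left)).ge (mem_top x))
  have hSy : ∀ E ∈ 𝒦, ∃ T : Sylow p ↥E, (T : Subgroup ↥E) = (S : Subgroup H).subgroupOf E := by
    intro E hE
    obtain ⟨T, hT⟩ := ((S.2.comap_of_injective E.subtype E.subtype_injective) :
      IsPGroup p ↥((S : Subgroup H).subgroupOf E)).exists_le_sylow
    refine ⟨T, le_antisymm ?_ hT⟩
    have := sylow_inf_max S (bar_isSubnormal hinv hnorm hE) ((T : Subgroup ↥E).map E.subtype)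
      (Subgroup.map_subtype_le _) (fun x hx => ⟨⟨x, hx.2⟩, hT hx.1, rfl⟩) (T.2.map _)
    intro x hx
    exact (this.le ⟨x, hx, rfl⟩).1
  have hgenE : ∀ E ∈ 𝒦, ∀ X : Subgroup H, (S : Subgroup H) ⊓ E ≤ X →
      E ≤ normalizer (X : Set H) → E ≤ X := by
    intro E hE X hX hn
    obtain ⟨T, hT⟩ := hSy E hE
    haveI : (X.subgroupOf E).Normal := by
      refine ⟨fun x hx g => ?_⟩
      exact (Subgroup.mem_normalizer_iff.1 (hn g.2) x).1 hx
    have h1 : (⊤ : Subgroup ↥E) ≤ X.subgroupOf E := by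
      rw [← (hmin E hE T).1]
      refine Subgroup.normalClosure_le_normal fun x hx => ?_
      rw [hT] at hx
      exact hX ⟨hx, x.2⟩
    exact subgroupOf_eq_top.1 (top_le_iff.1 h1)
  let Q : Subgroup H → Subgroup H := fun E => (S : Subgroup H) ⊓ (E ⊔ P)
  let Mb : Subgroup H → Subgroup H := fun E => sSup {Y | Q E ≤ Y ∧ Y < E ⊔ P}
  have hMb : ∀ E ∈ 𝒦, Q E ≤ Mb E ∧ Mb E < E ⊔ P := by
    intro E hE
    obtain ⟨T, hT⟩ := hSy E hE
    obtain ⟨ME, ⟨hME, hTME⟩, huniq⟩ := (hmin E hE T).2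
    set MH := ME.map E.subtype with hMH
    have hY : ∀ Y, Q E ≤ Y → Y < E ⊔ P → Y ≤ MH ⊔ P := by
      intro Y hQY hYlt x hx
      obtain ⟨e, he, q, hq, rfl⟩ := Subgroup.mem_sup_of_normal_right.1 (hYlt.le hx)
      have hPY : P ≤ Y := (le_inf hPS le_sup_right).trans hQY
      have heY : e ∈ Y := by
        have := Y.mul_mem hx (Y.inv_mem (hPY hq)); simpa using this
      have hne : Y.subgroupOf E ≠ ⊤ := fun h =>
        hYlt.not_ge (sup_le (subgroupOf_eq_top.1 h) hPY)
      obtain ⟨Z, hZ, hYZ⟩ := (eq_top_or_exists_le_coatom _).resolve_left hne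
      have hTY : (T : Subgroup ↥E) ≤ Y.subgroupOf E := by
        rw [hT]; exact fun z hz => hQY ⟨hz, le_sup_left (b := P) z.2⟩
      have := huniq Z ⟨hZ, hTY.trans hYZ⟩
      exact Subgroup.mul_mem_sup ⟨⟨e, he⟩, this ▸ hYZ heY, rfl⟩ hq
    have hlt : MH ⊔ P < E ⊔ P := by
      refine lt_of_le_of_ne (sup_le_sup_right (Subgroup.map_subtype_le _) _) fun h => hME.1 ?_
      refine top_le_iff.1 fun e _ => ?_
      obtain ⟨m, ⟨m', hm', rfl⟩, q, hq, heq⟩ :=
        Subgroup.mem_sup_of_normal_right.1 (h.ge (Subgroup.mem_sup_left (T := P) e.2))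
      have hqE : q ∈ E := by
        have := E.mul_mem (E.inv_mem m'.2) e.2
        rw [← heq] at this
        simpa using this
      have hqM : (⟨q, hqE⟩ : ↥E) ∈ ME := hTME (hT ▸ hPS hq)
      have he : e = m' * ⟨q, hqE⟩ := Subtype.ext heq.symm
      exact he ▸ ME.mul_mem hm' hqM
    have hQlt : Q E < E ⊔ P := by
      refine lt_of_le_of_ne inf_le_right fun h => hME.1 (top_le_iff.1 fun e _ => hTME ?_)
      rw [hT]
      exact ((h.ge.trans inf_le_left) (Subgroup.mem_sup_left e.2) :)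
    exact ⟨le_sSup ⟨le_rfl, hQlt⟩, lt_of_le_of_lt (sSup_le fun Y hY' => hY Y hY'.1 hY'.2) hlt⟩
  have hcjbar : ∀ (g : H) (E : Subgroup H), cj g (E ⊔ P) = cj g E ⊔ P := by
    intro g E
    rw [cj, Subgroup.map_sup]
    congr 1
    exact cj_eq_self (by rw [Subgroup.normalizer_eq_top_iff.2 inferInstance]; trivial)
  have hcjMb : ∀ s ∈ (S : Subgroup H), ∀ E, cj s (Mb E) ≤ Mb (cj s E) := by
    intro s hs E
    rw [cj_le_iff]
    refine sSup_le fun Y hY => ?_
    rw [← cj_le_iff]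
    refine le_sSup ⟨?_, ?_⟩
    · show (S : Subgroup H) ⊓ (cj s E ⊔ P) ≤ cj s Y
      rw [← hcjbar, ← cj_eq_self_of_mem hs]
      rw [cj, cj, ← Subgroup.map_inf _ _ _ (MulAut.conj s).injective]
      exact Subgroup.map_mono hY.1
    · rw [← hcjbar]
      exact (Subgroup.map_lt_map_iff_of_injective (MulAut.conj s).injective).2 hY.2
  have hnormMb : ∀ (g : H) (E : Subgroup H), cj g (Mb E) ≤ Mb E → g ∈ normalizer (Mb E : Set H) :=
    fun g E h => CfsgLib.Base.map_conj_eq_self_iff.1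
      (Subgroup.eq_of_le_of_card_ge h (card_cj g _).ge)
  set M0 := Nb ⊓ ⨅ (E : Subgroup H) (_ : E ∈ 𝒦), normalizer (Mb E : Set H) with hM0
  have hM0S : ∀ s ∈ (S : Subgroup H), ∀ m ∈ M0, s * m * s⁻¹ ∈ M0 := by
    intro s hs m hm
    refine ⟨(inferInstance : Nb.Normal).conj_mem m hm.1 s, ?_⟩
    refine Subgroup.mem_iInf.2 fun E => Subgroup.mem_iInf.2 fun hE => ?_
    set E' := cj s⁻¹ E with hE'
    have hEE : cj s E' = E := by rw [hE', ← cj_mul, mul_inv_cancel, cj_one]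
    have hm' : m ∈ normalizer (Mb E' : Set H) :=
      Subgroup.mem_iInf.1 (Subgroup.mem_iInf.1 hm.2 E') (hinv s⁻¹ E hE)
    have heq : cj s (Mb E') = Mb E := by
      refine le_antisymm (hEE ▸ hcjMb s hs E') ?_
      have := hcjMb s⁻¹ ((S : Subgroup H).inv_mem hs) E
      rw [cj_le_iff, inv_inv] at this
      exact this
    refine hnormMb _ E (le_of_eq ?_)
    rw [← heq, ← cj_mul, show s * m * s⁻¹ * s = s * m by group, cj_mul, cj_eq_self hm']
  set M := (S : Subgroup H) ⊔ M0 with hM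
  have hMmem : ∀ x ∈ M, ∃ s ∈ (S : Subgroup H), ∃ m ∈ M0, s * m = x := by
    intro x hx
    have hn : (S : Subgroup H) ≤ normalizer (M0 : Set H) := fun s hs =>
      Subgroup.mem_normalizer_iff.2 fun m => ⟨hM0S s hs m, fun h => by
        simpa [mul_assoc] using hM0S s⁻¹ ((S : Subgroup H).inv_mem hs) _ h⟩
    rw [← SetLike.mem_coe, hM, Subgroup.coe_mul_of_left_le_normalizer_right _ _ hn, Set.mem_mul] at hx
    exact hx
  obtain ⟨E₀, hE₀⟩ := hne
  have hMne : M ≠ ⊤ := by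
    intro htop
    have hNM : Nb ≤ normalizer (Mb E₀ : Set H) := by
      intro x hx
      obtain ⟨s, hs, m, hm, rfl⟩ := hMmem x (htop ▸ mem_top x)
      refine (normalizer _).mul_mem ?_ (Subgroup.mem_iInf.1 (Subgroup.mem_iInf.1 hm.2 E₀) hE₀)
      have hsN : s ∈ Nb := by
        have := Nb.mul_mem hx (Nb.inv_mem hm.1); simpa using this
      refine hnormMb s E₀ ?_
      rw [cj_le_iff]
      refine sSup_le fun Y hY => ?_
      rw [← cj_le_iff]
      refine le_sSup ⟨?_, ?_⟩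
      · show (S : Subgroup H) ⊓ (E₀ ⊔ P) ≤ cj s Y
        rw [← cj_eq_self (hnorm E₀ hE₀ hsN), ← cj_eq_self_of_mem hs, cj, cj,
          ← Subgroup.map_inf _ _ _ (MulAut.conj s).injective]
        exact Subgroup.map_mono hY.1
      · rw [← cj_eq_self (hnorm E₀ hE₀ hsN)]
        exact (Subgroup.map_lt_map_iff_of_injective (MulAut.conj s).injective).2 hY.2
    have hEN : E₀ ≤ normalizer (Mb E₀ : Set H) := ((le_sSup hE₀).trans le_sup_left).trans hNM
    have := hgenE E₀ hE₀ (Mb E₀) ((inf_le_inf_left _ le_sup_left).trans (hMb E₀ hE₀).1) hEN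
    exact (hMb E₀ hE₀).2.not_ge (sup_le this ((le_inf hPS le_sup_right).trans (hMb E₀ hE₀).1))
  have hXM : ∀ X : Subgroup H, X ≠ ⊤ → (S : Subgroup H) ≤ X → X ≤ M := by
    intro X hX hSX x hx
    have hnotle : ∀ E ∈ 𝒦, ¬ E ≤ X := by
      intro E hE hEX
      refine hX (top_le_iff.1 ?_)
      refine (sup_residual S hres).ge.trans (sup_le hSX (sSup_le fun K hK => ?_))
      obtain ⟨h, rfl⟩ := htr E hE K hK
      obtain ⟨s, hs, n, hn, rfl⟩ := hSN h
      refine le_trans (le_sup_left (b := P)) ?_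
      rw [← hcjbar, cj_mul, cj_eq_self (hnorm E hE hn)]
      exact (Subgroup.map_mono (sup_le hEX (hPS.trans hSX))).trans (cj_eq_self_of_mem (hSX hs)).le
    obtain ⟨s, hs, n, hn, rfl⟩ := hSN x
    refine Subgroup.mul_mem_sup hs ⟨hn, Subgroup.mem_iInf.2 fun E => Subgroup.mem_iInf.2 fun hE => ?_⟩
    have hnX : n ∈ X := by
      have := X.mul_mem (X.inv_mem (hSX hs)) hx; simpa using this
    set D := X ⊓ (E ⊔ P) with hD
    have hQD : Q E ≤ D := le_inf (inf_le_left.trans hSX) inf_le_right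
    have hDlt : D < E ⊔ P := lt_of_le_of_ne inf_le_right fun h =>
      hnotle E hE (le_sup_left.trans (h.ge.trans inf_le_left))
    have hDM : D ≤ Mb E := le_sSup ⟨hQD, hDlt⟩
    have hnD : cj n D = D := by
      rw [hD, cj, Subgroup.map_inf _ _ _ (MulAut.conj n).injective]
      exact congrArg₂ (· ⊓ ·) (cj_eq_self_of_mem hnX) (cj_eq_self (hnorm E hE hn))
    have hQn : cj n (Q E) ≤ D := hnD ▸ Subgroup.map_mono hQD
    obtain ⟨m, hm, hle⟩ := exists_cj_le hQD (S.2.to_le inf_le_left)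
      (fun R hR hQR hRp => (SubSyl.eq_of_le_of_not_dvd hQR hRp fun hd =>
        SubSyl.not_dvd_inf S (bar_isSubnormal hinv hnorm hE) (inf_comm (E ⊔ P) (S : Subgroup H) ▸
          hd.trans (dvd_of_mul_right_eq _ (relIndex_mul_relIndex _ _ (E ⊔ P) hQR
            (hR.trans inf_le_right))))).symm) hQn (isPGroup_cj (S.2.to_le inf_le_left) n)
    have heq : cj n (Q E) = cj m (Q E) :=
      Subgroup.eq_of_le_of_card_ge hle (by rw [card_cj, card_cj])
    refine hnormMb n E ?_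
    rw [cj_le_iff]
    refine sSup_le fun Y hY => ?_
    rw [← cj_le_iff]
    have h1 : cj (m⁻¹ * n) (Q E) = Q E := by
      rw [cj_mul, heq, ← cj_mul, inv_mul_cancel, cj_one]
    have h2 : cj (m⁻¹ * n) (E ⊔ P) = E ⊔ P := by
      rw [cj_mul, cj_eq_self (hnorm E hE hn),
        cj_eq_self_of_mem ((E ⊔ P).inv_mem hm.2)]
    have h3 : cj (m⁻¹ * n) Y ≤ Mb E :=
      le_sSup ⟨h1 ▸ Subgroup.map_mono hY.1,
        h2 ▸ (Subgroup.map_lt_map_iff_of_injective (MulAut.conj (m⁻¹ * n)).injective).2 hY.2⟩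
    rw [cj_mul, cj_le_iff, inv_inv, cj_eq_self_of_mem (hDM hm)] at h3
    exact h3
  have hMc : IsCoatom M := ⟨hMne, fun Z hlt => by
    by_contra hZ
    exact hlt.not_ge (hXM Z hZ (le_sup_left.trans hlt.le))⟩
  refine ⟨?_, M, ⟨hMc, le_sup_left⟩, fun Z hZ => ?_⟩
  · refine top_le_iff.1 ((sup_residual S hres).ge.trans (sup_le Subgroup.le_normalClosure
      (sSup_le fun E hE => ?_)))
    exact hgenE E hE _ (inf_le_left.trans Subgroup.le_normalClosure)
      (le_top.trans (Subgroup.normalizer_eq_top_iff.2 inferInstance).ge)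
  · exact ((eq_or_lt_of_le (hXM Z hZ.1.1 hZ.2)).resolve_right fun h => hMne (hZ.1.2 _ h))

theorem res_top_le {L : Subgroup H} [L.Normal] {P : Subgroup H} [P.Normal] (hP : IsPGroup p P)
    (h : Cfsg.pResidual p H ≤ L ⊔ P) : Cfsg.pResidual p H ≤ L := by
  rw [Cfsg.pResidual, Subgroup.closure_le]
  intro g hg
  exact mem_of_mem_sup hP (le_top.trans (Subgroup.normalizer_eq_top_iff.2 ‹L.Normal›).ge)
    (h (CfsgLib.Transfer.mem_pResidual_of_coprime hg)) hg

theorem irreducible_family (hne : 𝒦.Nonempty) (hinv : ∀ h : H, ∀ E ∈ 𝒦, cj h E ∈ 𝒦)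
    (htr : ∀ E ∈ 𝒦, ∀ K ∈ 𝒦, ∃ h : H, K = cj h E) (hres : Cfsg.pResidual p H ≤ sSup 𝒦)
    (hnorm : ∀ E ∈ 𝒦, sSup 𝒦 ⊔ Cfsg.pCore p H ≤ normalizer ((E ⊔ Cfsg.pCore p H : Subgroup H) : Set H))
    (hs : ∀ E ∈ 𝒦, Cfsg.IsStronglyPIrreducible p ↥E) :
    Cfsg.IsPIrreducible p H ∧ ∀ E ∈ 𝒦, ∀ K ∈ 𝒦,
      res p (E ⊔ Cfsg.pCore p H) = res p (K ⊔ Cfsg.pCore p H) ∨ ⁅E, K⁆ ≤ Cfsg.pCore p H := by
  set P := Cfsg.pCore p H with hP
  have hPp : IsPGroup p ↥P := CfsgLib.LocalEven.isPGroup_pCore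
  set π := QuotientGroup.mk' P with hπ
  have hπs : Function.Surjective π := QuotientGroup.mk'_surjective P
  obtain ⟨S⟩ := (inferInstance : Nonempty (Sylow p H))
  have hPS : P ≤ (S : Subgroup H) := CfsgLib.LocalEven.pCore_le_sylow S
  have hO : Cfsg.pCore p (H ⧸ P) = ⊥ := CfsgLib.Base.pCore_quotient_pCore p H
  have hπcj : ∀ (h : H) (E : Subgroup H), (cj h E).map π = cj (π h) (E.map π) := by
    intro h E
    rw [cj, cj, Subgroup.map_map, Subgroup.map_map]
    congr 1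
  have hπbar : ∀ E : Subgroup H, (E ⊔ P).map π = E.map π := fun E => by
    rw [Subgroup.map_sup, (Subgroup.map_eq_bot_iff P).2 (QuotientGroup.ker_mk' P).ge, sup_bot_eq]
  have hnp : ∀ E ∈ 𝒦, ¬ ∀ T : Sylow p ↥E, (T : Subgroup ↥E).Normal := fun E hE => (hs E hE).1
  have hEker : ∀ E : Subgroup H, IsPGroup p ↥(P.subgroupOf E) := fun E => hPp.comap_subtype
  -- properties of the images
  have hsn : ∀ E ∈ 𝒦, (E.map π).IsSubnormal := fun E hE =>
    hπbar E ▸ (bar_isSubnormal hinv hnorm hE).map hπs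
  have hstr : ∀ E ∈ 𝒦, ∀ A : Subgroup (H ⧸ P), A ≤ E.map π →
      E.map π ≤ normalizer (A : Set (H ⧸ P)) →
      res p (E.map π) ≤ A ∨ A ≤ centralizer ((E.map π : Subgroup (H ⧸ P)) : Set (H ⧸ P)) := by
    intro E hE A hAE hEA
    set f : ↥E →* H ⧸ P := π.comp E.subtype with hf
    set A' := A.comap f with hA'
    have hA'n : A'.Normal := ⟨fun a ha g => by
      show f (g * a * g⁻¹) ∈ A
      rw [map_mul, map_mul, map_inv]
      exact (Subgroup.mem_normalizer_iff.1 (hEA ⟨g, g.2, rfl⟩) (f a)).1 ha⟩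
    by_cases hc : ⁅A', (⊤ : Subgroup ↥E)⁆ ≤ Cfsg.pCore p ↥E
    · right
      intro a ha
      obtain ⟨a', ha', rfl⟩ := hAE ha
      refine Subgroup.mem_centralizer_iff.2 ?_
      rintro _ ⟨e, he, rfl⟩
      have h1 : ⁅(⟨a', ha'⟩ : ↥E), ⟨e, he⟩⁆ ∈ Cfsg.pCore p ↥E :=
        hc (Subgroup.commutator_mem_commutator (show f ⟨a', ha'⟩ ∈ A from ha) (mem_top _))
      have h2 : (Cfsg.pCore p ↥E).map f ≤ ⊥ := by
        rw [← hO]
        refine CfsgLib.Base.le_pCore_of_isSubnormal ?_ ((CfsgLib.LocalEven.isPGroup_pCore).map f)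
        refine IsSubnormal.step _ _ ?_ (hsn E hE) (normal_subgroupOf_of_le_normalizer ?_)
        · rintro _ ⟨x, -, rfl⟩; exact ⟨x, x.2, rfl⟩
        · have := Subgroup.le_normalizer_map (H := Cfsg.pCore p ↥E) f
          rw [Subgroup.normalizer_eq_top_iff.2 inferInstance, ← MonoidHom.range_eq_map,
            MonoidHom.range_comp, Subgroup.range_subtype] at this
          exact this
      have h3 := h2 ⟨_, h1, rfl⟩
      rw [Subgroup.mem_bot, map_commutatorElement, commutatorElement_eq_one_iff_mul_comm] at h3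
      exact h3.symm
    · left
      have hR : Cfsg.pResidual p ↥E ≤ A' := (hs E hE).2 A' hA'n hc
      rw [res_le_iff]
      rintro _ ⟨e, he, rfl⟩ hco
      haveI := CfsgLib.Transfer.pResidual_normal (G := ↥E) (p := p)
      obtain ⟨k, hk⟩ := (CfsgLib.Transfer.isPGroup_quotient_pResidual (G := ↥E) (p := p))
        (QuotientGroup.mk ⟨e, he⟩)
      rw [← QuotientGroup.mk_pow, QuotientGroup.eq_one_iff] at hk
      have hmem : (π e) ^ p ^ k ∈ A := by
        have := hR hk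
        rwa [hA', Subgroup.mem_comap, map_pow] at this
      obtain ⟨m, hm⟩ := exists_pow_eq_self_of_coprime ((hco.pow_right k).symm)
      rw [← hm]
      exact A.pow_mem hmem m
  have hgen : ∀ E ∈ 𝒦, ∀ X : Subgroup (H ⧸ P),
      (∀ e ∈ E.map π, (∃ k, orderOf e = p ^ k) → e ∈ X) → E.map π ≤ X := by
    intro E hE X hX
    set f : ↥E →* H ⧸ P := π.comp E.subtype with hf
    obtain ⟨T⟩ := (inferInstance : Nonempty (Sylow p ↥E))
    have hp' : ∀ g : ↥E, (∃ k, orderOf g = p ^ k) → f g ∈ X := by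
      rintro g ⟨k, hk⟩
      obtain ⟨j, -, hj⟩ := (Nat.dvd_prime_pow (Fact.out : p.Prime)).1
        ((orderOf_map_dvd f g).trans hk.dvd)
      exact hX _ ⟨g, g.2, rfl⟩ ⟨j, hj⟩
    set Nc := Subgroup.normalClosure ((T : Subgroup ↥E) : Set ↥E) with hNc
    have hNcX : Nc ≤ X.comap f := by
      rw [hNc, Subgroup.normalClosure, Subgroup.closure_le]
      intro g hg
      rw [Group.mem_conjugatesOfSet_iff] at hg
      obtain ⟨t, ht, hc⟩ := hg
      obtain ⟨c, rfl⟩ := isConj_iff.1 hc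
      refine hp' _ ?_
      obtain ⟨k, hk⟩ := IsPGroup.iff_orderOf.1 T.2 ⟨t, ht⟩
      refine ⟨k, ?_⟩
      rw [Subgroup.orderOf_mk] at hk
      rw [← hk]
      exact MulEquiv.orderOf_eq (MulAut.conj c) t
    by_cases hc : ⁅Nc, (⊤ : Subgroup ↥E)⁆ ≤ Cfsg.pCore p ↥E
    · exfalso
      refine hnp E hE fun T' => ?_
      have hTn : (T : Subgroup ↥E).Normal := ⟨fun t ht g => by
        have h1 : ⁅t, g⁆ ∈ Cfsg.pCore p ↥E :=
          hc (Subgroup.commutator_mem_commutator (Subgroup.subset_normalClosure ht) (mem_top g))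
        have h2 := (T : Subgroup ↥E).mul_mem ((T : Subgroup ↥E).inv_mem
          (CfsgLib.LocalEven.pCore_le_sylow T h1)) ht
        simpa [commutatorElement_def, mul_assoc] using h2⟩
      obtain ⟨g, rfl⟩ := MulAction.exists_smul_eq ↥E T T'
      have hg : g ∈ normalizer ((T : Subgroup ↥E) : Set ↥E) := by
        rw [Subgroup.normalizer_eq_top_iff.2 hTn]; trivial
      rw [Sylow.smul_eq_iff_mem_normalizer.2 hg]
      exact hTn
    · have hR := (hs E hE).2 Nc Subgroup.normalClosure_normal hc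
      have htop : Nc = ⊤ := top_le_iff.1 ((CfsgLib.Transfer.sup_pResidual_eq_top T).ge.trans
        (sup_le Subgroup.le_normalClosure hR))
      rintro _ ⟨e, he, rfl⟩
      exact hNcX (htop ▸ mem_top (⟨e, he⟩ : ↥E))
  let 𝒦' : Set (Subgroup (H ⧸ P)) := (fun E => E.map π) '' 𝒦
  have hsup : (sSup 𝒦).map π ≤ sSup 𝒦' := Subgroup.map_le_iff_le_comap.2 (sSup_le fun E hE =>
    Subgroup.map_le_iff_le_comap.1 (le_sSup (s := 𝒦') ⟨E, hE, rfl⟩))
  have hres' : Cfsg.pResidual p (H ⧸ P) ≤ (Cfsg.pResidual p H).map π := by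
    haveI := CfsgLib.Transfer.pResidual_normal (G := H) (p := p)
    haveI : ((Cfsg.pResidual p H).map π).Normal := Subgroup.Normal.map inferInstance π hπs
    refine CfsgLib.Transfer.pResidual_le ?_
    obtain ⟨k, hk⟩ := CfsgLib.Transfer.exists_index_pResidual (G := H) (p := p)
    obtain ⟨j, -, hj⟩ := (Nat.dvd_prime_pow (Fact.out : p.Prime)).1
      (hk ▸ Subgroup.index_map_dvd (Cfsg.pResidual p H) hπs)
    exact ⟨j, hj⟩
  set S' := S.mapSurjective hπs with hS'
  have hC := core hO S' (𝒦 := 𝒦') (hne.image _)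
    (by rintro q _ ⟨E, hE, rfl⟩
        obtain ⟨h, rfl⟩ := hπs q
        exact ⟨_, hinv h E hE, hπcj h E⟩)
    (by rintro _ ⟨E, hE, rfl⟩ _ ⟨K, hK, rfl⟩
        obtain ⟨h, rfl⟩ := htr E hE K hK
        exact ⟨π h, hπcj h E⟩)
    (hres'.trans ((Subgroup.map_mono hres).trans hsup))
    (by rintro _ ⟨E, hE, rfl⟩
        refine sSup_le ?_
        rintro _ ⟨K, hK, rfl⟩
        have h1 := (Subgroup.map_mono (f := π) ((le_sSup hK).trans
          (le_sup_left.trans (hnorm E hE)))).trans (Subgroup.le_normalizer_map π)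
        rwa [hπbar] at h1)
    (by rintro _ ⟨E, hE, rfl⟩; exact hgen E hE)
    (by rintro _ ⟨E, hE, rfl⟩; exact hstr E hE)
  refine ⟨⟨fun hcl => ?_, fun L hL hnc => ?_⟩, fun E hE K hK => ?_⟩
  · obtain ⟨E, hE⟩ := hne
    refine hnp E hE fun T => ?_
    obtain ⟨g, hg⟩ := ((T.2.map E.subtype) : IsPGroup p ↥((T : Subgroup ↥E).map E.subtype)).exists_le_sylow
    haveI := hcl g
    have hle : (T : Subgroup ↥E) ≤ (g : Subgroup H).subgroupOf E := fun x hx => hg ⟨x, hx, rfl⟩
    rw [← T.3 ((g.2.comap_of_injective E.subtype E.subtype_injective) :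
      IsPGroup p ↥((g : Subgroup H).subgroupOf E)) hle]
    infer_instance
  · haveI := hL
    haveI hLn' : (L.map π).Normal := hL.map π hπs
    rcases hC.1 (L.map π) hLn' with h | h
    · refine res_top_le hPp ?_
      intro g hg
      have h1 : π g ∈ L.map π := h ?_
      · obtain ⟨l, hl, hlg⟩ := h1
        have : l⁻¹ * g ∈ P := QuotientGroup.eq.1 hlg
        have := Subgroup.mul_mem_sup hl this
        simpa using this
      · have hle : (Cfsg.pResidual p H).map π ≤ Cfsg.pResidual p (H ⧸ P) := by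
          rw [Subgroup.map_le_iff_le_comap, Cfsg.pResidual, Subgroup.closure_le]
          exact fun x hx => CfsgLib.Transfer.mem_pResidual_of_coprime
            (Nat.Coprime.coprime_dvd_left (orderOf_map_dvd π x) hx)
        exact hle ⟨g, hg, rfl⟩
    · exfalso
      refine hnc ((CfsgLib.LocalEven.isPClosed_subgroup_iff S L).2 fun x hx => ?_)
      have : π x ∈ (⊥ : Subgroup (H ⧸ P)) :=
        h ▸ ⟨⟨x, hx.1, rfl⟩, ⟨x, hx.2, rfl⟩⟩
      exact (QuotientGroup.eq_one_iff x).1 (Subgroup.mem_bot.1 this)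
  · rcases hC.2 _ ⟨E, hE, rfl⟩ _ ⟨K, hK, rfl⟩ with h | h
    · left
      have key : ∀ A B : Subgroup H, A ∈ 𝒦 → B ∈ 𝒦 → res p (A.map π) ≤ res p (B.map π) →
          res p (A ⊔ P) ≤ res p (B ⊔ P) := by
        intro A B hA hB hle
        refine res_le_iff.2 fun g hg hco => ?_
        have h1 : π g ∈ res p (B.map π) := by
          refine hle (mem_res ?_ (Nat.Coprime.coprime_dvd_left (orderOf_map_dvd π g) hco))
          rw [← hπbar]; exact ⟨g, hg, rfl⟩
        have h2 : π g ∈ B.map π := res_le _ h1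
        obtain ⟨b, hb, hbg⟩ := h2
        have h3 : g ∈ B ⊔ P := by
          have := Subgroup.mul_mem_sup hb (QuotientGroup.eq.1 hbg)
          simpa using this
        exact mem_res h3 hco
      exact le_antisymm (key E K hE hK h.le) (key K E hK hE h.ge)
    · right
      rw [← Subgroup.map_commutator, Subgroup.map_eq_bot_iff, QuotientGroup.ker_mk'] at h
      exact h

end CfsgLib.LocalEven.Family
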