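import Cfsg.Agent.Lib.LocalEven.PReduced2

/-!
Parabolic subgroups and their `p`-reduced normal subgroups.
-/

namespace CfsgLib.LocalEven

variable {G : Type*} [Group G] {p : ℕ} [Finite G] [Fact p.Prime]

theorem omegaCenter_le_sylowCenterClosure (T : Sylow p G) {L : Subgroup G}
    (hTL : (T : Subgroup G) ≤ L) :
    Cfsg.omegaOne p ((T : Subgroup G) ⊓ Subgroup.centralizer ((T : Subgroup G) : Set G)) ≤
      Cfsg.sylowCenterClosure p L := by
  refine le_iSup_of_le (T.subtype hTL) ?_
  rw [Sylow.coe_subtype, Subgroup.map_subgroupOf_eq_of_le hTL]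

theorem pCoreOf_le_parabolic (T : Sylow p G) {L : Subgroup G} (hTL : (T : Subgroup G) ≤ L) :
    Cfsg.pCoreOf p L ≤ (T : Subgroup G) := by
  intro x hx
  obtain ⟨y, hy, rfl⟩ := hx
  have := pCore_le_sylow (T.subtype hTL) hy
  simpa [Sylow.coe_subtype, Subgroup.mem_subgroupOf] using this

theorem centralizer_inf_sup {V W : Subgroup G} {x : G}
    (hV : x ∈ Subgroup.centralizer (V : Set G)) (hW : x ∈ Subgroup.centralizer (W : Set G)) :
    x ∈ Subgroup.centralizer ((V ⊔ W : Subgroup G) : Set G) := by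
  have : V ⊔ W ≤ Subgroup.centralizer ({x} : Set G) := sup_le
    (fun y hy => Subgroup.mem_centralizer_singleton_iff.2 (hV y hy))
    (fun y hy => Subgroup.mem_centralizer_singleton_iff.2 (hW y hy))
  exact fun y hy => Subgroup.mem_centralizer_singleton_iff.1 (this hy)

/-- `p`-reducedness is inherited along `L C(Y) = M C(Y)`. -/
theorem IsPRedIn.of_sup_centralizer (T : Sylow p G) {L M Y : Subgroup G}
    (hTL : (T : Subgroup G) ≤ L) (hTM : (T : Subgroup G) ≤ M) (hY : IsPRedIn p Y M)
    (h : L ⊔ Subgroup.centralizer (Y : Set G) = M ⊔ Subgroup.centralizer (Y : Set G)) :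
    IsPRedIn p Y L := by
  set C := Subgroup.centralizer (Y : Set G) with hC
  have hMC : M ⊔ C ≤ Subgroup.normalizer (Y : Set G) :=
    sup_le hY.2.1 (Subgroup.centralizer_le_normalizer _)
  have hCn : Subgroup.normalizer (Y : Set G) ≤ Subgroup.normalizer (C : Set G) :=
    normalizer_le_normalizer_centralizer _
  refine ⟨(hY.le_pCoreOf.trans (pCoreOf_le_parabolic T hTM)).trans hTL,
    (le_sup_left.trans h.le).trans hMC, hY.2.2.1, fun D hDL hDn hD => ?_⟩
  set U := Subgroup.normalizer (Y : Set G)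
  have hDC : D ⊔ C ≤ U := (sup_le (hDL.trans le_sup_left) le_sup_right).trans (h.le.trans hMC)
  have hpow : ∀ x ∈ D ⊔ C, ∃ k, x ^ p ^ k ∈ C := by
    intro x hx
    have hDU : D ≤ Subgroup.normalizer (C : Set G) := le_sup_left.trans (hDC.trans hCn)
    rw [← SetLike.mem_coe, Subgroup.coe_mul_of_left_le_normalizer_right D C hDU] at hx
    obtain ⟨d, hd, c, hc, rfl⟩ := hx
    obtain ⟨k, hk⟩ := hD d hd
    refine ⟨k, ?_⟩
    have key : ∀ n : ℕ, ∃ c' ∈ C, (d * c) ^ n = d ^ n * c' := by
      intro n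
      induction n with
      | zero => exact ⟨1, C.one_mem, by simp⟩
      | succ n ih =>
        obtain ⟨c', hc', e⟩ := ih
        refine ⟨d⁻¹ * c' * d * c, C.mul_mem ?_ hc, by rw [pow_succ, e, pow_succ]; group⟩
        have := (Subgroup.mem_normalizer_iff.1 (hDU (D.inv_mem hd)) c').1 hc'
        simpa using this
    obtain ⟨c', hc', e⟩ := key (p ^ k)
    rw [e]; exact C.mul_mem hk hc'
  have hn : M ≤ Subgroup.normalizer ((D ⊔ C : Subgroup G) : Set G) := by
    refine le_sup_left.trans (h.ge.trans (sup_le ?_ (le_sup_right.trans Subgroup.le_normalizer)))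
    intro g hg
    apply mem_normalizer_of_conj
    rw [Subgroup.map_sup, conj_map_eq_of_mem_normalizer (hDn hg),
      conj_map_eq_of_mem_normalizer (hCn ((le_sup_left.trans (h.le.trans hMC)) hg))]
  have hE := hY.2.2.2 (M ⊓ (D ⊔ C)) inf_le_left
    ((le_inf Subgroup.le_normalizer hn).trans Subgroup.inf_normalizer_le_normalizer_inf)
    (fun x hx => hpow x hx.2)
  intro d hd
  have hdMC : d ∈ M ⊔ C := (hDL.trans (le_sup_left.trans h.le)) hd
  rw [← SetLike.mem_coe, Subgroup.coe_mul_of_left_le_normalizer_right M C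
    (hY.2.1.trans hCn)] at hdMC
  obtain ⟨m, hm, c, hc, rfl⟩ := hdMC
  have : m ∈ D ⊔ C := by
    have := (D ⊔ C).mul_mem ((le_sup_left : D ≤ D ⊔ C) hd) ((le_sup_right : C ≤ D ⊔ C) (C.inv_mem hc))
    simpa using this
  exact C.mul_mem (hE ⟨hm, this⟩) hc

/-- The Frattini argument for `C_L(Y)`. -/
theorem exists_factor_centralizer (T : Sylow p G) {L Y : Subgroup G} (hTL : (T : Subgroup G) ≤ L)
    (hLY : L ≤ Subgroup.normalizer (Y : Set G)) {g : G} (hg : g ∈ L) :
    ∃ a ∈ L ⊓ Subgroup.normalizer (((T : Subgroup G) ⊓ Subgroup.centralizer (Y : Set G) :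
      Subgroup G) : Set G), ∃ c ∈ L ⊓ Subgroup.centralizer (Y : Set G), g = a * c := by
  have h : (T : Subgroup G) ⊓ Subgroup.centralizer (Y : Set G) =
      (T : Subgroup G) ⊓ (L ⊓ Subgroup.centralizer (Y : Set G)) := by
    rw [← inf_assoc, inf_eq_left.2 hTL]
  rw [h]
  exact exists_frattini_factor T hTL inf_le_left
    ((le_inf Subgroup.le_normalizer (hLY.trans (normalizer_le_normalizer_centralizer _))).trans
      Subgroup.inf_normalizer_le_normalizer_inf) hg

/-- `O_p(N_L(T_L)) = T_L`. -/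
theorem pCoreOf_normalizer_eq (T : Sylow p G) {L Y : Subgroup G} (hTL : (T : Subgroup G) ≤ L)
    (hY : IsPRedIn p Y L) :
    Cfsg.pCoreOf p (L ⊓ Subgroup.normalizer (((T : Subgroup G) ⊓ Subgroup.centralizer (Y : Set G) :
      Subgroup G) : Set G)) = (T : Subgroup G) ⊓ Subgroup.centralizer (Y : Set G) := by
  set C := Subgroup.centralizer (Y : Set G) with hC
  set TL := (T : Subgroup G) ⊓ C with hTLdef
  set N := L ⊓ Subgroup.normalizer (TL : Set G) with hN
  have hTN : (T : Subgroup G) ≤ N := le_inf hTL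
    ((le_inf Subgroup.le_normalizer ((hTL.trans hY.2.1).trans
      (normalizer_le_normalizer_centralizer _))).trans Subgroup.inf_normalizer_le_normalizer_inf)
  refine le_antisymm ?_ (le_pCoreOf (inf_le_left.trans hTN) inf_le_right
    (T.isPGroup'.to_le inf_le_left))
  set R := Cfsg.pCoreOf p N
  have hRT : R ≤ (T : Subgroup G) := pCoreOf_le_parabolic T hTN
  refine le_inf hRT ?_
  -- `R C_L(Y)` is normal in `L` and acts on `Y` as a `p`-group
  have hCLn : L ≤ Subgroup.normalizer ((L ⊓ C : Subgroup G) : Set G) :=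
    (le_inf Subgroup.le_normalizer (hY.2.1.trans (normalizer_le_normalizer_centralizer _))).trans
      Subgroup.inf_normalizer_le_normalizer_inf
  have hRL : R ≤ L := (pCoreOf_le p N).trans inf_le_left
  refine le_sup_left.trans (hY.2.2.2 (R ⊔ (L ⊓ C)) (sup_le hRL inf_le_left) ?_ ?_)
  · intro g hg
    obtain ⟨a, ha, c, hc, rfl⟩ := exists_factor_centralizer T hTL hY.2.1 hg
    refine Subgroup.mul_mem _ ?_ (Subgroup.le_normalizer ((le_sup_right : L ⊓ C ≤ R ⊔ (L ⊓ C)) hc))
    apply mem_normalizer_of_conj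
    rw [Subgroup.map_sup, conj_map_eq_of_mem_normalizer (le_normalizer_pCoreOf p N ha),
      conj_map_eq_of_mem_normalizer (hCLn ha.1)]
  · intro x hx
    rw [← SetLike.mem_coe, Subgroup.coe_mul_of_left_le_normalizer_right R _ (hRL.trans hCLn)] at hx
    obtain ⟨r, hr, c, hc, rfl⟩ := hx
    obtain ⟨k, hk⟩ := (isPGroup_pCoreOf N : IsPGroup p R) ⟨r, hr⟩
    have hk' : r ^ p ^ k = 1 := by simpa using congrArg Subtype.val hk
    refine ⟨k, ?_⟩
    have key : ∀ n : ℕ, ∃ c' ∈ L ⊓ C, (r * c) ^ n = r ^ n * c' := by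
      intro n
      induction n with
      | zero => exact ⟨1, Subgroup.one_mem _, by simp⟩
      | succ n ih =>
        obtain ⟨c', hc', e⟩ := ih
        refine ⟨r⁻¹ * c' * r * c, Subgroup.mul_mem _ ?_ hc, by rw [pow_succ, e, pow_succ]; group⟩
        have := (Subgroup.mem_normalizer_iff.1 (hCLn (L.inv_mem (hRL hr))) c').1 hc'
        simpa using this
    obtain ⟨c', hc', e⟩ := key (p ^ k)
    rw [e, hk', one_mul]; exact hc'.2

/-- `Y_L = Ω₁Z(C_T(Y_L))` in characteristic `p`. -/
theorem eq_omegaCenter (T : Sylow p G) {L Y : Subgroup G} (hTL : (T : Subgroup G) ≤ L)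
    (hL : Subgroup.centralizer (Cfsg.pCore p L : Set L) ≤ Cfsg.pCore p L)
    (hY : IsPRedIn p Y L) (hmax : ∀ V, IsPRedIn p V L → V ≤ Y) :
    Y = Cfsg.omegaOne p (((T : Subgroup G) ⊓ Subgroup.centralizer (Y : Set G)) ⊓
      Subgroup.centralizer (((T : Subgroup G) ⊓ Subgroup.centralizer (Y : Set G) : Subgroup G) :
        Set G)) := by
  set C := Subgroup.centralizer (Y : Set G) with hC
  set TL := (T : Subgroup G) ⊓ C with hTLdef
  set W := Cfsg.omegaOne p (TL ⊓ Subgroup.centralizer (TL : Set G)) with hW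
  have hYW : Y ≤ W := le_omegaOne_center hY.2.2.1
    (le_inf (hY.le_pCoreOf.trans (pCoreOf_le_parabolic T hTL)) (elemAbelian_le_centralizer hY.2.2.1))
    (Subgroup.le_centralizer_iff.1 inf_le_right)
  refine le_antisymm hYW ?_
  have hOT : Cfsg.pCoreOf p L ≤ TL := le_inf (pCoreOf_le_parabolic T hTL) hY.pCoreOf_le_centralizer
  set Ω := Cfsg.omegaOne p (Cfsg.pCoreOf p L ⊓ Subgroup.centralizer (Cfsg.pCoreOf p L : Set G))
    with hΩ
  have hWΩ : W ≤ Ω := by
    refine Subgroup.closure_le _ |>.2 fun x hx => Subgroup.subset_closure ⟨⟨?_, ?_⟩, hx.2⟩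
    · exact (charP_iff L).1 hL ⟨hTL hx.1.1.1, Subgroup.centralizer_le hOT hx.1.2⟩
    · exact Subgroup.centralizer_le hOT hx.1.2
  -- the closure `W'` of `W` under `L`
  set W' := ⨆ g : L, W.map (MulAut.conj (g : G)).toMonoidHom with hW'
  have hΩn : L ≤ Subgroup.normalizer (Ω : Set G) := fun g hg => by
    apply mem_normalizer_of_conj
    rw [hΩ, map_omegaOne p _ _ (MulAut.conj g).injective, map_center_inf _ _ (MulAut.conj g).injective,
      conj_map_eq_of_mem_normalizer (le_normalizer_pCoreOf p L hg)]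
  have hW'Ω : W' ≤ Ω := iSup_le fun g =>
    (Subgroup.map_mono hWΩ).trans (conj_map_eq_of_mem_normalizer (hΩn g.2)).le
  have hle : W ≤ W' := le_iSup_of_le (1 : L) (fun x hx => ⟨x, hx, by simp⟩)
  have hW'n : L ≤ Subgroup.normalizer (W' : Set G) := by
    have key : ∀ g ∈ L, W'.map (MulAut.conj g).toMonoidHom ≤ W' := by
      intro g hg
      rw [hW', Subgroup.map_iSup]
      refine iSup_le fun h => le_iSup_of_le (⟨g, hg⟩ * h) ?_
      rw [Subgroup.map_map]
      rintro _ ⟨x, hx, rfl⟩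
      exact ⟨x, hx, by simp [mul_assoc]⟩
    intro g hg
    rw [Subgroup.mem_normalizer_iff]
    refine fun x => ⟨fun hx => key g hg ⟨x, hx, rfl⟩, fun hx => ?_⟩
    have := key g⁻¹ (L.inv_mem hg) ⟨_, hx, rfl⟩
    simpa [mul_assoc] using this
  refine hle.trans (hmax W' ⟨hW'Ω.trans ((omegaOne_le p _).trans (inf_le_left.trans (pCoreOf_le p L))),
    hW'n, elemAbelian_mono (elemAbelian_omegaOne_center p _) hW'Ω, fun D hDL hDn hD => ?_⟩)
  have hYW' : Y ≤ W' := hYW.trans hle
  have hDC : D ≤ C := hY.2.2.2 D hDL hDn fun d hd =>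
    (hD d hd).imp fun _ hk => Subgroup.centralizer_le (SetLike.coe_subset_coe.2 hYW') hk
  have hDW : ∀ d ∈ D, d ∈ Subgroup.centralizer (W : Set G) := by
    intro d hd
    obtain ⟨s, hs, c, hc, rfl⟩ :=
      exists_sylow_mul_centralizer hW'n hDL hDn hD (T.subtype hTL) hd
    refine Subgroup.mul_mem _ ?_ (Subgroup.centralizer_le (SetLike.coe_subset_coe.2 hle) hc.2)
    have hsT : s ∈ (T : Subgroup G) := by
      rwa [Sylow.coe_subtype, Subgroup.map_subgroupOf_eq_of_le hTL] at hs
    have hsC : s ∈ C := by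
      have := C.mul_mem (hDC hd)
        (C.inv_mem (Subgroup.centralizer_le (SetLike.coe_subset_coe.2 hYW') hc.2))
      simpa using this
    intro y hy
    exact ((omegaOne_le p _ hy).2 s ⟨hsT, hsC⟩).symm
  rw [Subgroup.le_centralizer_iff]
  refine iSup_le fun g => ?_
  rintro _ ⟨x, hx, rfl⟩ d hd
  have hd' : (g : G)⁻¹ * d * g ∈ D := by
    have := (Subgroup.mem_normalizer_iff.1 (hDn (L.inv_mem g.2)) d).1 hd
    simpa using this
  have h1 := hDW _ hd' x hx
  calc d * (MulAut.conj (g : G)).toMonoidHom x = g * (((g : G)⁻¹ * d * g) * x) * (g : G)⁻¹ := by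
        simp [mul_assoc]
    _ = g * (x * ((g : G)⁻¹ * d * g)) * (g : G)⁻¹ := by rw [h1]
    _ = (MulAut.conj (g : G)).toMonoidHom x * d := by simp [mul_assoc]

/-- The normal closure of a `p`-reduced normal subgroup of a parabolic subgroup is `p`-reduced. -/
theorem isPRedIn_normalClosure (hG : Subgroup.centralizer (Cfsg.pCore p G : Set G) ≤ Cfsg.pCore p G)
    (T : Sylow p G) {R X : Subgroup G} (hTR : (T : Subgroup G) ≤ R) (hX : IsPRedIn p X R) :
    IsPRedIn p (Subgroup.normalClosure (X : Set G)) ⊤ := by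
  set P := Cfsg.pCore p G
  have hPR : P ≤ Cfsg.pCoreOf p R := le_pCoreOf ((pCore_le_sylow T).trans hTR)
    (by rw [Subgroup.normalizer_eq_top_iff.2 (inferInstance : (Cfsg.pCore p G).Normal)]; exact le_top)
    isPGroup_pCore
  set Ω := Cfsg.omegaOne p (P ⊓ Subgroup.centralizer (P : Set G)) with hΩ
  have hΩn : Ω.Normal := by
    rw [← Subgroup.normalizer_eq_top_iff, eq_top_iff]
    intro g _
    apply mem_normalizer_of_conj
    rw [hΩ, map_omegaOne p _ _ (MulAut.conj g).injective, map_center_inf _ _ (MulAut.conj g).injective,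
      conj_map_eq_of_mem_normalizer
        (by rw [Subgroup.normalizer_eq_top_iff.2 (inferInstance : (Cfsg.pCore p G).Normal)]; trivial)]
  have hXc : X ≤ Subgroup.centralizer (P : Set G) :=
    hX.le_centralizer_pCoreOf.trans (Subgroup.centralizer_le (SetLike.coe_subset_coe.2 hPR))
  have hXΩ : X ≤ Ω := le_omegaOne_center hX.2.2.1 (hXc.trans hG) hXc
  set W := Subgroup.normalClosure (X : Set G)
  have hWΩ : W ≤ Ω := Subgroup.normalClosure_le_normal hXΩ
  have hXW : X ≤ W := Subgroup.le_normalClosure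
  refine ⟨le_top, by rw [Subgroup.normalizer_eq_top_iff.2 Subgroup.normalClosure_normal],
    elemAbelian_mono (elemAbelian_omegaOne_center p _) hWΩ, fun D _ hDn hD => ?_⟩
  have hDnormal : D.Normal := Subgroup.normalizer_eq_top_iff.1 (top_le_iff.1 hDn)
  have hWn : (⊤ : Subgroup G) ≤ Subgroup.normalizer (W : Set G) := by
    rw [Subgroup.normalizer_eq_top_iff.2 Subgroup.normalClosure_normal]
  have hDR : D ⊓ R ≤ Subgroup.centralizer (X : Set G) := hX.2.2.2 _ inf_le_right
    ((le_inf ((le_top : R ≤ ⊤).trans hDn) Subgroup.le_normalizer).trans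
      Subgroup.inf_normalizer_le_normalizer_inf)
    (fun d hd => (hD d hd.1).imp fun _ hk =>
      Subgroup.centralizer_le (SetLike.coe_subset_coe.2 hXW) hk)
  have hDX : D ≤ Subgroup.centralizer (X : Set G) := by
    intro d hd
    -- enlarge `D` by `C(W)`
    have hCn : (Subgroup.centralizer (W : Set G)).Normal := by
      rw [← Subgroup.normalizer_eq_top_iff, eq_top_iff]
      exact hWn.trans (normalizer_le_normalizer_centralizer _)
    obtain ⟨s, hs, c, hc, rfl⟩ := exists_sylow_mul_centralizer hWn le_top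
      (D := D ⊔ Subgroup.centralizer (W : Set G))
      (by rw [Subgroup.normalizer_eq_top_iff.2 (Subgroup.sup_normal _ _)])
      (fun x hx => by
        obtain ⟨a, ha, b, hb, rfl⟩ := Subgroup.mem_sup_of_normal_right.1 hx
        obtain ⟨k, hk⟩ := hD a ha
        refine ⟨k, (QuotientGroup.eq_one_iff _).1 ?_⟩
        rw [QuotientGroup.mk_pow, QuotientGroup.mk_mul, (QuotientGroup.eq_one_iff b).2 hb, mul_one,
          ← QuotientGroup.mk_pow]
        exact (QuotientGroup.eq_one_iff _).2 hk)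
      (T.subtype le_top) ((le_sup_left : D ≤ D ⊔ Subgroup.centralizer (W : Set G)) hd)
    have hcX := Subgroup.centralizer_le (SetLike.coe_subset_coe.2 hXW) hc.2
    refine Subgroup.mul_mem _ ?_ hcX
    have hsT : s ∈ (T : Subgroup G) := by
      rwa [Sylow.coe_subtype, Subgroup.map_subgroupOf_eq_of_le le_top] at hs
    have hsD : s ∈ D ⊔ Subgroup.centralizer (W : Set G) := by
      have := Subgroup.mul_mem _ ((le_sup_left : D ≤ D ⊔ Subgroup.centralizer (W : Set G)) hd)
        ((le_sup_right : _ ≤ D ⊔ Subgroup.centralizer (W : Set G)) ((Subgroup.centralizer _).inv_mem hc.2))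
      simpa using this
    exact hX.2.2.2 ((D ⊔ Subgroup.centralizer (W : Set G)) ⊓ R) inf_le_right
      ((le_inf (by rw [Subgroup.normalizer_eq_top_iff.2 (Subgroup.sup_normal _ _)]; exact le_top)
        Subgroup.le_normalizer).trans Subgroup.inf_normalizer_le_normalizer_inf)
      (fun x hx => by
        have hx' := hx.1
        obtain ⟨a, ha, b, hb, rfl⟩ := Subgroup.mem_sup_of_normal_right.1 hx'
        obtain ⟨k, hk⟩ := hD a ha
        refine ⟨k, Subgroup.centralizer_le (SetLike.coe_subset_coe.2 hXW) ?_⟩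
        refine (QuotientGroup.eq_one_iff _).1 ?_
        rw [QuotientGroup.mk_pow, QuotientGroup.mk_mul, (QuotientGroup.eq_one_iff b).2 hb, mul_one,
          ← QuotientGroup.mk_pow]
        exact (QuotientGroup.eq_one_iff _).2 hk)
      ⟨hsD, hTR hsT⟩
  rw [Subgroup.le_centralizer_iff]
  have : (Subgroup.centralizer (D : Set G)).Normal := by
    rw [← Subgroup.normalizer_eq_top_iff, eq_top_iff]
    exact hDn.trans (normalizer_le_normalizer_centralizer _)
  exact Subgroup.normalClosure_le_normal (Subgroup.le_centralizer_iff.1 hDX)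

end CfsgLib.LocalEven
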