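import Cfsg.Agent.Lib.LocalEven.Large
import Cfsg.Agent.Lib.LocalEven.PReduced3
import Cfsg.Agent.Lib.LocalEven.PIrred
import Cfsg.Agent.S2824

/-!
Existence of members of `𝔐` in groups of parabolic characteristic `p`.
-/

namespace CfsgLib.LocalEven

open Cfsg

variable {G : Type*} [Group G] {p : ℕ}

theorem IsPRedIn.of_map_subtype {M : Subgroup G} {X R : Subgroup M}
    (h : IsPRedIn p (X.map M.subtype) (R.map M.subtype)) : IsPRedIn p X R := by
  obtain ⟨hle, hn, he, hD⟩ := h
  refine ⟨(Subgroup.map_le_map_iff_of_injective M.subtype_injective).1 hle, fun r hr => ?_,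
    elemAbelian_iff.2 ⟨fun x hx => centralizer_map_subtype_iff.1
      ((elemAbelian_iff.1 he).1 ⟨x, hx, rfl⟩), fun a ha => Subtype.ext ?_⟩, fun D hDR hDn hDp x hx => ?_⟩
  · apply mem_normalizer_of_conj
    refine Subgroup.map_injective M.subtype_injective ?_
    have e : (X.map (MulAut.conj r).toMonoidHom).map M.subtype =
        (X.map M.subtype).map (MulAut.conj (r : G)).toMonoidHom := by
      simp only [Subgroup.map_map]; congr 1
    rw [e]
    exact conj_map_eq_of_mem_normalizer (hn ⟨r, hr, rfl⟩)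
  · simpa using (elemAbelian_iff.1 he).2 (a : G) ⟨a, ha, rfl⟩
  · refine centralizer_map_subtype_iff.1 (hD (D.map M.subtype) (Subgroup.map_mono hDR)
      ((Subgroup.map_mono hDn).trans (Subgroup.le_normalizer_map M.subtype)) ?_ ⟨x, hx, rfl⟩)
    rintro _ ⟨d, hd, rfl⟩
    exact (hDp d hd).imp fun _ hk => by simpa using centralizer_map_subtype_iff.2 hk

variable [Finite G] [Fact p.Prime]

theorem largest_le_largest (T : Sylow p G) {L M : Subgroup G} (hTL : (T : Subgroup G) ≤ L)
    (hLM : L ≤ M) (hM : Subgroup.centralizer (pCore p M : Set M) ≤ pCore p M) :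
    largestPReducedOf p L ≤ largestPReducedOf p M := by
  have hY := isPRedIn_largest (p := p) L
  have hY' : IsPRedIn p ((largestPReducedOf p L).subgroupOf M) (L.subgroupOf M) := by
    refine IsPRedIn.of_map_subtype ?_
    rwa [Subgroup.map_subgroupOf_eq_of_le (hY.1.trans hLM), Subgroup.map_subgroupOf_eq_of_le hLM]
  have hW := isPRedIn_map_iff.2 (isPRedIn_normalClosure hM (T.subtype (hTL.trans hLM))
    (R := L.subgroupOf M) (by rw [Sylow.coe_subtype]; exact Subgroup.comap_mono hTL) hY')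
  refine le_trans ?_ hW.le_largest
  conv_lhs => rw [← Subgroup.map_subgroupOf_eq_of_le (hY.1.trans hLM)]
  exact Subgroup.map_mono Subgroup.le_normalClosure

theorem pCore_charPSub_ne_bot {X : Subgroup G} (h : pCore p X ≠ ⊥) : pCoreOf p X ≠ ⊥ :=
  fun e => h ((Subgroup.map_eq_bot_iff_of_injective _ X.subtype_injective).1 e)

theorem charP_of_mem_charPSubgroups {X : Subgroup G} (h : X ∈ charPSubgroups p G) :
    Subgroup.centralizer (pCore p X : Set X) ≤ pCore p X := (charP_iff X).2 (inf_le_right.trans h.2)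

theorem mem_charPSubgroups_of_parabolic (T : Sylow p G) {X X' : Subgroup G}
    (hTX : (T : Subgroup G) ≤ X) (hXX' : X ≤ X') (h : X' ∈ charPSubgroups p G) :
    X ∈ charPSubgroups p G := by
  have hle : pCoreOf p X' ≤ pCoreOf p X :=
    le_pCoreOf ((pCoreOf_le_parabolic T (hTX.trans hXX')).trans hTX)
      (hXX'.trans (le_normalizer_pCoreOf p X')) (isPGroup_pCoreOf X')
  refine ⟨fun e => pCore_charPSub_ne_bot h.1 (le_bot_iff.1 ?_),
    (Subgroup.centralizer_le (SetLike.coe_subset_coe.2 hle)).trans (h.2.trans hle)⟩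
  refine hle.trans ?_
  rw [pCoreOf, e, Subgroup.map_bot]

theorem normalizer_mem_charPSubgroups (hH : IsOfParabolicCharacteristic p G) (T : Sylow p G)
    {R : Subgroup G} (hR : IsPGroup p R) (hR1 : R ≠ ⊥)
    (hTR : (T : Subgroup G) ≤ Subgroup.normalizer (R : Set G)) :
    Subgroup.normalizer (R : Set G) ∈ charPSubgroups p G := by
  have hle : R ≤ pCoreOf p (Subgroup.normalizer (R : Set G)) :=
    le_pCoreOf Subgroup.le_normalizer le_rfl hR
  refine ⟨fun e => hR1 (le_bot_iff.1 ?_), ?_⟩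
  · refine hle.trans ?_
    rw [pCoreOf, e, Subgroup.map_bot]
  · have h := (charP_iff _).1 (hH R hR hR1 ⟨T, hTR⟩)
    exact fun x hx => h ⟨Subgroup.centralizer_le_normalizer _
      (Subgroup.centralizer_le (SetLike.coe_subset_coe.2 hle) hx), hx⟩

theorem exists_maxCharP {X : Subgroup G} (hX : X ∈ charPSubgroups p G) :
    ∃ M ∈ maxCharPSubgroups p G, X ≤ M := by
  obtain ⟨M, hM, hmax⟩ := ({L ∈ charPSubgroups p G | X ≤ L}).toFinite.exists_maximalFor id _
    ⟨X, hX, le_rfl⟩
  exact ⟨M, ⟨hM.1, fun L hL hML => le_antisymm (hmax ⟨hL, hM.2.trans hML⟩ hML) hML⟩, hM.2⟩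

theorem largest_ne_bot (T : Sylow p G) {L : Subgroup G} (hTL : (T : Subgroup G) ≤ L)
    (hL : L ∈ charPSubgroups p G) : largestPReducedOf p L ≠ ⊥ := by
  intro e
  have hne : (T : Subgroup G) ≠ ⊥ := fun e' =>
    pCore_charPSub_ne_bot hL.1 (le_bot_iff.1 (e' ▸ pCoreOf_le_parabolic T hTL))
  obtain ⟨z, hz, hzp, hzc⟩ := exists_orderOf_eq_prime_central T.isPGroup'
    le_rfl Subgroup.le_normalizer hne
  have hY := eq_omegaCenter T hTL (charP_of_mem_charPSubgroups hL) (isPRedIn_largest (p := p) L)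
    (fun V hV => hV.le_largest)
  have hzm : z ∈ largestPReducedOf p L := by
    rw [hY]
    refine Subgroup.subset_closure ⟨⟨⟨hz, ?_⟩, fun r hr =>
      Subgroup.mem_centralizer_singleton_iff.1 (hzc hr.1)⟩, by rw [← hzp, pow_orderOf_eq_one]⟩
    rw [e]
    intro y hy
    rw [Subgroup.coe_bot, Set.mem_singleton_iff] at hy
    simp [hy]
  rw [e, Subgroup.mem_bot] at hzm
  rw [hzm, orderOf_one] at hzp
  exact (Fact.out : p.Prime).ne_one hzp.symm

/-- A normal subgroup meeting a Sylow subgroup in `O_p` lies in the preimage of the Frattini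
subgroup of `G / O_p(G)`, provided no proper subgroup containing the Sylow subgroup covers it. -/
theorem map_le_frattini_of_minimal {K : Subgroup G} [K.Normal] (T : Sylow p G)
    (hTK : (T : Subgroup G) ⊓ K ≤ pCore p G)
    (hmin : ∀ Z : Subgroup G, (T : Subgroup G) ≤ Z → Z ⊔ K = ⊤ → Z = ⊤) :
    K.map (QuotientGroup.mk' (pCore p G)) ≤ frattini (G ⧸ pCore p G) := by
  refine le_iInf₂ fun Zq hZq => ?_
  rw [Subgroup.map_le_iff_le_comap]
  set Z := Zq.comap (QuotientGroup.mk' (pCore p G)) with hZ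
  by_contra hcon
  have hPZ : pCore p G ≤ Z := fun x hx => by
    rw [hZ, Subgroup.mem_comap, QuotientGroup.mk'_apply, (QuotientGroup.eq_one_iff x).2 hx]
    exact Zq.one_mem
  have hsurj := QuotientGroup.mk'_surjective (pCore p G)
  have hZK : Z ⊔ K = ⊤ := by
    have h1 : Zq ⊔ K.map (QuotientGroup.mk' (pCore p G)) = ⊤ :=
      hZq.2 _ (lt_of_le_of_ne le_sup_left fun e => hcon
        (Subgroup.map_le_iff_le_comap.1 (e ▸ le_sup_right)))
    have h2 := congrArg (Subgroup.comap (QuotientGroup.mk' (pCore p G))) h1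
    rw [Subgroup.comap_top, ← Subgroup.map_comap_eq_self_of_surjective hsurj Zq,
      ← Subgroup.map_sup, Subgroup.comap_map_eq, QuotientGroup.ker_mk'] at h2
    rwa [sup_eq_left.2 (hPZ.trans le_sup_left)] at h2
  -- the index of `Z` is prime to `p`
  obtain ⟨P, hP⟩ := exists_sylow_inf_eq T (le_top) (le_top : K ≤ ⊤)
    (le_of_eq (Subgroup.normalizer_eq_top_iff.2 inferInstance).symm)
  have hPZK : (P : Subgroup K) ≤ Z.subgroupOf K := fun k hk =>
    hPZ (hTK (hP.le ⟨k, hk, rfl⟩))
  have hidx : ¬ p ∣ Z.index := by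
    intro hd
    have e : Z.index = (Z.subgroupOf K).index := by
      rw [← Subgroup.relIndex_top_right Z, ← hZK]
      exact (relIndex_sup_eq Z K).trans rfl
    exact P.not_dvd_index ((e ▸ hd).trans (Subgroup.index_dvd_of_le hPZK))
  obtain ⟨R⟩ : Nonempty (Sylow p Z) := inferInstance
  have hR : ¬ p ∣ ((R : Subgroup Z).map Z.subtype).index := by
    rw [Subgroup.index_map_subtype]
    exact Nat.Prime.not_dvd_mul Fact.out R.not_dvd_index hidx
  obtain ⟨m, hm⟩ := MulAction.exists_smul_eq G ((R.isPGroup'.map Z.subtype).toSylow hR) T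
  have hTZ : (T : Subgroup G) ≤ Z.map (MulAut.conj m).toMonoidHom := by
    rw [← hm]
    intro x hx
    rw [Sylow.coe_subgroup_smul, Subgroup.mem_pointwise_smul_iff_inv_smul_mem] at hx
    obtain ⟨r, -, hr⟩ := hx
    refine ⟨r, r.2, ?_⟩
    have hr' : (r : G) = m⁻¹ * x * m := by simpa [MulAut.smul_def] using hr
    simp [hr', mul_assoc]
  have htop := hmin _ hTZ (by
    have hKm : K.map (MulAut.conj m).toMonoidHom = K := conj_map_eq_of_mem_normalizer
      (by rw [Subgroup.normalizer_eq_top_iff.2 (inferInstance : K.Normal)]; exact Subgroup.mem_top m)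
    conv_lhs => rw [← hKm]
    rw [← Subgroup.map_sup, hZK]
    exact Subgroup.map_top_of_surjective _ (MulAut.conj m).surjective)
  refine hZq.1 (eq_top_iff.2 fun q _ => ?_)
  obtain ⟨g, rfl⟩ := hsurj q
  have hm' : m * g * m⁻¹ ∈ Z.map (MulAut.conj m).toMonoidHom := htop ▸ Subgroup.mem_top _
  obtain ⟨z, hz, hzg⟩ := hm'
  simp at hzg
  exact hzg ▸ hz
where
  relIndex_sup_eq (Z K : Subgroup G) [K.Normal] : Z.relIndex (Z ⊔ K) = Z.relIndex K := by
    refine Nat.eq_of_mul_eq_mul_left (Nat.pos_of_ne_zero (Subgroup.index_ne_zero_of_finite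
      (H := (Z ⊓ K).subgroupOf Z))) ?_
    show (Z ⊓ K).relIndex Z * _ = (Z ⊓ K).relIndex Z * _
    rw [Subgroup.relIndex_mul_relIndex _ _ _ inf_le_left le_sup_left]
    conv_rhs => rw [Subgroup.inf_relIndex_left, ← Subgroup.relIndex_sup_right (H := Z) (K := K),
      ← Subgroup.inf_relIndex_right Z K, mul_comm]
    rw [Subgroup.relIndex_mul_relIndex _ _ _ inf_le_right le_sup_right]

/-- Existence of a member of `𝔐` above `L`. -/
theorem exists_frakM (hH : IsOfParabolicCharacteristic p G) (T : Sylow p G) {L : Subgroup G}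
    (hTL : (T : Subgroup G) ≤ L) (hL : L ∈ charPSubgroups p G) :
    ∃ M Ls : Subgroup G, (T : Subgroup G) ≤ M ∧ IsInFrakM p M ∧ (T : Subgroup G) ≤ Ls ∧ Ls ≤ M ∧
      Ls ∈ charPSubgroups p G ∧ largestPReducedOf p L = largestPReducedOf p Ls ∧
      largestPReducedOf p L ≤ largestPReducedOf p M ∧
      L ⊔ Subgroup.centralizer (largestPReducedOf p L : Set G) =
        Ls ⊔ Subgroup.centralizer (largestPReducedOf p L : Set G) := by
  set YL := largestPReducedOf p L with hYLdef
  set C := Subgroup.centralizer (YL : Set G) with hCdef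
  set U := L ⊔ C
  have hYLr := isPRedIn_largest (p := p) L
  -- a maximal member of `𝓜` with largest `Y`
  let P : Set (Subgroup G) := {X | X ∈ maxCharPSubgroups p G ∧ (T : Subgroup G) ≤ X ∧
    YL ≤ largestPReducedOf p X ∧ L ≤ (X ⊓ U) ⊔ C}
  have hne : P.Nonempty := by
    obtain ⟨X, hX, hNX⟩ := exists_maxCharP (normalizer_mem_charPSubgroups hH T
      (isPGroup_of_exponent hYLr.2.2.1.2) (largest_ne_bot T hTL hL) (hTL.trans hYLr.2.1))
    exact ⟨X, hX, hTL.trans (hYLr.2.1.trans hNX),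
      largest_le_largest T hTL (hYLr.2.1.trans hNX) (charP_of_mem_charPSubgroups hX.1),
      fun l hl => (le_sup_left : X ⊓ U ≤ _) ⟨hNX (hYLr.2.1 hl), (le_sup_left : L ≤ U) hl⟩⟩
  obtain ⟨M₁, ⟨hM₁, hTM₁, hY₁, hL₁⟩, hmax⟩ := P.toFinite.exists_maximalFor (largestPReducedOf p) _ hne
  set Y := largestPReducedOf p M₁
  set CY := Subgroup.centralizer (Y : Set G)
  have hYr := isPRedIn_largest (p := p) M₁
  have hY1 : Y ≠ ⊥ := fun e => largest_ne_bot T hTL hL (le_bot_iff.1 (e ▸ hY₁))
  have hNY : Subgroup.normalizer (Y : Set G) = M₁ := hM₁.2 _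
    (normalizer_mem_charPSubgroups hH T (isPGroup_of_exponent hYr.2.2.1.2) hY1 (hTM₁.trans hYr.2.1))
    hYr.2.1
  have hCM₁ : CY ≤ M₁ := (Subgroup.centralizer_le_normalizer _).trans hNY.le
  have hCC : CY ≤ C := Subgroup.centralizer_le hY₁
  -- a minimal supplement
  obtain ⟨M, ⟨hTM, hMM₁, hMC⟩, hmin⟩ :=
    ({X : Subgroup G | (T : Subgroup G) ≤ X ∧ X ≤ M₁ ∧ X ⊔ CY = M₁}).toFinite.exists_minimalFor id _
      ⟨M₁, hTM₁, le_rfl, sup_eq_left.2 hCM₁⟩
  have hMY : M ≤ Subgroup.normalizer (Y : Set G) := hMM₁.trans hYr.2.1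
  have hMnC : M ≤ Subgroup.normalizer (CY : Set G) :=
    hMY.trans (normalizer_le_normalizer_centralizer _)
  have hT0 : (T : Subgroup G) ≤
      Subgroup.normalizer (((T : Subgroup G) ⊓ CY : Subgroup G) : Set G) :=
    (le_inf Subgroup.le_normalizer (hTM.trans hMnC)).trans Subgroup.inf_normalizer_le_normalizer_inf
  have hMN : M ≤ Subgroup.normalizer (((T : Subgroup G) ⊓ CY : Subgroup G) : Set G) := by
    refine (hmin ⟨le_inf hTM hT0, inf_le_left.trans hMM₁,
      le_antisymm (sup_le (inf_le_left.trans hMM₁) hCM₁) ?_⟩ inf_le_left).trans inf_le_right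
    rw [← hMC]
    refine sup_le (fun g hg => ?_) le_sup_right
    obtain ⟨a, ha, c, hc, rfl⟩ := exists_factor_centralizer T hTM hMY hg
    exact Subgroup.mul_mem_sup ha hc.2
  have hM : M ∈ charPSubgroups p G := mem_charPSubgroups_of_parabolic T hTM hMM₁ hM₁.1
  have hYM : largestPReducedOf p M = Y := by
    refine le_antisymm (largest_le_largest T hTM hMM₁ (charP_of_mem_charPSubgroups hM₁.1))
      (hYr.of_sup_centralizer T hTM hTM₁ ?_).le_largest
    show M ⊔ CY = M₁ ⊔ CY
    rw [sup_eq_left.2 hCM₁, hMC]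
  have hfrakM : IsInFrakM p M := by
    unfold IsInFrakM
    rw [hYM]
    refine ⟨hM, hMC.symm ▸ hM₁, fun X hX hMX => ?_, ?_, ?_, ?_⟩
    · rw [hMC]
      have hle : Y ≤ largestPReducedOf p X :=
        hYM ▸ largest_le_largest T hTM hMX (charP_of_mem_charPSubgroups hX.1)
      have hXP : X ∈ P := by
        refine ⟨hX, hTM.trans hMX, hY₁.trans hle, hL₁.trans (sup_le (fun z hz => ?_) le_sup_right)⟩
        have hz' : z ∈ M ⊔ CY := hMC.symm ▸ hz.1
        obtain ⟨m, hm, c, hc, rfl⟩ := (CfsgLib.Coprime.mem_sup_iff_of_le_normalizer hMnC).1 hz'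
        refine Subgroup.mul_mem_sup ⟨hMX hm, ?_⟩ (hCC hc)
        have := U.mul_mem hz.2 ((le_sup_right : C ≤ U) (C.inv_mem (hCC hc)))
        simpa using this
      have heq : largestPReducedOf p X = Y := le_antisymm (hmax hXP hle) hle
      refine (hX.2 M₁ hM₁.1 ?_).symm
      have := (isPRedIn_largest (p := p) X).2.1
      rw [heq, hNY] at this
      exact this
    · rw [hMC]
    · have hKn : M ≤ Subgroup.normalizer ((M ⊓ CY : Subgroup G) : Set G) :=
        (le_inf Subgroup.le_normalizer hMnC).trans Subgroup.inf_normalizer_le_normalizer_inf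
      obtain ⟨Q, hQ⟩ := exists_sylow_inf_eq T hTM (inf_le_left : M ⊓ CY ≤ M) hKn
      refine (isPClosed_iff_sylow_le Q).2 (fun x hx => ?_)
      have h1 : (x : G) ∈ pCoreOf p (M ⊓ CY) := by
        refine le_pCoreOf (N := (T : Subgroup G) ⊓ CY) ?_ (inf_le_left.trans hMN)
          (T.isPGroup'.to_le inf_le_left) ?_
        · exact le_inf (inf_le_left.trans hTM) inf_le_right
        · have := hQ.le ⟨x, hx, rfl⟩
          exact ⟨this.1, this.2.2⟩
      obtain ⟨y, hy, hxy⟩ := h1
      exact Subtype.ext hxy ▸ hy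
    · have hKnormal : ((M ⊓ CY).subgroupOf M).Normal :=
        (Subgroup.normal_subgroupOf_iff_le_normalizer inf_le_left).2
          ((le_inf Subgroup.le_normalizer hMnC).trans Subgroup.inf_normalizer_le_normalizer_inf)
      refine map_le_frattini_of_minimal (T.subtype hTM) (fun x hx => ?_) (fun Z hTZ hZK => ?_)
      · rw [Sylow.coe_subtype] at hx
        obtain ⟨y, hy, hxy⟩ := le_pCoreOf (p := p) (inf_le_left.trans hTM) hMN
          (T.isPGroup'.to_le inf_le_left)
          (show (x : G) ∈ (T : Subgroup G) ⊓ CY from ⟨hx.1, hx.2.2⟩)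
        exact Subtype.ext hxy ▸ hy
      · rw [eq_top_iff]
        have hT' : (T : Subgroup G) ≤ Z.map M.subtype := fun t ht =>
          ⟨⟨t, hTM ht⟩, hTZ (by rw [Sylow.coe_subtype]; exact ht), rfl⟩
        have hZM : Z.map M.subtype ≤ M := Subgroup.map_subtype_le _
        have hZC : Z.map M.subtype ⊔ CY = M₁ := by
          refine le_antisymm (sup_le (hZM.trans hMM₁) hCM₁) ?_
          rw [← hMC]
          refine sup_le ?_ le_sup_right
          have := congrArg (Subgroup.map M.subtype) hZK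
          rw [Subgroup.map_sup, ← MonoidHom.range_eq_map, Subgroup.range_subtype,
            Subgroup.map_subgroupOf_eq_of_le inf_le_left] at this
          exact this.ge.trans (sup_le_sup_left inf_le_right _)
        intro x _
        obtain ⟨z, hz, hzx⟩ := hmin ⟨hT', hZM.trans hMM₁, hZC⟩ hZM x.2
        exact Subtype.ext hzx ▸ hz
  have hLU : M ⊓ U ⊔ C = U := by
    refine le_antisymm (sup_le inf_le_right le_sup_right) (sup_le (hL₁.trans (sup_le ?_ le_sup_right))
      le_sup_right)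
    intro z hz
    obtain ⟨m, hm, c, hc, rfl⟩ :=
      (CfsgLib.Coprime.mem_sup_iff_of_le_normalizer hMnC).1 (hMC.symm ▸ hz.1 : z ∈ M ⊔ CY)
    refine Subgroup.mul_mem_sup ⟨hm, ?_⟩ (hCC hc)
    have := U.mul_mem hz.2 ((le_sup_right : C ≤ U) (C.inv_mem (hCC hc)))
    simpa using this
  have hTMU : (T : Subgroup G) ≤ M ⊓ U := le_inf hTM (hTL.trans le_sup_left)
  have hT0n : (T : Subgroup G) ≤
      Subgroup.normalizer (((T : Subgroup G) ⊓ C : Subgroup G) : Set G) :=
    (le_inf Subgroup.le_normalizer ((hTL.trans hYLr.2.1).trans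
      (normalizer_le_normalizer_centralizer _))).trans Subgroup.inf_normalizer_le_normalizer_inf
  obtain ⟨e1, e2⟩ := Cfsg.Agent.S2824.result T L (M ⊓ U) hTL hTMU (charP_of_mem_charPSubgroups hL)
    (charP_of_mem_charPSubgroups (mem_charPSubgroups_of_parabolic T hTMU inf_le_left hM))
    ((T : Subgroup G) ⊓ C) rfl hLU _ rfl
  exact ⟨M, _, hTM, hfrakM, le_inf hTMU hT0n, inf_le_left.trans inf_le_left,
    mem_charPSubgroups_of_parabolic T (le_inf hTMU hT0n) (inf_le_left.trans inf_le_left) hM,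
    e1.symm, hYM.symm ▸ hY₁, e2⟩

end CfsgLib.LocalEven
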