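import Cfsg.Agent.Lib.Classical.GL2
import Cfsg.Agent.Lib.LocalEven.Zsigmondy

/-!
Two conjugates of a unipotent element of `SL₂(pⁿ)` have a product of order divisible by a number
`N` for which `p` has order `2n`; hence on a faithful module a unipotent element moves at least
`pⁿ` cosets of its fixed points.
-/

set_option autoImplicit false

namespace CfsgLib.LocalEven

open Matrix

section Matrices

variable {F : Type*} [Field F]

theorem two_sq_eq (M : Matrix (Fin 2) (Fin 2) F) :
    M * M = (M 0 0 + M 1 1) • M - M.det • (1 : Matrix (Fin 2) (Fin 2) F) := by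
  rw [Matrix.det_fin_two]
  ext i j
  fin_cases i <;> fin_cases j <;> simp [Matrix.mul_apply, Fin.sum_univ_two] <;> ring

theorem pow_lin {R : Type*} [Ring R] [Algebra F R] {T : F} {Z Y : R}
    (hZ : Z * Z = T • Z - 1) (hY : Y * Y = T • Y - 1) :
    ∀ m : ℕ, ∃ α β : F, Z ^ m = α • Z + β • (1 : R) ∧ Y ^ m = α • Y + β • (1 : R) := by
  intro m
  induction m with
  | zero => exact ⟨0, 1, by simp, by simp⟩
  | succ m ih =>
    obtain ⟨α, β, h1, h2⟩ := ih
    refine ⟨α * T + β, -α, ?_, ?_⟩
    · rw [pow_succ, h1, add_mul, smul_mul_assoc, smul_mul_assoc, hZ, one_mul, smul_sub, smul_smul,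
        add_smul, neg_smul]
      abel
    · rw [pow_succ, h2, add_mul, smul_mul_assoc, smul_mul_assoc, hY, one_mul, smul_sub, smul_smul,
        add_smul, neg_smul]
      abel

/-- A conjugate of a transvection whose product with it has order divisible by a given odd
element order. -/
theorem exists_conj_order {N : ℕ} (hN : Odd N) (hN1 : 1 < N)
    (y : Matrix.SpecialLinearGroup (Fin 2) F) (hy : orderOf y = N) {s : F} (hs : s ≠ 0) :
    ∃ g : Matrix.SpecialLinearGroup (Fin 2) F,
      N ∣ orderOf (Classical.uSL s * (g * Classical.uSL s * g⁻¹)) := by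
  have hy2 : y.1 * y.1 = (y.1 0 0 + y.1 1 1) • y.1 - 1 := by
    rw [two_sq_eq, y.2, one_smul]
  have hpow : ∀ m, (y ^ m).1 = y.1 ^ m := fun m => Matrix.SpecialLinearGroup.coe_pow y m
  have h4N : ∀ m, N ∣ 4 * m → N ∣ m := fun m h =>
    (Nat.Coprime.dvd_mul_left (show Nat.Coprime N 4 from
      (Nat.coprime_pow_right_iff (by decide : 0 < 2) N 2).2 hN.coprime_two_right)).1 h
  have ht : y.1 0 0 + y.1 1 1 ≠ 0 := by
    intro h0
    rw [h0, zero_smul, zero_sub] at hy2
    have h4 : y ^ 4 = 1 := by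
      apply Subtype.ext
      rw [hpow, show (4 : ℕ) = 2 + 2 from rfl, pow_add, sq, hy2]
      simp
    have := h4N 1 (by rw [mul_one]; exact hy ▸ orderOf_dvd_of_pow_eq_one h4)
    have := Nat.le_of_dvd one_pos this
    omega
  generalize htdef : y.1 0 0 + y.1 1 1 = t at hy2 ht
  let c : F := t / s
  let g : Matrix.SpecialLinearGroup (Fin 2) F := Classical.lSL c
  refine ⟨g, ?_⟩
  generalize hzdef : Classical.uSL s * (g * Classical.uSL s * g⁻¹) = z
  have hz : z.1 = !![1 - s * c - s ^ 2 * c ^ 2, s + s * (1 + s * c); -(s * c ^ 2), 1 + s * c] := by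
    have hgi : (g⁻¹).1 = !![1, 0; -c, 1] := by
      rw [Matrix.SpecialLinearGroup.coe_inv, Classical.lSL_coe, Matrix.adjugate_fin_two_of]
      simp
    rw [← hzdef]
    simp only [Matrix.SpecialLinearGroup.coe_mul]
    rw [hgi, Classical.lSL_coe, Classical.uSL_coe]
    ext i j
    fin_cases i <;> fin_cases j <;> simp [Matrix.mul_apply, Fin.sum_univ_two] <;> ring_nf <;> simp
  have hz2 : z.1 * z.1 = (2 - t ^ 2) • z.1 - 1 := by
    rw [two_sq_eq, z.2, one_smul, hz]
    congr 2
    simp [c]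
    field_simp
    ring
  have hY2 : (-(y.1 * y.1)) * (-(y.1 * y.1)) = (2 - t ^ 2) • (-(y.1 * y.1)) - 1 := by
    rw [neg_mul_neg, hy2]
    simp only [sub_mul, mul_sub, smul_mul_assoc, mul_smul_comm, hy2, one_mul, mul_one, neg_sub,
      smul_sub, smul_smul]
    module
  obtain ⟨α, β, h1, h2⟩ := pow_lin hz2 hY2 (orderOf z)
  rw [← Matrix.SpecialLinearGroup.coe_pow, pow_orderOf_eq_one,
    Matrix.SpecialLinearGroup.coe_one] at h1
  have hα : α = 0 := by
    have h10 := congrFun (congrFun h1 1) 0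
    rw [hz] at h10
    simp at h10
    rcases h10 with h | h | h
    · exact h
    · exact absurd h hs
    · exact absurd h (div_ne_zero ht hs)
  subst hα
  have hβ : β = 1 := by
    have h00 := congrFun (congrFun h1 0) 0
    simp at h00
    exact h00.symm
  subst hβ
  rw [zero_smul, one_smul, zero_add] at h2
  refine h4N _ (hy ▸ orderOf_dvd_of_pow_eq_one ?_)
  apply Subtype.ext
  rw [hpow, Matrix.SpecialLinearGroup.coe_one,
    show 4 * orderOf z = 2 * (orderOf z * 2) by ring, pow_mul, pow_mul, sq y.1,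
    sq ((y.1 * y.1) ^ orderOf z)]
  calc (y.1 * y.1) ^ orderOf z * (y.1 * y.1) ^ orderOf z
      = (-(y.1 * y.1)) ^ orderOf z * (-(y.1 * y.1)) ^ orderOf z := by
        rw [← (Commute.refl (y.1 * y.1)).mul_pow, ← (Commute.refl (-(y.1 * y.1))).mul_pow,
          neg_mul_neg]
    _ = 1 := by rw [h2, one_mul]

end Matrices

/-- An element of `SL₂(pⁿ)` of odd prime power order `N` such that `p` has order `2n` modulo `N`. -/
theorem exists_primitive_element (F : Type*) [Field F] [Finite F] {p n : ℕ} [hp : Fact p.Prime]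
    (hF : Nat.card F = p ^ n) (hn : 2 ≤ n) :
    ∃ (r k : ℕ) (y : Matrix.SpecialLinearGroup (Fin 2) F), r.Prime ∧ r ≠ 2 ∧
      orderOf y = r ^ (k + 1) ∧ ¬ r ∣ p ∧ ∀ j : ℕ, 0 < j → r ^ (k + 1) ∣ p ^ j - 1 → 2 * n ≤ j := by
  classical
  have hp1 : 1 < p := hp.out.one_lt
  by_cases h6 : p = 2 ∧ 2 * n = 6
  · obtain ⟨rfl, hn3⟩ := h6
    have hn3 : n = 3 := by omega
    subst hn3
    haveI := Fintype.ofFinite F
    rw [Nat.card_eq_fintype_card] at hF
    haveI : CharP F 2 := charP_of_card_eq_prime_pow hF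
    obtain ⟨a, ha0, ha1⟩ : ∃ a : F, a ≠ 0 ∧ a ≠ 1 := by
      by_contra! h
      have : (Finset.univ : Finset F).card ≤ ({0, 1} : Finset F).card :=
        Finset.card_le_card fun x _ => by
          by_cases hx : x = 0
          · simp [hx]
          · simp [h x hx]
      rw [Finset.card_univ, hF] at this
      exact absurd (this.trans Finset.card_le_two) (by norm_num)
    have h8 : a ^ 8 = a := by
      have := FiniteField.pow_card a
      rwa [hF] at this
    have h2 : (2 : F) = 0 := CharTwo.two_eq_zero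
    obtain ⟨t, ht⟩ : ∃ t : F, t ^ 3 + t + 1 = 0 := by
      have h7 : a ^ 7 = 1 := mul_left_cancel₀ ha0 (by rw [← pow_succ', h8, mul_one])
      have h : (a - 1) * ((a ^ 3 + a + 1) * (a ^ 3 + a ^ 2 + 1)) = 0 := by
        linear_combination h7 + (a - 1) * a ^ 3 * h2
      rcases mul_eq_zero.1 h with h | h
      · exact absurd (sub_eq_zero.1 h) ha1
      rcases mul_eq_zero.1 h with h | h
      · exact ⟨a, h⟩
      · exact ⟨a⁻¹, by field_simp; linear_combination h⟩
    let y : Matrix.SpecialLinearGroup (Fin 2) F :=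
      ⟨!![t, -1; 1, 0], by simp [Matrix.det_fin_two_of]⟩
    have h3 : (y ^ 3).1 = !![t ^ 3 - 2 * t, 1 - t ^ 2; t ^ 2 - 1, -t] := by
      rw [Matrix.SpecialLinearGroup.coe_pow, pow_succ, sq]
      ext i j
      fin_cases i <;> fin_cases j <;> simp [y, Matrix.mul_apply, Fin.sum_univ_two] <;> ring
    have h9 : y ^ 3 * y ^ 3 * y ^ 3 = 1 := by
      have htr : t ^ 3 - 2 * t + -t = 1 := by linear_combination ht - (1 + 2 * t) * h2
      have hw : (y ^ 3).1 * (y ^ 3).1 = (y ^ 3).1 - 1 := by
        rw [two_sq_eq, (y ^ 3).2, one_smul]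
        conv_lhs => rw [show (y ^ 3).1 0 0 + (y ^ 3).1 1 1 = 1 by rw [h3]; simpa using htr]
        rw [one_smul]
      apply Subtype.ext
      rw [Matrix.SpecialLinearGroup.coe_mul, Matrix.SpecialLinearGroup.coe_mul,
        Matrix.SpecialLinearGroup.coe_one, hw, sub_mul, one_mul, hw]
      ext i j
      fin_cases i <;> fin_cases j <;> simp <;>
        first
          | linear_combination h2
          | linear_combination (0 : F) * h2
          | linear_combination -h2
    refine ⟨3, 1, y, by norm_num, by norm_num, ?_, by norm_num, ?_⟩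
    · haveI : Fact (Nat.Prime 3) := ⟨by norm_num⟩
      refine orderOf_eq_prime_pow (p := 3) (n := 1) ?_ ?_
      · intro he
        rw [pow_one] at he
        have h10 := congrArg (fun g : Matrix.SpecialLinearGroup (Fin 2) F => g.1 1 0) he
        simp [h3] at h10
        have : t = 1 := by
          have : (t - 1) * (t - 1) = 0 := by linear_combination h10 + (1 - t) * h2
          simpa [sub_eq_zero] using this
        subst this
        exact one_ne_zero (α := F) (by linear_combination ht - h2)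
      · rw [show (3 : ℕ) ^ (1 + 1) = 3 + 3 + 3 by norm_num, pow_add, pow_add]
        exact h9
    · intro j hj h
      by_contra hlt
      have : j < 6 := by omega
      interval_cases j <;> norm_num at h
  · obtain ⟨r, hr, hdvd, hmin⟩ := Zsig.exists_primitive p (2 * n) hp1 (by omega) h6
      (by rintro ⟨h, -⟩; omega)
    have hr2 : r ≠ 2 := by
      rintro rfl
      rcases hp.out.eq_two_or_odd' with h | h
      · subst h
        have h1 : 2 ∣ 2 ^ (2 * n) := dvd_pow_self 2 (by omega)
        have h2 : 1 ≤ 2 ^ (2 * n) := Nat.one_le_two_pow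
        omega
      · exact hmin 1 one_pos (by omega) (by
          rw [pow_one]; obtain ⟨k, hk⟩ := h; exact ⟨k, by omega⟩)
    have hrp : ¬ r ∣ p := fun h => by
      have h1 : r ∣ p ^ (2 * n) := h.trans (dvd_pow_self p (by omega))
      have h2 : 1 ≤ p ^ (2 * n) := Nat.one_le_pow _ _ hp.out.pos
      have := Nat.dvd_sub h1 hdvd
      rw [Nat.sub_sub_self h2] at this
      exact hr.one_lt.ne' (Nat.dvd_one.1 this)
    haveI : Fact r.Prime := ⟨hr⟩
    obtain ⟨y, hy⟩ := exists_prime_orderOf_dvd_card' (G := Matrix.SpecialLinearGroup (Fin 2) F) r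
      (by
        rw [Classical.card_SL_two, hF, ← pow_mul, mul_comm n 2]
        exact dvd_mul_of_dvd_right hdvd _)
    refine ⟨r, 0, y, hr, hr2, by rw [hy, zero_add, pow_one], hrp, fun j hj h => ?_⟩
    by_contra hlt
    exact hmin j hj (by omega) (by simpa using h)

section Action

variable {G : Type*} [Group G] [Finite G]

/-- Orbit counting: an element of order `r^(k+1)` whose power of order `r` does not centralise
`V`. -/
theorem pow_two_n_le {p : ℕ} [hp : Fact p.Prime] (V : Subgroup G) (hV : IsPGroup p V)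
    {r k m : ℕ} (hr : r.Prime) (hrp : ¬ r ∣ p)
    (hmin : ∀ j : ℕ, 0 < j → r ^ (k + 1) ∣ p ^ j - 1 → m ≤ j)
    (x : G) (hx : orderOf x = r ^ (k + 1)) (hxN : x ∈ Subgroup.normalizer (V : Set G))
    (hxV : x ^ r ^ k ∉ Subgroup.centralizer (V : Set G)) :
    p ^ m ≤ (V ⊓ Subgroup.centralizer ({x ^ r ^ k} : Set G)).relIndex V := by
  classical
  generalize hw : x ^ r ^ k = w at hxV ⊢
  set U := V ⊓ Subgroup.centralizer ({w} : Set G) with hU
  obtain ⟨j, hj⟩ := hV.index (U.subgroupOf V)
  have hj' : U.relIndex V = p ^ j := hj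
  rw [hj']
  refine Nat.pow_le_pow_right hp.out.pos ?_
  have hj0 : 0 < j := by
    refine Nat.pos_of_ne_zero fun h0 => hxV ?_
    rw [h0, pow_zero] at hj'
    rw [Subgroup.mem_centralizer_iff]
    intro v hv
    exact Subgroup.mem_centralizer_singleton_iff.1 (Subgroup.relIndex_eq_one.1 hj' hv).2
  refine hmin j hj0 ?_
  let X := Subgroup.zpowers x
  let D := {v : G // v ∈ V ∧ v ∉ U}
  have hXN : ∀ g ∈ X, g ∈ Subgroup.normalizer (V : Set G) := fun g hg => by
    obtain ⟨i, rfl⟩ := Subgroup.mem_zpowers_iff.1 hg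
    exact zpow_mem hxN i
  have hXw : ∀ g ∈ X, g * w = w * g := fun g hg => by
    obtain ⟨i, rfl⟩ := Subgroup.mem_zpowers_iff.1 hg
    rw [← hw]
    exact ((Commute.refl x).zpow_left i).pow_right _
  have hUinv : ∀ g ∈ X, ∀ v, g * v * g⁻¹ ∈ U → v ∈ U := by
    intro g hg v hv
    refine ⟨(Subgroup.mem_normalizer_iff.1 (hXN g hg) v).2 hv.1,
      Subgroup.mem_centralizer_singleton_iff.2 ?_⟩
    have h : w * (g * v * g⁻¹) = g * v * g⁻¹ * w :=
      (Subgroup.mem_centralizer_singleton_iff.1 hv.2).symm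
    have hgw := hXw g hg
    symm
    have hgw' : g⁻¹ * w = w * g⁻¹ := (Commute.inv_left (a := g) (b := w) hgw).eq
    calc w * v = w * g⁻¹ * (g * v * g⁻¹) * g := by group
      _ = g⁻¹ * (w * (g * v * g⁻¹)) * g := by rw [← hgw']; group
      _ = g⁻¹ * (g * v * g⁻¹ * w) * g := by rw [h]
      _ = v * (g⁻¹ * (w * g)) := by group
      _ = v * w := by rw [← hgw, inv_mul_cancel_left]
  letI act : MulAction X D :=
    { smul := fun g v => ⟨g * v.1 * (g : G)⁻¹,
        (Subgroup.mem_normalizer_iff.1 (hXN _ g.2) _).1 v.2.1,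
        fun h => v.2.2 (hUinv _ g.2 _ h)⟩
      one_smul := fun v => Subtype.ext (by show ((1 : X) : G) * v.1 * ((1 : X) : G)⁻¹ = v.1; simp)
      mul_smul := fun g h v => Subtype.ext (by
        show ((g * h : X) : G) * v.1 * ((g * h : X) : G)⁻¹ = g * (h * v.1 * (h : G)⁻¹) * (g : G)⁻¹
        simp [mul_assoc]) }
  have hfree : ∀ v : D, MulAction.stabilizer X v = ⊥ := by
    intro v
    rw [eq_bot_iff]
    intro g hg
    rw [Subgroup.mem_bot]
    by_contra hne
    have hgv : (g : G) * v.1 * (g : G)⁻¹ = v.1 := congrArg Subtype.val hg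
    have hgc : Commute (g : G) v.1 := mul_inv_eq_iff_eq_mul.1 hgv
    refine v.2.2 ⟨v.2.1, Subgroup.mem_centralizer_singleton_iff.2 ?_⟩
    have hwg : w ∈ Subgroup.zpowers (g : G) := by
      obtain ⟨i, hi⟩ := Submonoid.mem_powers_iff _ _ |>.1
        (mem_powers_iff_mem_zpowers.2 g.2)
      have hi0 : ¬ r ^ (k + 1) ∣ i := fun h => hne (Subtype.ext (by
        rw [← hi, OneMemClass.coe_one]
        exact orderOf_dvd_iff_pow_eq_one.1 (hx ▸ h)))
      obtain ⟨l, hl, hgcd⟩ := (Nat.dvd_prime_pow hr).1 (Nat.gcd_dvd_right i (r ^ (k + 1)))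
      have hlk : l ≤ k := by
        by_contra hlk
        have : l = k + 1 := by omega
        subst this
        exact hi0 (hgcd ▸ Nat.gcd_dvd_left i _)
      have h1 : Subgroup.zpowers (x ^ i) = Subgroup.zpowers (x ^ r ^ l) := by
        rw [← hgcd, ← hx]
        refine le_antisymm ?_ ?_
        · rw [Subgroup.zpowers_le]
          obtain ⟨d, hd⟩ := Nat.gcd_dvd_left i (orderOf x)
          exact ((congrArg (x ^ ·) hd).trans (pow_mul _ _ _)) ▸ Subgroup.npow_mem_zpowers _ _
        · rw [Subgroup.zpowers_le, Subgroup.mem_zpowers_iff]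
          refine ⟨Nat.gcdA i (orderOf x), ?_⟩
          have := congrArg (fun z : ℤ => x ^ z) (Nat.gcd_eq_gcd_ab i (orderOf x))
          simp only [_root_.zpow_add, zpow_natCast, _root_.zpow_mul, pow_orderOf_eq_one, _root_.one_zpow,
            mul_one] at this
          exact this.symm
      rw [← hi, h1, ← hw, show r ^ k = r ^ l * r ^ (k - l) by rw [← pow_add]; congr 1; omega,
        pow_mul]
      exact Subgroup.npow_mem_zpowers _ _
    obtain ⟨i, rfl⟩ := Subgroup.mem_zpowers_iff.1 hwg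
    exact (hgc.zpow_left i).eq.symm
  have hDdvd : r ^ (k + 1) ∣ Nat.card D := by
    rw [Nat.card_congr (MulAction.selfEquivOrbitsQuotientProd hfree), Nat.card_prod,
      Nat.card_zpowers, hx]
    exact dvd_mul_left _ _
  have hD : Nat.card D = Nat.card U * (p ^ j - 1) := by
    have h1 : Nat.card D = ((V : Set G) \ (U : Set G)).ncard := Nat.card_coe_set_eq _
    rw [h1, Set.ncard_sdiff (inf_le_left : U ≤ V) (Set.toFinite _), ← Nat.card_coe_set_eq,
      ← Nat.card_coe_set_eq, Nat.mul_sub, mul_one, ← hj', Subgroup.relIndex,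
      ← Nat.card_congr (Subgroup.subgroupOfEquivOfLe (inf_le_left : U ≤ V)).toEquiv,
      Subgroup.card_mul_index]
    rw [Nat.card_congr (Subgroup.subgroupOfEquivOfLe (inf_le_left : U ≤ V)).toEquiv]
    rfl
  rw [hD] at hDdvd
  obtain ⟨i, hi⟩ := IsPGroup.iff_card.1 (hV.to_le (inf_le_left : U ≤ V))
  rw [hi] at hDdvd
  refine (Nat.Coprime.dvd_mul_left ?_).1 hDdvd
  exact Nat.Coprime.pow _ _ ((Nat.Prime.coprime_iff_not_dvd hr).2 hrp)

/-- On a faithful module for `SL₂(pⁿ)` a non-trivial `p`-element has displacement at least `pⁿ`. -/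
theorem displacement_ge {p : ℕ} [hp : Fact p.Prime] (V H : Subgroup G) (hV : IsPGroup p V)
    (hHV : H ≤ Subgroup.normalizer (V : Set G))
    (hf : H ⊓ Subgroup.centralizer (V : Set G) = ⊥) {F : Type*} [Field F] [Finite F] {n : ℕ}
    (hF : Nat.card F = p ^ n) (e : H ≃* Matrix.SpecialLinearGroup (Fin 2) F) (a : H)
    (ha : ∃ i : ℕ, a ^ p ^ i = 1) (ha1 : a ≠ 1) :
    p ^ n ≤ (V ⊓ Subgroup.centralizer ({(a : G)} : Set G)).relIndex V := by
  classical
  set A' := V ⊓ Subgroup.centralizer ({(a : G)} : Set G) with hA'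
  have hnc : ∀ g : H, g ≠ 1 → (g : G) ∉ Subgroup.centralizer (V : Set G) := fun g hg hc =>
    hg (Subtype.ext (by
      have : (g : G) ∈ H ⊓ Subgroup.centralizer (V : Set G) := ⟨g.2, hc⟩
      rwa [hf, Subgroup.mem_bot] at this))
  obtain ⟨j, hj⟩ := hV.index (A'.subgroupOf V)
  have hj' : A'.relIndex V = p ^ j := hj
  rw [hj']
  refine Nat.pow_le_pow_right hp.out.pos ?_
  have hj0 : 0 < j := by
    refine Nat.pos_of_ne_zero fun h0 => hnc a ha1 ?_
    rw [h0, pow_zero] at hj'
    rw [Subgroup.mem_centralizer_iff]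
    intro v hv
    exact Subgroup.mem_centralizer_singleton_iff.1 (Subgroup.relIndex_eq_one.1 hj' hv).2
  rcases Nat.lt_or_ge n 2 with hn | hn
  · omega
  haveI := Fintype.ofFinite F
  haveI : CharP F p :=
    charP_of_card_eq_prime_pow (f := n) (by rw [← Nat.card_eq_fintype_card, hF])
  obtain ⟨r, k, y, hr, hr2, hy, hrp, hmin⟩ := exists_primitive_element F hF hn
  obtain ⟨i, hi⟩ := ha
  have hpg : IsPGroup p (Subgroup.zpowers (e a)) := by
    rintro ⟨_, l, rfl⟩
    refine ⟨i, Subtype.ext ?_⟩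
    show ((e a) ^ l) ^ p ^ i = 1
    rw [← zpow_natCast, zpow_comm, zpow_natCast, ← map_pow, hi, map_one, _root_.one_zpow]
  obtain ⟨P, hP⟩ := hpg.exists_le_sylow
  obtain ⟨h, rfl⟩ := MulAction.exists_smul_eq (Matrix.SpecialLinearGroup (Fin 2) F) (Classical.uSylow (F := F) p) P
  obtain ⟨u, hu, hua⟩ := (Classical.mem_sylow_smul p).1 (hP (Subgroup.mem_zpowers _))
  obtain ⟨s, rfl⟩ := Classical.mem_uSubgroup_iff.1 (show u ∈ Classical.uSubgroup F from hu)
  have hs : s ≠ 0 := by
    rintro rfl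
    refine ha1 (e.injective ?_)
    rw [map_one, ← hua, show Classical.uSL (0 : F) = 1 from
      Matrix.SpecialLinearGroup.transvection_coeff_zero _]
    simp
  have hodd : Odd (r ^ (k + 1)) := (hr.odd_of_ne_two hr2).pow
  obtain ⟨g, hg⟩ := exists_conj_order hodd (Nat.one_lt_pow (by omega) hr.one_lt) y hy hs
  obtain ⟨c, hc⟩ := e.surjective (h * g * h⁻¹)
  set b : H := c * a * c⁻¹ with hb
  have hz : orderOf ((a : G) * (b : G)) =
      orderOf (Classical.uSL s * (g * Classical.uSL s * g⁻¹)) := by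
    rw [← Subgroup.coe_mul, Subgroup.orderOf_coe,
      ← orderOf_injective e.toMonoidHom e.injective (a * b)]
    have : e (a * b) = h * (Classical.uSL s * (g * Classical.uSL s * g⁻¹)) * h⁻¹ := by
      rw [hb, map_mul, map_mul, map_mul, map_inv, hc, ← hua]
      group
    rw [MulEquiv.coe_toMonoidHom, this]
    exact (orderOf_injective (MulAut.conj h).toMonoidHom (MulEquiv.injective _)
      (Classical.uSL s * (g * Classical.uSL s * g⁻¹))).trans rfl
  set z : G := (a : G) * (b : G) with hzdef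
  set x : G := z ^ (orderOf z / r ^ (k + 1)) with hxdef
  have hx : orderOf x = r ^ (k + 1) := orderOf_pow_orderOf_div (orderOf_pos z).ne' (hz ▸ hg)
  have hxH : x ∈ H := H.pow_mem (H.mul_mem a.2 b.2) _
  have hxV : x ^ r ^ k ∉ Subgroup.centralizer (V : Set G) := by
    intro hc'
    have h1 : (⟨x ^ r ^ k, H.pow_mem hxH _⟩ : H) = 1 := by
      by_contra h1
      exact hnc _ h1 hc'
    have h2 : r ^ (k + 1) ∣ r ^ k := hx ▸ orderOf_dvd_of_pow_eq_one (congrArg Subtype.val h1)
    have := (Nat.pow_dvd_pow_iff_le_right hr.one_lt).1 h2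
    omega
  have key := pow_two_n_le V hV hr hrp hmin x hx (hHV hxH) hxV
  set B' := A'.map (MulAut.conj (c : G)).toMonoidHom with hB'
  have hB'V : B' ≤ V := by
    rintro _ ⟨v, hv, rfl⟩
    simpa using (Subgroup.mem_normalizer_iff.1 (hHV c.2) v).1 hv.1
  have hBidx : B'.relIndex V = A'.relIndex V := by
    have h1 := Subgroup.relIndex_mul_relIndex ⊥ B' V bot_le hB'V
    have h2 := Subgroup.relIndex_mul_relIndex ⊥ A' V bot_le inf_le_left
    rw [Subgroup.relIndex_bot_left] at h1 h2
    rw [Subgroup.relIndex_bot_left] at h1 h2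
    rw [show Nat.card B' = Nat.card A' from
      Subgroup.card_map_of_injective (MulEquiv.injective _)] at h1
    exact Nat.eq_of_mul_eq_mul_left Nat.card_pos (h1.trans h2.symm)
  have hle : A' ⊓ B' ≤ V ⊓ Subgroup.centralizer ({x ^ r ^ k} : Set G) := by
    rintro v ⟨hv, w, hw, hwv⟩
    refine ⟨hv.1, Subgroup.mem_centralizer_singleton_iff.2 ?_⟩
    have c1 : Commute v (a : G) := Subgroup.mem_centralizer_singleton_iff.1 hv.2
    have c2 : Commute v (b : G) := by
      have hw' : Commute w (a : G) := Subgroup.mem_centralizer_singleton_iff.1 hw.2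
      rw [← hwv]
      simpa [hb] using hw'.map (MulAut.conj (c : G)).toMonoidHom
    exact (((c1.mul_right c2).pow_right _).pow_right _).eq
  have h3 : (V ⊓ Subgroup.centralizer ({x ^ r ^ k} : Set G)).relIndex V ≤ p ^ j * p ^ j :=
    calc _ ≤ (A' ⊓ B').relIndex V :=
          Subgroup.relIndex_le_of_le_left hle (Subgroup.index_ne_zero_of_finite)
      _ ≤ A'.relIndex V * B'.relIndex V := Subgroup.relIndex_inf_le
      _ = p ^ j * p ^ j := by rw [hBidx, hj']
  have h4 := key.trans h3
  rw [← pow_add] at h4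
  have := (Nat.pow_le_pow_iff_right hp.out.one_lt).1 h4
  omega

end Action

end CfsgLib.LocalEven
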