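import Cfsg.Agent.Lib.LocalEven.Large
import Cfsg.Agent.Lib.LocalEven.PReduced3

/-!
Members of `𝔐` in groups with a large subgroup.
-/

namespace CfsgLib.LocalEven

open Cfsg

variable {G : Type*} [Group G] [Finite G] {p : ℕ} [Fact p.Prime] (S : Sylow p G) {M : Subgroup G}

theorem frakM_pCoreOf_ne_bot (hM : IsInFrakM p M) : pCoreOf p M ≠ ⊥ := fun e =>
  hM.1.1 ((Subgroup.map_eq_bot_iff_of_injective _ M.subtype_injective).1 e)

theorem frakM_charP (hM : IsInFrakM p M) :
    Subgroup.centralizer (pCore p M : Set M) ≤ pCore p M := by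
  rw [charP_iff]
  exact inf_le_right.trans hM.1.2

/-- `O_p(M)` is the intersection of `S` with the centralizer of `Y_M`. -/
theorem frakM_sylow_inf_centralizer (hSM : (S : Subgroup G) ≤ M) (hM : IsInFrakM p M) :
    (S : Subgroup G) ⊓ Subgroup.centralizer (largestPReducedOf p M : Set G) = pCoreOf p M := by
  set C := Subgroup.centralizer (largestPReducedOf p M : Set G)
  have hY := isPRedIn_largest (p := p) M
  refine le_antisymm ?_ (le_inf (pCoreOf_le_parabolic S hSM) hY.pCoreOf_le_centralizer)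
  have hnMC : M ≤ Subgroup.normalizer ((M ⊓ C : Subgroup G) : Set G) :=
    (le_inf Subgroup.le_normalizer (hY.2.1.trans (normalizer_le_normalizer_centralizer _))).trans
      Subgroup.inf_normalizer_le_normalizer_inf
  obtain ⟨P, hP⟩ := exists_sylow_inf_eq S hSM (inf_le_left : M ⊓ C ≤ M) hnMC
  have h1 : (S : Subgroup G) ⊓ C ≤ (P : Subgroup ↥(M ⊓ C)).map (M ⊓ C).subtype := by
    rw [hP]; exact le_inf inf_le_left (le_inf (inf_le_left.trans hSM) inf_le_right)
  refine h1.trans ((Subgroup.map_mono ((isPClosed_iff_sylow_le P).1 hM.2.2.2.2.1)).trans ?_)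
  exact le_pCoreOf ((pCoreOf_le p _).trans inf_le_left)
    (fun m hm => mem_normalizer_pCoreOf (hnMC hm)) (isPGroup_pCoreOf _)

theorem frakM_ne_bot (hSM : (S : Subgroup G) ≤ M) (hM : IsInFrakM p M) :
    largestPReducedOf p M ≠ ⊥ := by
  intro e
  have h := frakM_sylow_inf_centralizer S hSM hM
  have hY := eq_omegaCenter S hSM (frakM_charP hM) (isPRedIn_largest (p := p) M)
    (fun V hV => hV.le_largest)
  rw [h] at hY
  obtain ⟨z, hz, hzp, hzc⟩ := exists_orderOf_eq_prime_central (isPGroup_pCoreOf (p := p) M)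
    le_rfl Subgroup.le_normalizer (frakM_pCoreOf_ne_bot hM)
  have hzm : z ∈ largestPReducedOf p M := by
    rw [hY]
    exact Subgroup.subset_closure ⟨⟨hz, fun r hr => Subgroup.mem_centralizer_singleton_iff.1 (hzc hr)⟩,
      by rw [← hzp, pow_orderOf_eq_one]⟩
  rw [e, Subgroup.mem_bot] at hzm
  rw [hzm, orderOf_one] at hzp
  exact (Fact.out : p.Prime).ne_one hzp.symm

/-- A `p`-subgroup of `C(Y_M)` containing `O_p(M)` equals it. -/
theorem frakM_isSylIn (hSM : (S : Subgroup G) ≤ M) (hM : IsInFrakM p M) :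
    CfsgLib.Fusion.IsSylIn p (pCoreOf p M) (Subgroup.centralizer (largestPReducedOf p M : Set G)) := by
  obtain ⟨P, hP⟩ := exists_sylow_inf_eq S (hSM.trans (isPRedIn_largest (p := p) M).2.1)
    (Subgroup.centralizer_le_normalizer _) (normalizer_le_normalizer_centralizer _)
  rw [frakM_sylow_inf_centralizer S hSM hM] at hP
  refine (CfsgLib.Fusion.exists_sylow_iff ?_).1 ⟨P, ?_⟩
  · rw [← hP]; exact Subgroup.map_subtype_le _
  · rw [← hP, Subgroup.subgroupOf, Subgroup.comap_map_eq_self_of_injective (Subgroup.subtype_injective _)]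

theorem frakM_isWeaklyClosed_dagger (hSM : (S : Subgroup G) ≤ M) (hM : IsInFrakM p M) {P : Subgroup G}
    (hP : IsPGroup p P) (hPD : P ≤ M ⊔ Subgroup.centralizer (largestPReducedOf p M : Set G))
    (hRP : pCoreOf p M ≤ P) {g : G}
    (hg : g ∈ M ⊔ Subgroup.centralizer (largestPReducedOf p M : Set G))
    (hgR : (pCoreOf p M).map (MulAut.conj g).toMonoidHom ≤ P) :
    g ∈ Subgroup.normalizer (pCoreOf p M : Set G) := by
  set C := Subgroup.centralizer (largestPReducedOf p M : Set G)
  have hDC : M ⊔ C ≤ Subgroup.normalizer (C : Set G) :=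
    (sup_le (isPRedIn_largest (p := p) M).2.1 (Subgroup.centralizer_le_normalizer _)).trans
      (normalizer_le_normalizer_centralizer _)
  have hR : pCoreOf p M ≤ C := (isPRedIn_largest (p := p) M).pCoreOf_le_centralizer
  have h1 : P ⊓ C = pCoreOf p M :=
    (frakM_isSylIn S hSM hM).2.2 _ (hP.to_le inf_le_left) (le_inf hRP hR) inf_le_right
  refine mem_normalizer_of_conj (Subgroup.eq_of_le_of_card_ge ?_
    (le_of_eq (Subgroup.card_map_of_injective (MulAut.conj g).injective).symm))
  conv_rhs => rw [← h1]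
  rintro _ ⟨x, hx, rfl⟩
  exact ⟨hgR ⟨x, hx, rfl⟩, (Subgroup.mem_normalizer_iff.1 (hDC hg) x).1 (hR hx)⟩

variable {Q : Subgroup G}

/-- The normalizer of a nontrivial normal `p`-subgroup of `M` lies in `M†`. -/
theorem frakM_normalizer_le (hQp : IsPGroup p Q) (hQ1 : Q ≠ ⊥) (hQ : IsLarge Q)
    (hSM : (S : Subgroup G) ≤ M) (hM : IsInFrakM p M) {I : Subgroup G} (hI1 : I ≠ ⊥)
    (hIp : IsPGroup p I) (hMI : M ≤ Subgroup.normalizer (I : Set G)) :
    Subgroup.normalizer (I : Set G) ≤ M ⊔ Subgroup.centralizer (largestPReducedOf p M : Set G) := by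
  set N := Subgroup.normalizer (I : Set G)
  have hne : pCore p N ≠ ⊥ := fun e => hI1 (by
    have h := le_pCoreOf (p := p) (H := N) Subgroup.le_normalizer le_rfl hIp
    rw [pCoreOf, e, Subgroup.map_bot] at h
    exact le_bot_iff.1 h)
  have hN : N ∈ charPSubgroups p G :=
    ⟨hne, isLarge_parabolic hQp hQ1 hQ ⟨S, hSM.trans hMI⟩ hne⟩
  obtain ⟨X, hX, hmax⟩ := ({L ∈ charPSubgroups p G | N ≤ L}).toFinite.exists_maximalFor id _
    ⟨N, hN, le_rfl⟩
  have hXmax : X ∈ maxCharPSubgroups p G := ⟨hX.1, fun L hL hXL =>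
    le_antisymm (hmax ⟨hL, hX.2.trans hXL⟩ hXL) hXL⟩
  rw [← hM.2.2.1 X hXmax (hMI.trans hX.2)]
  exact hX.2

omit [Finite G] [Fact p.Prime] in
theorem commute_of_asymmetric {Y : Subgroup G} (hasym : ¬ IsSymmetricIn Y) {a b : G}
    (h1 : Y.map (MulAut.conj a).toMonoidHom ≤
      Subgroup.normalizer ((Y.map (MulAut.conj b).toMonoidHom : Subgroup G) : Set G))
    (h2 : Y.map (MulAut.conj b).toMonoidHom ≤
      Subgroup.normalizer ((Y.map (MulAut.conj a).toMonoidHom : Subgroup G) : Set G)) :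
    Y.map (MulAut.conj a).toMonoidHom ≤
      Subgroup.centralizer ((Y.map (MulAut.conj b).toMonoidHom : Subgroup G) : Set G) := by
  have e1 := Subgroup.map_mono (f := (MulAut.conj a⁻¹).toMonoidHom) h1
  have e2 := Subgroup.map_mono (f := (MulAut.conj a⁻¹).toMonoidHom) h2
  rw [map_conj_normalizer, conj_map_conj_map, conj_map_conj_map, inv_mul_cancel, conj_map_one] at e1 e2
  have hcomm : ⁅Y, Y.map (MulAut.conj (a⁻¹ * b)).toMonoidHom⁆ = ⊥ := by
    by_contra hne
    exact hasym ⟨a⁻¹ * b, hne, Subgroup.commutator_le.2 fun x hx y hy =>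
      ⟨commElem_mem_right hx (e2 hy), commElem_mem_left hy (e1 hx)⟩⟩
  rw [← Subgroup.commutator_eq_bot_iff_le_centralizer]
  have := congrArg (Subgroup.map (MulAut.conj a).toMonoidHom) hcomm
  rwa [Subgroup.map_commutator, conj_map_conj_map, mul_inv_cancel_left, Subgroup.map_bot] at this

/-- For asymmetric `Y_M`: a `p`-group between `O_p(M)` and `N(O_p(M))` has its normalizer in `M†`. -/
theorem frakM_normalizer_le_of_asymmetric (hQp : IsPGroup p Q) (hQ1 : Q ≠ ⊥) (hQ : IsLarge Q)
    (hSM : (S : Subgroup G) ≤ M) (hM : IsInFrakM p M)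
    (hasym : ¬ IsSymmetricIn (largestPReducedOf p M)) {P : Subgroup G} (hP : IsPGroup p P)
    (hRP : pCoreOf p M ≤ P) (hPN : P ≤ Subgroup.normalizer (pCoreOf p M : Set G)) :
    Subgroup.normalizer (P : Set G) ≤
      M ⊔ Subgroup.centralizer (largestPReducedOf p M : Set G) := by
  set Y := largestPReducedOf p M
  set R := pCoreOf p M
  set C := Subgroup.centralizer (Y : Set G)
  set N := Subgroup.normalizer (R : Set G)
  have hMN : M ≤ N := le_normalizer_pCoreOf p M
  have hND : N ≤ M ⊔ C :=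
    frakM_normalizer_le S hQp hQ1 hQ hSM hM (frakM_pCoreOf_ne_bot hM) (isPGroup_pCoreOf M) hMN
  have hYR : Y ≤ R := (isPRedIn_largest (p := p) M).le_pCoreOf
  have hNY : N ≤ Subgroup.normalizer (Y : Set G) := hND.trans
    (sup_le (isPRedIn_largest (p := p) M).2.1 (Subgroup.centralizer_le_normalizer _))
  intro g hg
  -- edges of the graph on the cosets of `N`
  let E : G → G → Prop := fun a b => ∃ m ∈ N, ∃ e ∈ Subgroup.normalizer (P : Set G), ∃ m' ∈ N,
    b = a * m * e * m'
  have Esymm : ∀ a b, E a b → E b a := by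
    rintro a b ⟨m, hm, e, he, m', hm', rfl⟩
    exact ⟨m'⁻¹, N.inv_mem hm', e⁻¹, Subgroup.inv_mem _ he, m⁻¹, N.inv_mem hm, by group⟩
  have hedge : ∀ a b, E a b →
      R.map (MulAut.conj a).toMonoidHom ≤ N.map (MulAut.conj b).toMonoidHom := by
    rintro a b ⟨m, hm, e, he, m', hm', rfl⟩
    rw [← conj_map_conj_map (g := m') (h := a * m * e),
      conj_map_eq_of_mem_normalizer (Subgroup.le_normalizer hm')]
    refine le_trans ?_ (Subgroup.map_mono hPN)
    conv_rhs => rw [← conj_map_conj_map (g := e) (h := a * m), conj_map_eq_of_mem_normalizer he]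
    conv_lhs => rw [← conj_map_eq_of_mem_normalizer hm, conj_map_conj_map]
    exact Subgroup.map_mono hRP
  let W : ℕ → G → G → Prop := fun n =>
    Nat.rec (fun a b => a⁻¹ * b ∈ N) (fun _ w a b => ∃ c, w a c ∧ E c b) n
  have hEl : ∀ a b x, a⁻¹ * b ∈ N → E b x → E a x := by
    rintro a b x hab ⟨m, hm, e, he, m', hm', rfl⟩
    exact ⟨a⁻¹ * b * m, N.mul_mem hab hm, e, he, m', hm', by group⟩
  have hWh : ∀ n a b, W (n + 1) a b → ∃ c, E a c ∧ W n c b := by
    intro n
    induction n with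
    | zero =>
      rintro a b ⟨c, hac, hcb⟩
      exact ⟨b, hEl a c b hac hcb, show b⁻¹ * b ∈ N by simp⟩
    | succ n ih =>
      rintro a b ⟨c, hac, hcb⟩
      obtain ⟨d, had, hdc⟩ := ih a c hac
      exact ⟨d, had, c, hdc, hcb⟩
  have hWs : ∀ n a b, W n a b → W n b a := by
    intro n
    induction n with
    | zero =>
      intro a b h
      show b⁻¹ * a ∈ N
      simpa using N.inv_mem (show a⁻¹ * b ∈ N from h)
    | succ n ih =>
      intro a b h
      obtain ⟨c, hac, hcb⟩ := hWh n a b h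
      exact ⟨c, ih c b hcb, Esymm a c hac⟩
  have main : ∀ n a b, W n a b →
      Y.map (MulAut.conj a).toMonoidHom ≤ R.map (MulAut.conj b).toMonoidHom := by
    intro n
    induction n with
    | zero =>
      intro a b h
      conv_rhs => rw [show b = a * (a⁻¹ * b) by group, ← conj_map_conj_map,
        conj_map_eq_of_mem_normalizer h]
      exact Subgroup.map_mono hYR
    | succ n ih =>
      intro a b h
      obtain ⟨c, hac, hcb⟩ := id h
      have h1 := (ih a c hac).trans (hedge c b hcb)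
      obtain ⟨d, had, hdb⟩ := hWh n a b h
      have h2 := (ih b d (hWs n d b hdb)).trans (hedge d a (Esymm a d had))
      have h3 := commute_of_asymmetric hasym
        (a := a) (b := b)
        (h1.trans ((Subgroup.map_mono hNY).trans (map_conj_normalizer b Y).le))
        (h2.trans ((Subgroup.map_mono hNY).trans (map_conj_normalizer a Y).le))
      have h4 : Y.map (MulAut.conj (b⁻¹ * a)).toMonoidHom ≤ N ⊓ C := by
        refine le_inf ?_ ?_
        · have := Subgroup.map_mono (f := (MulAut.conj b⁻¹).toMonoidHom) h1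
          rwa [conj_map_conj_map, conj_map_conj_map, inv_mul_cancel, conj_map_one] at this
        · rw [← Subgroup.commutator_eq_bot_iff_le_centralizer] at h3 ⊢
          have := congrArg (Subgroup.map (MulAut.conj b⁻¹).toMonoidHom) h3
          rwa [Subgroup.map_commutator, conj_map_conj_map, conj_map_conj_map, inv_mul_cancel,
            conj_map_one, Subgroup.map_bot] at this
      have hp' := (isPGroup_of_exponent (isPRedIn_largest (p := p) M).2.2.1.2).map
        (MulAut.conj (b⁻¹ * a)).toMonoidHom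
      have h5 := (frakM_isSylIn S hSM hM).2.2 _
        (hp'.to_sup_of_normal_right' (isPGroup_pCoreOf M) (h4.trans inf_le_left)) le_sup_right
        (sup_le (h4.trans inf_le_right) (isPRedIn_largest (p := p) M).pCoreOf_le_centralizer)
      have h6 := Subgroup.map_mono (f := (MulAut.conj b).toMonoidHom) (le_sup_left.trans h5.le)
      rwa [conj_map_conj_map, mul_inv_cancel_left] at h6
  set K := Subgroup.closure ((N : Set G) ∪ {g})
  have hK : ∀ k ∈ K, ∃ n, W n 1 k := by
    intro k hk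
    induction hk using Subgroup.closure_induction'' with
    | mem x hx =>
      rcases hx with hx | rfl
      · exact ⟨0, show (1 : G)⁻¹ * x ∈ N by simpa using hx⟩
      · exact ⟨1, 1, show (1 : G)⁻¹ * 1 ∈ N by simp, 1, N.one_mem, x, hg, 1, N.one_mem, by group⟩
    | inv_mem x hx =>
      rcases hx with hx | rfl
      · exact ⟨0, show (1 : G)⁻¹ * x⁻¹ ∈ N by simpa using N.inv_mem hx⟩
      · exact ⟨1, 1, show (1 : G)⁻¹ * 1 ∈ N by simp, 1, N.one_mem, x⁻¹, Subgroup.inv_mem _ hg, 1,
          N.one_mem, by group⟩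
    | one => exact ⟨0, show (1 : G)⁻¹ * 1 ∈ N by simp⟩
    | mul x y _ _ hx hy =>
      obtain ⟨n, hn⟩ := hx
      obtain ⟨m, hm⟩ := hy
      suffices ∀ m z, W m 1 z → ∃ n', W n' 1 (x * z) from this m y hm
      intro m
      induction m with
      | zero =>
        intro z hz
        have hz' : z ∈ N := by simpa using (show (1 : G)⁻¹ * z ∈ N from hz)
        refine ⟨n, ?_⟩
        rcases n with _ | n
        · show (1 : G)⁻¹ * (x * z) ∈ N
          have : (1 : G)⁻¹ * x ∈ N := hn
          simpa using N.mul_mem (by simpa using this) hz'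
        · obtain ⟨c, hc, m₁, hm₁, e, he, m₂, hm₂, hx'⟩ := hn
          exact ⟨c, hc, m₁, hm₁, e, he, m₂ * z, N.mul_mem hm₂ hz', by rw [hx']; group⟩
      | succ m ih =>
        rintro z ⟨c, hc, m₁, hm₁, e, he, m₂, hm₂, hz'⟩
        obtain ⟨n', hn'⟩ := ih c hc
        exact ⟨n' + 1, x * c, hn', m₁, hm₁, e, he, m₂, hm₂, by rw [hz']; group⟩
  set I := ⨆ k : K, Y.map (MulAut.conj (k : G)).toMonoidHom
  have hIR : I ≤ R := iSup_le fun k => by
    obtain ⟨n, hn⟩ := hK k k.2
    have h := main n (k : G) 1 (hWs n 1 k hn)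
    rwa [conj_map_one] at h
  have hI1 : I ≠ ⊥ := fun e => frakM_ne_bot S hSM hM (le_bot_iff.1 (e ▸
    (le_iSup_of_le (1 : K) (by rw [Subgroup.coe_one, conj_map_one]) : Y ≤ I)))
  have hKI : K ≤ Subgroup.normalizer (I : Set G) := by
    intro k hk
    apply mem_normalizer_of_conj
    refine Subgroup.eq_of_le_of_card_ge ?_
      (le_of_eq (Subgroup.card_map_of_injective (MulAut.conj k).injective).symm)
    rw [Subgroup.map_iSup]
    refine iSup_le fun k' => ?_
    rw [conj_map_conj_map]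
    exact le_iSup (fun k : K => Y.map (MulAut.conj (k : G)).toMonoidHom) ⟨k * k', K.mul_mem hk k'.2⟩
  exact frakM_normalizer_le S hQp hQ1 hQ hSM hM hI1 ((isPGroup_pCoreOf M).to_le hIR)
    (fun m hm => hKI (Subgroup.subset_closure (Or.inl (hMN hm))))
    (hKI (Subgroup.subset_closure (Or.inr rfl)))

theorem frakM_weaklyClosed (hQp : IsPGroup p Q) (hQ1 : Q ≠ ⊥) (hQ : IsLarge Q)
    (hSM : (S : Subgroup G) ≤ M) (hM : IsInFrakM p M)
    (hasym : ¬ IsSymmetricIn (largestPReducedOf p M)) :
    IsWeaklyClosedSubgroup p (pCoreOf p M) := by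
  set R := pCoreOf p M
  have key : ∀ P : Subgroup G, IsPGroup p P → R ≤ P → P ≤ Subgroup.normalizer (R : Set G) →
      Subgroup.normalizer (P : Set G) ≤ Subgroup.normalizer (R : Set G) := by
    intro P hP hRP hPN g hg
    exact frakM_isWeaklyClosed_dagger S hSM hM hP (hPN.trans (frakM_normalizer_le S hQp hQ1 hQ hSM hM
      (frakM_pCoreOf_ne_bot hM) (isPGroup_pCoreOf M) (le_normalizer_pCoreOf p M))) hRP
      (frakM_normalizer_le_of_asymmetric S hQp hQ1 hQ hSM hM hasym hP hRP hPN hg)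
      ((Subgroup.map_mono hRP).trans (conj_map_eq_of_mem_normalizer hg).le)
  refine wc_of_normal_in_pGroups (isPGroup_pCoreOf M) fun L hL hRL => key L hL hRL ?_
  by_contra hcon
  set L1 := L ⊓ Subgroup.normalizer (R : Set G)
  have hlt : L1 < L := lt_of_le_of_ne inf_le_left fun e => hcon (e ▸ inf_le_right)
  obtain ⟨x, hx, hxN⟩ := SetLike.exists_of_lt (CfsgLib.Fusion.lt_inf_normalizer hL hlt)
  exact hxN ⟨hx.1, key L1 (hL.to_le inf_le_left) (le_inf hRL Subgroup.le_normalizer) inf_le_right hx.2⟩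

end CfsgLib.LocalEven
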