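import Cfsg.Agent.Lib.LocalEven.FrakM
import Cfsg.Agent.Lib.LocalEven.WeakClosureFactor

/-!
Members of the family `ℌ_G(O_p(M))` for asymmetric `Y_M`.
-/

set_option autoImplicit false
set_option linter.style.haveILetI false

namespace CfsgLib.LocalEven.HFamily

open Cfsg
open CfsgLib.LocalEven.WeakClosureFactor
open scoped commutatorElement

variable {G : Type*} [Group G] [Finite G] {p : ℕ}

theorem commutator_le_of_normalizes {A B : Subgroup G}
    (h : B ≤ Subgroup.normalizer (A : Set G)) : ⁅A, B⁆ ≤ A :=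
  Subgroup.commutator_le.2 fun _ ha _ hb => commElem_mem_right ha (h hb)

theorem pCoreOf_le_of_normal [Fact p.Prime] {K H : Subgroup G} (hKH : K ≤ H)
    (hHK : H ≤ Subgroup.normalizer (K : Set G)) : pCoreOf p K ≤ pCoreOf p H :=
  le_pCoreOf ((pCoreOf_le p K).trans hKH) (fun _ hh => mem_normalizer_pCoreOf (hHK hh))
    (isPGroup_pCoreOf K)

variable [Fact p.Prime]

/-- A normal subgroup commuting with `O^p` modulo `O_p` is `p`-closed. -/
theorem isPClosed_of_commutator {X : Type*} [Group X] [Finite X] (K W : Subgroup X) [K.Normal]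
    (h : ⁅K, W⁆ ≤ pCore p X) (hW : pResidual p X ≤ W) : IsPClosed p ↥K := by
  obtain ⟨T⟩ : Nonempty (Sylow p X) := inferInstance
  rw [isPClosed_subgroup_iff T K]
  intro k hk
  set π := QuotientGroup.mk' (pCore p X) with hπ
  have hsurj : Function.Surjective π := QuotientGroup.mk'_surjective _
  set K' := K.map π with hK'
  have hK'n : K'.Normal := Subgroup.Normal.map inferInstance π hsurj
  have hW' : pResidual p (X ⧸ pCore p X) ≤ W.map π := by
    rw [← CfsgLib.Transfer.pResidual_map_of_surjective π hsurj]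
    exact Subgroup.map_mono hW
  have hKW : ⁅K', W.map π⁆ = ⊥ := by
    rw [hK', ← Subgroup.map_commutator, Subgroup.map_eq_bot_iff, hπ, QuotientGroup.ker_mk']
    exact h
  have hZ : IsPGroup p (↥K' ⧸ Subgroup.center ↥K') := by
    intro q
    obtain ⟨g, rfl⟩ := QuotientGroup.mk'_surjective (Subgroup.center ↥K') q
    obtain ⟨a, -, b, -, hab, ⟨m, hm⟩, hb⟩ := CfsgLib.Transfer.exists_pPart_mul (p := p) g
    refine ⟨m, ?_⟩
    have hb1 : QuotientGroup.mk' (Subgroup.center ↥K') b = 1 := by
      refine (QuotientGroup.eq_one_iff b).2 (Subgroup.mem_center_iff.2 fun c => Subtype.ext ?_)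
      have hbW : (b : X ⧸ pCore p X) ∈ W.map π :=
        hW' (CfsgLib.Transfer.mem_pResidual_of_coprime (by rwa [Subgroup.orderOf_coe]))
      exact ((Subgroup.mem_centralizer_iff.1
        ((Subgroup.commutator_eq_bot_iff_le_centralizer.1 hKW) c.2) _ hbW)).symm
    rw [← hab, map_mul, hb1, mul_one, ← map_pow, orderOf_dvd_iff_pow_eq_one.mp hm, map_one]
  haveI := Group.of_quotient_center_nilpotent hZ.isNilpotent
  have hclosed : IsPClosed p ↥K' := fun P =>
    Sylow.normal_of_normalizerCondition Group.normalizerCondition_of_isNilpotent P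
  obtain ⟨T'⟩ : Nonempty (Sylow p (X ⧸ pCore p X)) := inferInstance
  have h2 := (isPClosed_subgroup_iff (T.mapSurjective hsurj) K').1 hclosed
  have h3 : π k ∈ pCore p (X ⧸ pCore p X) := h2 ⟨by
    rw [Sylow.coe_mapSurjective]; exact ⟨k, hk.1, rfl⟩, k, hk.2, rfl⟩
  rwa [CfsgLib.Base.pCore_quotient_pCore, Subgroup.mem_bot, hπ, QuotientGroup.mk'_apply,
    QuotientGroup.eq_one_iff] at h3

/-- The same inside `G`. -/
theorem isPClosed_of_commutator_in {K H W : Subgroup G} (hKH : K ≤ H) (hWH : W ≤ H)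
    (hHK : H ≤ Subgroup.normalizer (K : Set G)) (h : ⁅K, W⁆ ≤ pCoreOf p H) (hW : pr p H ≤ W) :
    IsPClosed p ↥(K.subgroupOf H) := by
  haveI : (K.subgroupOf H).Normal := (Subgroup.normal_subgroupOf_iff_le_normalizer hKH).2 hHK
  refine isPClosed_of_commutator (K.subgroupOf H) (W.subgroupOf H) ?_ ?_
  · rw [subgroupOf_commutator hKH hWH, ← subgroupOf_pCoreOf p H]
    exact Subgroup.comap_mono h
  · rw [pResidual, Subgroup.closure_le]
    intro x hx
    exact hW (mem_pr x.2 (by simpa using hx))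

variable {O Y H : Subgroup G}

theorem core_le_normalizer (hwc : IsWeaklyClosedSubgroup p O) {P : Subgroup G} (hP : IsPGroup p P)
    (hOP : O ≤ Subgroup.normalizer (P : Set G)) : P ≤ Subgroup.normalizer (O : Set G) :=
  wc_normalized_le_normalizer hwc hP hOP

/-- The structure of a minimal member. -/
theorem structure_of_member (hOp : IsPGroup p O) (hYO : Y ≤ O)
    (hOY : O ≤ Subgroup.normalizer (Y : Set G)) (hOH : O ≤ H) (hYH : ¬ Y ≤ pCoreOf p H)
    (hmin : ∀ P : Subgroup G, O ≤ P → P < H → Y ≤ pCoreOf p P) :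
    (Subgroup.normalClosure ((O.subgroupOf H : Subgroup ↥H) : Set ↥H)).map H.subtype = H ∧
      pr p H ⊔ O = H ∧ ⁅pr p H, Y⁆ = pr p H ∧
        pr p H ⊔ Y = (Subgroup.normalClosure ((Y.subgroupOf H : Subgroup ↥H) : Set ↥H)).map H.subtype := by
  have hYH' : Y ≤ H := hYO.trans hOH
  have hnc : ∀ A : Subgroup G, A ≤ H →
      A ≤ (Subgroup.normalClosure ((A.subgroupOf H : Subgroup ↥H) : Set ↥H)).map H.subtype :=
    fun A hA a ha => ⟨⟨a, hA ha⟩,
      Subgroup.subset_normalClosure (Subgroup.mem_subgroupOf.2 ha), rfl⟩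
  have hncn : ∀ A : Subgroup G, H ≤ Subgroup.normalizer
      (((Subgroup.normalClosure ((A.subgroupOf H : Subgroup ↥H) : Set ↥H)).map H.subtype :
        Subgroup G) : Set G) := by
    intro A
    rw [← Subgroup.normal_subgroupOf_iff_le_normalizer (Subgroup.map_subtype_le _), Subgroup.subgroupOf,
      Subgroup.comap_map_eq_self_of_injective H.subtype_injective]
    exact Subgroup.normalClosure_normal
  set K := (Subgroup.normalClosure ((O.subgroupOf H : Subgroup ↥H) : Set ↥H)).map H.subtype with hKdef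
  have h6 : K = H := by
    by_contra hne
    exact hYH ((hmin K (hnc O hOH) (lt_of_le_of_ne (Subgroup.map_subtype_le _) hne)).trans
      (pCoreOf_le_of_normal (Subgroup.map_subtype_le _) (hncn O)))
  have hcl : Subgroup.normalClosure ((O.subgroupOf H : Subgroup ↥H) : Set ↥H) = ⊤ := by
    refine Subgroup.map_injective H.subtype_injective ?_
    rw [← MonoidHom.range_eq_map, Subgroup.range_subtype]
    exact h6
  set R := pr p H with hR
  have hRH : R ≤ H := pr_le H
  have hHR : H ≤ Subgroup.normalizer (R : Set G) :=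
    Subgroup.le_normalizer.trans normalizer_le_normalizer_pr
  have h4 : R ⊔ O = H := by
    refine le_antisymm (sup_le hRH hOH) fun x hx => ?_
    have := CfsgLib.Transfer.pResidual_normal (G := ↥H) (p := p)
    have h2 := sup_eq_top (pResidual p ↥H) (O.subgroupOf H)
      (CfsgLib.Transfer.isPGroup_quotient_pResidual (G := ↥H) (p := p)) hcl
    have h3 : (⟨x, hx⟩ : ↥H) ∈ pResidual p ↥H ⊔ O.subgroupOf H := h2 ▸ Subgroup.mem_top _
    have h4 := Subgroup.mem_map_of_mem H.subtype h3
    rw [Subgroup.map_sup, Subgroup.subgroupOf_map_subtype, inf_of_le_left hOH] at h4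
    exact h4
  -- the normal closure of `Y`
  set W := (Subgroup.normalClosure ((Y.subgroupOf H : Subgroup ↥H) : Set ↥H)).map H.subtype
    with hWdef
  have hWH : W ≤ H := Subgroup.map_subtype_le _
  have hHW : H ≤ Subgroup.normalizer (W : Set G) := hncn Y
  have hRW : R ≤ W := by
    have hWO : W ⊔ O = H := by
      by_contra hne
      have h1 := hmin (W ⊔ O) le_sup_right (lt_of_le_of_ne (sup_le hWH hOH) hne)
      have h2 : W ⊓ pCoreOf p (W ⊔ O) ≤ pCoreOf p W := le_pCoreOf inf_le_left
        ((le_inf Subgroup.le_normalizer ((le_sup_left : W ≤ W ⊔ O).trans (le_normalizer_pCoreOf p _))).trans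
          Subgroup.inf_normalizer_le_normalizer_inf) ((isPGroup_pCoreOf _).to_le inf_le_right)
      exact hYH (((le_inf (hnc Y hYH') h1).trans h2).trans (pCoreOf_le_of_normal hWH hHW))
    refine pr_le_of fun g hg hc => mem_left_of_coprime hOp (hOH.trans hHW) ?_ hc
    rwa [hWO]
  have hYR : Y ≤ Subgroup.normalizer (R : Set G) := hYH'.trans hHR
  have hsupn : ∀ D : Subgroup G, D ≤ H → R ⊔ O ≤ Subgroup.normalizer (D : Set G) →
      R ≤ Subgroup.normalizer ((D ⊔ Y : Subgroup G) : Set G) →
      W ≤ D ⊔ Y := by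
    intro D hD h1 h2
    rw [hWdef, Subgroup.map_le_iff_le_comap]
    haveI : ((D ⊔ Y).comap H.subtype).Normal := by
      change ((D ⊔ Y).subgroupOf H).Normal
      refine (Subgroup.normal_subgroupOf_iff_le_normalizer (sup_le hD hYH')).2 ?_
      rw [← h4]
      refine sup_le h2 fun o ho => mem_normalizer_of_mapsTo fun x hx => ?_
      suffices D ⊔ Y ≤ (D ⊔ Y).comap (MulAut.conj o).toMonoidHom from this hx
      exact sup_le (fun d hd => Subgroup.mem_sup_left
          ((Subgroup.mem_normalizer_iff.1 (h1 (Subgroup.mem_sup_right ho)) d).1 hd))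
        fun y hy => Subgroup.mem_sup_right ((Subgroup.mem_normalizer_iff.1 (hOY ho) y).1 hy)
    exact Subgroup.normalClosure_le_normal fun y hy => Subgroup.mem_sup_right hy
  have h5 : R ⊔ Y = W := le_antisymm (sup_le hRW (hnc Y hYH')) (hsupn R hRH (h4.le.trans hHR)
    ((le_sup_left : R ≤ R ⊔ Y).trans Subgroup.le_normalizer))
  refine ⟨h6, h4, le_antisymm (commutator_le_of_normalizes hYR) ?_, h5⟩
  set D := ⁅R, Y⁆ with hD
  have hOD : O ≤ Subgroup.normalizer (D : Set G) := fun o ho => by
    refine Subgroup.mem_normalizer_iff_map_conj_eq.2 ?_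
    rw [hD, Subgroup.map_commutator, Subgroup.mem_normalizer_iff_map_conj_eq.1 (hHR (hOH ho)),
      Subgroup.mem_normalizer_iff_map_conj_eq.1 (hOY ho)]
  have h1 : W ≤ D ⊔ Y := by
    refine hsupn D ((Subgroup.commutator_mono hRH hYH').trans (Subgroup.commutator_le_self H))
      (sup_le (Subgroup.normalizer_commutator_ge_left R Y) hOD) fun r hr => ?_
    refine mem_normalizer_of_mapsTo fun x hx => ?_
    suffices D ⊔ Y ≤ (D ⊔ Y).comap (MulAut.conj r).toMonoidHom from this hx
    refine sup_le (fun d hd => Subgroup.mem_sup_left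
      ((Subgroup.mem_normalizer_iff.1 (Subgroup.normalizer_commutator_ge_left R Y hr) d).1 hd))
      fun y hy => ?_
    show r * y * r⁻¹ ∈ D ⊔ Y
    have e : r * y * r⁻¹ = ⁅r, y⁆ * y := by simp [commutatorElement_def]
    rw [e]
    exact mul_mem (Subgroup.mem_sup_left (Subgroup.commutator_mem_commutator hr hy))
      (Subgroup.mem_sup_right hy)
  exact pr_le_of fun g hg hc => mem_left_of_coprime (hOp.to_le hYO)
    (Subgroup.normalizer_commutator_ge_right R Y) (h1 (hRW (mem_pr hg hc))) hc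

/-- A member is `p`-irreducible. -/
theorem irreducible (hOp : IsPGroup p O) (hYO : Y ≤ O)
    (hOY : O ≤ Subgroup.normalizer (Y : Set G)) (hOH : O ≤ H) (hYH : ¬ Y ≤ pCoreOf p H)
    (hmin : ∀ P : Subgroup G, O ≤ P → P < H → Y ≤ pCoreOf p P) {K : Subgroup G} (hKH : K ≤ H)
    (hHK : H ≤ Subgroup.normalizer (K : Set G)) (hK : ¬ IsPClosed p ↥(K.subgroupOf H)) :
    pr p H ≤ K := by
  by_cases hKO : K ⊔ O = H
  · exact pr_le_of fun g hg hc => mem_left_of_coprime hOp (hOH.trans hHK) (by rwa [hKO]) hc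
  have h1 := hmin (K ⊔ O) le_sup_right (lt_of_le_of_ne (sup_le hKH hOH) hKO)
  have hKY : ⁅K, Y⁆ ≤ pCoreOf p H := by
    refine le_trans ?_ (pCoreOf_le_of_normal hKH hHK)
    have hYn : Y ≤ Subgroup.normalizer (K : Set G) := (hYO.trans hOH).trans hHK
    have h2 : ⁅K, Y⁆ ≤ K ⊓ pCoreOf p (K ⊔ O) :=
      le_inf (commutator_le_of_normalizes hYn)
        (((Subgroup.commutator_mono le_rfl h1).trans (Subgroup.commutator_comm K _).le).trans
          (commutator_le_of_normalizes (le_sup_left.trans (le_normalizer_pCoreOf p (K ⊔ O)))))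
    exact h2.trans (le_pCoreOf inf_le_left
      ((le_inf Subgroup.le_normalizer ((le_sup_left : K ≤ K ⊔ O).trans (le_normalizer_pCoreOf p _))).trans
        Subgroup.inf_normalizer_le_normalizer_inf) ((isPGroup_pCoreOf _).to_le inf_le_right))
  have hs := structure_of_member hOp hYO hOY hOH hYH hmin
  set W := (Subgroup.normalClosure ((Y.subgroupOf H : Subgroup ↥H) : Set ↥H)).map H.subtype
    with hW
  have hKW : ⁅K, W⁆ ≤ pCoreOf p H := by
    have hYH' : Y ≤ H := hYO.trans hOH
    haveI : (K.subgroupOf H).Normal := (Subgroup.normal_subgroupOf_iff_le_normalizer hKH).2 hHK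
    set π := QuotientGroup.mk' (pCore p ↥H) with hπ
    have hsurj : Function.Surjective π := QuotientGroup.mk'_surjective _
    haveI := Subgroup.Normal.map (H := K.subgroupOf H) inferInstance π hsurj
    have hc : (Y.subgroupOf H).map π ≤
        Subgroup.centralizer (((K.subgroupOf H).map π : Subgroup _) : Set (↥H ⧸ pCore p ↥H)) := by
      rw [← Subgroup.commutator_eq_bot_iff_le_centralizer, Subgroup.commutator_comm,
        ← Subgroup.map_commutator, Subgroup.map_eq_bot_iff, hπ, QuotientGroup.ker_mk',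
        subgroupOf_commutator hKH hYH', ← subgroupOf_pCoreOf p H]
      exact Subgroup.comap_mono hKY
    have h3 : Subgroup.normalClosure ((Y.subgroupOf H : Subgroup ↥H) : Set ↥H) ≤
        (Subgroup.centralizer (((K.subgroupOf H).map π : Subgroup _) : Set (↥H ⧸ pCore p ↥H))).comap π :=
      Subgroup.normalClosure_le_normal fun y hy => hc ⟨y, hy, rfl⟩
    rw [Subgroup.commutator_le]
    rintro k hk _ ⟨w, hw, rfl⟩
    have h4 := Subgroup.mem_centralizer_iff.1 (h3 hw) (π ⟨k, hKH hk⟩) ⟨_, hk, rfl⟩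
    refine ⟨⁅(⟨k, hKH hk⟩ : ↥H), w⁆, ?_, rfl⟩
    refine (QuotientGroup.eq_one_iff _).1 ?_
    show π ⁅(⟨k, hKH hk⟩ : ↥H), w⁆ = 1
    rw [map_commutatorElement]
    exact commutatorElement_eq_one_iff_commute.2 h4
  exact absurd (isPClosed_of_commutator_in hKH (Subgroup.map_subtype_le _) hHK hKW
    (le_sup_left.trans hs.2.2.2.le)) hK

end CfsgLib.LocalEven.HFamily
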