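import Cfsg.Agent.Lib.Transfer.Alperin
import Cfsg.Agent.Lib.Transfer.Tate
import Cfsg.Agent.Lib.PGroups.Basic
import Cfsg.Agent.Lib.CoprimeSmall.SmallOrder
import Cfsg.Agent.Lib.Coprime.Action2

/-!
`p`-nilpotency from subgroups of one fixed order `d` of a Sylow subgroup being `H`-subgroups.
-/

set_option autoImplicit false

namespace CfsgLib.LocalEven.HSub

open Subgroup
open scoped commutatorElement

universe u

variable {G : Type u} [Group G] {p : ℕ}

/-- All subgroups of `P` of order `d` (and of order 4 if `d = 2`) are `H`-subgroups of `G`. -/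
def AllH (P : Subgroup G) (d : ℕ) : Prop :=
  ∀ E : Subgroup G, E ≤ P → (Nat.card E = d ∨ (d = 2 ∧ Nat.card E = 4)) →
    ∀ g : G, E.map (MulAut.conj g).toMonoidHom ⊓ normalizer (E : Set G) ≤ E

/-- Elements whose order divides `d`, or divides 4 if `d = 2`. -/
def IsLow (d : ℕ) (x : G) : Prop := orderOf x ∣ d ∨ (d = 2 ∧ orderOf x ∣ 4)

variable [Finite G]

theorem le_normalizer_of_allH [hp : Fact p.Prime] {P : Subgroup G} {d : ℕ} (hP : IsPGroup p P)
    (h : AllH P d) {E : Subgroup G} (hEP : E ≤ P) (hd : Nat.card E = d ∨ (d = 2 ∧ Nat.card E = 4)) :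
    P ≤ normalizer (E : Set G) := by
  by_contra hne
  set N₁ := P ⊓ normalizer (E : Set G) with hN₁
  have hlt : N₁ < P := lt_of_le_of_ne inf_le_left fun he => hne (inf_eq_left.1 he)
  obtain ⟨x, hx, hxN⟩ := SetLike.exists_of_lt (CfsgLib.Transfer.lt_inf_normalizer hP hlt)
  have hxn : N₁.map (MulAut.conj x).toMonoidHom = N₁ := mem_normalizer_iff_map_conj_eq.1 hx.2
  have h1 : E.map (MulAut.conj x).toMonoidHom ≤ E := by
    have h2 : E.map (MulAut.conj x).toMonoidHom ≤ N₁ :=
      hxn ▸ Subgroup.map_mono (le_inf hEP le_normalizer)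
    exact (le_inf le_rfl (h2.trans inf_le_right)).trans (h E hEP hd x)
  refine hxN ⟨hx.1, mem_normalizer_iff_map_conj_eq.2 (eq_of_le_of_card_ge h1 ?_)⟩
  rw [card_map_of_injective (MulAut.conj x).injective]

theorem conj_mem_of_allH [hp : Fact p.Prime] {P : Subgroup G} {d : ℕ} (hP : IsPGroup p P)
    (h : AllH P d) {E : Subgroup G} (hEP : E ≤ P) (hd : Nat.card E = d ∨ (d = 2 ∧ Nat.card E = 4))
    {x g : G} (hx : x ∈ E) (hg : g * x * g⁻¹ ∈ P) : g * x * g⁻¹ ∈ E :=
  h E hEP hd g ⟨⟨x, hx, rfl⟩, le_normalizer_of_allH hP h hEP hd hg⟩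

theorem exists_between [hp : Fact p.Prime] {K M : Subgroup G} (hM : IsPGroup p M) (hK : K ≤ M)
    {d : ℕ} (h1 : Nat.card K ∣ d) (h2 : d ∣ Nat.card M) :
    ∃ E : Subgroup G, K ≤ E ∧ E ≤ M ∧ Nat.card E = d := by
  obtain ⟨a, ha⟩ := IsPGroup.iff_card.1 hM
  rw [ha] at h2
  obtain ⟨m, hm, rfl⟩ := (Nat.dvd_prime_pow hp.out).1 h2
  obtain ⟨n, hn, hn'⟩ := (Nat.dvd_prime_pow hp.out).1 h1
  obtain ⟨E, hE, hKE⟩ := Sylow.exists_subgroup_card_pow_prime_le (G := M) p (n := n) (m := m)
    (by rw [ha]; exact pow_dvd_pow p hm) (K.subgroupOf M)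
    (by rw [← hn', Nat.card_congr (subgroupOfEquivOfLe hK).toEquiv]) hn
  refine ⟨E.map M.subtype, fun x hx => ⟨⟨x, hK hx⟩, hKE hx, rfl⟩, map_subtype_le E, ?_⟩
  rw [card_map_of_injective M.subtype_injective, hE]

/-- A conjugate in `P` of a low element of `M ≤ P` lies in `M`. -/
theorem conj_mem_of_low [hp : Fact p.Prime] {P : Subgroup G} {d : ℕ} (hP : IsPGroup p P)
    (h : AllH P d) {M : Subgroup G} (hMP : M ≤ P) (hdM : d ∣ Nat.card M) {x g : G}
    (hx : x ∈ M) (hlow : IsLow d x) (hg : g * x * g⁻¹ ∈ P) : g * x * g⁻¹ ∈ M := by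
  have hK : zpowers x ≤ M := zpowers_le.2 hx
  by_cases hd : orderOf x ∣ d
  · obtain ⟨E, hKE, hEM, hE⟩ := exists_between (hP.to_le hMP) hK
      (by rwa [Nat.card_zpowers]) hdM
    exact hEM (conj_mem_of_allH hP h (hEM.trans hMP) (Or.inl hE) (hKE (mem_zpowers x)) hg)
  · obtain ⟨hd2, h4⟩ := hlow.resolve_left hd
    have hE : Nat.card (zpowers x) = 4 := by
      rw [Nat.card_zpowers]
      have hle := Nat.le_of_dvd (by norm_num) h4
      interval_cases hn : orderOf x
      all_goals first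
        | rfl
        | (exfalso; revert hd h4; subst hd2; decide)
    exact hK (conj_mem_of_allH hP h (hK.trans hMP) (Or.inr ⟨hd2, hE⟩) (mem_zpowers x) hg)

theorem eq_of_pow_eq [hp : Fact p.Prime] {Q : Type*} [Group Q] {w : Q} (hwp : orderOf w = p)
    {i : ℤ} {n : ℕ} (hnpos : 0 < n) (hn : n.Coprime (p - 1)) (h : w ^ (i ^ n) = w) : w ^ i = w := by
  have hz : ((i : ZMod p)) ^ n = 1 := by
    have h1 : w ^ (i ^ n - 1) = 1 := by rw [zpow_sub, h, zpow_one, mul_inv_cancel]
    have h2 := orderOf_dvd_iff_zpow_eq_one.2 h1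
    rw [hwp, ← ZMod.intCast_zmod_eq_zero_iff_dvd] at h2
    push_cast at h2
    exact sub_eq_zero.1 h2
  have hi0 : (i : ZMod p) ≠ 0 := fun h0 => by
    rw [h0, zero_pow hnpos.ne'] at hz
    exact zero_ne_one hz
  have hfer : ((i : ZMod p)) ^ (p - 1) = 1 := ZMod.pow_card_sub_one_eq_one hi0
  have h1 : (i : ZMod p) = 1 := by
    have := pow_gcd_eq_one.2 ⟨hz, hfer⟩
    rwa [hn.gcd_eq_one, pow_one] at this
  have h2 : (p : ℤ) ∣ i - 1 := by
    rw [← ZMod.intCast_zmod_eq_zero_iff_dvd]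
    push_cast
    rw [h1, sub_self]
  have h3 : w ^ (i - 1) = 1 := orderOf_dvd_iff_zpow_eq_one.1 (hwp ▸ h2)
  rwa [zpow_sub, zpow_one, mul_inv_eq_one] at h3

/-- Conjugation fixing all maximal subgroups of the `p`-group `L` on a set acts trivially there
modulo `Φ(L)`, if its order is prime to `p - 1`. -/
theorem trivial_mod_frattini [hp : Fact p.Prime] {L Q : Subgroup G} (hL : IsPGroup p L)
    (hQL : Q ≤ L) {g : G} (hgQ : g ∈ normalizer (Q : Set G))
    (hn : (orderOf g).Coprime (p - 1))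
    (hM : ∀ M : Subgroup L, IsCoatom M → ∀ x ∈ Q, x ∈ M.map L.subtype →
      g * x * g⁻¹ ∈ M.map L.subtype) :
    ∀ x ∈ Q, g * x * g⁻¹ * x⁻¹ ∈ (frattini L).map L.subtype := by
  intro x hx
  set Φ := frattini L with hΦ
  have hgQ' : ∀ y ∈ Q, g * y * g⁻¹ ∈ Q := fun y hy =>
    (mem_normalizer_iff.1 hgQ y).1 hy
  -- `Φ ∩ Q` is invariant
  have hΦQ : ∀ y ∈ Q, y ∈ Φ.map L.subtype → g * y * g⁻¹ ∈ Φ.map L.subtype := by
    rintro y hy ⟨z, hz, rfl⟩
    refine ⟨⟨g * z * g⁻¹, hQL (hgQ' _ hy)⟩, CfsgLib.PGroups.mem_frattini_iff.2 fun M hMc => ?_, rfl⟩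
    obtain ⟨w, hw, hwe⟩ := hM M hMc z hy ⟨z, CfsgLib.PGroups.mem_frattini_iff.1 hz M hMc, rfl⟩
    exact (Subtype.ext hwe : w = ⟨g * z * g⁻¹, hQL (hgQ' _ hy)⟩) ▸ hw
  let π := QuotientGroup.mk' Φ
  let c : ∀ y ∈ Q, L := fun y hy => ⟨y, hQL hy⟩
  -- the image of `x` is moved inside its cyclic subgroup
  have hline : ∀ y (hy : y ∈ Q), π (c _ (hgQ' y hy)) ∈ zpowers (π (c y hy)) := by
    intro y hy
    by_contra hnot
    obtain ⟨M, ⟨hMle, hMnot⟩, hMmax⟩ := Set.Finite.exists_maximal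
      (Set.toFinite {M : Subgroup L | (zpowers (π (c y hy))).comap π ≤ M ∧ c _ (hgQ' y hy) ∉ M})
      ⟨_, le_rfl, fun h => hnot h⟩
    have hΦM : Φ ≤ M := le_trans (fun z hz => by
      rw [mem_comap, show π z = 1 from (QuotientGroup.eq_one_iff z).2 hz]
      exact one_mem _) hMle
    have hMn : M.Normal := Subgroup.Normal.of_commutator_le L
      ((CfsgLib.PGroups.commutator_le_frattini hL).trans hΦM)
    -- everything outside `M` generates the same line over `M`
    have hMc : IsCoatom M := by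
      refine ⟨fun h => hMnot (h ▸ mem_top _), fun K hK => ?_⟩
      by_contra hKne
      obtain ⟨z, hz⟩ : ∃ z, z ∉ K := by
        by_contra hall; push Not at hall; exact hKne (eq_top_iff.2 fun z _ => hall z)
      have hwK : c _ (hgQ' y hy) ∈ K := by
        by_contra hw; exact hK.not_ge (hMmax ⟨hMle.trans hK.le, hw⟩ hK.le)
      have hwz : c _ (hgQ' y hy) ∈ M ⊔ zpowers z := by
        by_contra hw
        exact hz (hK.le (hMmax ⟨hMle.trans le_sup_left, hw⟩ le_sup_left
          (le_sup_right (a := M) (mem_zpowers z))))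
      rw [← SetLike.mem_coe, Subgroup.normal_mul] at hwz
      obtain ⟨m, hm, _, ⟨k, rfl⟩, hmk⟩ := hwz
      dsimp only at hmk
      have hzkK : z ^ k ∈ K := by
        have : z ^ k = m⁻¹ * c _ (hgQ' y hy) := by rw [← hmk, inv_mul_cancel_left]
        rw [this]
        exact mul_mem (inv_mem (hK.le hm)) hwK
      have hpz : z ^ (p : ℤ) ∈ M := by
        rw [zpow_natCast]; exact hΦM (CfsgLib.PGroups.pow_mem_frattini hL z)
      have hnk : ¬ (p : ℤ) ∣ k := by
        rintro ⟨t, rfl⟩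
        apply hMnot
        rw [← hmk]
        refine mul_mem hm ?_
        rw [zpow_mul]
        exact zpow_mem hpz _
      have hco : IsCoprime (p : ℤ) k :=
        (Prime.coprime_iff_not_dvd (Nat.prime_iff_prime_int.1 hp.out)).2 hnk
      obtain ⟨a, b, hab⟩ := hco
      apply hz
      have : z = (z ^ (p : ℤ)) ^ a * (z ^ k) ^ b := by
        rw [← zpow_mul, ← zpow_mul, ← zpow_add, mul_comm (p : ℤ), mul_comm k, hab, zpow_one]
      rw [this]
      exact mul_mem (zpow_mem (hK.le hpz) _) (zpow_mem hzkK _)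
    obtain ⟨w, hw, hwe⟩ := hM M hMc y hy ⟨c y hy, hMle (mem_zpowers _), rfl⟩
    exact hMnot ((Subtype.ext hwe : w = c _ (hgQ' y hy)) ▸ hw)
  obtain ⟨i, hi⟩ := hline x hx
  dsimp only at hi
  let φ : Q →* L ⧸ Φ := π.comp (Subgroup.inclusion hQL)
  let γ : Q →* Q :=
    { toFun := fun y => ⟨g * y * g⁻¹, hgQ' y y.2⟩
      map_one' := Subtype.ext (by simp)
      map_mul' := fun u v => Subtype.ext (by simp [mul_assoc]) }
  have hker : ∀ y : Q, φ y = 1 → φ (γ y) = 1 := fun y hy => by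
    obtain ⟨w, hw, hwe⟩ := hΦQ y y.2 ⟨c y y.2, (QuotientGroup.eq_one_iff _).1 hy, rfl⟩
    have h1 : c _ (hgQ' y y.2) ∈ Φ := (Subtype.ext hwe : w = c _ (hgQ' y y.2)) ▸ hw
    exact (QuotientGroup.eq_one_iff _).2 h1
  have hi' : φ (γ ⟨x, hx⟩) = φ ⟨x, hx⟩ ^ i := hi.symm
  have hiter : ∀ j : ℕ, φ (γ^[j] ⟨x, hx⟩) = φ ⟨x, hx⟩ ^ (i ^ j) := by
    intro j
    induction j with
    | zero => simp
    | succ j ih =>
      have h1 : φ (γ^[j] ⟨x, hx⟩ * (⟨x, hx⟩ ^ (i ^ j))⁻¹) = 1 := by
        rw [map_mul, map_inv, map_zpow, ih, mul_inv_cancel]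
      have h2 := hker _ h1
      rw [map_mul, map_mul, map_inv, map_inv, map_zpow, map_zpow, mul_inv_eq_one, hi'] at h2
      rw [Function.iterate_succ_apply', h2, ← zpow_mul, pow_succ']
  have hγ : ∀ j : ℕ, ∀ y : Q, ((γ^[j] y : Q) : G) = g ^ j * y * (g ^ j)⁻¹ := by
    intro j y
    induction j with
    | zero => simp
    | succ j ih =>
      rw [Function.iterate_succ_apply', pow_succ']
      show g * (γ^[j] y : Q) * g⁻¹ = _
      rw [ih]; group
  have hfin := hiter (orderOf g)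
  rw [show γ^[orderOf g] ⟨x, hx⟩ = (⟨x, hx⟩ : Q) from Subtype.ext (by
    rw [hγ, pow_orderOf_eq_one]; simp)] at hfin
  have hgoal : φ (γ ⟨x, hx⟩) = φ ⟨x, hx⟩ := by
    rw [hi']
    by_cases h1 : φ ⟨x, hx⟩ = 1
    · rw [h1, one_zpow]
    refine eq_of_pow_eq (orderOf_eq_prime ?_ h1) (orderOf_pos g) hn hfin.symm
    show π (Subgroup.inclusion hQL ⟨x, hx⟩) ^ p = 1
    rw [← map_pow]
    exact (QuotientGroup.eq_one_iff _).2 (CfsgLib.PGroups.pow_mem_frattini hL _)
  have h3 : φ (γ ⟨x, hx⟩ * (⟨x, hx⟩ : Q)⁻¹) = 1 := by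
    rw [map_mul, map_inv, hgoal, mul_inv_cancel]
  exact ⟨_, (QuotientGroup.eq_one_iff _).1 h3, rfl⟩

theorem commute_of_zpowers [hp : Fact p.Prime] {g x : G} {k : ℕ} (hx : orderOf x = p ^ k)
    (hpn : ¬ p ∣ orderOf g) (hn : (orderOf g).Coprime (p - 1))
    (h : g * x * g⁻¹ ∈ zpowers x) : Commute g x := by
  obtain ⟨i, hi⟩ := h
  dsimp only at hi
  have hiter : ∀ j : ℕ, g ^ j * x * (g ^ j)⁻¹ = x ^ (i ^ j) := by
    intro j
    induction j with
    | zero => simp
    | succ j ih =>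
      calc g ^ (j + 1) * x * (g ^ (j + 1))⁻¹ = g * (g ^ j * x * (g ^ j)⁻¹) * g⁻¹ := by
            rw [pow_succ']; group
        _ = g * x ^ (i ^ j) * g⁻¹ := by rw [ih]
        _ = (g * x * g⁻¹) ^ (i ^ j) := (conj_zpow).symm
        _ = x ^ (i ^ (j + 1)) := by rw [← hi, ← zpow_mul, pow_succ']
  have h0 := hiter (orderOf g)
  rw [pow_orderOf_eq_one] at h0
  simp only [one_mul, inv_one, mul_one] at h0
  have hz : ((i : ZMod (p ^ k))) ^ orderOf g = 1 := by
    have h1 : x ^ (i ^ orderOf g - 1) = 1 := by rw [zpow_sub, ← h0, zpow_one, mul_inv_cancel]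
    have h2 := orderOf_dvd_iff_zpow_eq_one.2 h1
    rw [hx, ← ZMod.intCast_zmod_eq_zero_iff_dvd] at h2
    push_cast at h2
    exact sub_eq_zero.1 h2
  have h1 : (i : ZMod (p ^ k)) = 1 := by
    obtain ⟨u, hu⟩ := IsUnit.of_pow_eq_one hz (orderOf_pos g).ne'
    haveI : NeZero (p ^ k) := ⟨pow_ne_zero _ hp.out.ne_zero⟩
    have hu1 : u ^ orderOf g = 1 := Units.ext (by rw [Units.val_pow_eq_pow_val, hu, hz, Units.val_one])
    have hu2 : u ^ (p ^ k).totient = 1 := ZMod.pow_totient u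
    have hco : (orderOf g).Coprime ((p ^ k).totient) := by
      rcases Nat.eq_zero_or_pos k with hk | hk
      · rw [hk]; simp
      rw [Nat.totient_prime_pow hp.out hk]
      exact Nat.Coprime.mul_right
        ((Nat.Coprime.pow_left (k - 1) ((hp.out.coprime_iff_not_dvd).2 hpn)).symm) hn
    have := pow_gcd_eq_one.2 ⟨hu1, hu2⟩
    rw [hco.gcd_eq_one, pow_one] at this
    rw [← hu, this, Units.val_one]
  have h3 : x ^ (i - 1) = 1 := by
    apply orderOf_dvd_iff_zpow_eq_one.1
    rw [hx, ← ZMod.intCast_zmod_eq_zero_iff_dvd]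
    push_cast
    rw [h1, sub_self]
  rw [zpow_sub, zpow_one, mul_inv_eq_one, hi] at h3
  exact mul_inv_eq_iff_eq_mul.1 h3

theorem mem_zpowers_of_cyclic {L : Subgroup G} (hL : IsCyclic L) {x y : G} (hx : x ∈ L)
    (hy : y ∈ L) (h : orderOf y ∣ orderOf x) : y ∈ zpowers x := by
  classical
  haveI := Fintype.ofFinite L
  let S : Finset L := Finset.univ.filter fun z => z ^ orderOf x = 1
  have hS : S.card ≤ orderOf x := IsCyclic.card_pow_eq_one_le (orderOf_pos x)
  let T : Finset L := Finset.univ.filter fun z : L => (z : G) ∈ zpowers x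
  have hTS : T ⊆ S := fun z hz => by
    simp only [T, S, Finset.mem_filter, Finset.mem_univ, true_and] at hz ⊢
    obtain ⟨k, hk⟩ := hz
    apply Subtype.ext
    have hk' : x ^ k = z := hk
    rw [SubmonoidClass.coe_pow, ← hk', ← zpow_natCast, ← zpow_mul, mul_comm, zpow_mul,
      zpow_natCast, pow_orderOf_eq_one, one_zpow]
    rfl
  have hT : T.card = orderOf x := by
    rw [← Nat.card_zpowers x, ← Fintype.card_subtype, ← Nat.card_eq_fintype_card]
    exact Nat.card_congr
      { toFun := fun z => ⟨z.1.1, z.2⟩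
        invFun := fun z => ⟨⟨z.1, zpowers_le.2 hx z.2⟩, z.2⟩
        left_inv := fun _ => rfl
        right_inv := fun _ => rfl }
  have he : T = S := Finset.eq_of_subset_of_card_le hTS (by rw [hT]; exact hS)
  have hyS : (⟨y, hy⟩ : L) ∈ S := by
    simp only [S, Finset.mem_filter, Finset.mem_univ, true_and]
    apply Subtype.ext
    rw [SubmonoidClass.coe_pow]
    exact orderOf_dvd_iff_pow_eq_one.1 h
  rw [← he] at hyS
  simpa [T] using hyS

/-- A `p'`-element normalising a subgroup of `P` of order at least `p d` centralises it. -/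
theorem centralizes_of_allH [hp : Fact p.Prime] {P : Subgroup G} {d : ℕ} (hP : IsPGroup p P)
    (h : AllH P d) (hpd : p ∣ d) (hdP : d ∣ Nat.card P) {Q : Subgroup G} (hQP : Q ≤ P)
    (hdQ : d * p ∣ Nat.card Q) {g : G} (hg : g ∈ normalizer (Q : Set G))
    (hpn : ¬ p ∣ orderOf g) (hn : (orderOf g).Coprime (p - 1)) :
    g ∈ centralizer (Q : Set G) := by
  obtain ⟨a₀, ha₀⟩ := IsPGroup.iff_card.1 hP
  obtain ⟨m, -, hdm⟩ := (Nat.dvd_prime_pow hp.out).1 (ha₀ ▸ hdP)
  have hgQ : ∀ y ∈ Q, g * y * g⁻¹ ∈ Q := fun y hy => (mem_normalizer_iff.1 hg y).1 hy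
  suffices hsmall : ∀ a ∈ Q, (a ^ p = 1 ∨ (p = 2 ∧ a ^ 4 = 1)) → Commute g a by
    rw [mem_centralizer_iff]
    intro a ha
    exact (CfsgLib.CoprimeSmall.commute_of_small_order hpn Q (hP.to_le hQP) hg hsmall a ha).symm
  intro a ha hsm
  -- order at most `max (p, 4)`
  have hlow : IsLow d a := by
    rcases hsm with h1 | ⟨rfl, h4⟩
    · exact Or.inl ((orderOf_dvd_of_pow_eq_one h1).trans hpd)
    · by_cases hd2 : d = 2
      · exact Or.inr ⟨hd2, orderOf_dvd_of_pow_eq_one h4⟩
      · refine Or.inl ((orderOf_dvd_of_pow_eq_one h4).trans ?_)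
        rw [hdm, show 4 = 2 ^ 2 by rfl]
        refine pow_dvd_pow 2 ?_
        rcases m with _ | _ | m
        · rw [pow_zero] at hdm; subst hdm; norm_num at hpd
        · exact absurd hdm (by simpa using hd2)
        · omega
  obtain ⟨k, hk⟩ : ∃ k, orderOf a = p ^ k := by
    obtain ⟨k, hk⟩ := (hP.to_le hQP) ⟨a, ha⟩
    obtain ⟨j, -, hj⟩ := (Nat.dvd_prime_pow hp.out).1
      (orderOf_dvd_of_pow_eq_one (congrArg Subtype.val hk : a ^ p ^ k = 1))
    exact ⟨j, hj⟩
  by_cases had : orderOf a ∣ d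
  swap
  · refine commute_of_zpowers hk hpn hn ?_
    obtain ⟨hd2, h4⟩ := hlow.resolve_left had
    have hE : Nat.card (zpowers a) = 4 := by
      rw [Nat.card_zpowers]
      have hle := Nat.le_of_dvd (by norm_num) h4
      interval_cases hn' : orderOf a
      all_goals first
        | rfl
        | (exfalso; revert had h4; subst hd2; decide)
    exact conj_mem_of_allH hP h (zpowers_le.2 (hQP ha)) (Or.inr ⟨hd2, hE⟩) (mem_zpowers a)
      (hQP (hgQ a ha))
  obtain ⟨L, haL, hLQ, hLc⟩ := exists_between (hP.to_le hQP) (zpowers_le.2 ha)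
    (by rw [Nat.card_zpowers]; exact had.trans (dvd_mul_right d p)) hdQ
  have hLP : L ≤ P := hLQ.trans hQP
  by_cases hcyc : IsCyclic L
  · refine commute_of_zpowers hk hpn hn ?_
    obtain ⟨E, haE, hEL, hE⟩ := exists_between (d := d) (hP.to_le hLP) haL
      (by rwa [Nat.card_zpowers]) (by rw [hLc]; exact dvd_mul_right d p)
    have h1 := conj_mem_of_allH hP h (hEL.trans hLP) (Or.inl hE) (haE (mem_zpowers a))
      (hQP (hgQ a ha))
    refine mem_zpowers_of_cyclic hcyc (haL (mem_zpowers a)) (hEL h1) (dvd_of_eq ?_)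
    rw [← MulAut.conj_apply]
    exact MulEquiv.orderOf_eq (MulAut.conj g) a
  -- the elements of `L` have order dividing `d`
  have hord : ∀ y ∈ L, orderOf y ∣ d := by
    intro y hy
    have h1 : orderOf y ∣ p ^ (m + 1) := by
      rw [← Nat.card_zpowers, pow_succ, ← hdm, ← hLc]
      exact card_dvd_of_le (zpowers_le.2 hy)
    obtain ⟨j, hj, hj'⟩ := (Nat.dvd_prime_pow hp.out).1 h1
    rw [hj', hdm]
    refine pow_dvd_pow p (Nat.le_of_lt_succ (lt_of_le_of_ne hj fun he => hcyc ?_))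
    refine isCyclic_of_orderOf_eq_card (⟨y, hy⟩ : L) ?_
    rw [← Subgroup.orderOf_coe, hLc, hj', he, hdm, pow_succ]
  have hgL : g ∈ normalizer (L : Set G) := by
    apply mem_normalizer_iff_map_conj_eq.2
    refine eq_of_le_of_card_ge ?_ (by rw [card_map_of_injective (MulAut.conj g).injective])
    rintro _ ⟨y, hy, rfl⟩
    obtain ⟨E, hyE, hEL, hE⟩ := exists_between (d := d) (hP.to_le hLP) (zpowers_le.2 hy)
      (by rw [Nat.card_zpowers]; exact hord y hy) (by rw [hLc]; exact dvd_mul_right d p)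
    exact hEL (conj_mem_of_allH hP h (hEL.trans hLP) (Or.inl hE) (hyE (mem_zpowers y))
      (hQP (hgQ y (hLQ hy))))
  have hLp := hP.to_le hLP
  have htriv : ∀ b ∈ zpowers g, ∀ y ∈ L, b * y * b⁻¹ * y⁻¹ ∈ (frattini L).map L.subtype := by
    intro b hb y hy
    refine trivial_mod_frattini hLp le_rfl ((zpowers_le.2 hgL) hb)
      (Nat.Coprime.coprime_dvd_left (orderOf_dvd_of_mem_zpowers hb) hn)
      (fun M hM z hz hzM => ?_) y hy
    have hzM' : z ∈ M.map L.subtype := hzM
    refine conj_mem_of_low hP h ((map_subtype_le M).trans hLP) ?_ hzM' (Or.inl (hord z hz))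
      (hLP ((mem_normalizer_iff.1 ((zpowers_le.2 hgL) hb) z).1 hz))
    have hi := CfsgLib.PGroups.index_eq_of_isCoatom hLp hM
    have hc := M.card_mul_index
    rw [hi, hLc] at hc
    rw [card_map_of_injective L.subtype_injective, Nat.eq_of_mul_eq_mul_right hp.out.pos hc]
  have hcop : (Nat.card (zpowers g)).Coprime (Nat.card (frattini L)) := by
    obtain ⟨j, hj⟩ := IsPGroup.iff_card.1 (hLp.to_subgroup (frattini L))
    rw [Nat.card_zpowers, hj]
    exact ((hp.out.coprime_iff_not_dvd.2 hpn).symm).pow_right j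
  have := CfsgLib.Coprime.le_centralizer_of_trivial_mod_frattini (zpowers_le.2 hgL) hcop htriv
  exact (mem_centralizer_iff.1 (this (mem_zpowers g)) a (haL (mem_zpowers a))).symm

/-- `p`-nilpotency from `H`-subgroups of one order. -/
theorem hasNormalPComplement_of_allH [hp : Fact p.Prime] (P : Sylow p G) {d : ℕ}
    (hmin : ∀ q : ℕ, q.Prime → q ∣ Nat.card G → p ≤ q) (h : AllH (P : Subgroup G) d)
    (hd1 : 1 < d) (hdP : d ∣ Nat.card (P : Subgroup G)) (hdlt : d < Nat.card (P : Subgroup G)) :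
    Cfsg.HasNormalPComplement p G := by
  have hcopG : ∀ g : G, (orderOf g).Coprime (p - 1) := by
    intro g
    refine Nat.coprime_of_dvd fun q hq hqg hqp => ?_
    have h1 := hmin q hq (hqg.trans (orderOf_dvd_natCard g))
    have h0 := hp.out.two_le
    have h2 := Nat.le_of_dvd (by have := hp.out.two_le; omega) hqp
    omega
  obtain ⟨a₀, ha₀⟩ := IsPGroup.iff_card.1 P.2
  obtain ⟨m, hma, hdm⟩ := (Nat.dvd_prime_pow hp.out).1 (ha₀ ▸ hdP)
  have hpd : p ∣ d := by
    rcases m with _ | m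
    · rw [pow_zero] at hdm; omega
    · exact hdm ▸ dvd_pow_self p m.succ_ne_zero
  set Φ := (frattini (P : Subgroup G)).map (P : Subgroup G).subtype with hΦ
  have hcommΦ : ∀ t ∈ (P : Subgroup G), ∀ x ∈ (P : Subgroup G), t * x * t⁻¹ * x⁻¹ ∈ Φ :=
    fun t ht x hx => ⟨⁅(⟨t, ht⟩ : (P : Subgroup G)), ⟨x, hx⟩⁆,
      CfsgLib.PGroups.commutator_le_frattini P.2
        (commutator_mem_commutator (mem_top _) (mem_top _)), rfl⟩
  have key : ∀ (A : Set G) (g : G), CfsgLib.Transfer.FusionChain P A g →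
      ∀ x ∈ A, x ∈ (P : Subgroup G) → g⁻¹ * x * g * x⁻¹ ∈ Φ := by
    intro A g hc
    induction hc with
    | nil A => exact fun x _ _ => by simp
    | @cons A g Q x hxN hP hQ hA _ ih =>
      intro y hy hyP
      set D : Subgroup G := (P : Subgroup G) ⊓ (Q : Subgroup G) with hD
      have hyD : y ∈ D := hA hy
      have hyD' : x⁻¹ * y * x ∈ D := (mem_set_normalizer_iff''.mp hxN y).mp hyD
      suffices h1 : x⁻¹ * y * x * y⁻¹ ∈ Φ by
        have h2 := ih _ ⟨y, hy, rfl⟩ hyD'.1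
        have h3 := mul_mem h2 h1
        convert h3 using 1
        group
      by_cases hDd : Nat.card D ∣ d
      · have h4 := trivial_mod_frattini P.2 (inf_le_left : D ≤ (P : Subgroup G))
          (inv_mem hxN) (hcopG x⁻¹) (fun M hM z hz hzM => ?_) y hyD
        · rwa [inv_inv] at h4
        refine conj_mem_of_low P.2 h (map_subtype_le M) ?_ hzM
          (Or.inl ((Nat.card_zpowers z ▸ card_dvd_of_le (zpowers_le.2 hz)).trans hDd)) ?_
        · have hi := CfsgLib.PGroups.index_eq_of_isCoatom P.2 hM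
          have hc := M.card_mul_index
          rw [hi, ha₀] at hc
          rw [card_map_of_injective (P : Subgroup G).subtype_injective]
          obtain ⟨b, rfl⟩ : ∃ b, a₀ = b + 1 := ⟨a₀ - 1, by
            rcases a₀ with _ | b
            · rw [ha₀, pow_zero] at hdlt; omega
            · rfl⟩
          rw [pow_succ] at hc
          rw [Nat.eq_of_mul_eq_mul_right hp.out.pos hc, hdm]
          refine pow_dvd_pow p ?_
          rw [ha₀, hdm] at hdlt
          have := (Nat.pow_lt_pow_iff_right hp.out.one_lt).1 hdlt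
          omega
        · exact (((mem_normalizer_iff.1 (inv_mem hxN)) z).1 hz).1
      · let N : Subgroup G := normalizer (D : Set G)
        let S : Sylow p N :=
          ((P.2.to_le (inf_le_left : (P : Subgroup G) ⊓ N ≤ _)).comap_subtype (K := N)).toSylow hP
        have hmem : (⟨x, hxN⟩ : N) ∈ (S : Subgroup N) ⊔ Cfsg.pResidual p N := by
          rw [CfsgLib.Transfer.sup_pResidual_eq_top]
          exact mem_top _
        have := CfsgLib.Transfer.pResidual_normal (G := N) (p := p)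
        obtain ⟨u, hu, c, hc, huc⟩ := mem_sup_of_normal_right.mp hmem
        have hdD : d * p ∣ Nat.card D := by
          obtain ⟨b, hb⟩ := IsPGroup.iff_card.1 (P.2.to_le (inf_le_left : D ≤ (P : Subgroup G)))
          rw [hb, hdm, ← pow_succ]
          refine pow_dvd_pow p ?_
          by_contra hlt
          exact hDd (by rw [hb, hdm]; exact pow_dvd_pow p (by omega))
        have hcC : (c : G) ∈ centralizer (D : Set G) := by
          have hle : Cfsg.pResidual p N ≤ (centralizer (D : Set G)).subgroupOf N := by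
            refine (closure_le _).mpr fun n hn => ?_
            rw [SetLike.mem_coe, mem_subgroupOf]
            refine centralizes_of_allH P.2 h hpd hdP inf_le_left hdD n.2 ?_ (hcopG _)
            rw [← CfsgLib.Transfer.coprime_orderOf_iff]
            rw [← Subgroup.coe_subtype, orderOf_injective N.subtype N.subtype_injective]
            exact hn
          exact mem_subgroupOf.mp (hle hc)
        have huP : (u : G) ∈ (P : Subgroup G) := (mem_subgroupOf.mp hu).1
        have hau : (u : G)⁻¹ * y * u ∈ D := (mem_set_normalizer_iff''.mp u.2 y).mp hyD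
        have hxu : x⁻¹ * y * x = (u : G)⁻¹ * y * u := by
          have hxe : x = (u : G) * (c : G) := by rw [← coe_mul, huc]
          have hcomm := hcC _ hau
          calc x⁻¹ * y * x = (c : G)⁻¹ * (((u : G)⁻¹ * y * u) * c) := by rw [hxe]; group
            _ = (c : G)⁻¹ * (c * ((u : G)⁻¹ * y * u)) := by rw [hcomm]
            _ = _ := by group
        rw [hxu]
        simpa using hcommΦ _ (inv_mem huP) y hyP
  have hfoc : Subgroup.focalSubgroup (P : Subgroup G) ≤ Φ := by
    rw [focalSubgroup_def, closure_le]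
    rintro z ⟨hz, x, hx, u, rfl⟩
    have hmem : (u⁻¹)⁻¹ * x⁻¹ * u⁻¹ ∈ (P : Subgroup G) := by
      have := mul_mem (inv_mem hx) hz
      rw [commutatorElement_def] at this
      simpa [mul_assoc] using this
    have hk := key _ _ (CfsgLib.Transfer.fusionChain P (A := {x⁻¹}) (g := u⁻¹)
      (Set.singleton_subset_iff.2 (inv_mem hx))
      (fun a ha => by rw [Set.mem_singleton_iff] at ha; rw [ha]; exact hmem)) x⁻¹ rfl (inv_mem hx)
    have h1 := hcommΦ x hx _ (mul_mem hmem hx)
    have h2 := mul_mem h1 hk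
    rw [SetLike.mem_coe, commutatorElement_def]
    convert h2 using 1
    group
  rw [CfsgLib.Transfer.hasNormalPComplement_iff_inf_eq_bot P]
  have hKn := CfsgLib.Transfer.pResidual_normal (G := G) (p := p)
  refine CfsgLib.Transfer.inf_eq_bot_of_le_frattini P _ ?_
    ((CfsgLib.Transfer.inf_pResidual_le_focalSubgroup P).trans hfoc)
  apply map_injective (Cfsg.pResidual p G).subtype_injective
  rw [← MonoidHom.range_eq_map, range_subtype]
  refine le_antisymm (map_subtype_le _) ?_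
  refine (closure_le _).mpr fun g hg =>
    ⟨⟨g, CfsgLib.Transfer.mem_pResidual_of_coprime hg⟩, ?_, rfl⟩
  refine CfsgLib.Transfer.mem_pResidual_of_coprime ?_
  rwa [← orderOf_injective (Cfsg.pResidual p G).subtype (Cfsg.pResidual p G).subtype_injective]

end CfsgLib.LocalEven.HSub
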