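import Cfsg.Agent.Lib.LocalEven.HSubgroup
import Cfsg.Agent.Lib.SolvStruct.Huppert

/-!
Supersolvability from `H`-subgroups of one order in the Sylow subgroups of a normal subgroup.
-/

set_option autoImplicit false

namespace CfsgLib.LocalEven.HSub

open Subgroup
open scoped commutatorElement

universe u

variable {G : Type u} [Group G] {p : ℕ}

/-- `N` contains `G'` and all `(p-1)`-th powers, and its `p'`-elements centralise `Q`. -/
structure GoodPair (p : ℕ) (Q N : Subgroup G) : Prop where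
  comm_mem : ∀ a b : G, ⁅a, b⁆ ∈ N
  pow_mem : ∀ a : G, a ^ (p - 1) ∈ N
  centralizes : ∀ n ∈ N, ¬ p ∣ orderOf n → n ∈ centralizer (Q : Set G)

variable [Finite G]

theorem exists_normal_order_prime [hp : Fact p.Prime] {Q N : Subgroup G} [Q.Normal]
    (hQ : IsPGroup p Q) (hQ1 : Q ≠ ⊥) (hN : GoodPair p Q N) :
    ∃ Z : Subgroup G, Z.Normal ∧ Z ≤ Q ∧ Nat.card Z = p := by
  have hNn : N.Normal := ⟨fun n hn g => by
    have := mul_mem (hN.comm_mem g n) hn
    rwa [commutatorElement_def, inv_mul_cancel_right] at this⟩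
  -- central elements of order dividing `p`
  let V₀ : Subgroup G :=
    { carrier := {x | x ∈ Q ∧ (∀ q ∈ Q, q * x = x * q) ∧ x ^ p = 1}
      one_mem' := ⟨Q.one_mem, fun q _ => by simp, one_pow p⟩
      mul_mem' := fun {a b} ha hb => ⟨Q.mul_mem ha.1 hb.1, fun q hq => by
          rw [← mul_assoc, ha.2.1 q hq, mul_assoc, hb.2.1 q hq, mul_assoc],
        by rw [(show Commute a b from hb.2.1 a ha.1).mul_pow, ha.2.2, hb.2.2, one_mul]⟩
      inv_mem' := fun {a} ha => ⟨Q.inv_mem ha.1,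
        fun q hq => ((show Commute q a from ha.2.1 q hq).inv_right).eq,
        by rw [inv_pow, ha.2.2, inv_one]⟩ }
  have hV₀n : V₀.Normal := ⟨fun x hx g => ⟨‹Q.Normal›.conj_mem x hx.1 g, fun q hq => by
      have := hx.2.1 _ (‹Q.Normal›.conj_mem q hq g⁻¹)
      calc q * (g * x * g⁻¹) = g * (g⁻¹ * q * g⁻¹⁻¹ * x) * g⁻¹ := by group
        _ = g * (x * (g⁻¹ * q * g⁻¹⁻¹)) * g⁻¹ := by rw [this]
        _ = g * x * g⁻¹ * q := by group,
    by rw [conj_pow, hx.2.2, mul_one, mul_inv_cancel]⟩⟩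
  have hV₀1 : V₀ ≠ ⊥ := by
    haveI : Nontrivial Q := (Subgroup.nontrivial_iff_ne_bot Q).2 hQ1
    have hd : p ∣ Nat.card (Subgroup.center Q) := by
      obtain ⟨k, hk⟩ := IsPGroup.iff_card.1 (hQ.to_subgroup (Subgroup.center Q))
      rcases k with _ | k
      · exact absurd (Subgroup.card_eq_one.1 (by simpa using hk)) hQ.bot_lt_center.ne'
      · exact hk ▸ dvd_pow_self p k.succ_ne_zero
    obtain ⟨x, hx⟩ := exists_prime_orderOf_dvd_card' p hd
    intro h0
    have hmem : ((x : Q) : G) ∈ V₀ := ⟨(x : Q).2,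
      fun q hq => congrArg Subtype.val (Subgroup.mem_center_iff.1 x.2 ⟨q, hq⟩), by
      rw [← hx, ← Subgroup.orderOf_coe x, ← Subgroup.orderOf_coe (x : Q)]
      exact pow_orderOf_eq_one _⟩
    rw [h0, Subgroup.mem_bot] at hmem
    rw [← Subgroup.orderOf_coe x, ← Subgroup.orderOf_coe (x : Q), hmem, orderOf_one] at hx
    exact hp.out.one_lt.ne hx
  obtain ⟨V, ⟨hVn, hV1, hVle⟩, hmin⟩ := (Set.toFinite
    {V : Subgroup G | V.Normal ∧ V ≠ ⊥ ∧ V ≤ V₀}).exists_minimal ⟨V₀, hV₀n, hV₀1, le_rfl⟩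
  have hsub : ∀ K : Subgroup G, K.Normal → K ≤ V → K = ⊥ ∨ K = V := fun K hK hKV =>
    or_iff_not_imp_left.mpr fun hK1 => le_antisymm hKV (hmin ⟨hK, hK1, hKV.trans hVle⟩ hKV)
  have hVQ : V ≤ Q := fun x hx => (hVle hx).1
  have hVab : ∀ a ∈ V, ∀ b ∈ V, a * b = b * a := fun a ha b hb =>
    (hVle hb).2.1 a (hVQ ha)
  haveI : IsMulCommutative V := ⟨⟨fun a b => Subtype.ext (hVab a a.2 b b.2)⟩⟩
  haveI : Nontrivial V := (Subgroup.nontrivial_iff_ne_bot V).2 hV1
  let ρ : G →* MulAut V := MulAut.conjNormal (H := V)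
  have hρ : ∀ (g : G) (x : V), ((ρ g x : V) : G) = g * x * g⁻¹ := fun g x =>
    MulAut.conjNormal_apply _ _
  -- `N` centralises `V`
  have hNV : V ≤ centralizer (N : Set G) := by
    have hA : IsPGroup p (N.map ρ) := by
      rintro ⟨_, n, hn, rfl⟩
      obtain ⟨a, ha, b, hb, hab, ⟨k, hk⟩, hb'⟩ := CfsgLib.Transfer.exists_pPart_mul (p := p) n
      refine ⟨k, Subtype.ext ?_⟩
      have hbn : b ∈ N := (zpowers_le.2 hn) hb
      have hb1 : ρ b = 1 := by
        ext x
        rw [hρ]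
        have hc := hN.centralizes b hbn (CfsgLib.Transfer.coprime_orderOf_iff.1 hb')
        rw [← mem_centralizer_iff.1 hc x (hVQ x.2), mul_inv_cancel_right]
        rfl
      have h : ρ n ^ p ^ k = 1 := by
        rw [← hab, map_mul, hb1, mul_one, ← map_pow, orderOf_dvd_iff_pow_eq_one.1 hk, map_one]
      exact h
    have hd : p ∣ Nat.card V := by
      obtain ⟨k, hk⟩ := IsPGroup.iff_card.1 (hQ.to_le hVQ)
      rcases k with _ | k
      · exact absurd (Subgroup.card_eq_one.1 (by simpa using hk)) hV1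
      · exact hk ▸ dvd_pow_self p k.succ_ne_zero
    obtain ⟨v, hv, hv1⟩ := hA.exists_fixed_point_of_prime_dvd_card_of_fixed_point V hd
      (a := (1 : V)) (fun a => map_one (a.1 : MulAut V))
    have hmem : (v : G) ∈ V ⊓ centralizer (N : Set G) := by
      refine ⟨v.2, fun n hn => ?_⟩
      have h1 : ρ n v = v := hv ⟨ρ n, n, hn, rfl⟩
      have h2 := congrArg Subtype.val h1
      rw [hρ] at h2
      exact mul_inv_eq_iff_eq_mul.1 h2
    rcases hsub (V ⊓ centralizer (N : Set G)) inferInstance inf_le_left with h | h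
    · rw [h, Subgroup.mem_bot] at hmem
      exact absurd (Subtype.ext hmem).symm hv1
    · exact inf_eq_left.1 h
  have hfix : ∀ n ∈ N, ∀ x ∈ V, n * x * n⁻¹ = x := fun n hn x hx => by
    rw [mem_centralizer_iff.1 (hNV hx) n hn, mul_inv_cancel_right]
  -- every element acts as a scalar
  have hscal : ∀ g : G, ∀ x ∈ V, g * x * g⁻¹ ∈ zpowers x := by
    intro g
    have hb : ρ g ^ (p - 1) = 1 := by
      rw [← map_pow]
      ext x
      rw [hρ]
      exact hfix _ (hN.pow_mem g) x x.2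
    open scoped IsMulCommutative in
    obtain ⟨c, w, hw1, hw⟩ := CfsgLib.SolvStruct.exists_pow_eigen (W := V)
      (fun x => Subtype.ext (hVle x.2).2.2) (ρ g) hb
    let W : Subgroup G :=
      { carrier := {x | x ∈ V ∧ g * x * g⁻¹ = x ^ c}
        one_mem' := ⟨V.one_mem, by simp⟩
        mul_mem' := fun {u v} hu hv => ⟨V.mul_mem hu.1 hv.1, by
          rw [(Commute.mul_pow (hVab u hu.1 v hv.1) c), ← hu.2, ← hv.2]; group⟩
        inv_mem' := fun {u} hu => ⟨V.inv_mem hu.1, by rw [inv_pow, ← hu.2]; group⟩ }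
    have hWn : W.Normal := ⟨fun x hx h => ⟨hVn.conj_mem x hx.1 h, by
      have h1 := hfix _ (hN.comm_mem g h) _ (hVn.conj_mem _ (hVn.conj_mem x hx.1 g) h)
      calc g * (h * x * h⁻¹) * g⁻¹
          = ⁅g, h⁆ * (h * (g * x * g⁻¹) * h⁻¹) * ⁅g, h⁆⁻¹ := by rw [commutatorElement_def]; group
        _ = h * (g * x * g⁻¹) * h⁻¹ := h1
        _ = (h * x * h⁻¹) ^ c := by rw [hx.2, conj_pow]⟩⟩
    have hWV : W = V := by
      refine (hsub W hWn fun x hx => hx.1).resolve_left fun h0 => hw1 ?_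
      have hmem : (w : G) ∈ W := ⟨w.2, by rw [← hρ, hw, SubmonoidClass.coe_pow]⟩
      rw [h0, Subgroup.mem_bot] at hmem
      exact Subtype.ext hmem
    intro x hx
    rw [← hWV] at hx
    rw [hx.2]
    exact Subgroup.pow_mem _ (mem_zpowers x) c
  obtain ⟨v, hv, hv1⟩ := (V.bot_or_exists_ne_one).resolve_left hV1
  refine ⟨zpowers v, ⟨fun x hx g => ?_⟩, zpowers_le.2 (hVQ hv), ?_⟩
  · obtain ⟨k, rfl⟩ := hx
    show g * v ^ k * g⁻¹ ∈ _
    rw [← conj_zpow]
    exact zpow_mem (hscal g v hv) k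
  · rw [Nat.card_zpowers]
    exact orderOf_eq_prime (hVle hv).2.2 hv1

theorem supersolvable_of_goodPair_aux [hp : Fact p.Prime] (n : ℕ) :
    ∀ {G : Type u} [Group G] [Finite G], Nat.card G = n → ∀ (Q N : Subgroup G) [Q.Normal],
      IsPGroup p Q → GoodPair p Q N → Cfsg.IsSupersolvable (G ⧸ Q) → Cfsg.IsSupersolvable G := by
  induction n using Nat.strong_induction_on with
  | _ n ih =>
  intro G _ _ hcard Q N _ hQ hN hGQ
  by_cases hQ1 : Q = ⊥
  · subst hQ1
    exact CfsgLib.SolvStruct.supersolvable_congr QuotientGroup.quotientBot hGQ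
  obtain ⟨Z, hZn, hZQ, hZc⟩ := exists_normal_order_prime hQ hQ1 hN
  haveI : IsCyclic Z := CfsgLib.SolvStruct.isCyclic_of_card_prime (hZc ▸ hp.out)
  refine CfsgLib.SolvStruct.supersolvable_of_cyclic_normal Z ?_
  have hsurj := QuotientGroup.mk'_surjective Z
  refine ih (Nat.card (G ⧸ Z)) (hcard ▸ CfsgLib.SolvStruct.card_quotient_lt'
    (CfsgLib.SolvStruct.ne_bot_of_card_prime (hZc ▸ hp.out))) rfl (Q.map (QuotientGroup.mk' Z))
    (N.map (QuotientGroup.mk' Z)) (hQ.map _) ⟨fun a b => ?_, fun a => ?_, fun n hn hnp => ?_⟩ ?_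
  · obtain ⟨a, rfl⟩ := hsurj a
    obtain ⟨b, rfl⟩ := hsurj b
    exact ⟨_, hN.comm_mem a b, map_commutatorElement _ _ _⟩
  · obtain ⟨a, rfl⟩ := hsurj a
    exact ⟨_, hN.pow_mem a, map_pow _ _ _⟩
  · obtain ⟨m, hm, rfl⟩ := hn
    obtain ⟨a, ha, b, hb, hab, ⟨k, hk⟩, hb'⟩ := CfsgLib.Transfer.exists_pPart_mul (p := p) m
    have ha1 : QuotientGroup.mk' Z a = 1 := by
      set f := QuotientGroup.mk' Z
      have h1 : f a ∈ zpowers (f m) := by
        obtain ⟨j, rfl⟩ := ha
        exact ⟨j, (map_zpow f m j).symm⟩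
      refine orderOf_eq_one_iff.1 (Nat.eq_one_of_dvd_coprimes
        (((hp.out.coprime_iff_not_dvd).2 hnp).pow_left k)
        ((orderOf_map_dvd f a).trans hk) (orderOf_dvd_of_mem_zpowers h1))
    rw [← hab, map_mul, ha1, one_mul]
    have hc := hN.centralizes b ((zpowers_le.2 hm) hb) (CfsgLib.Transfer.coprime_orderOf_iff.1 hb')
    rintro _ ⟨x, hx, rfl⟩
    rw [← map_mul, ← map_mul, mem_centralizer_iff.1 hc x hx]
  · exact CfsgLib.SolvStruct.supersolvable_congr
      (QuotientGroup.quotientQuotientEquivQuotient Z Q hZQ).symm hGQ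

theorem supersolvable_of_goodPair [hp : Fact p.Prime] {Q N : Subgroup G} [Q.Normal]
    (hQ : IsPGroup p Q) (hN : GoodPair p Q N) (hGQ : Cfsg.IsSupersolvable (G ⧸ Q)) :
    Cfsg.IsSupersolvable G :=
  supersolvable_of_goodPair_aux _ rfl Q N hQ hN hGQ

/-- The intersection of the kernels of all homomorphisms to `(ZMod p)ˣ`. -/
def charKer (p : ℕ) (G : Type*) [Group G] : Subgroup G := ⨅ χ : G →* (ZMod p)ˣ, χ.ker

omit [Finite G] in
theorem charKer_fix [hp : Fact p.Prime] {V : Type*} [Group V] (θ : G →* MulAut V) {w : V}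
    (hw : w ^ p = 1) (hline : ∀ g : G, θ g w ∈ zpowers w) {n : G} (hn : n ∈ charKer p G) :
    θ n w = w := by
  by_cases hw1 : w = 1
  · rw [hw1, map_one]
  have hord : orderOf w = p := orderOf_eq_prime hw hw1
  choose k hk using hline
  have hcast : ∀ a b : ℤ, w ^ a = w ^ b → (a : ZMod p) = b := by
    intro a b h
    rw [ZMod.intCast_eq_intCast_iff, ← hord, ← zpow_eq_zpow_iff_modEq]
    exact h
  let f : G →* ZMod p :=
    { toFun := fun g => (k g : ZMod p)
      map_one' := by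
        have := hk 1
        simp only [map_one, MulAut.one_apply] at this
        exact (hcast _ 1 (this.trans (zpow_one w).symm)).trans Int.cast_one
      map_mul' := fun g h => by
        have h1 := hk (g * h)
        simp only [map_mul, MulAut.mul_apply] at h1
        rw [← hk h, map_zpow, ← hk g, ← zpow_mul] at h1
        rw [hcast _ _ h1, Int.cast_mul] }
  have h1 : f n = 1 := by
    have := MonoidHom.mem_ker.1 (mem_iInf.1 hn f.toHomUnits)
    rw [← MonoidHom.coe_toHomUnits f n, this, Units.val_one]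
  rw [← hk n]
  change (k n : ZMod p) = 1 at h1
  rw [← Int.cast_one, ZMod.intCast_eq_intCast_iff, ← hord, ← zpow_eq_zpow_iff_modEq] at h1
  exact h1.trans (zpow_one w)

theorem charKer_comm_mem [Fact p.Prime] (a b : G) : ⁅a, b⁆ ∈ charKer p G := by
  refine mem_iInf.2 fun χ => MonoidHom.mem_ker.2 ?_
  rw [map_commutatorElement, commutatorElement_eq_one_iff_mul_comm, mul_comm]

theorem charKer_pow_mem [hp : Fact p.Prime] (a : G) : a ^ (p - 1) ∈ charKer p G := by
  refine mem_iInf.2 fun χ => MonoidHom.mem_ker.2 ?_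
  rw [map_pow]
  exact ZMod.units_pow_card_sub_one_eq_one p (χ a)

theorem mem_line_of_coatoms [hp : Fact p.Prime] {L : Type*} [Group L] [Finite L]
    (hL : IsPGroup p L) {y z : L} (h : ∀ M : Subgroup L, IsCoatom M → y ∈ M → z ∈ M) :
    QuotientGroup.mk' (frattini L) z ∈ zpowers (QuotientGroup.mk' (frattini L) y) := by
  set π := QuotientGroup.mk' (frattini L)
  by_contra hnot
  obtain ⟨M, ⟨hMle, hMnot⟩, hMmax⟩ := Set.Finite.exists_maximal
    (Set.toFinite {M : Subgroup L | (zpowers (π y)).comap π ≤ M ∧ z ∉ M})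
    ⟨_, le_rfl, fun h => hnot h⟩
  have hΦM : frattini L ≤ M := le_trans (fun u hu => by
    rw [mem_comap, show π u = 1 from (QuotientGroup.eq_one_iff u).2 hu]
    exact one_mem _) hMle
  have hMn : M.Normal := Subgroup.Normal.of_commutator_le L
    ((CfsgLib.PGroups.commutator_le_frattini hL).trans hΦM)
  refine hMnot (h M ⟨fun h => hMnot (h ▸ mem_top _), fun K hK => ?_⟩ (hMle (mem_zpowers _)))
  by_contra hKne
  obtain ⟨u, hu⟩ : ∃ u, u ∉ K := by
    by_contra hall; push Not at hall; exact hKne (eq_top_iff.2 fun u _ => hall u)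
  have hzK : z ∈ K := by
    by_contra hw; exact hK.not_ge (hMmax ⟨hMle.trans hK.le, hw⟩ hK.le)
  have hzu : z ∈ M ⊔ zpowers u := by
    by_contra hw
    exact hu (hK.le (hMmax ⟨hMle.trans le_sup_left, hw⟩ le_sup_left
      (le_sup_right (a := M) (mem_zpowers u))))
  rw [← SetLike.mem_coe, Subgroup.normal_mul] at hzu
  obtain ⟨m, hm, _, ⟨k, rfl⟩, hmk⟩ := hzu
  dsimp only at hmk
  have hukK : u ^ k ∈ K := by
    rw [show u ^ k = m⁻¹ * z by rw [← hmk, inv_mul_cancel_left]]
    exact mul_mem (inv_mem (hK.le hm)) hzK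
  have hpu : u ^ (p : ℤ) ∈ M := by
    rw [zpow_natCast]; exact hΦM (CfsgLib.PGroups.pow_mem_frattini hL u)
  have hnk : ¬ (p : ℤ) ∣ k := by
    rintro ⟨t, rfl⟩
    apply hMnot
    rw [← hmk]
    refine mul_mem hm ?_
    rw [zpow_mul]
    exact zpow_mem hpu _
  obtain ⟨a, b, hab⟩ : IsCoprime (p : ℤ) k :=
    (Prime.coprime_iff_not_dvd (Nat.prime_iff_prime_int.1 hp.out)).2 hnk
  apply hu
  rw [show u = (u ^ (p : ℤ)) ^ a * (u ^ k) ^ b by
    rw [← zpow_mul, ← zpow_mul, ← zpow_add, mul_comm (p : ℤ), mul_comm k, hab, zpow_one]]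
  exact mul_mem (zpow_mem (hK.le hpu) _) (zpow_mem hukK _)

/-- The `p'`-elements of `charKer` centralise a normal `p`-subgroup whose subgroups of order `d`
are `H`-subgroups. -/
theorem goodPair_charKer [hp : Fact p.Prime] {Q : Subgroup G} [Q.Normal] {d : ℕ}
    (hQ : IsPGroup p Q) (h : AllH Q d) (hpd : p ∣ d) (hdQ : d * p ∣ Nat.card Q) :
    GoodPair p Q (charKer p G) := by
  refine ⟨charKer_comm_mem, charKer_pow_mem, fun n hn hpn => ?_⟩
  obtain ⟨a₀, ha₀⟩ := IsPGroup.iff_card.1 hQ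
  obtain ⟨m, -, hdm⟩ := (Nat.dvd_prime_pow hp.out).1 (ha₀ ▸ (dvd_mul_right d p).trans hdQ)
  have hgQ : ∀ g : G, ∀ y ∈ Q, g * y * g⁻¹ ∈ Q := fun g y hy => ‹Q.Normal›.conj_mem y hy g
  suffices hsmall : ∀ a ∈ Q, (a ^ p = 1 ∨ (p = 2 ∧ a ^ 4 = 1)) → Commute n a by
    rw [mem_centralizer_iff]
    intro a ha
    exact (CfsgLib.CoprimeSmall.commute_of_small_order hpn Q hQ
      (Subgroup.le_normalizer_of_normal (K := (⊤ : Subgroup G)) (mem_top n)) hsmall a ha).symm
  intro a ha hsm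
  have hlow : IsLow d a := by
    rcases hsm with h1 | ⟨rfl, h4⟩
    · exact Or.inl ((orderOf_dvd_of_pow_eq_one h1).trans hpd)
    · by_cases hd2 : d = 2
      · exact Or.inr ⟨hd2, orderOf_dvd_of_pow_eq_one h4⟩
      · refine Or.inl ((orderOf_dvd_of_pow_eq_one h4).trans ?_)
        rw [hdm, show 4 = 2 ^ 2 by rfl]
        refine pow_dvd_pow 2 ?_
        rcases m with _ | _ | m
        · rw [pow_zero] at hdm; subst hdm; norm_num at hpd
        · exact absurd hdm (by simpa using hd2)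
        · omega
  -- an element fixing the line of `a`
  have hcyc_case : (∀ g : G, g * a * g⁻¹ ∈ zpowers a) → Commute n a := by
    intro hline
    rcases hsm with h1 | ⟨hp2, h4⟩
    · have h2 := charKer_fix (MulAut.conj (G := G)) h1 (fun g => by simpa using hline g) hn
      rw [MulAut.conj_apply] at h2
      exact mul_inv_eq_iff_eq_mul.1 h2
    · obtain ⟨j, -, hj⟩ := (Nat.dvd_prime_pow hp.out).1
        ((orderOf_dvd_of_pow_eq_one h4).trans (dvd_of_eq (by rw [hp2]; rfl : 4 = p ^ 2)))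
      exact commute_of_zpowers hj hpn (by subst hp2; exact Nat.coprime_one_right _) (hline n)
  by_cases had : orderOf a ∣ d
  swap
  · refine hcyc_case fun g => ?_
    obtain ⟨hd2, h4⟩ := hlow.resolve_left had
    have hE : Nat.card (zpowers a) = 4 := by
      rw [Nat.card_zpowers]
      have hle := Nat.le_of_dvd (by norm_num) h4
      interval_cases hn' : orderOf a
      all_goals first
        | rfl
        | (exfalso; revert had h4; subst hd2; decide)
    exact conj_mem_of_allH hQ h (zpowers_le.2 ha) (Or.inr ⟨hd2, hE⟩) (mem_zpowers a) (hgQ g a ha)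
  obtain ⟨L, haL, hLQ, hLc⟩ := exists_between hQ (zpowers_le.2 ha)
    (by rw [Nat.card_zpowers]; exact had.trans (dvd_mul_right d p)) hdQ
  by_cases hcyc : IsCyclic L
  · refine hcyc_case fun g => ?_
    obtain ⟨E, haE, hEL, hE⟩ := exists_between (d := d) (hQ.to_le hLQ) haL
      (by rwa [Nat.card_zpowers]) (by rw [hLc]; exact dvd_mul_right d p)
    have h1 := conj_mem_of_allH hQ h (hEL.trans hLQ) (Or.inl hE) (haE (mem_zpowers a))
      (hgQ g a ha)
    refine mem_zpowers_of_cyclic hcyc (haL (mem_zpowers a)) (hEL h1) (dvd_of_eq ?_)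
    rw [← MulAut.conj_apply]
    exact MulEquiv.orderOf_eq (MulAut.conj g) a
  have hord : ∀ y ∈ L, orderOf y ∣ d := by
    intro y hy
    have h1 : orderOf y ∣ p ^ (m + 1) := by
      rw [← Nat.card_zpowers, pow_succ, ← hdm, ← hLc]
      exact card_dvd_of_le (zpowers_le.2 hy)
    obtain ⟨j, hj, hj'⟩ := (Nat.dvd_prime_pow hp.out).1 h1
    rw [hj', hdm]
    refine pow_dvd_pow p (Nat.le_of_lt_succ (lt_of_le_of_ne hj fun he => hcyc ?_))
    refine isCyclic_of_orderOf_eq_card (⟨y, hy⟩ : L) ?_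
    rw [← Subgroup.orderOf_coe, hLc, hj', he, hdm, pow_succ]
  have hLn : L.Normal := ⟨fun y hy g => by
    obtain ⟨E, hyE, hEL, hE⟩ := exists_between (d := d) (hQ.to_le hLQ) (zpowers_le.2 hy)
      (by rw [Nat.card_zpowers]; exact hord y hy) (by rw [hLc]; exact dvd_mul_right d p)
    exact hEL (conj_mem_of_allH hQ h (hEL.trans hLQ) (Or.inl hE) (hyE (mem_zpowers y))
      (hgQ g y (hLQ hy)))⟩
  have hLp := hQ.to_le hLQ
  set Φ := frattini L with hΦ
  have hΦmap : ∀ g : G, Φ.map (MulAut.conjNormal (H := L) g).toMonoidHom = Φ := fun g =>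
    Subgroup.characteristic_iff_map_eq.1 frattini_characteristic _
  let θ : G →* MulAut (L ⧸ Φ) :=
    MonoidHom.mk' (fun g => QuotientGroup.congr Φ Φ (MulAut.conjNormal (H := L) g) (hΦmap g))
      fun g h => by
        ext x
        obtain ⟨x, rfl⟩ := QuotientGroup.mk'_surjective Φ x
        change QuotientGroup.mk' Φ (MulAut.conjNormal (H := L) (g * h) x) =
          QuotientGroup.mk' Φ (MulAut.conjNormal (H := L) g (MulAut.conjNormal (H := L) h x))
        rw [map_mul]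
        rfl
  have htriv : ∀ b ∈ zpowers n, ∀ y ∈ L, b * y * b⁻¹ * y⁻¹ ∈ Φ.map L.subtype := by
    intro b hb y hy
    have hline : ∀ g : G, θ g (QuotientGroup.mk' Φ ⟨y, hy⟩) ∈ zpowers (QuotientGroup.mk' Φ ⟨y, hy⟩) := by
      intro g
      refine mem_line_of_coatoms hLp fun M hM hyM => ?_
      have hzM : y ∈ M.map L.subtype := ⟨⟨y, hy⟩, hyM, rfl⟩
      have h2 := conj_mem_of_low hQ h ((map_subtype_le M).trans hLQ) ?_ hzM (Or.inl (hord y hy))
        (hgQ g y (hLQ hy))
      · obtain ⟨w, hw, hwe⟩ := h2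
        change (MulAut.conjNormal (H := L) g) ⟨y, hy⟩ ∈ M
        rwa [show (MulAut.conjNormal (H := L) g) ⟨y, hy⟩ = w from Subtype.ext hwe.symm]
      have hi := CfsgLib.PGroups.index_eq_of_isCoatom hLp hM
      have hc := M.card_mul_index
      rw [hi, hLc] at hc
      rw [card_map_of_injective L.subtype_injective, Nat.eq_of_mul_eq_mul_right hp.out.pos hc]
    have hwp : (QuotientGroup.mk' Φ ⟨y, hy⟩) ^ p = 1 := by
      rw [← map_pow]
      exact (QuotientGroup.eq_one_iff _).2 (CfsgLib.PGroups.pow_mem_frattini hLp _)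
    have h2 := charKer_fix θ hwp hline ((zpowers_le.2 hn) hb)
    change QuotientGroup.mk' Φ ((MulAut.conjNormal (H := L) b) ⟨y, hy⟩) = _ at h2
    refine ⟨(MulAut.conjNormal (H := L) b) ⟨y, hy⟩ * (⟨y, hy⟩ : L)⁻¹, ?_, rfl⟩
    rw [SetLike.mem_coe, ← QuotientGroup.eq_one_iff, ← QuotientGroup.mk'_apply, map_mul, map_inv,
      h2, mul_inv_cancel]
  have hcop : (Nat.card (zpowers n)).Coprime (Nat.card Φ) := by
    obtain ⟨j, hj⟩ := IsPGroup.iff_card.1 (hLp.to_subgroup Φ)
    rw [Nat.card_zpowers, hj]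
    exact ((hp.out.coprime_iff_not_dvd.2 hpn).symm).pow_right j
  have := CfsgLib.Coprime.le_centralizer_of_trivial_mod_frattini
    (A := zpowers n) (K := L) Subgroup.le_normalizer_of_normal hcop htriv
  exact (mem_centralizer_iff.1 (this (mem_zpowers n)) a (haL (mem_zpowers a))).symm

end CfsgLib.LocalEven.HSub
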