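import Cfsg.Agent.Lib.LocalEven.HSupersolvable

/-!
The induction for supersolvability from `H`-subgroups.
-/

set_option autoImplicit false

namespace CfsgLib.LocalEven.HSub

open Subgroup

universe u

variable {G : Type u} [Group G]

/-- The hypothesis on the non-cyclic Sylow subgroups of `E`. -/
def SylowsH (E : Subgroup G) : Prop :=
  ∀ (r : ℕ), r.Prime → ∀ P : Subgroup G, P ≤ E → IsPGroup r P → ¬ r ∣ P.relIndex E →
    ¬ IsCyclic P → ∃ d : ℕ, 1 < d ∧ d < Nat.card P ∧ d ∣ Nat.card P ∧ AllH P d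

variable [Finite G]

theorem sylowsH_of_le {E K : Subgroup G} (hE : SylowsH E) (hKE : K ≤ E) {p : ℕ} [hp : Fact p.Prime]
    (hK : ¬ p ∣ Nat.card K) (hidx : ∃ k, K.relIndex E = p ^ k) : SylowsH K := by
  intro r hr P hPK hP hPr hcyc
  refine hE r hr P (hPK.trans hKE) hP ?_ hcyc
  by_cases hrp : r = p
  · subst hrp
    exfalso
    obtain ⟨k, hk⟩ := IsPGroup.iff_card.1 hP
    rcases k with _ | k
    · rw [pow_zero] at hk
      exact hcyc (Subgroup.card_eq_one.1 hk ▸ inferInstance)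
    · exact hK ((hk ▸ dvd_pow_self r k.succ_ne_zero).trans (card_dvd_of_le hPK))
  · rw [← relIndex_mul_relIndex P K E hPK hKE]
    obtain ⟨k, hk⟩ := hidx
    rw [hk]
    refine hr.not_dvd_mul hPr fun h => hrp ?_
    exact (Nat.prime_dvd_prime_iff_eq hr hp.out).1 (hr.dvd_of_dvd_pow h)

theorem allH_subgroupOf {E P : Subgroup G} (hPE : P ≤ E) {d : ℕ} (h : AllH P d) :
    AllH (P.subgroupOf E) d := by
  intro F hF hd g x hx
  have hF' : F.map E.subtype ≤ P := by
    rintro _ ⟨y, hy, rfl⟩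
    exact mem_subgroupOf.1 (hF hy)
  have hmem : (x : G) ∈ F.map E.subtype := by
    refine h _ hF' (by rwa [card_map_of_injective E.subtype_injective]) g ⟨?_, ?_⟩
    · obtain ⟨y, hy, rfl⟩ := hx.1
      exact ⟨y, ⟨y, hy, rfl⟩, rfl⟩
    · exact le_normalizer_map E.subtype ⟨x, hx.2, rfl⟩
  obtain ⟨y, hy, hyx⟩ := hmem
  rwa [← Subtype.ext (hyx : (y : G) = x)]

theorem exists_normal_sylow_aux (n : ℕ) : ∀ E : Subgroup G, Nat.card E = n → E.Normal → E ≠ ⊥ →
    SylowsH E → ∃ (q : ℕ) (Q : Subgroup G), q.Prime ∧ Q ≠ ⊥ ∧ Q.Normal ∧ Q ≤ E ∧ IsPGroup q Q ∧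
      ¬ q ∣ Q.relIndex E := by
  induction n using Nat.strong_induction_on with
  | _ n ih =>
  intro E hn hEn hE1 hE
  have hE1' : Nat.card E ≠ 1 := fun h => hE1 (Subgroup.card_eq_one.1 h)
  set p := (Nat.card E).minFac with hpdef
  haveI hp : Fact p.Prime := ⟨Nat.minFac_prime hE1'⟩
  have hmin : ∀ r : ℕ, r.Prime → r ∣ Nat.card E → p ≤ r := fun r hr hd =>
    Nat.minFac_le_of_dvd hr.two_le hd
  obtain ⟨S⟩ : Nonempty (Sylow p E) := inferInstance
  have hSnp : ¬ p ∣ ((S : Subgroup E).map E.subtype).relIndex E := by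
    rw [relIndex, subgroupOf, comap_map_eq_self_of_injective E.subtype_injective]
    exact S.not_dvd_index
  have hnc : Cfsg.HasNormalPComplement p E := by
    by_cases hcyc : IsCyclic (S : Subgroup E)
    · exact CfsgLib.Transfer.hasNormalPComplement_of_normalizer_le_centralizer S
        (hcyc.normalizer_le_centralizer hpdef)
    · obtain ⟨d, hd1, hdlt, hdvd, hd⟩ := hE p hp.out _ (map_subtype_le (S : Subgroup E))
        (S.2.map _) hSnp fun h => hcyc
          (((S : Subgroup E).equivMapOfInjective _ E.subtype_injective).isCyclic.2 h)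
      rw [card_map_of_injective E.subtype_injective] at hdlt hdvd
      refine hasNormalPComplement_of_allH S hmin ?_ hd1 hdvd hdlt
      have := allH_subgroupOf (map_subtype_le (S : Subgroup E)) hd
      rwa [subgroupOf, comap_map_eq_self_of_injective E.subtype_injective] at this
  set K := (Cfsg.pResidual p E).map E.subtype with hKdef
  have hKp : ¬ p ∣ Nat.card K := by
    rw [card_map_of_injective E.subtype_injective]
    exact CfsgLib.Transfer.hasNormalPComplement_iff_pResidual.1 hnc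
  have hidx : ∃ k, K.relIndex E = p ^ k := by
    rw [hKdef, relIndex, subgroupOf, comap_map_eq_self_of_injective E.subtype_injective]
    exact CfsgLib.Transfer.exists_index_pResidual
  have hKE : K ≤ E := map_subtype_le _
  haveI := CfsgLib.Transfer.pResidual_characteristic (G := E) (p := p)
  have hKn : K.Normal := ConjAct.normal_of_characteristic_of_normal
  by_cases hK1 : K = ⊥
  · refine ⟨p, E, hp.out, hE1, hEn, le_rfl, ?_, by rw [relIndex_self]; exact hp.out.not_dvd_one⟩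
    obtain ⟨k, hk⟩ := hidx
    rw [hK1, relIndex_bot_left] at hk
    exact IsPGroup.of_card hk
  have hlt : Nat.card K < n := by
    subst hn
    refine lt_of_le_of_ne (card_le_of_le hKE) fun h => hKp ?_
    rw [h]; exact Nat.minFac_dvd _
  obtain ⟨q, Q, hq, hQ1, hQn, hQK, hQq, hQnd⟩ :=
    ih _ hlt K rfl hKn hK1 (sylowsH_of_le hE hKE hKp hidx)
  refine ⟨q, Q, hq, hQ1, hQn, hQK.trans hKE, hQq, ?_⟩
  rw [← relIndex_mul_relIndex Q K E hQK hKE]
  obtain ⟨k, hk⟩ := hidx
  rw [hk]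
  refine hq.not_dvd_mul hQnd fun h => hKp ?_
  have hqp := (Nat.prime_dvd_prime_iff_eq hq hp.out).1 (hq.dvd_of_dvd_pow h)
  haveI : Fact q.Prime := ⟨hq⟩
  obtain ⟨j, hj⟩ := IsPGroup.iff_card.1 hQq
  rcases j with _ | j
  · exact absurd (Subgroup.card_eq_one.1 (by rw [hj, pow_zero])) hQ1
  · exact hqp ▸ ((hj ▸ dvd_pow_self q j.succ_ne_zero).trans (card_dvd_of_le hQK))

theorem sylowsH_quotient {E Q : Subgroup G} [E.Normal] [Q.Normal] {q : ℕ} [hq : Fact q.Prime]
    (hQE : Q ≤ E) (hQ : IsPGroup q Q) (hQnd : ¬ q ∣ Q.relIndex E) (hE : SylowsH E) :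
    SylowsH (E.map (QuotientGroup.mk' Q)) := by
  intro r hr Pb hPbE hPb hPbr hcyc
  haveI : Fact r.Prime := ⟨hr⟩
  set f := QuotientGroup.mk' Q with hf
  set X := Pb.comap f with hX
  have hQX : Q ≤ X := QuotientGroup.le_comap_mk' Q Pb
  have hXE : X ≤ E := by
    intro x hx
    obtain ⟨e, he, hee⟩ := hPbE hx
    have : x⁻¹ * e ∈ Q := QuotientGroup.eq.1 hee.symm
    simpa using mul_mem he (inv_mem (hQE this))
  have hrel : X.relIndex E = Pb.relIndex (E.map f) := by rw [hX, relIndex_comap]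
  have hrq : r ≠ q := by
    rintro rfl
    obtain ⟨k, hk⟩ := IsPGroup.iff_card.1 hPb
    rcases k with _ | k
    · rw [pow_zero] at hk
      exact hcyc (Subgroup.card_eq_one.1 hk ▸ inferInstance)
    · apply hQnd
      have h1 : Q.relIndex E = Nat.card (E.map f) := by
        rw [← relIndex_bot_left (E.map f), ← relIndex_comap, MonoidHom.comap_bot, hf,
          QuotientGroup.ker_mk']
      rw [h1]
      exact (hk ▸ dvd_pow_self r k.succ_ne_zero).trans (card_dvd_of_le hPbE)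
  obtain ⟨S⟩ : Nonempty (Sylow r X) := inferInstance
  set P := (S : Subgroup X).map X.subtype with hPdef
  have hP : IsPGroup r P := S.2.map _
  have hPX : P ≤ X := map_subtype_le _
  have hPrX : ¬ r ∣ P.relIndex X := by
    rw [relIndex, subgroupOf, hPdef, comap_map_eq_self_of_injective X.subtype_injective]
    exact S.not_dvd_index
  have hPr : ¬ r ∣ P.relIndex E := by
    rw [← relIndex_mul_relIndex P X E hPX hXE, hrel]
    exact hr.not_dvd_mul hPrX hPbr
  have hcopQ : ∀ F : Subgroup G, IsPGroup r F → F ⊓ Q = ⊥ := fun F hF =>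
    disjoint_iff.1 (IsPGroup.disjoint_of_ne r q hrq F Q hF hQ)
  have hinj : ∀ F : Subgroup G, IsPGroup r F → Nat.card (F.map f) = Nat.card F := by
    intro F hF
    have hi : Function.Injective (f.comp F.subtype) := by
      rw [← MonoidHom.ker_eq_bot_iff, eq_bot_iff]
      intro x hx
      have hxQ : (x : G) ∈ F ⊓ Q := ⟨x.2, (QuotientGroup.eq_one_iff (x : G)).1 hx⟩
      rw [hcopQ F hF, mem_bot] at hxQ
      exact mem_bot.2 (Subtype.ext hxQ)
    have h := Nat.card_congr (MonoidHom.ofInjective hi).toEquiv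
    rw [MonoidHom.range_comp, range_subtype] at h
    exact h.symm
  have hmapP : P.map f = Pb := by
    refine eq_of_le_of_card_ge (map_le_iff_le_comap.2 hPX) ?_
    have h1 : (P.map f).relIndex Pb ∣ P.relIndex X := by
      have h2 : (P.map f).relIndex (X.map f) ∣ P.relIndex X := by
        rw [relIndex_map_map, hf, QuotientGroup.ker_mk', sup_of_le_left hQX]
        exact relIndex_dvd_of_le_left _ le_sup_left
      rwa [hX, map_comap_eq_self_of_surjective (QuotientGroup.mk'_surjective Q)] at h2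
    obtain ⟨k, hk⟩ := IsPGroup.iff_card.1 hPb
    have h3 : (P.map f).relIndex Pb = 1 := by
      have h4 : (P.map f).relIndex Pb ∣ r ^ k := hk ▸ relIndex_dvd_card _ _
      obtain ⟨j, -, hj⟩ := (Nat.dvd_prime_pow hr).1 h4
      rcases j with _ | j
      · rw [hj, pow_zero]
      · exact absurd ((hj ▸ dvd_pow_self r j.succ_ne_zero).trans h1) hPrX
    exact card_le_of_le (relIndex_eq_one.1 h3)
  have hPc : ¬ IsCyclic P := fun h => hcyc (by
    rw [← hmapP]
    haveI := h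
    exact isCyclic_of_surjective (f.subgroupMap P) (f.subgroupMap_surjective P))
  obtain ⟨d, hd1, hdlt, hdvd, hd⟩ := hE r hr P (hPX.trans hXE) hP hPr hPc
  have hcardP : Nat.card Pb = Nat.card P := by rw [← hmapP, hinj P hP]
  refine ⟨d, hd1, hcardP ▸ hdlt, hcardP ▸ hdvd, fun Fb hFb hFd gb => ?_⟩
  obtain ⟨g, rfl⟩ := QuotientGroup.mk'_surjective Q gb
  set F := P ⊓ Fb.comap f with hFdef
  have hmapF : F.map f = Fb := by
    refine le_antisymm (map_le_iff_le_comap.2 inf_le_right) fun y hy => ?_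
    obtain ⟨x, hx, rfl⟩ : y ∈ P.map f := hmapP ▸ hFb hy
    exact ⟨x, ⟨hx, hy⟩, rfl⟩
  have hFp : IsPGroup r F := hP.to_le inf_le_left
  have hFcard : Nat.card F = Nat.card Fb := by rw [← hmapF, hinj F hFp]
  rintro xb ⟨hx1, hx2⟩
  obtain ⟨fb, hfb, rfl⟩ := hx1
  obtain ⟨z, hz, rfl⟩ := hmapF.ge hfb
  set x := g * z * g⁻¹ with hxdef
  have hxb : (MulAut.conj (f g)).toMonoidHom (f z) = f x := by
    change f g * f z * (f g)⁻¹ = f x
    rw [hxdef, map_mul, map_mul, map_inv]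
  rw [hxb] at hx2 ⊢
  -- `x` normalises `F Q`
  have hsupF : F ⊔ Q = Fb.comap f := by
    rw [← hmapF, comap_map_eq, hf, QuotientGroup.ker_mk']
  have hxFQ : (F ⊔ Q).map (MulAut.conj x).toMonoidHom ≤ F ⊔ Q := by
    rw [hsupF]
    rintro _ ⟨u, hu, rfl⟩
    have := (mem_normalizer_iff.1 hx2 (f u)).1 hu
    rw [← map_inv, ← map_mul, ← map_mul] at this
    exact this
  have hsyl : ∀ h : G, ¬ r ∣ (F.map (MulAut.conj h).toMonoidHom).relIndex
      (F.map (MulAut.conj h).toMonoidHom ⊔ Q) := by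
    intro h
    set Fh := F.map (MulAut.conj h).toMonoidHom
    have hc := CfsgLib.Base.card_sup_of_disjoint Fh Q (hcopQ Fh (hFp.map _))
    have h2 := relIndex_mul_relIndex ⊥ Fh (Fh ⊔ Q) bot_le le_sup_left
    rw [relIndex_bot_left, relIndex_bot_left, hc] at h2
    rw [Nat.eq_of_mul_eq_mul_left Nat.card_pos h2]
    intro hrQ
    obtain ⟨k, hk⟩ := IsPGroup.iff_card.1 hQ
    rw [hk] at hrQ
    exact hrq ((Nat.prime_dvd_prime_iff_eq hr hq.out).1 (hr.dvd_of_dvd_pow hrQ))
  have hF1 : F.map (MulAut.conj (1 : G)).toMonoidHom = F := by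
    ext y; simp
  obtain ⟨k, hk, hkF⟩ := CfsgLib.Transfer.exists_conj_le_of_isPGroup hFp
    (le_sup_left : F ≤ F ⊔ Q) (by have := hsyl 1; rwa [hF1] at this) (hFp.map (MulAut.conj x).toMonoidHom)
    ((Subgroup.map_mono le_sup_left).trans hxFQ)
  -- replace `k` by an element of `Q`
  rw [sup_comm, ← SetLike.mem_coe, normal_mul] at hk
  obtain ⟨r₀, hr₀, f₀, hf₀, rfl⟩ := hk
  have hyN : r₀⁻¹ * x ∈ normalizer (F : Set G) := by
    refine mem_normalizer_iff_map_conj_eq.2
      (eq_of_le_of_card_ge ?_ (card_map_of_injective (MulAut.conj (r₀⁻¹ * x)).injective).ge)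
    rintro _ ⟨u, hu, rfl⟩
    have h1 := hkF _ ⟨u, hu, rfl⟩
    have h2 := mul_mem (mul_mem hf₀ h1) (inv_mem hf₀)
    convert h2 using 1
    show r₀⁻¹ * x * u * (r₀⁻¹ * x)⁻¹ = f₀ * ((r₀ * f₀)⁻¹ * (x * u * x⁻¹) * (r₀ * f₀)) * f₀⁻¹
    group
  set y := r₀⁻¹ * x with hy
  have hfy : f y = f x := by
    rw [hy, map_mul, map_inv, show f r₀ = 1 from (QuotientGroup.eq_one_iff r₀).2 hr₀, inv_one,
      one_mul]
  obtain ⟨a, ha, b, hb, hab, ⟨i, hi⟩, hbc⟩ := CfsgLib.Transfer.exists_pPart_mul (p := r) y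
  set Fg := F.map (MulAut.conj g).toMonoidHom with hFg
  have hyW : y ∈ Fg ⊔ Q :=
    mul_mem (le_sup_right (a := Fg) (inv_mem hr₀)) (le_sup_left (b := Q) ⟨z, hz, rfl⟩)
  have hap : IsPGroup r (zpowers a) := by
    obtain ⟨j, -, hj⟩ := (Nat.dvd_prime_pow hr).1 hi
    exact IsPGroup.of_card (n := j) (by rw [Nat.card_zpowers, hj])
  obtain ⟨k', hk', hk'F⟩ := CfsgLib.Transfer.exists_conj_le_of_isPGroup (hFp.map _)
    (le_sup_left : Fg ≤ Fg ⊔ Q) (hsyl g) hap (zpowers_le.2 ((zpowers_le.2 hyW) ha))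
  have haF : a ∈ F := by
    refine hd F inf_le_left (by rwa [hFcard]) (k' * g)
      ⟨?_, (zpowers_le.2 hyN) ha⟩
    obtain ⟨w, hw, hwe⟩ := hk'F a (mem_zpowers a)
    refine ⟨w, hw, ?_⟩
    simp only [MulEquiv.coe_toMonoidHom, MulAut.conj_apply] at hwe ⊢
    calc k' * g * w * (k' * g)⁻¹ = k' * (g * w * g⁻¹) * k'⁻¹ := by group
      _ = a := by rw [hwe]; group
  have hfb : f b = 1 := by
    obtain ⟨j, hj⟩ := hb
    obtain ⟨e, he⟩ := hPb ⟨f z, hFb (hmapF.le ⟨z, hz, rfl⟩)⟩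
    have hxe : (f x) ^ r ^ e = 1 := by
      rw [hxdef, map_mul, map_mul, map_inv, conj_pow,
        show f z ^ r ^ e = 1 from congrArg Subtype.val he, mul_one, mul_inv_cancel]
    have h1 : orderOf (f b) ∣ r ^ e := by
      refine (orderOf_dvd_of_mem_zpowers (x := f x) (y := f b) ?_).trans
        (orderOf_dvd_of_pow_eq_one hxe)
      exact ⟨j, by rw [← hj, map_zpow, hfy]⟩
    exact orderOf_eq_one_iff.1 (Nat.eq_one_of_dvd_coprimes
      (hbc.coprime_dvd_left (orderOf_map_dvd f b) |>.pow_right e) dvd_rfl h1)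
  rw [← hfy, ← hab, map_mul, hfb, mul_one]
  exact hmapF.le ⟨a, haF, rfl⟩

theorem supersolvable_of_sylowsH_aux (n : ℕ) : ∀ (G : Type u) [Group G] [Finite G], Nat.card G = n →
    ∀ E : Subgroup G, ∀ [E.Normal], Cfsg.IsSupersolvable (G ⧸ E) → SylowsH E →
      Cfsg.IsSupersolvable G := by
  induction n using Nat.strong_induction_on with
  | _ n ih =>
  intro G _ _ hn E _ hGE hE
  by_cases hE1 : E = ⊥
  · subst hE1
    exact CfsgLib.SolvStruct.supersolvable_congr QuotientGroup.quotientBot hGE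
  obtain ⟨q, Q, hq, hQ1, hQn, hQE, hQq, hQnd⟩ := exists_normal_sylow_aux _ E rfl ‹_› hE1 hE
  haveI := Fact.mk hq
  have hGQ : Cfsg.IsSupersolvable (G ⧸ Q) := by
    refine ih (Nat.card (G ⧸ Q)) (hn ▸ CfsgLib.SolvStruct.card_quotient_lt' hQ1) (G ⧸ Q) rfl
      (E.map (QuotientGroup.mk' Q)) ?_ (sylowsH_quotient hQE hQq hQnd hE)
    exact CfsgLib.SolvStruct.supersolvable_congr
      (QuotientGroup.quotientQuotientEquivQuotient Q E hQE).symm hGE
  by_cases hcyc : IsCyclic Q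
  · exact CfsgLib.SolvStruct.supersolvable_of_cyclic_normal Q hGQ
  obtain ⟨d, hd1, hdlt, hdvd, hd⟩ := hE q hq Q hQE hQq hQnd hcyc
  obtain ⟨a, ha⟩ := IsPGroup.iff_card.1 hQq
  obtain ⟨m, -, hdm⟩ := (Nat.dvd_prime_pow hq).1 (ha ▸ hdvd)
  refine supersolvable_of_goodPair hQq (goodPair_charKer hQq hd ?_ ?_) hGQ
  · rcases m with _ | m
    · rw [pow_zero] at hdm; omega
    · exact hdm ▸ dvd_pow_self q m.succ_ne_zero
  · rw [ha, hdm, ← pow_succ]
    refine pow_dvd_pow q ?_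
    rw [ha, hdm] at hdlt
    exact (Nat.pow_lt_pow_iff_right hq.one_lt).1 hdlt

theorem supersolvable_of_sylowsH {E : Subgroup G} [E.Normal]
    (hGE : Cfsg.IsSupersolvable (G ⧸ E)) (hE : SylowsH E) : Cfsg.IsSupersolvable G :=
  supersolvable_of_sylowsH_aux _ G rfl E hGE hE

end CfsgLib.LocalEven.HSub
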