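import Mathlib
import Cfsg.Agent.Lib.PLocal.ZJ
import Cfsg.Agent.Lib.Techniques.FactorKernel
import Cfsg.Agent.Lib.LocalEven.EvenCentralizer
import Cfsg.Agent.Lib.Techniques.ChiefFactor

/-!
When `Z(J(S))` is not normal in a constrained group, some element of an abelian subgroup of
largest order has a proper overgroup centralizer of even order.
-/

set_option autoImplicit false
set_option linter.style.haveILetI false

namespace CfsgLib.LocalEven.ZJParity

open Subgroup Cfsg CfsgLib.Base CfsgLib.PLocal
open scoped commutatorElement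

universe u

variable {G : Type u} [Group G] {e p : ℕ}

/-- Elements of the abelian subgroups of largest order of `S` acting quadratically on a normal
`p`-subgroup act there as elements of `O_p`. -/
def MemberStable (p e : ℕ) (S : Subgroup G) : Prop :=
  ∀ (B : Subgroup G) [B.Normal], IsPGroup p B → ∀ A ∈ maxAbExp e S, ∀ a ∈ A,
    ⁅⁅B, zpowers a⁆, zpowers a⁆ = ⊥ →
      (QuotientGroup.mk a : G ⧸ centralizer (B : Set G)) ∈ pCore p (G ⧸ centralizer (B : Set G))

theorem quadratic_of_le_normalizer {B A : Subgroup G} (hAc : IsMulCommutative A)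
    (hBA : B ≤ normalizer (A : Set G)) {a : G} (ha : a ∈ A) :
    ⁅⁅B, zpowers a⁆, zpowers a⁆ = ⊥ := by
  refine le_bot_iff.1 ?_
  refine (commutator_mono (commutator_mono le_rfl ((zpowers_le).2 ha)) ((zpowers_le).2 ha)).trans ?_
  refine (commutator_mono ?_ le_rfl).trans (commutator_self_eq_bot_iff.2 hAc).le
  rw [commutator_comm]
  exact commutator_le_of_le_normalizer hBA

variable [Finite G] [hpf : Fact p.Prime]

theorem maxCenter_inf_normal_member (hp : p ≠ 2) (he : Odd e ∨ e = 0) (S : Sylow p G)
    (hst : MemberStable p e (S : Subgroup G)) :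
    ∀ n : ℕ, ∀ (B : Subgroup G) [B.Normal], Nat.card B = n → IsPGroup p B →
      (maxCenter e (S : Subgroup G) ⊓ B).Normal := by
  intro n
  induction n using Nat.strong_induction_on with
  | _ n ih =>
  intro B _ hn hB
  set Z := maxCenter e (S : Subgroup G) with hZdef
  set T := Z ⊓ B with hTdef
  have hBS : B ≤ (S : Subgroup G) := hB.le_sylow_of_normal S
  have hSZ : (S : Subgroup G) ≤ normalizer (Z : Set G) :=
    le_normalizer.trans (maxCenter_le_normalizer _)
  by_cases hB0 : B = ⊥
  · rw [hTdef, hB0, inf_bot_eq]; infer_instance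
  by_cases hnc : normalClosure (T : Set G) < B
  swap
  · have hcl' : normalClosure (T : Set G) = B :=
      eq_of_le_of_not_lt (normalClosure_le_normal inf_le_right) hnc
    have hlt : ⁅B, B⁆ < B := by
      haveI : Nontrivial B := (nontrivial_iff_ne_bot B).2 hB0
      haveI : Group.IsNilpotent B := hB.isNilpotent
      refine lt_of_le_of_ne (commutator_le_self B) fun hEq => ?_
      have h2 : ⁅(⊤ : Subgroup B), (⊤ : Subgroup B)⁆ = (⊤ : Subgroup B) := by
        refine map_injective B.subtype_injective ?_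
        rw [map_commutator, ← MonoidHom.range_eq_map, range_subtype, hEq]
      exact (Group.IsSolvable.commutator_lt_top_of_nontrivial (G := B)).ne h2
    have hW : (Z ⊓ ⁅B, B⁆).Normal :=
      ih _ (hn ▸ card_lt_of_lt hlt) _ rfl (hB.to_le (commutator_le_self B))
    have hB'Z : ⁅B, B⁆ ≤ Z := by
      set W := Z ⊓ ⁅B, B⁆
      haveI : W.Normal := hW
      have hK : T ≤ (centralizer ((B.map (QuotientGroup.mk' W) : Subgroup (G ⧸ W)) : Set (G ⧸ W))).comap
          (QuotientGroup.mk' W) := by
        intro t ht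
        refine mem_centralizer_iff.2 ?_
        rintro _ ⟨b, hb, rfl⟩
        rw [← commutatorElement_eq_one_iff_mul_comm, ← map_commutatorElement,
          QuotientGroup.mk'_apply, QuotientGroup.eq_one_iff]
        refine mem_inf.2 ⟨?_, commutator_mem_commutator hb (mem_inf.1 ht).2⟩
        have e1 : ⁅b, t⁆ = (b * t * b⁻¹) * t⁻¹ := by group
        rw [e1]
        exact mul_mem ((mem_normalizer_iff.1 (hSZ (hBS hb)) t).1 (mem_inf.1 ht).1)
          (inv_mem (mem_inf.1 ht).1)
      haveI : (B.map (QuotientGroup.mk' W)).Normal :=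
        Normal.map ‹B.Normal› _ (QuotientGroup.mk'_surjective _)
      have hK' := normalClosure_le_normal (N := (centralizer ((B.map (QuotientGroup.mk' W)
        : Subgroup (G ⧸ W)) : Set (G ⧸ W))).comap (QuotientGroup.mk' W)) hK
      rw [hcl'] at hK'
      refine le_trans (?_ : ⁅B, B⁆ ≤ W) inf_le_left
      rw [← map_mk'_eq_bot_iff, map_commutator, commutator_eq_bot_iff_le_centralizer]
      exact map_le_iff_le_comap.2 hK'
    set N := normalizer (T : Set G) with hNdef
    set L := N.normalCore with hLdef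
    haveI : L.Normal := normalCore_normal N
    have hSN : (S : Subgroup G) ≤ N := by
      refine le_trans ?_ (normalizer_inf_le _ _)
      exact le_inf hSZ (by rw [normalizer_eq_top]; exact le_top)
    have hCN : centralizer (B : Set G) ≤ N :=
      (centralizer_le inf_le_right).trans (centralizer_le_normalizer _)
    set DL := (S : Subgroup G) ⊓ L with hDLdef
    by_cases hall : ∀ A ∈ maxAbExp e (S : Subgroup G), A ≤ L
    · obtain ⟨A0, hA0⟩ := exists_mem_maxAbExp e (S : Subgroup G)
      have hmem : maxAbExp e DL = maxAbExp e (S : Subgroup G) := by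
        rw [maxAbExp_mono inf_le_left hA0 (le_inf hA0.1 (hall A0 hA0))]
        ext A
        exact ⟨fun h => h.1, fun h => ⟨h, le_inf h.1 (hall A h)⟩⟩
      have hZeq : Z = maxCenter e DL := by rw [hZdef, maxCenter, maxCenter, hmem]
      refine normalizer_eq_top_iff.1 (top_le_iff.1 fun g _ => ?_)
      obtain ⟨l, hl, m, hm, rfl⟩ := exists_mul_normalizer S L g
      refine mul_mem (N.normalCore_le hl) (normalizer_inf_le _ _ (mem_inf.2 ⟨?_, ?_⟩))
      · exact hZeq ▸ maxCenter_le_normalizer DL hm
      · rw [normalizer_eq_top]; exact mem_top m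
    exfalso
    push Not at hall
    obtain ⟨U, hU, hUL⟩ := hall
    obtain ⟨A, ⟨hA, hAL⟩, hmax⟩ := Set.exists_max_image
      {A : Subgroup G | A ∈ maxAbExp e (S : Subgroup G) ∧ ¬ A ≤ L}
      (fun A => Nat.card ↥(A ⊓ B)) (Set.toFinite _) ⟨U, hU, hUL⟩
    by_cases hBN : B ≤ normalizer (A : Set G)
    · refine hAL (fun a ha => ?_)
      have haD := hst B hB A hA a ha (quadratic_of_le_normalizer hA.2.1.1 hBN ha)
      set C := centralizer (B : Set G) with hCdef
      haveI : C.Normal := inferInstance
      set D := (pCore p (G ⧸ C)).comap (QuotientGroup.mk' C) with hDdef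
      haveI : D.Normal := (pCore_normal p (G ⧸ C)).comap _
      obtain ⟨k, hk⟩ := pCore_eq_pow_card p (G ⧸ C)
      have hDsup : C ⊔ ((S : Subgroup G) ⊓ D) = D := eq_sup_sylow_inf S (le_comap_mk' C _) (k := k)
        (by rw [← card_map_mk'_eq_relIndex, CfsgLib.Base.map_mk'_comap, hk])
      have hDL : D ≤ L := by
        refine normal_le_normalCore.2 ?_
        rw [← hDsup]
        exact sup_le hCN (inf_le_left.trans hSN)
      exact hDL haD
    set AS := A.subgroupOf (S : Subgroup G) with hASdef
    set BS := B.subgroupOf (S : Subgroup G) with hBSdef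
    have hAmap : AS.map (S : Subgroup G).subtype = A := map_subgroupOf_eq_of_le hA.1
    have hBmap : BS.map (S : Subgroup G).subtype = B := map_subgroupOf_eq_of_le hBS
    have hAS : AbExp e AS := (abExp_map_iff (S : Subgroup G).subtype_injective).1 (hAmap.symm ▸ hA.2.1)
    haveI : BS.Normal := inferInstance
    have hB'A : ⁅BS, BS⁆ ≤ AS := by
      rw [← map_le_map_iff_of_injective (f := (S : Subgroup G).subtype) (S : Subgroup G).subtype_injective,
        map_commutator, hBmap, hAmap]
      exact hB'Z.trans (maxCenter_le_of_mem hA)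
    have hnot : ¬ BS ≤ normalizer (AS : Set (S : Subgroup G)) := by
      intro h
      refine hBN ?_
      rw [← hBmap, ← hAmap]
      exact (map_mono h).trans (le_normalizer_map _)
    obtain ⟨b, hb, hbN, hbA⟩ := exists_mem_normalizer_normalizer S.2 BS AS hnot
    have F := replaceFacts S.2 (fun h => absurd h hp) hAS.1 hB'A hb hbN hbA
    set R := (replaced AS b).map (S : Subgroup G).subtype with hRdef
    have hR : R ∈ maxAbExp e (S : Subgroup G) := by
      refine ⟨map_subtype_le _, (abExp_map_iff (S : Subgroup G).subtype_injective).2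
        ⟨F.comm, F.exponent e he hAS.2⟩, fun C hC hCe => ?_⟩
      rw [hRdef, card_map_subtype', F.card_eq, ← card_map_subtype', hAmap]
      exact hA.2.2 C hC hCe
    have hlt1 : A ⊓ B < R ⊓ B := by
      rw [← hBmap, ← hAmap, hRdef, ← map_inf _ _ _ (S : Subgroup G).subtype_injective,
        ← map_inf _ _ _ (S : Subgroup G).subtype_injective]
      exact (map_lt_map_iff_of_injective (S : Subgroup G).subtype_injective).2 F.inf_lt
    have hRL : R ≤ L := by
      by_contra hRL
      exact absurd (hmax R ⟨hR, hRL⟩) (Nat.not_le.2 (card_lt_of_lt hlt1))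
    have hX : maxCenter e (S : Subgroup G) ≤ maxCenter e DL := by
      refine sInf_le_sInf ?_
      rw [maxAbExp_mono inf_le_left hR (le_inf hR.1 hRL)]
      exact fun C hC => hC.1
    have hXR : maxCenter e DL ≤ R := maxCenter_le_of_mem (by
      rw [maxAbExp_mono inf_le_left hR (le_inf hR.1 hRL)]
      exact ⟨hR, le_inf hR.1 hRL⟩)
    have hT : T ≤ (maxCenter e DL).normalCore := by
      intro t ht g
      show g * t * g⁻¹ ∈ maxCenter e DL
      obtain ⟨l, hl, m, hm, he'⟩ := exists_mul_normalizer S L g⁻¹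
      have e1 : g * t * g⁻¹ = m⁻¹ * (l⁻¹ * t * l) * m⁻¹⁻¹ := by
        rw [← inv_inv g, he']; group
      rw [e1]
      refine (mem_normalizer_iff.1 (maxCenter_le_normalizer DL (inv_mem hm)) _).1 (hX ?_)
      have h1 := (mem_normalizer_iff.1 (N.normalCore_le (inv_mem hl)) t).1 ht
      simpa using (mem_inf.1 h1).1
    have hBR : B ≤ R := by
      calc B = normalClosure (T : Set G) := hcl'.symm
        _ ≤ (maxCenter e DL).normalCore := normalClosure_le_normal hT
        _ ≤ _ := (normalCore_le _).trans hXR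
    refine F.inf_lt_B.ne (map_injective (S : Subgroup G).subtype_injective ?_)
    rw [map_inf _ _ _ (S : Subgroup G).subtype_injective, hBmap, ← hRdef]
    exact inf_eq_right.2 hBR
  · have h := ih _ (hn ▸ card_lt_of_lt hnc) (normalClosure (T : Set G)) rfl (hB.to_le hnc.le)
    have e1 : Z ⊓ normalClosure (T : Set G) = T :=
      le_antisymm (le_inf inf_le_left (inf_le_right.trans hnc.le))
        (le_inf inf_le_left le_normalClosure)
    rwa [e1] at h

/-- The ZJ-theorem from stability for the members alone. -/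
theorem maxCenter_normal_member (hp : p ≠ 2) (he : Odd e ∨ e = 0)
    (hc : centralizer (pCore p G : Set G) ≤ pCore p G) (S : Sylow p G)
    (hst : MemberStable p e (S : Subgroup G)) : (maxCenter e (S : Subgroup G)).Normal := by
  obtain ⟨A0, hA0⟩ := exists_mem_maxAbExp e (S : Subgroup G)
  have hPN : pCore p G ≤ normalizer (maxCenter e (S : Subgroup G) : Set G) :=
    (pCore_le_sylow S).trans (le_normalizer.trans (maxCenter_le_normalizer _))
  have hZle : maxCenter e (S : Subgroup G) ≤ pCore p G := by
    intro a ha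
    have h1 := hst (pCore p G) (isPGroup_pCore p G) A0 hA0 a (maxCenter_le_of_mem hA0 ha)
      (quadratic_of_le_normalizer ⟨⟨fun x y => Subtype.ext (maxCenter_comm e _ _ x.2 _ y.2)⟩⟩ hPN ha)
    haveI : ((pCore p (G ⧸ centralizer (pCore p G : Set G))).comap (QuotientGroup.mk' _)).Normal :=
      (pCore_normal p _).comap _
    refine le_pCore ((isPGroup_pCore p _).comap_of_ker_isPGroup (QuotientGroup.mk' _) ?_) h1
    rw [QuotientGroup.ker_mk']
    exact (isPGroup_pCore p G).to_le hc
  have h := maxCenter_inf_normal_member (e := e) hp he S hst _ (pCore p G) rfl (isPGroup_pCore p G)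
  rwa [inf_eq_left.2 hZle] at h

/-- An element outside `O_p(G / C(B))` moves some chief factor inside `B`. -/
theorem exists_moved_factor {B : Subgroup G} [B.Normal] (hB : IsPGroup p B) {a : G}
    (ha : (QuotientGroup.mk a : G ⧸ centralizer (B : Set G)) ∉
      pCore p (G ⧸ centralizer (B : Set G))) :
    ∃ U V : Subgroup G, IsChiefFactor U V ∧ U ≤ B ∧ ∃ x ∈ U, ⁅a, x⁆ ∉ V := by
  by_contra hcon
  push Not at hcon
  set π := QuotientGroup.mk' (centralizer (B : Set G))
  set K := Techniques.factorKer (fun U _ : Subgroup G => U ≤ B) with hK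
  have haK : a ∈ K := fun U V hUV hC x hx => hcon U V hUV hC x hx
  haveI : (K.map π).Normal := Normal.map inferInstance _ (QuotientGroup.mk'_surjective _)
  refine ha (le_pCore (N := K.map π) ?_ (mem_map_of_mem π haK))
  refine Techniques.isPGroup_of_pPrime_trivial ?_
  rintro _ ⟨d, hd, rfl⟩ hcop
  obtain ⟨k, m, hm, hord⟩ := Nat.exists_eq_pow_mul_and_not_dvd (orderOf_pos d).ne' p hpf.out.ne_one
  set c := d ^ p ^ k with hc
  have hcm : c ^ m = 1 := by rw [hc, ← pow_mul, ← hord, pow_orderOf_eq_one]
  have hcc : (orderOf c).Coprime p := Nat.Coprime.coprime_dvd_left (orderOf_dvd_of_pow_eq_one hcm)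
    ((hpf.out.coprime_iff_not_dvd).2 hm).symm
  have hcB : c ∈ centralizer (B : Set G) :=
    Techniques.centralizes_of_factors (Y := B) (Z := ⊥) hB bot_le hcc
      (mem_centralizer_iff.2 fun y hy => by
        rw [SetLike.mem_coe, mem_bot] at hy; simp [hy])
      fun U V hUV _ hU x hx => pow_mem hd (p ^ k) U V hUV hU x hx
  have h1 : (π d) ^ p ^ k = 1 := by
    rw [← map_pow]; exact (QuotientGroup.eq_one_iff _).2 hcB
  exact orderOf_eq_one_iff.1 (Nat.eq_one_of_dvd_coprimes (Nat.Coprime.pow_left k hcop.symm)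
    (orderOf_dvd_of_pow_eq_one h1) dvd_rfl)

/-- A quadratic `p`-element moving a chief factor of `O_p` has, for every element commuting with
it, a proper even overgroup containing `O_p`. -/
theorem exists_even_overgroup (hp : p ≠ 2) {B : Subgroup G} [B.Normal] (hB : IsPGroup p B) {a : G}
    (hap : IsPGroup p (zpowers a))
    (hq : ⁅⁅B, zpowers a⁆, zpowers a⁆ = ⊥)
    (ha : (QuotientGroup.mk a : G ⧸ centralizer (B : Set G)) ∉
      pCore p (G ⧸ centralizer (B : Set G))) :
    ∃ L : Subgroup G, L ≠ ⊤ ∧ pCore p G ≤ L ∧ centralizer ({a} : Set G) ≤ L ∧ 2 ∣ Nat.card L := by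
  obtain ⟨U, V, hUV, hUB, x, hxU, hxV⟩ := exists_moved_factor hB ha
  haveI hVn : V.Normal := hUV.2.2.1
  haveI hUn : U.Normal := hUV.2.1
  obtain ⟨hUU, hpow⟩ := Techniques.chiefFactor_pGroup hUV (hB.to_le hUB)
  set π := QuotientGroup.mk' V with hπ
  set Ub := U.map π with hUb
  haveI : Ub.Normal := hUn.map π (QuotientGroup.mk'_surjective V)
  have hcomm : ∀ s t : Ub, s * t = t * s := by
    rintro ⟨_, s, hs, rfl⟩ ⟨_, t, ht, rfl⟩
    refine Subtype.ext ?_
    show π s * π t = π t * π s
    rw [← commutatorElement_eq_one_iff_mul_comm, ← map_commutatorElement, hπ,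
      QuotientGroup.mk'_apply, QuotientGroup.eq_one_iff]
    exact hUU (commutator_mem_commutator hs ht)
  letI : CommGroup Ub := { (inferInstance : Group Ub) with mul_comm := hcomm }
  haveI : Nontrivial Ub := by
    rw [nontrivial_iff_ne_bot, hUb, Ne, Subgroup.map_eq_bot_iff, hπ, QuotientGroup.ker_mk']
    exact hUV.1.not_ge
  have hW : ∀ v : Ub, v ^ p = 1 := by
    rintro ⟨_, v, hv, rfl⟩
    refine Subtype.ext ?_
    show (π v) ^ p = 1
    rw [← map_pow]
    exact (QuotientGroup.eq_one_iff _).2 (hpow v hv)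
  set φ : G →* MulAut Ub := (MulAut.conjNormal (H := Ub)).comp π with hφ
  have hφa : ∀ g (v : Ub), ((φ g v : Ub) : G ⧸ V) = π g * v * (π g)⁻¹ := fun g v =>
    MulAut.conjNormal_apply _ v
  have hirr : ∀ W : Subgroup Ub, (∀ g, ∀ v ∈ W, φ g v ∈ W) → W = ⊥ ∨ W = ⊤ := by
    intro W hWinv
    haveI hWn : (W.map Ub.subtype).Normal := ⟨by
      rintro _ ⟨v, hv, rfl⟩ g
      obtain ⟨g, rfl⟩ := QuotientGroup.mk'_surjective V g
      exact ⟨φ g v, hWinv g v hv, hφa g v⟩⟩
    have hVle : V ≤ (W.map Ub.subtype).comap π := fun v hv => by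
      rw [mem_comap, show π v = 1 from (QuotientGroup.eq_one_iff v).2 hv]; exact one_mem _
    have hleU : (W.map Ub.subtype).comap π ≤ U := by
      refine (comap_mono (map_subtype_le W)).trans ?_
      rw [hUb, comap_map_eq, hπ, QuotientGroup.ker_mk', sup_eq_left.2 hUV.1.le]
    have hmc := map_comap_eq_self_of_surjective (QuotientGroup.mk'_surjective V) (W.map Ub.subtype)
    rcases hUV.2.2.2 _ (hWn.comap π) hVle hleU with h | h
    · left
      rw [← hπ, h, hπ, QuotientGroup.map_mk'_self] at hmc
      exact (map_eq_bot_iff_of_injective _ Ub.subtype_injective).1 hmc.symm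
    · right
      rw [← hπ, h] at hmc
      apply map_injective Ub.subtype_injective
      rw [← hmc, ← MonoidHom.range_eq_map, range_subtype]
  have hap' : ∃ k, φ a ^ p ^ k = 1 := by
    obtain ⟨k, hk⟩ := hap ⟨a, mem_zpowers a⟩
    have hk' : a ^ p ^ k = 1 := congrArg Subtype.val hk
    exact ⟨k, by rw [← map_pow, hk', map_one]⟩
  have ha1 : φ a ≠ 1 := by
    intro h
    refine hxV ?_
    have h1 := hφa a ⟨π x, x, hxU, rfl⟩
    rw [h] at h1
    rw [← QuotientGroup.eq_one_iff, ← QuotientGroup.mk'_apply, ← hπ, map_commutatorElement,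
      commutatorElement_def, ← h1]
    show π x * (π x)⁻¹ = 1
    rw [mul_inv_cancel]
  have hq' : ∀ v : Ub, φ a (φ a v) * v = φ a v * φ a v := by
    intro v
    refine Subtype.ext ?_
    show ((φ a (φ a v) : Ub) : G ⧸ V) * (v : G ⧸ V) = ((φ a v : Ub) : G ⧸ V) * (φ a v : Ub)
    rw [hφa, hφa]
    refine OddOrder.quad_apply (V := Ub) ⟨⟨hcomm⟩⟩ (by rw [normalizer_eq_top]; exact mem_top _) ?_ v.2
    rw [← MonoidHom.map_zpowers, hUb, ← Subgroup.map_commutator, ← Subgroup.map_commutator,
      eq_bot_iff]
    refine le_trans (map_mono ((commutator_mono (commutator_mono hUB le_rfl) le_rfl).trans hq.le)) ?_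
    rw [Subgroup.map_bot]
  obtain ⟨hne, h2⟩ := QuadPair.even_centralizer hp hW φ hirr hap' ha1 hq'
  refine ⟨_, hne, fun y hy => ?_, fun y hy => ?_, h2⟩
  · have hcore := QuadPair.pCore_range_eq_bot hW φ hirr
    haveI : Finite φ.range := Finite.of_surjective φ.rangeRestrict φ.rangeRestrict_surjective
    haveI : ((pCore p G).map φ.rangeRestrict).Normal :=
      (pCore_normal p G).map _ φ.rangeRestrict_surjective
    have h1 := le_pCore ((isPGroup_pCore p G).map φ.rangeRestrict)
      (mem_map_of_mem φ.rangeRestrict hy)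
    rw [hcore, mem_bot] at h1
    have h3 : φ y = 1 := congrArg Subtype.val h1
    rw [mem_comap, mem_centralizer_singleton_iff, h3, one_mul, mul_one]
  · rw [mem_comap, mem_centralizer_singleton_iff, ← map_mul, ← map_mul,
      mem_centralizer_singleton_iff.1 hy]

/-- If `Z(J(S))` is not normal in a constrained group, a proper subgroup of even order contains
`O_p(G)` and an abelian subgroup of largest order of `S` not inside `O_p(G)`. -/
theorem exists_even_of_not_normal (hp : p ≠ 2)
    (hc : centralizer (pCore p G : Set G) ≤ pCore p G) (S : Sylow p G)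
    (hn : ¬ (maxCenter 0 (S : Subgroup G)).Normal) :
    ∃ L A : Subgroup G, L ≠ ⊤ ∧ pCore p G ≤ L ∧ A ∈ maxAbExp 0 (S : Subgroup G) ∧ A ≤ L ∧
      ¬ A ≤ pCore p G ∧ 2 ∣ Nat.card L := by
  have h : ¬ MemberStable p 0 (S : Subgroup G) := fun h =>
    hn (maxCenter_normal_member hp (Or.inr rfl) hc S h)
  unfold MemberStable at h
  push Not at h
  obtain ⟨B, hBn, hB, A, hA, a, haA, hq, ha⟩ := h
  have hap : IsPGroup p (zpowers a) := S.2.to_le ((zpowers_le).2 (hA.1 haA))
  obtain ⟨L, hL, hQL, hCL, h2⟩ := exists_even_overgroup hp hB hap hq ha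
  refine ⟨L, A, hL, hQL, hA, fun y hy => hCL (mem_centralizer_singleton_iff.2 ?_), fun hAQ => ?_, h2⟩
  · exact congrArg Subtype.val (hA.2.1.1.is_comm.comm ⟨y, hy⟩ ⟨a, haA⟩)
  · refine ha (le_pCore (N := (pCore p G).map (QuotientGroup.mk' (centralizer (B : Set G)))) ?_
      (mem_map_of_mem _ (hAQ haA)))
    exact (isPGroup_pCore p G).map _

end CfsgLib.LocalEven.ZJParity
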