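import Mathlib
import Cfsg.Agent.Lib.LocalEven.ZJOffender
import Cfsg.Agent.Lib.PLocal.Constrained

/-!
In a constrained group of even order the normalizer of `Z(J(S))` has even order (`p` odd).
-/

set_option autoImplicit false
set_option linter.style.haveILetI false

namespace CfsgLib.LocalEven.ZJParity

open Subgroup Cfsg CfsgLib.Base CfsgLib.PLocal
open scoped commutatorElement

universe u

variable {G : Type u} [Group G] [Finite G] {p : ℕ} [hpf : Fact p.Prime]

omit hpf in
theorem sSup_maxAbExp_conj (P : Subgroup G) :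
    normalizer (P : Set G) ≤ normalizer ((sSup (maxAbExp 0 P) : Subgroup G) : Set G) := by
  intro g hg
  have key : ∀ h ∈ normalizer (P : Set G),
      (sSup (maxAbExp 0 P) : Subgroup G).map (MulAut.conj h).toMonoidHom ≤ sSup (maxAbExp 0 P) := by
    intro h hh
    rw [(Subgroup.gc_map_comap _).l_sSup]
    refine iSup₂_le fun A hA => ?_
    refine le_sSup ?_
    have h1 := map_mem_maxAbExp (MulAut.conj h).injective (f := (MulAut.conj h).toMonoidHom) hA
    rwa [show P.map (MulAut.conj h).toMonoidHom = P from mem_normalizer_iff_map_conj_eq.1 hh] at h1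
  rw [mem_normalizer_iff_map_conj_eq]
  exact le_antisymm (key g hg) (eq_of_le_of_card_ge (key g hg) (card_map_conj g _).ge).ge

omit hpf in
theorem conj_sylow_card (S T : Sylow p G) [Fact p.Prime] {A : Subgroup G}
    (hA : A ∈ maxAbExp 0 (S : Subgroup G)) (hAT : A ≤ (T : Subgroup G)) :
    A ∈ maxAbExp 0 (T : Subgroup G) := by
  refine ⟨hAT, hA.2.1, fun B hB hBe => ?_⟩
  obtain ⟨g, hg⟩ := MulAction.exists_smul_eq G T S
  have h1 : B.map (MulAut.conj g).toMonoidHom ≤ (S : Subgroup G) := by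
    rw [← hg, Sylow.coe_subgroup_smul, ← CfsgLib.Base.map_conj_eq_smul]
    exact map_mono hB
  have h2 := hA.2.2 _ h1 ((abExp_map_iff (MulAut.conj g).injective).2 hBe)
  rwa [card_map_conj] at h2

omit hpf in
theorem two_dvd_sup {H K : Subgroup G} (hH : H ≤ normalizer (K : Set G))
    (h : 2 ∣ Nat.card ↥(H ⊔ K)) : 2 ∣ Nat.card H ∨ 2 ∣ Nat.card K :=
  Nat.prime_two.dvd_mul.1 (PLocal.card_sup_mul_card_inf H K hH ▸ h.mul_right _)

/-- **Parity of `N(Z(J(S)))`.** -/
theorem two_dvd_normalizer (hp : p ≠ 2) : ∀ (n : ℕ) (G : Type u) [Group G] [Finite G],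
    Nat.card G = n → centralizer (pCore p G : Set G) ≤ pCore p G → 2 ∣ Nat.card G →
      ∀ S : Sylow p G, 2 ∣ Nat.card (normalizer (maxCenter 0 (S : Subgroup G) : Set G)) := by
  intro n
  induction n using Nat.strong_induction_on with
  | _ n ih =>
  intro G _ _ hn hc h2 S
  by_contra hodd
  have hodd' : ∀ T : Sylow p G, ¬ 2 ∣ Nat.card (normalizer (maxCenter 0 (T : Subgroup G) : Set G)) := by
    intro T hT
    obtain ⟨g, hg⟩ := MulAction.exists_smul_eq G T S
    refine hodd (hT.trans (dvd_of_eq ?_))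
    rw [← hg, Sylow.coe_subgroup_smul, ← CfsgLib.Base.map_conj_eq_smul,
      ← map_maxCenter (MulAut.conj g).injective (f := (MulAut.conj g).toMonoidHom)]
    have e : (normalizer (maxCenter 0 (T : Subgroup G) : Set G)).map (MulAut.conj g).toMonoidHom =
        normalizer (((maxCenter 0 (T : Subgroup G)).map (MulAut.conj g).toMonoidHom : Subgroup G) : Set G) :=
      Subgroup.map_equiv_normalizer_eq _ (MulAut.conj g)
    rw [← e, card_map_conj]
  have hnn : ¬ (maxCenter 0 (S : Subgroup G)).Normal := by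
    intro h
    apply hodd
    rw [normalizer_eq_top_iff.2 h, Subgroup.card_top]
    exact h2
  set Q := pCore p G with hQ
  haveI : Q.Normal := pCore_normal p G
  -- the even proper subgroup with largest Sylow subgroup
  let 𝓛 : Set (Subgroup G) := {L | L ≠ ⊤ ∧ Q ≤ L ∧ 2 ∣ Nat.card L ∧
    ∃ (T : Sylow p G) (A : Subgroup G), A ∈ maxAbExp 0 (T : Subgroup G) ∧ A ≤ L ∧ ¬ A ≤ Q}
  obtain ⟨L0, A0, hL0, hQL0, hA0, hA0L, hA0Q, hL02⟩ := exists_even_of_not_normal hp hc S hnn
  obtain ⟨L, hL, hmax⟩ := Set.exists_max_image 𝓛 (fun L => p ^ (Nat.card L).factorization p)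
    (Set.toFinite _) ⟨L0, hL0, hQL0, hL02, S, A0, hA0, hA0L, hA0Q⟩
  obtain ⟨hLtop, hQL, hL2, T₁, A, hA, hAL, hAQ⟩ := hL
  have hAp : IsPGroup p A := T₁.2.to_le hA.1
  have hQp : IsPGroup p Q := CfsgLib.Base.isPGroup_pCore p G
  -- a Sylow subgroup of `L`
  obtain ⟨S₀, hS₀⟩ := (hAp.comap_subtype (K := L)).exists_le_sylow
  set P := (S₀ : Subgroup L).map L.subtype with hP
  have hPL : P ≤ L := map_subtype_le _
  have hPp : IsPGroup p P := S₀.2.map _
  obtain ⟨T, hT⟩ := hPp.exists_le_sylow
  have hAP : A ≤ P := fun x hx => ⟨⟨x, hAL hx⟩, hS₀ hx, rfl⟩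
  have hA' : A ∈ maxAbExp 0 (T : Subgroup G) := conj_sylow_card T₁ T hA (hAP.trans hT)
  have hPcard : Nat.card P = p ^ (Nat.card L).factorization p := by
    rw [hP, Base.card_map_of_injective L.subtype_injective, S₀.card_eq_multiplicity]
  haveI : (Q.subgroupOf L).Normal := Subgroup.normal_subgroupOf
  have hQS₀ : Q.subgroupOf L ≤ (S₀ : Subgroup L) :=
    (CfsgLib.Base.le_pCore (hQp.comap_subtype (K := L))).trans (CfsgLib.Base.pCore_le_sylow S₀)
  have hQP : Q ≤ P := fun x hx => ⟨⟨x, hQL hx⟩, hQS₀ hx, rfl⟩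
  have hLlt : Nat.card L < n := hn ▸ (by
    simpa using PLocal.card_lt_of_lt (lt_top_iff_ne_top.2 hLtop))
  have hcL : centralizer (pCore p L : Set L) ≤ pCore p L := by
    intro x hx
    refine CfsgLib.Base.le_pCore (hQp.comap_subtype (K := L)) (hc ?_)
    intro y hy
    exact congrArg Subtype.val (hx ⟨y, hQL hy⟩ (CfsgLib.Base.le_pCore (hQp.comap_subtype (K := L)) hy))
  have h2R := ih _ hLlt L rfl hcL hL2 S₀
  set R := maxCenter 0 P with hR
  have eR : maxCenter 0 (S₀ : Subgroup L) = R.subgroupOf L := by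
    rw [hR, hP, ← map_maxCenter L.subtype_injective, subgroupOf,
      comap_map_eq_self_of_injective L.subtype_injective]
  have hRP : R ≤ P := maxCenter_le 0 P
  rw [eR, ← subgroupOf_normalizer_eq (hRP.trans hPL)] at h2R
  set L₁ := L ⊓ normalizer (R : Set G) with hL₁
  have h2L₁ : 2 ∣ Nat.card L₁ := by
    refine h2R.trans (dvd_of_eq ?_)
    rw [← Base.card_map_of_injective L.subtype_injective, subgroupOf_map_subtype, inf_comm]
  have hPL₁ : P ≤ L₁ := le_inf hPL (le_normalizer.trans (maxCenter_le_normalizer P))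
  by_cases hPT : P = (T : Subgroup G)
  · refine hodd' T (h2L₁.trans ?_)
    rw [hL₁, hR, hPT]
    exact card_dvd_of_le inf_le_right
  have hPlt : P < (T : Subgroup G) := lt_of_le_of_ne hT hPT
  set J := (sSup (maxAbExp 0 P) : Subgroup G) with hJ
  have hmem : maxAbExp 0 P = {B | B ∈ maxAbExp 0 (T : Subgroup G) ∧ B ≤ P} := maxAbExp_mono hT hA' hAP
  have hAPm : A ∈ maxAbExp 0 P := by rw [hmem]; exact ⟨hA', hAP⟩
  have hJP : J ≤ P := sSup_le fun B hB => hB.1
  have hJR : J ≤ centralizer (R : Set G) := sSup_le fun B hB b hb => mem_centralizer_iff.2 fun r hr =>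
    congrArg Subtype.val (hB.2.1.1.is_comm.comm ⟨r, maxCenter_le_of_mem hB hr⟩ ⟨b, hb⟩)
  set PC := P ⊓ centralizer (R : Set G) with hPC
  have hAPC : A ≤ PC := le_inf hAP ((le_sSup hAPm).trans hJR)
  have hPCJ : sSup (maxAbExp 0 PC) = J := by
    rw [hJ, maxAbExp_mono inf_le_left hAPm hAPC]
    congr 1
    ext B
    exact ⟨fun h => h.1, fun h => ⟨h, le_inf h.1 ((le_sSup h).trans hJR)⟩⟩
  -- factor `L₁`
  set K := (centralizer (R : Set G)).subgroupOf L₁ with hK
  haveI hKn : K.Normal := normal_subgroupOf_of_le_normalizer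
    (inf_le_right.trans (normalizer_le_centralizer_normalizer R))
  have hidx : ¬ p ∣ (P.subgroupOf L₁).index := by
    intro hd
    refine S₀.not_dvd_index ?_
    have h1 : (S₀ : Subgroup L).index = P.relIndex L := by
      rw [hP, relIndex, subgroupOf, comap_map_eq_self_of_injective L.subtype_injective]
    rw [h1, ← relIndex_mul_relIndex P L₁ L hPL₁ inf_le_left]
    exact hd.mul_right _
  let S₁ : Sylow p L₁ := (hPp.comap_subtype (K := L₁)).toSylow hidx
  set M := (normalizer (J : Set G)).subgroupOf L₁ with hM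
  have htop : M ⊔ K = ⊤ := by
    refine eq_top_iff.2 fun g _ => ?_
    obtain ⟨d, hd, m, hm, rfl⟩ := PLocal.exists_mul_normalizer S₁ K g
    refine mul_mem (mem_sup_right hd) (mem_sup_left ?_)
    have e : (S₁ : Subgroup L₁) ⊓ K = PC.subgroupOf L₁ := rfl
    rw [e, ← subgroupOf_normalizer_eq (inf_le_left.trans hPL₁)] at hm
    rw [hM, mem_subgroupOf, ← hPCJ]
    exact sSup_maxAbExp_conj PC hm
  rcases two_dvd_sup (H := M) (K := K) (by rw [normalizer_eq_top]; exact le_top)
    (by rw [htop, Subgroup.card_top]; exact h2L₁) with h | h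
  · set L₂ := normalizer ((J ⊔ Q : Subgroup G) : Set G) with hL₂
    have hNJ : normalizer (J : Set G) ≤ L₂ := by
      intro g hg
      rw [hL₂, mem_normalizer_iff_map_conj_eq]
      show (J ⊔ Q).map (MulAut.conj g).toMonoidHom = J ⊔ Q
      rw [Subgroup.map_sup, show J.map (MulAut.conj g).toMonoidHom = J from
          mem_normalizer_iff_map_conj_eq.1 hg,
        show Q.map (MulAut.conj g).toMonoidHom = Q from mem_normalizer_iff_map_conj_eq.1
          (by rw [normalizer_eq_top]; exact mem_top g)]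
    have h2L₂ : 2 ∣ Nat.card L₂ := by
      refine (h.trans (dvd_of_eq (Base.card_map_of_injective L₁.subtype_injective M).symm)).trans
        (card_dvd_of_le ?_)
      rw [hM, subgroupOf_map_subtype]
      exact inf_le_left.trans hNJ
    have hJQp : IsPGroup p ↥(J ⊔ Q) := hPp.to_le (sup_le hJP hQP)
    have hL₂top : L₂ ≠ ⊤ := by
      intro he
      haveI : (J ⊔ Q).Normal := normalizer_eq_top_iff.1 he
      exact hAQ ((le_sSup hAPm).trans (le_sup_left.trans (CfsgLib.Base.le_pCore hJQp)))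
    have hmem₂ : L₂ ∈ 𝓛 := ⟨hL₂top, le_sup_right.trans le_normalizer, h2L₂, T, A, hA',
      ((le_sSup hAPm).trans le_sup_left).trans le_normalizer, hAQ⟩
    have hlt : Nat.card P < Nat.card ↥((T : Subgroup G) ⊓ normalizer (P : Set G)) := by
      refine PLocal.card_lt_of_lt (lt_of_le_of_ne (le_inf hT le_normalizer) fun he => ?_)
      haveI : Group.IsNilpotent (T : Subgroup G) := T.2.isNilpotent
      have h1 := Group.normalizerCondition_of_isNilpotent (G := (T : Subgroup G)) (P.subgroupOf T)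
        (lt_top_iff_ne_top.2 fun h' => hPlt.not_ge (subgroupOf_eq_top.1 h'))
      refine h1.ne ?_
      apply map_injective (T : Subgroup G).subtype_injective
      rw [← subgroupOf_normalizer_eq hT, subgroupOf_map_subtype, subgroupOf_map_subtype,
        inf_eq_left.2 hT, inf_comm]
      exact he
    have hle : (T : Subgroup G) ⊓ normalizer (P : Set G) ≤ L₂ :=
      inf_le_right.trans ((sSup_maxAbExp_conj P).trans hNJ)
    obtain ⟨S₂, hS₂⟩ := ((T.2.to_le (inf_le_left :
      (T : Subgroup G) ⊓ normalizer (P : Set G) ≤ T)).comap_subtype (K := L₂)).exists_le_sylow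
    have h3 := (Subgroup.card_le_of_le hS₂)
    have e3 : Nat.card ↥(((T : Subgroup G) ⊓ normalizer (P : Set G)).comap L₂.subtype) =
        Nat.card ↥((T : Subgroup G) ⊓ normalizer (P : Set G)) :=
      Nat.card_congr (subgroupOfEquivOfLe hle).toEquiv
    rw [S₂.card_eq_multiplicity, e3] at h3
    have h4 := hmax L₂ hmem₂
    rw [hPcard] at hlt
    omega
  · refine hodd' T (((h.trans (dvd_of_eq (Base.card_map_of_injective L₁.subtype_injective K).symm))).trans
      (card_dvd_of_le ?_))
    rw [hK, subgroupOf_map_subtype]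
    refine inf_le_left.trans ((Subgroup.centralizer_le (SetLike.coe_subset_coe.2 ?_)).trans (centralizer_le_normalizer _))
    refine sInf_le_sInf ?_
    rw [hmem]
    exact fun B hB => hB.1

end CfsgLib.LocalEven.ZJParity
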