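import Mathlib
import Cfsg.Agent.Lib.LocalEven.ZJParity
import Cfsg.Agent.Lib.Transfer.ControlZJ

/-!
A `p`-element inverted in `G` yields one inverted in `N(Z(J(S)))` (`p` odd).
-/

set_option autoImplicit false
set_option linter.style.haveILetI false

namespace CfsgLib.LocalEven.ZJParity

open Subgroup Cfsg CfsgLib.Base CfsgLib.PLocal
open scoped commutatorElement

universe u

/-- Some nontrivial `p`-element of `H` is inverted by an element of `H`. -/
def Inv (p : ℕ) {G : Type*} [Group G] (H : Subgroup G) : Prop :=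
  ∃ g ∈ H, ∃ y ∈ H, y ≠ 1 ∧ (∃ k : ℕ, y ^ p ^ k = 1) ∧ g * y * g⁻¹ = y⁻¹

variable {G : Type*} [Group G] {p : ℕ}

theorem Inv.mono {H K : Subgroup G} (h : Inv p H) (hle : H ≤ K) : Inv p K := by
  obtain ⟨g, hg, y, hy, h'⟩ := h
  exact ⟨g, hle hg, y, hle hy, h'⟩

theorem Inv.map {X : Type*} [Group X] {H : Subgroup G} (h : Inv p H) (f : G →* X)
    (hf : Function.Injective f) : Inv p (H.map f) := by
  obtain ⟨g, hg, y, hy, hy1, ⟨k, hk⟩, he⟩ := h
  exact ⟨f g, mem_map_of_mem f hg, f y, mem_map_of_mem f hy,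
    fun h1 => hy1 (hf (h1.trans (map_one f).symm)), ⟨k, by rw [← map_pow, hk, map_one]⟩,
    by rw [← map_inv, ← map_mul, ← map_mul, he, map_inv]⟩

theorem inv_top_of {H : Subgroup G} (h : Inv p H) : Inv p (⊤ : Subgroup H) := by
  obtain ⟨g, hg, y, hy, hy1, ⟨k, hk⟩, he⟩ := h
  exact ⟨⟨g, hg⟩, mem_top _, ⟨y, hy⟩, mem_top _, fun h1 => hy1 (congrArg Subtype.val h1),
    ⟨k, Subtype.ext (by simpa using hk)⟩, Subtype.ext (by simpa using he)⟩

theorem Inv.of_top {H : Subgroup G} (h : Inv p (⊤ : Subgroup H)) : Inv p H := by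
  have := h.map H.subtype H.subtype_injective
  rwa [← MonoidHom.range_eq_map, range_subtype] at this

theorem conj_pow_odd {g y : G} (he : g * y * g⁻¹ = y⁻¹) : ∀ m : ℕ, Odd m → g ^ m * y * (g ^ m)⁻¹ = y⁻¹ := by
  rintro m ⟨j, rfl⟩
  induction j with
  | zero => simpa using he
  | succ j ih =>
    rw [show 2 * (j + 1) + 1 = 2 + (2 * j + 1) by ring, pow_add, mul_inv_rev,
      show g ^ 2 * g ^ (2 * j + 1) * y * ((g ^ (2 * j + 1))⁻¹ * (g ^ 2)⁻¹) =
        g ^ 2 * (g ^ (2 * j + 1) * y * (g ^ (2 * j + 1))⁻¹) * (g ^ 2)⁻¹ by group, ih,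
      pow_two, show g * g * y⁻¹ * (g * g)⁻¹ = g * (g * y * g⁻¹)⁻¹ * g⁻¹ by group, he, inv_inv, he]

variable [Finite G] [hpf : Fact p.Prime]

omit hpf in
/-- An odd power of any element has `2`-power order. -/
theorem exists_odd_two_part (g : G) : ∃ m, Odd m ∧ ∃ j, (g ^ m) ^ 2 ^ j = 1 := by
  obtain ⟨j, m, hm, he⟩ := Nat.exists_eq_pow_mul_and_not_dvd (orderOf_pos g).ne' 2 (by norm_num)
  exact ⟨m, Nat.odd_iff.2 (Nat.two_dvd_ne_zero.1 hm), j, by
    rw [← pow_mul, mul_comm, ← he, pow_orderOf_eq_one]⟩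

omit [Finite G] in
theorem eq_one_of_sq (hp : p ≠ 2) {y : G} (hk : ∃ k : ℕ, y ^ p ^ k = 1) (h2 : y = y⁻¹) : y = 1 := by
  obtain ⟨k, hk⟩ := hk
  have h1 : y ^ 2 = 1 := by rw [pow_two]; nth_rewrite 2 [h2]; exact mul_inv_cancel y
  have h3 := pow_gcd_eq_one.mpr ⟨h1, hk⟩
  rwa [(((Nat.coprime_primes Nat.prime_two hpf.out).2 (Ne.symm hp)).pow_right k).gcd_eq_one,
    pow_one] at h3

/-- Inversion gives even order. -/
theorem Inv.two_dvd (hp : p ≠ 2) {H : Subgroup G} (h : Inv p H) : 2 ∣ Nat.card H := by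
  obtain ⟨g, hg, y, -, hy1, hk, he⟩ := h
  by_contra hodd
  have ho : Odd (orderOf g) := by
    refine Nat.odd_iff.2 (Nat.two_dvd_ne_zero.1 fun h2 => hodd (h2.trans ?_))
    rw [← orderOf_mk g hg]
    exact orderOf_dvd_natCard _
  have := conj_pow_odd he _ ho
  rw [pow_orderOf_eq_one, one_mul, inv_one, mul_one] at this
  exact hy1 (eq_one_of_sq hp hk this)

omit hpf [Finite G] in
/-- A nontrivial action of a `2`-element on a `p`-group inverts some element. -/
theorem inv_of_action {H R : Subgroup G} (hR : IsPGroup p R) (hRH : R ≤ H) {h : G} (hhH : h ∈ H)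
    (hN : h ∈ normalizer (R : Set G)) (h2 : ∃ j, h ^ 2 ^ j = 1)
    (hne : h ∉ centralizer (R : Set G)) : Inv p H := by
  obtain ⟨j, hj⟩ := h2
  induction j generalizing h with
  | zero =>
    rw [pow_zero, pow_one] at hj
    exact absurd (hj ▸ one_mem _) hne
  | succ j ih =>
    by_cases hsq : h ^ 2 ∈ centralizer (R : Set G)
    swap
    · exact ih (pow_mem hhH 2) (pow_mem hN 2) hsq (by rwa [← pow_mul, ← pow_succ'])
    obtain ⟨r, hr, hrne⟩ : ∃ r ∈ R, h * r * h⁻¹ ≠ r := by
      by_contra hall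
      push Not at hall
      exact hne (mem_centralizer_iff.2 fun r hr => by
        conv_lhs => rw [← hall r hr]
        group)
    set w := r⁻¹ * (h * r * h⁻¹) with hw
    have hwR : w ∈ R := mul_mem (inv_mem hr) ((mem_normalizer_iff.1 hN r).1 hr)
    obtain ⟨k, hk⟩ := hR ⟨w, hwR⟩
    refine ⟨h, hhH, w, hRH hwR, fun h1 => hrne ((inv_mul_eq_one.1 h1).symm),
      ⟨k, congrArg Subtype.val hk⟩, ?_⟩
    have h3 : h * (h * r * h⁻¹) * h⁻¹ = r := by
      calc h * (h * r * h⁻¹) * h⁻¹ = h ^ 2 * r * (h ^ 2)⁻¹ := by rw [pow_two]; group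
        _ = r := by rw [← mem_centralizer_iff.1 hsq r hr, mul_inv_cancel_right]
    calc h * w * h⁻¹ = (h * r * h⁻¹)⁻¹ * (h * (h * r * h⁻¹) * h⁻¹) := by rw [hw]; group
      _ = w⁻¹ := by rw [h3, hw]; group

/-- Inversion in an image lifts. -/
theorem inv_of_range (hp : p ≠ 2) {X : Type*} [Group X] (f : G →* X) (h : Inv p f.range) :
    Inv p (⊤ : Subgroup G) := by
  obtain ⟨_, ⟨g, rfl⟩, _, ⟨y, rfl⟩, hy1, ⟨k, hk⟩, he⟩ := h
  set P := (zpowers (f y)).comap f with hP
  obtain ⟨R⟩ : Nonempty (Sylow p P) := inferInstance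
  set R' := (R : Subgroup P).map P.subtype with hR'
  have hR'P : R' ≤ P := map_subtype_le _
  have hR'p : IsPGroup p R' := R.2.map _
  have hyp : IsPGroup p (zpowers (f y)) := by
    obtain ⟨i, -, hi⟩ := (Nat.dvd_prime_pow hpf.out).1 (orderOf_dvd_of_pow_eq_one hk)
    exact IsPGroup.of_card (n := i) (by rw [Nat.card_zpowers, hi])
  have hyR : f y ∈ R'.map f := by
    let f' : P →* zpowers (f y) := (f.comp P.subtype).codRestrict _ fun x => x.2
    have hf' : Function.Surjective f' := by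
      rintro ⟨z, hz⟩
      obtain ⟨i, rfl⟩ := mem_zpowers_iff.1 hz
      exact ⟨⟨y ^ i, show f (y ^ i) ∈ zpowers (f y) from (map_zpow f y i).symm ▸ hz⟩,
        Subtype.ext (map_zpow f y i)⟩
    haveI : Finite (zpowers (f y)) := Finite.of_surjective f' hf'
    have htop : (R.mapSurjective hf' : Subgroup (zpowers (f y))) = ⊤ := by
      refine ((R.mapSurjective hf').3 (Q := ⊤) (hyp.of_equiv Subgroup.topEquiv.symm) le_top).symm
    obtain ⟨r, hr, hre⟩ : (⟨f y, mem_zpowers _⟩ : zpowers (f y)) ∈ (R : Subgroup P).map f' := by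
      rw [← Sylow.coe_mapSurjective hf' R, htop]
      exact mem_top _
    exact ⟨r, ⟨r, hr, rfl⟩, congrArg Subtype.val hre⟩
  have hgP : ∀ z ∈ P, g * z * g⁻¹ ∈ P := by
    intro z hz
    obtain ⟨i, hi⟩ := mem_zpowers_iff.1 (mem_comap.1 hz)
    rw [hP, mem_comap, map_mul, map_mul, map_inv, ← hi, ← conj_zpow, he]
    exact zpow_mem (inv_mem (mem_zpowers _)) i
  have hgle : R'.map (MulAut.conj g).toMonoidHom ≤ P := by
    rintro _ ⟨z, hz, rfl⟩
    exact hgP z (hR'P hz)
  have hidx : ∀ S : Subgroup G, S ≤ P → Nat.card S = Nat.card R' → ¬ p ∣ S.relIndex P := by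
    intro S hS hcS hd
    have h1 := relIndex_mul_relIndex ⊥ S P bot_le hS
    rw [relIndex_bot_left, relIndex_bot_left, hcS, hR', Base.card_map_of_injective P.subtype_injective] at h1
    refine R.not_dvd_index ?_
    have h2 : (R : Subgroup P).index = S.relIndex P :=
      Nat.eq_of_mul_eq_mul_left Nat.card_pos ((R : Subgroup P).card_mul_index.trans h1.symm)
    rwa [h2]
  obtain ⟨m, hm, hmR⟩ := exists_map_conj_eq_of_sylow_in hgle hR'P (hR'p.map _) hR'p
    (hidx _ hgle (card_map_conj g R')) (hidx _ hR'P rfl)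
  have hgR : m * g ∈ normalizer (R' : Set G) := by
    rw [mem_normalizer_iff_map_conj_eq]
    show R'.map (MulAut.conj (m * g)).toMonoidHom = R'
    conv_rhs => rw [← hmR]
    refine (congrArg (fun φ : G →* G => R'.map φ) (show (MulAut.conj (m * g)).toMonoidHom =
      (MulAut.conj m).toMonoidHom.comp (MulAut.conj g).toMonoidHom from
        MonoidHom.ext fun z => by simp [mul_assoc])).trans (Subgroup.map_map R' _ _).symm
  have hminv : f (m * g) * f y * (f (m * g))⁻¹ = (f y)⁻¹ := by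
    obtain ⟨i, hi⟩ := mem_zpowers_iff.1 (mem_comap.1 hm)
    rw [map_mul, show f m * f g * f y * (f m * f g)⁻¹ = f m * (f g * f y * (f g)⁻¹) * (f m)⁻¹ by group,
      he, ← hi, (((Commute.refl (f y)).inv_right).zpow_left i).eq, mul_inv_cancel_right]
  obtain ⟨e, he2, hj⟩ := exists_odd_two_part (m * g)
  refine inv_of_action hR'p le_top (mem_top _) (pow_mem hgR e) hj fun hc => ?_
  obtain ⟨r, hr, hre⟩ := hyR
  have h5 := conj_pow_odd hminv e he2
  rw [← hre, ← map_pow, ← map_inv, ← map_mul, ← map_mul, ← mem_centralizer_iff.1 hc r hr,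
    mul_inv_cancel_right, hre] at h5
  exact hy1 (eq_one_of_sq hp ⟨k, hk⟩ h5)

theorem inv_of_map (hp : p ≠ 2) {X : Type*} [Group X] (f : G →* X) {H : Subgroup G}
    (h : Inv p (H.map f)) : Inv p H :=
  Inv.of_top (inv_of_range hp (f.comp H.subtype) (by
    rwa [MonoidHom.range_comp, range_subtype]))

omit hpf in
theorem card_quot_lt (N : Subgroup G) (h : N ≠ ⊥) : Nat.card (G ⧸ N) < Nat.card G := by
  rw [Subgroup.card_eq_card_quotient_mul_card_subgroup N]
  exact lt_mul_of_one_lt_right Nat.card_pos ((Subgroup.one_lt_card_iff_ne_bot N).2 h)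

omit hpf in
theorem inv_conj {H : Subgroup G} (h : Inv p H) (g : G) :
    Inv p (H.map (MulAut.conj g).toMonoidHom) :=
  h.map _ (MulAut.conj g).injective

/-- **Inversion is detected in `N(Z(J(S)))`.** -/
theorem inv_normalizer (hp : p ≠ 2) : ∀ (n : ℕ) (G : Type u) [Group G] [Finite G],
    Nat.card G = n → Inv p (⊤ : Subgroup G) →
      ∀ S : Sylow p G, Inv p (normalizer (maxCenter 0 (S : Subgroup G) : Set G)) := by
  intro n
  induction n using Nat.strong_induction_on with
  | _ n ih =>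
  intro G _ _ hn hinv S
  by_contra hno
  have hno' : ∀ T : Sylow p G, ¬ Inv p (normalizer (maxCenter 0 (T : Subgroup G) : Set G)) := by
    intro T hT
    obtain ⟨g, hg⟩ := MulAction.exists_smul_eq G T S
    refine hno ?_
    rw [← hg, Sylow.coe_subgroup_smul, ← CfsgLib.Base.map_conj_eq_smul,
      ← map_maxCenter (MulAut.conj g).injective (f := (MulAut.conj g).toMonoidHom)]
    have h1 := inv_conj hT g
    have e : (normalizer (maxCenter 0 (T : Subgroup G) : Set G)).map (MulAut.conj g).toMonoidHom =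
        normalizer (((maxCenter 0 (T : Subgroup G)).map (MulAut.conj g).toMonoidHom : Subgroup G) : Set G) :=
      Subgroup.map_equiv_normalizer_eq _ (MulAut.conj g)
    rwa [e] at h1
  -- induction inside a proper subgroup
  have hsub : ∀ L : Subgroup G, L ≠ ⊤ → Inv p L → ∀ S₀ : Sylow p L,
      Inv p (L ⊓ normalizer (maxCenter 0 ((S₀ : Subgroup L).map L.subtype) : Set G)) := by
    intro L hL hLi S₀
    have hlt : Nat.card L < n := hn ▸ (by
      simpa using PLocal.card_lt_of_lt (lt_top_iff_ne_top.2 hL))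
    have h1 := (ih _ hlt L rfl (inv_top_of hLi) S₀).map L.subtype L.subtype_injective
    have e : maxCenter 0 (S₀ : Subgroup L) =
        (maxCenter 0 ((S₀ : Subgroup L).map L.subtype)).subgroupOf L := by
      rw [← map_maxCenter L.subtype_injective, subgroupOf,
        comap_map_eq_self_of_injective L.subtype_injective]
    rwa [e, ← subgroupOf_normalizer_eq ((maxCenter_le 0 _).trans (map_subtype_le _)),
      subgroupOf_map_subtype, inf_comm] at h1
  have hproper : ∀ L : Subgroup G, L ≠ ⊤ → (S : Subgroup G) ≤ L → ¬ Inv p L := by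
    intro L hL hSL hLi
    have h1 := hsub L hL hLi (S.subtype hSL)
    rw [Sylow.coe_subtype, map_subgroupOf_eq_of_le hSL] at h1
    exact hno (h1.mono inf_le_right)
  obtain ⟨g₀, -, y₀, -, hy1, ⟨k₀, hk₀⟩, he₀⟩ := hinv
  by_cases hN : pPrimeCore p G = ⊥
  swap
  · have hcop := CfsgLib.Base.pPrimeCore_coprime p G
    set π := QuotientGroup.mk' (pPrimeCore p G)
    have hlt : Nat.card (G ⧸ pPrimeCore p G) < n := hn ▸ card_quot_lt _ hN
    have hy : π y₀ ≠ 1 := fun h => by
      refine hy1 ?_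
      have hm : y₀ ∈ pPrimeCore p G := (QuotientGroup.eq_one_iff _).1 h
      have h1 : y₀ ^ Nat.card (pPrimeCore p G) = 1 := by
        have := congrArg Subtype.val (pow_card_eq_one' (x := (⟨y₀, hm⟩ : pPrimeCore p G)))
        rw [SubmonoidClass.coe_pow] at this
        exact this
      have h2 := pow_gcd_eq_one.mpr ⟨h1, hk₀⟩
      rwa [(hcop.pow_right k₀).gcd_eq_one, pow_one] at h2
    have hbar := ih _ hlt (G ⧸ pPrimeCore p G) rfl ⟨π g₀, mem_top _, π y₀, mem_top _, hy,
      ⟨k₀, by rw [← map_pow, hk₀, map_one]⟩, by rw [← map_inv, ← map_mul, ← map_mul, he₀, map_inv]⟩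
      (S.mapSurjective (QuotientGroup.mk'_surjective _))
    rw [Sylow.coe_mapSurjective, ← map_maxCenter_of_injective π _
      (PLocal.injective_mk'_comp_subtype _ hcop S.2),
      ← map_normalizer_mk' _ hcop (S.2.to_le (maxCenter_le 0 _))] at hbar
    exact hno (inv_of_map hp π hbar)
  set Q := pCore p G with hQ
  haveI hQn : Q.Normal := pCore_normal p G
  have hQp : IsPGroup p Q := CfsgLib.Base.isPGroup_pCore p G
  by_cases hQ0 : Q = ⊥
  · -- all local subgroups are proper
    let 𝓛 : Set (Subgroup G) := {L | ∃ D : Subgroup G, IsPGroup p D ∧ D ≠ ⊥ ∧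
      L = normalizer (D : Set G) ∧ Inv p L}
    have hy₀p : IsPGroup p (zpowers y₀) := by
      obtain ⟨i, -, hi⟩ := (Nat.dvd_prime_pow hpf.out).1 (orderOf_dvd_of_pow_eq_one hk₀)
      exact IsPGroup.of_card (n := i) (by rw [Nat.card_zpowers, hi])
    have h0 : normalizer (zpowers y₀ : Set G) ∈ 𝓛 := by
      refine ⟨zpowers y₀, hy₀p, zpowers_ne_bot.2 hy1, rfl, g₀, ?_, y₀,
        le_normalizer (mem_zpowers y₀), hy1, ⟨k₀, hk₀⟩, he₀⟩
      rw [mem_normalizer_iff_map_conj_eq]
      show (zpowers y₀).map (MulAut.conj g₀).toMonoidHom = zpowers y₀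
      rw [MonoidHom.map_zpowers, show (MulAut.conj g₀).toMonoidHom y₀ = y₀⁻¹ from he₀, zpowers_inv]
    obtain ⟨L, hL, hmax⟩ := Set.exists_max_image 𝓛 (fun L => p ^ (Nat.card L).factorization p)
      (Set.toFinite _) ⟨_, h0⟩
    obtain ⟨D, hD, hD1, hLD, hLi⟩ := hL
    have hLtop : L ≠ ⊤ := by
      intro he
      haveI : D.Normal := normalizer_eq_top_iff.1 (hLD ▸ he)
      exact hD1 (le_bot_iff.1 (hQ0 ▸ CfsgLib.Base.le_pCore hD))
    have hDL : D ≤ L := hLD ▸ le_normalizer
    obtain ⟨S₀, hS₀⟩ := (hD.comap_subtype (K := L)).exists_le_sylow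
    set P := (S₀ : Subgroup L).map L.subtype with hP
    have hPp : IsPGroup p P := S₀.2.map _
    obtain ⟨T, hT⟩ := hPp.exists_le_sylow
    have hPcard : Nat.card P = p ^ (Nat.card L).factorization p := by
      rw [hP, Base.card_map_of_injective L.subtype_injective, S₀.card_eq_multiplicity]
    have h1 := hsub L hLtop hLi S₀
    rw [← hP] at h1
    by_cases hPT : P = (T : Subgroup G)
    · exact hno' T ((hPT ▸ h1 : Inv p (L ⊓ normalizer (maxCenter 0 (T : Subgroup G) : Set G))).mono inf_le_right)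
    have hPne : P ≠ ⊥ := fun h => hD1 (le_bot_iff.1 (h ▸ fun x hx => ⟨⟨x, hDL hx⟩, hS₀ hx, rfl⟩))
    have hR : maxCenter 0 P ≠ ⊥ := by
      rw [← centerThompsonAOf_eq]
      exact Transfer.subgroupFunctor_centerThompsonAOf.ne_bot G P hPp hPne
    have hmem : normalizer (maxCenter 0 P : Set G) ∈ 𝓛 :=
      ⟨maxCenter 0 P, hPp.to_le (maxCenter_le 0 P), hR, rfl, h1.mono inf_le_right⟩
    have hlt : Nat.card P < Nat.card ↥((T : Subgroup G) ⊓ normalizer (P : Set G)) := by
      have hPlt : P < (T : Subgroup G) := lt_of_le_of_ne hT hPT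
      refine PLocal.card_lt_of_lt (lt_of_le_of_ne (le_inf hT le_normalizer) fun he => ?_)
      haveI : Group.IsNilpotent (T : Subgroup G) := T.2.isNilpotent
      have h1 := Group.normalizerCondition_of_isNilpotent (G := (T : Subgroup G)) (P.subgroupOf T)
        (lt_top_iff_ne_top.2 fun h' => hPlt.not_ge (subgroupOf_eq_top.1 h'))
      refine h1.ne ?_
      apply map_injective (T : Subgroup G).subtype_injective
      rw [← subgroupOf_normalizer_eq hT, subgroupOf_map_subtype, subgroupOf_map_subtype,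
        inf_eq_left.2 hT, inf_comm]
      exact he
    have hle : (T : Subgroup G) ⊓ normalizer (P : Set G) ≤ normalizer (maxCenter 0 P : Set G) :=
      inf_le_right.trans (maxCenter_le_normalizer P)
    obtain ⟨S₂, hS₂⟩ := ((T.2.to_le (inf_le_left :
      (T : Subgroup G) ⊓ normalizer (P : Set G) ≤ T)).comap_subtype
        (K := normalizer (maxCenter 0 P : Set G))).exists_le_sylow
    have h3 := (Subgroup.card_le_of_le hS₂)
    have e3 : Nat.card ↥(((T : Subgroup G) ⊓ normalizer (P : Set G)).comap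
          (normalizer (maxCenter 0 P : Set G)).subtype) =
        Nat.card ↥((T : Subgroup G) ⊓ normalizer (P : Set G)) :=
      Nat.card_congr (subgroupOfEquivOfLe hle).toEquiv
    rw [S₂.card_eq_multiplicity, e3] at h3
    have h4 := hmax _ hmem
    rw [hPcard] at hlt
    omega
  set π := QuotientGroup.mk' Q with hπ
  have hlt : Nat.card (G ⧸ Q) < n := hn ▸ card_quot_lt _ hQ0
  have hQS : Q ≤ (S : Subgroup G) := CfsgLib.Base.pCore_le_sylow S
  by_cases hy : π y₀ = 1
  swap
  · set Sb := S.mapSurjective (QuotientGroup.mk'_surjective Q) with hSb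
    have hbar := ih _ hlt (G ⧸ Q) rfl ⟨π g₀, mem_top _, π y₀, mem_top _, hy,
      ⟨k₀, by rw [← map_pow, hk₀, map_one]⟩, by rw [← map_inv, ← map_mul, ← map_mul, he₀, map_inv]⟩ Sb
    set L := (normalizer (maxCenter 0 (Sb : Subgroup (G ⧸ Q)) : Set (G ⧸ Q))).comap π with hL
    refine hproper L (fun he => ?_) ?_ (inv_of_map hp π (by
      rwa [hL, map_comap_eq_self_of_surjective (QuotientGroup.mk'_surjective Q)]))
    · haveI : (maxCenter 0 (Sb : Subgroup (G ⧸ Q))).Normal := normalizer_eq_top_iff.1 (by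
        rw [← map_comap_eq_self_of_surjective (QuotientGroup.mk'_surjective Q) (normalizer _), ← hL, he,
          Subgroup.map_top_of_surjective π (QuotientGroup.mk'_surjective Q)])
      have hb := CfsgLib.Base.le_pCore (Sb.2.to_le (maxCenter_le 0 (Sb : Subgroup (G ⧸ Q))))
      rw [CfsgLib.Base.pCore_quotient_pCore] at hb
      have hSb1 : (Sb : Subgroup (G ⧸ Q)) ≠ ⊥ := by
        intro h
        obtain ⟨T, hT⟩ := (show IsPGroup p (zpowers (π y₀)) by
          obtain ⟨i, -, hi⟩ := (Nat.dvd_prime_pow hpf.out).1 (orderOf_dvd_of_pow_eq_one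
            (show (π y₀) ^ p ^ k₀ = 1 by rw [← map_pow, hk₀, map_one]))
          exact IsPGroup.of_card (n := i) (by rw [Nat.card_zpowers, hi])).exists_le_sylow
        have hc : Nat.card (T : Subgroup (G ⧸ Q)) = 1 := by
          rw [T.card_eq_multiplicity, ← Sb.card_eq_multiplicity]
          exact h ▸ Subgroup.card_bot
        have : π y₀ ∈ (⊥ : Subgroup (G ⧸ Q)) :=
          (Subgroup.card_eq_one.1 hc) ▸ hT (mem_zpowers _)
        exact hy (mem_bot.1 this)
      refine Transfer.subgroupFunctor_centerThompsonAOf.ne_bot (G ⧸ Q) _ Sb.2 hSb1 ?_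
      show centerThompsonAOf (Sb : Subgroup (G ⧸ Q)) = ⊥
      rw [centerThompsonAOf_eq]
      exact le_bot_iff.1 hb
    · intro s hs
      rw [hL, mem_comap]
      exact maxCenter_le_normalizer _ (le_normalizer (mem_map_of_mem π hs))
  have hy₀Q : y₀ ∈ Q := (QuotientGroup.eq_one_iff _).1 hy
  by_cases hc : centralizer (Q : Set G) ≤ Q
  · have h2 := two_dvd_normalizer hp _ G rfl hc ((Subgroup.card_top (G := G)) ▸
      (Inv.two_dvd hp ⟨g₀, mem_top _, y₀, mem_top _, hy1, ⟨k₀, hk₀⟩, he₀⟩)) S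
    obtain ⟨h, hh⟩ := exists_prime_orderOf_dvd_card' 2 h2
    have hQN : Q ≤ normalizer (maxCenter 0 (S : Subgroup G) : Set G) :=
      hQS.trans (le_normalizer.trans (maxCenter_le_normalizer _))
    refine hno (inv_of_action hQp hQN h.2 (by rw [normalizer_eq_top]; exact mem_top _)
      ⟨1, by rw [pow_one, ← hh, ← SubmonoidClass.coe_pow, pow_orderOf_eq_one]; rfl⟩ fun hcQ => ?_)
    obtain ⟨i, hi⟩ := IsPGroup.iff_orderOf.1 hQp ⟨_, hc hcQ⟩
    rw [Subgroup.orderOf_mk, Subgroup.orderOf_coe, hh] at hi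
    rcases Nat.eq_zero_or_pos i with h0 | h0
    · rw [h0, pow_zero] at hi
      omega
    · exact hp (((Nat.prime_dvd_prime_iff_eq hpf.out Nat.prime_two).1 (hi ▸ dvd_pow_self p h0.ne')))
  set C := centralizer (Q : Set G) with hC
  haveI : C.Normal := inferInstance
  set L := normalizer ((((S : Subgroup G) ⊓ (C ⊔ Q) : Subgroup G)) : Set G) with hL
  have hSL : (S : Subgroup G) ≤ L :=
    (le_inf le_normalizer (by rw [normalizer_eq_top]; exact le_top)).trans (normalizer_inf_le _ _)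
  refine hproper L (fun he => hc ?_) hSL ?_
  · have hPC : (S : Subgroup G) ⊓ C ≤ Q := by
      haveI : ((S : Subgroup G) ⊓ (C ⊔ Q)).Normal := normalizer_eq_top_iff.1 he
      exact (inf_le_inf_left (S : Subgroup G) (le_sup_left (a := C) (b := Q))).trans
        (CfsgLib.Base.le_pCore (N := (S : Subgroup G) ⊓ (C ⊔ Q)) (S.2.to_le inf_le_left))
    let S₁ : Sylow p C := (S.2.comap_subtype (K := C)).toSylow
      (Transfer.not_dvd_index_subgroupOf_of_normal S C)
    have hcomp := Transfer.hasNormalPComplement_of_normalizer_le_centralizer S₁ (fun c _ => by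
      rw [mem_centralizer_iff]
      intro s hs
      exact Subtype.ext (mem_centralizer_iff.mp c.2 _ (hPC ⟨mem_subgroupOf.mp hs, s.2⟩)))
    have hch := Transfer.pResidual_characteristic (G := C) (p := p)
    have hcopR : Nat.Coprime (Nat.card ((pResidual p C).map C.subtype)) p := by
      rw [Base.card_map_of_injective C.subtype_injective, Nat.coprime_comm,
        hpf.out.coprime_iff_not_dvd]
      exact Transfer.hasNormalPComplement_iff_pResidual.mp hcomp
    have hbot : (pResidual p C).map C.subtype = ⊥ :=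
      le_bot_iff.mp (hN ▸ le_sSup ⟨inferInstance, hcopR⟩)
    rw [map_eq_bot_iff_of_injective _ C.subtype_injective] at hbot
    obtain ⟨k, hk⟩ := Transfer.exists_index_pResidual (G := C) (p := p)
    rw [hbot, index_bot] at hk
    exact CfsgLib.Base.le_pCore (IsPGroup.of_card hk)
  · have hQL : Q ≤ L := hQS.trans hSL
    obtain ⟨d, hd, l, hl, hdl⟩ := PLocal.exists_mul_normalizer S (C ⊔ Q) g₀
    obtain ⟨c, hc', q, hq, rfl⟩ := Subgroup.mem_sup_of_normal_left.1 hd
    refine ⟨q * l, mul_mem (hQL hq) hl, y₀, hQL hy₀Q, hy1, ⟨k₀, hk₀⟩, ?_⟩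
    have hz : q * l * y₀ * (q * l)⁻¹ ∈ Q := hQn.conj_mem y₀ hy₀Q (q * l)
    calc q * l * y₀ * (q * l)⁻¹ = c * (q * l * y₀ * (q * l)⁻¹) * c⁻¹ := by
          rw [← mem_centralizer_iff.1 hc' _ hz, mul_inv_cancel_right]
      _ = (c * q * l) * y₀ * (c * q * l)⁻¹ := by group
      _ = g₀ * y₀ * g₀⁻¹ := by rw [hdl]
      _ = y₀⁻¹ := he₀

end CfsgLib.LocalEven.ZJParity
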