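import Cfsg.Agent.Lib.LocalEven.Isolated
import Cfsg.Agent.Lib.Base.Cores
import Cfsg.Agent.Lib.Coprime.Action
import Cfsg.Agent.Lib.PLocal.PSolvable

/-!
Minimal counterexamples to the `Z*_p` statement: the core is trivial, invariant Sylow subgroups.
-/

set_option autoImplicit false
set_option linter.style.haveILetI false

namespace CfsgLib.LocalEven.IsoMin

open Cfsg

variable {G : Type*} [Group G] [Finite G] {p : ℕ} {x : G}

theorem core_eq_bot (hnz : ¬ InZStar p x)
    (hquot : ∀ (N : Subgroup G) [N.Normal], N ≠ ⊥ → InZStar p (QuotientGroup.mk x : G ⧸ N)) :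
    pPrimeCore p G = ⊥ := by
  by_contra hne
  haveI : (pPrimeCore p G).Normal := pPrimeCore_normal p G
  refine hnz fun g => ?_
  have h := hquot (pPrimeCore p G) hne (g : G ⧸ pPrimeCore p G)
  rw [Base.pPrimeCore_quotient_pPrimeCore, Subgroup.mem_bot, ← QuotientGroup.mk_inv,
    ← QuotientGroup.mk_inv, ← QuotientGroup.mk_mul, ← QuotientGroup.mk_mul, ← QuotientGroup.mk_mul,
    QuotientGroup.eq_one_iff] at h
  exact h

variable [Fact p.Prime]

/-- Invariant Sylow subgroups are conjugate under the centraliser of an isolated element. -/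
theorem sylow_conj (hx : ∃ k : ℕ, orderOf x = p ^ k) (hiso : IsIsolated x) {q : ℕ}
    (S₁ S₂ : Sylow q G) [Fact q.Prime]
    (h1 : x ∈ Subgroup.normalizer ((S₁ : Subgroup G) : Set G))
    (h2 : x ∈ Subgroup.normalizer ((S₂ : Subgroup G) : Set G)) :
    ∃ c ∈ Subgroup.centralizer ({x} : Set G),
      (S₁ : Subgroup G).map (MulAut.conj c).toMonoidHom = (S₂ : Subgroup G) := by
  obtain ⟨g, hg⟩ := MulAction.exists_smul_eq G S₁ S₂
  have hv : g⁻¹ * x * g ∈ Subgroup.normalizer ((S₁ : Subgroup G) : Set G) := by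
    refine Sylow.smul_eq_iff_mem_normalizer.1 ?_
    rw [mul_smul, mul_smul, hg, Sylow.smul_eq_iff_mem_normalizer.2 h2, ← hg, inv_smul_smul]
  have hord : ∃ k : ℕ, orderOf (g⁻¹ * x * g) = p ^ k := by
    simpa using Iso.orderOf_conj_pow hx g⁻¹
  obtain ⟨R, d, hR, hdN, hxR, hdR⟩ := Iso.exists_conj_mem hx h1 hord hv
  have e : d * (g⁻¹ * x * g) * d⁻¹ = (d * g⁻¹) * x * (d * g⁻¹)⁻¹ := by group
  rw [e] at hdR
  have h3 := Iso.eq_of_mem hiso hR (d * g⁻¹) 1 hdR (by simpa using hxR)
  simp only [one_mul, inv_one, mul_one] at h3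
  refine ⟨g * d⁻¹, ?_, ?_⟩
  · have : g * d⁻¹ = (d * g⁻¹)⁻¹ := by group
    rw [this]
    exact inv_mem (Subgroup.mem_centralizer_singleton_iff.2 (mul_inv_eq_iff_eq_mul.1 h3))
  · have e1 : (g * d⁻¹) • S₁ = S₂ := by
      rw [mul_smul, Sylow.smul_eq_iff_mem_normalizer.2 (inv_mem hdN), hg]
    exact congrArg Sylow.toSubgroup e1

theorem maximal_invariant (hx : orderOf x = p)
    (hcore : pPrimeCore p G = ⊥)
    (hmin : ∀ (H : Subgroup G) (hxH : x ∈ H), H ≠ ⊤ → InZStar p (⟨x, hxH⟩ : ↥H))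
    {q : ℕ} [hq : Fact q.Prime] (Q : Subgroup G) (hQ : IsPGroup q ↥Q)
    (hxQ : x ∈ Subgroup.normalizer (Q : Set G))
    (hmax : ∀ R : Subgroup G, IsPGroup q ↥R → x ∈ Subgroup.normalizer (R : Set G) → Q ≤ R → R = Q) :
    Q = ⊥ ∨ ∃ S : Sylow q G, (S : Subgroup G) = Q := by
  have hxp : IsPGroup p ↥(Subgroup.zpowers x) :=
    Iso.isPGroup_zpowers ⟨1, by rw [hx, pow_one]⟩
  by_cases hqp : q = p
  · subst hqp
    refine Or.inr ?_
    have hsup := IsPGroup.to_sup_of_normal_left' hQ hxp (Subgroup.zpowers_le.2 hxQ)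
    obtain ⟨P, hP⟩ := hsup.exists_le_sylow
    exact ⟨P, hmax _ P.2 (Subgroup.le_normalizer (hP (le_sup_right (a := Q)
      (Subgroup.mem_zpowers x)))) (le_sup_left.trans hP)⟩
  by_cases hQ1 : Q = ⊥
  · exact Or.inl hQ1
  refine Or.inr ?_
  set N := Subgroup.normalizer (Q : Set G) with hN
  have hcopq : ∀ {H : Type _} [Group H] [Finite H], IsPGroup q H → (Nat.card H).Coprime p := by
    intro H _ _ h
    obtain ⟨k, hk⟩ := h.exists_card_eq
    rw [hk]
    exact Nat.Coprime.pow_left _ ((Nat.coprime_primes hq.out (Fact.out : p.Prime)).2 hqp)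
  have hNtop : N ≠ ⊤ := by
    intro h
    haveI : Q.Normal := Subgroup.normalizer_eq_top_iff.1 h
    exact hQ1 (le_bot_iff.1 (hcore ▸ Base.le_pPrimeCore (hcopq hQ)))
  have hz := hmin N hxQ hNtop
  haveI : (pPrimeCore p N).Normal := pPrimeCore_normal p N
  haveI hQn : (Q.subgroupOf N).Normal := Subgroup.normal_in_normalizer
  obtain ⟨T, hT⟩ := (hQ.comap_subtype (K := N) : IsPGroup q (Q.subgroupOf N)).exists_le_sylow
  set R := pPrimeCore p N with hR
  set V : Subgroup N := (T : Subgroup N) ⊔ R with hV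
  -- `x` normalises `V`
  have hxV : (⟨x, hxQ⟩ : N) ∈ Subgroup.normalizer (V : Set N) := by
    refine (Subgroup.mem_normalizer_iff_map_conj_eq).2 ?_
    refine Subgroup.eq_of_le_of_card_ge ?_ (le_of_eq
      (Subgroup.card_map_of_injective (MulAut.conj (⟨x, hxQ⟩ : N)).injective).symm)
    rw [hV, Subgroup.map_sup]
    refine sup_le ?_ (le_trans ?_ le_sup_right)
    · rintro _ ⟨t, ht, rfl⟩
      have h1 := inv_mem (hz t)
      have e : (MulAut.conj (⟨x, hxQ⟩ : N)) t =
          (t * ⟨x, hxQ⟩ * t⁻¹ * (⟨x, hxQ⟩ : N)⁻¹)⁻¹ * t := by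
        rw [MulAut.conj_apply]; group
      show (MulAut.conj (⟨x, hxQ⟩ : N)) t ∈ _
      rw [e]
      exact mul_mem (le_sup_right (a := (T : Subgroup N)) h1)
        (le_sup_left (b := R) ht)
    · rintro _ ⟨r, hr, rfl⟩
      exact (pPrimeCore_normal p N).conj_mem r hr _
  -- `V` has order prime to `p`
  have hVp : (Nat.card V).Coprime p := by
    have h1 : R.relIndex V ∣ Nat.card T := by
      rw [hV, Subgroup.relIndex_sup_right]
      exact Subgroup.relIndex_dvd_card R T
    have h2 : Nat.card R * R.relIndex V = Nat.card V := by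
      rw [← Subgroup.relIndex_bot_left, ← Subgroup.relIndex_bot_left]
      exact Subgroup.relIndex_mul_relIndex _ _ _ bot_le le_sup_right
    rw [← h2]
    exact Nat.Coprime.mul_left (Base.pPrimeCore_coprime p N)
      ((hcopq T.2).coprime_dvd_left h1)
  set V' := V.map N.subtype with hV'
  have hAV : Subgroup.zpowers x ≤ Subgroup.normalizer (V' : Set G) :=
    Subgroup.zpowers_le.2 (Subgroup.le_normalizer_map N.subtype ⟨⟨x, hxQ⟩, hxV, rfl⟩)
  have hcopV : (Nat.card (Subgroup.zpowers x)).Coprime (Nat.card V') := by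
    rw [Nat.card_zpowers, hx, hV', Subgroup.card_map_of_injective N.subtype_injective]
    exact hVp.symm
  have hQV : Q ≤ V' := fun y hy =>
    ⟨⟨y, Subgroup.le_normalizer hy⟩, le_sup_left (b := R) (hT hy), rfl⟩
  obtain ⟨P, hQP, hPA⟩ := Coprime.exists_invariant_sylow_ge hAV hcopV
    (Or.inl (haveI := hxp.isNilpotent; inferInstance)) hQV hQ (Subgroup.zpowers_le.2 hxQ)
  have hPQ : (P : Subgroup V').map V'.subtype = Q :=
    hmax _ (P.2.map _) (hPA (Subgroup.mem_zpowers x)) hQP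
  set T' := (T : Subgroup N).map N.subtype with hT'
  have hTQ : T' = Q := by
    have hQT : Q ≤ T' := fun y hy => ⟨⟨y, Subgroup.le_normalizer hy⟩, hT hy, rfl⟩
    refine (Subgroup.eq_of_le_of_card_ge hQT ?_).symm
    obtain ⟨P', hP'⟩ := ((T.2.map N.subtype).comap_subtype (K := V') :
      IsPGroup q (T'.subgroupOf V')).exists_le_sylow
    calc Nat.card T' = Nat.card (T'.subgroupOf V') :=
          (Nat.card_congr (Subgroup.subgroupOfEquivOfLe
            (Subgroup.map_mono le_sup_left)).toEquiv).symm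
      _ ≤ Nat.card P' := Subgroup.card_le_of_le hP'
      _ = Nat.card P := Nat.card_congr (P'.equiv P).toEquiv
      _ = Nat.card Q := by rw [← hPQ, Subgroup.card_map_of_injective V'.subtype_injective]
  obtain ⟨S, hS⟩ := hQ.exists_le_sylow
  refine ⟨S, ?_⟩
  by_contra hne
  haveI : Group.IsNilpotent (S : Subgroup G) := S.2.isNilpotent
  have hlt : Q.subgroupOf (S : Subgroup G) < ⊤ := by
    rw [lt_top_iff_ne_top, Ne, Subgroup.subgroupOf_eq_top]
    exact fun h => hne (le_antisymm h hS)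
  obtain ⟨y, hyN, hyQ⟩ := SetLike.exists_of_lt
    (Group.normalizerCondition_of_isNilpotent _ hlt)
  rw [← Subgroup.subgroupOf_normalizer_eq hS, Subgroup.mem_subgroupOf] at hyN
  refine hyQ (show (y : G) ∈ Q from ?_)
  have hle : (T : Subgroup N) ≤ ((S : Subgroup G) ⊓ N).subgroupOf N := fun w hw =>
    ⟨hS (hTQ ▸ ⟨w, hw, rfl⟩), w.2⟩
  have hyT : (⟨(y : G), hyN⟩ : N) ∈ (T : Subgroup N) := by
    rw [← T.3 ((S.2.to_le inf_le_left).comap_subtype) hle]
    exact ⟨y.2, hyN⟩
  exact hTQ ▸ ⟨_, hyT, rfl⟩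

omit [Finite G] [Fact p.Prime] in
theorem not_mem_center (hnz : ¬ InZStar p x) : x ∉ Subgroup.center G := fun h => hnz fun g => by
  rw [Subgroup.mem_center_iff.1 h g, mul_inv_cancel_right, mul_inv_cancel]
  exact one_mem _

omit [Fact p.Prime] in
/-- A normal subgroup containing `x` is the whole group. -/
theorem eq_top_of_normal_mem (hiso : IsIsolated x) (hnz : ¬ InZStar p x)
    (hcore : pPrimeCore p G = ⊥)
    (hmin : ∀ (H : Subgroup G) (hxH : x ∈ H), H ≠ ⊤ → InZStar p (⟨x, hxH⟩ : ↥H))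
    (C : Subgroup G) [hC : C.Normal] (hxC : x ∈ C) : C = ⊤ := by
  by_contra hne
  have hbot : (pPrimeCore p C).map C.subtype = ⊥ := by
    rw [Base.map_pPrimeCore_eq_inf, hcore, bot_inf_eq]
  refine hnz fun g => ?_
  have h1 : (g * x * g⁻¹) * x * (g * x * g⁻¹)⁻¹ * x⁻¹ ∈ (pPrimeCore p C).map C.subtype :=
    ⟨_, hmin C hxC hne ⟨g * x * g⁻¹, hC.conj_mem x hxC g⟩, rfl⟩
  rw [hbot, Subgroup.mem_bot, mul_inv_eq_one, mul_inv_eq_iff_eq_mul] at h1
  rw [hiso g h1.symm, mul_inv_cancel]
  exact one_mem _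

theorem center_eq_bot (hiso : IsIsolated x) (hnz : ¬ InZStar p x)
    (hcore : pPrimeCore p G = ⊥)
    (hquot : ∀ (N : Subgroup G) [N.Normal], N ≠ ⊥ → InZStar p (QuotientGroup.mk x : G ⧸ N)) :
    Subgroup.center G = ⊥ := by
  by_contra hne
  set Z := Subgroup.center G with hZ
  have hZp : IsPGroup p Z := by
    intro z
    obtain ⟨a, b, hb, hab⟩ := Nat.exists_eq_pow_mul_and_not_dvd (orderOf_pos (z : G)).ne' p
      (Fact.out : p.Prime).ne_one
    refine ⟨a, Subtype.ext ?_⟩
    have hzc : (z : G) ^ p ^ a ∈ Z := pow_mem z.2 _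
    haveI : (Subgroup.zpowers ((z : G) ^ p ^ a)).Normal := ⟨fun y hy g => by
      have hyc : y ∈ Z := Subgroup.zpowers_le.2 hzc hy
      rwa [Subgroup.mem_center_iff.1 hyc g, mul_inv_cancel_right]⟩
    have hcop : (Nat.card (Subgroup.zpowers ((z : G) ^ p ^ a))).Coprime p := by
      refine (((Fact.out : p.Prime).coprime_iff_not_dvd.2 hb).symm).coprime_dvd_left ?_
      rw [Nat.card_zpowers]
      refine orderOf_dvd_of_pow_eq_one ?_
      rw [← pow_mul, ← hab, pow_orderOf_eq_one]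
    have h := Base.le_pPrimeCore hcop (Subgroup.mem_zpowers ((z : G) ^ p ^ a))
    rw [hcore, Subgroup.mem_bot] at h
    simpa using h
  set K := (pPrimeCore p (G ⧸ Z)).comap (QuotientGroup.mk' Z) with hK
  haveI : (pPrimeCore p (G ⧸ Z)).Normal := pPrimeCore_normal p (G ⧸ Z)
  haveI : K.Normal := inferInstanceAs ((pPrimeCore p (G ⧸ Z)).comap (QuotientGroup.mk' Z)).Normal
  have hKZ : K ≤ Z := by
    refine PLocal.le_of_central_of_pPrimeCore_eq_bot hcore (PLocal.le_comap_mk' Z _) ?_ hZp ?_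
    · intro g _
      exact Subgroup.mem_centralizer_iff.2 fun y hy => (Subgroup.mem_center_iff.1 hy g).symm
    · rw [← PLocal.card_map_mk'_eq_relIndex, hK, Subgroup.map_comap_eq_self_of_surjective
        (QuotientGroup.mk'_surjective Z)]
      exact Base.pPrimeCore_coprime p _
  refine not_mem_center hnz (Subgroup.mem_center_iff.2 fun g => ?_)
  have hz : g * x * g⁻¹ * x⁻¹ ∈ Z := hKZ (by
    show QuotientGroup.mk' Z _ ∈ pPrimeCore p (G ⧸ Z)
    simpa using hquot Z hne (g : G ⧸ Z))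
  have hc : Commute x (g * x * g⁻¹) := by
    have e : g * x * g⁻¹ = (g * x * g⁻¹ * x⁻¹) * x := by group
    rw [e]
    exact Commute.mul_right (Subgroup.mem_center_iff.1 hz x) (Commute.refl x)
  exact mul_inv_eq_iff_eq_mul.1 (hiso g hc)

/-- A non-trivial normal subgroup and `x` generate the group. -/
theorem sup_zpowers_eq_top (hiso : IsIsolated x) (hnz : ¬ InZStar p x)
    (hmin : ∀ (H : Subgroup G) (hxH : x ∈ H), H ≠ ⊤ → InZStar p (⟨x, hxH⟩ : ↥H))
    (hquot : ∀ (N : Subgroup G) [N.Normal], N ≠ ⊥ → InZStar p (QuotientGroup.mk x : G ⧸ N))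
    (N : Subgroup G) [hN : N.Normal] (hne : N ≠ ⊥) : N ⊔ Subgroup.zpowers x = ⊤ := by
  by_contra htop
  set H := N ⊔ Subgroup.zpowers x with hH
  have hcore := core_eq_bot hnz hquot
  have hxH : x ∈ H := le_sup_right (a := N) (Subgroup.mem_zpowers x)
  set D := (pPrimeCore p H).map H.subtype ⊓ N with hD
  have hDn : (D.subgroupOf N).Normal := by
    refine Subgroup.normal_subgroupOf_of_le_normalizer
      (le_trans (le_sup_left (b := Subgroup.zpowers x) : N ≤ H)
        (Coprime.le_normalizer_inf_inf (Base.le_normalizer_map_pPrimeCore H) ?_))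
    exact le_top.trans (Subgroup.normalizer_eq_top (H := N)).ge
  have hNs : N.IsSubnormal := .step N ⊤ le_top .top inferInstance
  have hDcop : (Nat.card D).Coprime p :=
    (Base.coprime_card_map_pPrimeCore H).coprime_dvd_left (Subgroup.card_dvd_of_le inf_le_left)
  have hDbot : D = ⊥ := le_bot_iff.1 (hcore ▸ Base.le_pPrimeCore_of_isSubnormal
    (.step D N inf_le_right hNs hDn) hDcop)
  haveI : (Subgroup.centralizer (N : Set G)).Normal := inferInstance
  have hxC : x ∈ Subgroup.centralizer (N : Set G) := by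
    refine Subgroup.mem_centralizer_iff.2 fun n hn => ?_
    have h1 : n * x * n⁻¹ * x⁻¹ ∈ D := by
      refine ⟨⟨_, hmin H hxH htop ⟨n, le_sup_left (b := Subgroup.zpowers x) hn⟩, rfl⟩, ?_⟩
      have e : n * x * n⁻¹ * x⁻¹ = n * (x * n⁻¹ * x⁻¹) := by group
      rw [e]
      exact mul_mem hn (hN.conj_mem _ (inv_mem hn) x)
    rw [hDbot, Subgroup.mem_bot, mul_inv_eq_one, mul_inv_eq_iff_eq_mul] at h1
    exact h1
  have hC := eq_top_of_normal_mem hiso hnz hcore hmin (Subgroup.centralizer (N : Set G)) hxC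
  refine hne (le_bot_iff.1 (center_eq_bot hiso hnz hcore hquot ▸ ?_))
  intro n hn
  refine Subgroup.mem_center_iff.2 fun g => ?_
  have : g ∈ Subgroup.centralizer (N : Set G) := hC ▸ Subgroup.mem_top g
  exact (Subgroup.mem_centralizer_iff.1 this n hn).symm

omit [Finite G] in
theorem le_normalizer_map_conj {M A : Subgroup G} [hM : M.Normal]
    (hMA : M ≤ Subgroup.normalizer (A : Set G)) (c : G) :
    M ≤ Subgroup.normalizer ((A.map (MulAut.conj c).toMonoidHom : Subgroup G) : Set G) := by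
  refine le_trans (fun m hm => ?_) (Subgroup.le_normalizer_map (MulAut.conj c).toMonoidHom)
  refine ⟨c⁻¹ * m * c, hMA (by simpa using hM.conj_mem m hm c⁻¹), ?_⟩
  simp [mul_assoc]

theorem commutator_le (hiso : IsIsolated x) (hnz : ¬ InZStar p x)
    (hmin : ∀ (H : Subgroup G) (hxH : x ∈ H), H ≠ ⊤ → InZStar p (⟨x, hxH⟩ : ↥H))
    (hquot : ∀ (N : Subgroup G) [N.Normal], N ≠ ⊥ → InZStar p (QuotientGroup.mk x : G ⧸ N))
    (N : Subgroup G) [hN : N.Normal] (hne : N ≠ ⊥) : commutator G ≤ N :=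
  hN.commutator_le_of_self_sup_commutative_eq_top
    (sup_zpowers_eq_top hiso hnz hmin hquot N hne) inferInstance

theorem commutator_simple (hx : orderOf x = p) (hiso : IsIsolated x) (hnz : ¬ InZStar p x)
    (hmin : ∀ (H : Subgroup G) (hxH : x ∈ H), H ≠ ⊤ → InZStar p (⟨x, hxH⟩ : ↥H))
    (hquot : ∀ (N : Subgroup G) [N.Normal], N ≠ ⊥ → InZStar p (QuotientGroup.mk x : G ⧸ N)) :
    IsSimpleGroup ↥(commutator G) ∧ ¬ IsMulCommutative ↥(commutator G) ∧
      commutator G ⊔ Subgroup.zpowers x = ⊤ := by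
  set M := commutator G with hM
  have hcore := core_eq_bot hnz hquot
  have hxp : IsPGroup p ↥(Subgroup.zpowers x) :=
    Iso.isPGroup_zpowers ⟨1, by rw [hx, pow_one]⟩
  have hMne : M ≠ ⊥ := fun h => not_mem_center hnz (Subgroup.mem_center_iff.2 fun g => by
    have h1 : g * x * g⁻¹ * x⁻¹ ∈ M := by
      rw [hM, commutator_def]
      exact Subgroup.commutator_mem_commutator (Subgroup.mem_top g) (Subgroup.mem_top x)
    rw [h, Subgroup.mem_bot, mul_inv_eq_one, mul_inv_eq_iff_eq_mul] at h1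
    exact h1)
  have hsup := sup_zpowers_eq_top hiso hnz hmin hquot M hMne
  have hMs : M.IsSubnormal := .step M ⊤ le_top .top inferInstance
  -- a minimal normal subgroup of `M` is all of it
  have key : ∀ A : Subgroup G, Minimal (fun A : Subgroup G => A ≤ M ∧ A ≠ ⊥ ∧
      M ≤ Subgroup.normalizer (A : Set G)) A → A = M := by
    rintro A ⟨⟨hAM, hA, hMA⟩, hAmin⟩
    have hpA : p ∣ Nat.card A := by
      by_contra h
      exact hA (le_bot_iff.1 (hcore ▸ Base.le_pPrimeCore_of_isSubnormal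
        (.step A M hAM hMs (Subgroup.normal_subgroupOf_of_le_normalizer hMA))
        ((Fact.out : p.Prime).coprime_iff_not_dvd.2 h).symm))
    obtain ⟨a, ha⟩ := exists_prime_orderOf_dvd_card' (G := A) p hpA
    rw [← Subgroup.orderOf_coe] at ha
    obtain ⟨R, c, hR, -, hxR, hcR⟩ := Iso.exists_conj_mem (N := (⊤ : Subgroup G))
      ⟨1, by rw [hx, pow_one]⟩ (Subgroup.mem_top x) ⟨1, by rw [ha, pow_one]⟩
      (Subgroup.mem_top (a : G))
    set B := A.map (MulAut.conj c).toMonoidHom with hB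
    have hMB : M ≤ Subgroup.normalizer (B : Set G) := le_normalizer_map_conj hMA c
    have hBM : B ≤ M := by
      rintro _ ⟨y, hy, rfl⟩
      exact (inferInstance : M.Normal).conj_mem y (hAM hy) c
    have hcent : Commute (c * (a : G) * c⁻¹) x :=
      Subgroup.mem_centralizer_singleton_iff.1 (Iso.le_centralizer hiso hR hxR hcR)
    set B' := B.map (MulAut.conj x).toMonoidHom with hB'
    have hMB' : M ≤ Subgroup.normalizer (B' : Set G) := le_normalizer_map_conj hMB x
    have hBB : B ≤ B' := by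
      set A₀ := (B ⊓ B').map (MulAut.conj c⁻¹).toMonoidHom with hA₀
      have hA₀A : A₀ ≤ A := by
        rintro _ ⟨_, ⟨⟨y, hy, rfl⟩, -⟩, rfl⟩
        simpa [mul_assoc] using hy
      have h := hAmin (y := A₀) ⟨hA₀A.trans hAM, ?_, ?_⟩ hA₀A
      · intro b hb
        obtain ⟨y, hy, rfl⟩ := hb
        obtain ⟨w, hw, e⟩ := h hy
        have : w = MulAut.conj c y := by rw [← e]; simp [mul_assoc]
        exact this ▸ hw.2
      · rw [hA₀, Ne, Subgroup.map_eq_bot_iff_of_injective _ (MulAut.conj c⁻¹).injective]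
        intro hbot
        have h1 : c * (a : G) * c⁻¹ ∈ B ⊓ B' := ⟨⟨_, a.2, rfl⟩,
          ⟨c * (a : G) * c⁻¹, ⟨_, a.2, rfl⟩, by
            show MulAut.conj x (c * (a : G) * c⁻¹) = _
            rw [MulAut.conj_apply, ← hcent.eq, mul_inv_cancel_right]⟩⟩
        rw [hbot, Subgroup.mem_bot, conj_eq_one_iff] at h1
        exact (Fact.out : p.Prime).ne_one (by rw [← ha, h1, orderOf_one])
      · exact le_normalizer_map_conj (Coprime.le_normalizer_inf_inf hMB hMB') c⁻¹
    have hxB : x ∈ Subgroup.normalizer (B : Set G) :=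
      Subgroup.mem_normalizer_iff_map_conj_eq.2 (Subgroup.eq_of_le_of_card_ge hBB
        (Subgroup.card_map_of_injective (MulAut.conj x).injective).le).symm
    haveI : B.Normal := Subgroup.normalizer_eq_top_iff.1
      (top_le_iff.1 (hsup ▸ sup_le hMB (Subgroup.zpowers_le.2 hxB)))
    have hBne : B ≠ ⊥ := by
      rw [hB, Ne, Subgroup.map_eq_bot_iff_of_injective _ (MulAut.conj c).injective]
      exact hA
    refine Subgroup.eq_of_le_of_card_ge hAM ?_
    rw [← Subgroup.card_map_of_injective (K := A) (f := (MulAut.conj c).toMonoidHom)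
      (MulAut.conj c).injective]
    exact Subgroup.card_le_of_le (commutator_le hiso hnz hmin hquot B hBne)
  have hsimple : IsSimpleGroup M := by
    haveI : Nontrivial M := (Subgroup.nontrivial_iff_ne_bot M).2 hMne
    refine ⟨fun K hK => or_iff_not_imp_left.2 fun hKne => ?_⟩
    have hKn : M ≤ Subgroup.normalizer ((K.map M.subtype : Subgroup G) : Set G) := fun m hm =>
      Subgroup.le_normalizer_map M.subtype
        ⟨⟨m, hm⟩, (Subgroup.normalizer_eq_top (H := K)).ge (Subgroup.mem_top _), rfl⟩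
    obtain ⟨A, hAK, hA⟩ := Finite.exists_le_minimal (p := fun A : Subgroup G => A ≤ M ∧ A ≠ ⊥ ∧
        M ≤ Subgroup.normalizer (A : Set G)) (a := K.map M.subtype)
      ⟨Subgroup.map_subtype_le K, by rwa [Ne, Subgroup.map_eq_bot_iff_of_injective _
        M.subtype_injective], hKn⟩
    rw [key A hA] at hAK
    refine (Subgroup.eq_top_iff' K).2 fun m => ?_
    obtain ⟨k, hk, e⟩ := hAK m.2
    rwa [← M.subtype_injective e]
  refine ⟨hsimple, fun hab => ?_, hsup⟩
  -- abelian simple of order divisible by `p`: a normal `p`-group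
  haveI := hab
  haveI := hsimple
  have hpM : p ∣ Nat.card M := by
    by_contra h
    exact hMne (le_bot_iff.1 (hcore ▸ Base.le_pPrimeCore
      ((Fact.out : p.Prime).coprime_iff_not_dvd.2 h).symm))
  obtain ⟨a, ha⟩ := exists_prime_orderOf_dvd_card' (G := M) p hpM
  have hMp : IsPGroup p M := by
    rcases hsimple.eq_bot_or_eq_top_of_normal (Subgroup.zpowers a)
      ⟨fun y hy g => by rwa [mul_comm' g y, mul_inv_cancel_right]⟩ with h | h
    · exact absurd (Subgroup.zpowers_eq_bot.1 h) fun h1 =>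
        (Fact.out : p.Prime).ne_one (by rw [← ha, h1, orderOf_one])
    · refine IsPGroup.of_card (n := 1) ?_
      rw [pow_one, ← ha, ← Nat.card_zpowers, h, Subgroup.card_top]
  have hR := IsPGroup.to_sup_of_normal_left hMp hxp
  rw [hsup] at hR
  refine not_mem_center hnz (Subgroup.mem_center_iff.2 fun g => ?_)
  exact Subgroup.mem_centralizer_singleton_iff.1
    (Iso.le_centralizer hiso hR (Subgroup.mem_top x) (Subgroup.mem_top g))

end CfsgLib.LocalEven.IsoMin

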