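import Cfsg.Agent.Lib.LocalEven.Isolated
import Cfsg.Agent.Lib.Components.Basic
import Cfsg.Agent.Lib.Components.FStar
import Cfsg.Agent.Lib.Components.PConstrained
import Cfsg.Agent.Lib.Components.ExtendedLayer
import Cfsg.Agent.Lib.PGroups.MinimalAction
import Cfsg.Agent.Lib.Transfer.Alperin
import Cfsg.Agent.Lib.Base.Rank
import Cfsg.Agent.Lib.Base.Fitting
import Cfsg.Agent.Lib.Base.Cores

/-!
Isolated elements of order `p` in groups of `p`-rank two, `p` odd.
-/

set_option autoImplicit false
set_option linter.style.haveILetI false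
set_option linter.unusedSectionVars false

namespace CfsgLib.LocalEven.IsoRankTwo

open Cfsg

variable {G : Type*} [Group G] [Finite G] {p : ℕ} [hp : Fact p.Prime]

/-- For odd `p`, a `p'`-element fixing all elements of order `p` of a `p`-group centralises it. -/
theorem le_centralizer_of_fix (hp2 : p ≠ 2) (Q : Subgroup G) (hQ : IsPGroup p Q) {g : G}
    (hg : g ∈ Subgroup.normalizer (Q : Set G)) (hcop : (orderOf g).Coprime p)
    (hfix : ∀ u ∈ Q, u ^ p = 1 → g * u * g⁻¹ = u) : g ∈ Subgroup.centralizer (Q : Set G) := by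
  set A := Subgroup.zpowers g with hA
  suffices h : ∀ U : Subgroup G, U ≤ Q → A ≤ Subgroup.normalizer (U : Set G) → ⁅U, A⁆ = ⊥ by
    exact Subgroup.le_centralizer_iff.1 (Subgroup.commutator_eq_bot_iff_le_centralizer.1
      (h Q le_rfl (Subgroup.zpowers_le.2 hg))) (Subgroup.mem_zpowers g)
  intro U
  induction U using WellFoundedLT.induction with
  | _ U ih =>
    intro hUQ hAU
    by_contra hne
    obtain ⟨-, -, -, hexp⟩ := PGroups.minimal_action A A U (hQ.to_le hUQ) hAU le_rfl
      Subgroup.le_normalizer (by rwa [hA, Nat.card_zpowers]) hne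
      (fun V hV hAV => ih V hV (hV.le.trans hUQ) hAV)
    refine hne (Subgroup.commutator_eq_bot_iff_le_centralizer.2 (Subgroup.le_centralizer_iff.1
      (Subgroup.zpowers_le.2 (Subgroup.mem_centralizer_iff.2 fun u hu => ?_))))
    exact (mul_inv_eq_iff_eq_mul.1 (hfix u (hUQ hu) (hexp hp2 u hu))).symm

/-- For odd `p`: if no element of order `p` of a Sylow subgroup is fused to another one of it, there
is a normal `p`-complement. -/
theorem hasNormalPComplement_of_fix (hp2 : p ≠ 2) (P : Sylow p G)
    (h : ∀ u ∈ (P : Subgroup G), u ^ p = 1 → ∀ g : G, g * u * g⁻¹ ∈ (P : Subgroup G) →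
      g * u * g⁻¹ = u) : HasNormalPComplement p G := by
  refine (Transfer.hasNormalPComplement_iff_forall_centralizing P).2 fun Q hQ g hg hcop => ?_
  refine le_centralizer_of_fix hp2 Q (P.2.to_le hQ) hg hcop fun u hu hup => ?_
  exact h u (hQ hu) hup g (hQ ((Subgroup.mem_normalizer_iff.1 hg u).1 hu))

theorem dvd_card_component (hcore : pPrimeCore p G = ⊥) {L : Subgroup G} (hL : IsComponent L) :
    p ∣ Nat.card L := by
  by_contra h
  exact Components.component_ne_bot hL (le_bot_iff.1 (hcore ▸
    Base.le_pPrimeCore_of_isSubnormal hL.1 (hp.out.coprime_iff_not_dvd.2 h).symm))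

theorem exists_mem_sylow_component (hcore : pPrimeCore p G = ⊥) (P : Sylow p G) {L : Subgroup G}
    (hL : IsComponent L) : ∃ u ∈ (P : Subgroup G), u ∈ L ∧ orderOf u = p := by
  have hd : p ∣ Nat.card ↥(L ⊓ (P : Subgroup G)) := by
    by_contra h
    have h1 := Components.not_dvd_relIndex_of_isSubnormal P hL.1
    rw [← Subgroup.inf_relIndex_left] at h1
    have h2 : (⊥ : Subgroup G).relIndex (L ⊓ (P : Subgroup G)) *
        (L ⊓ (P : Subgroup G)).relIndex L = (⊥ : Subgroup G).relIndex L :=
      Subgroup.relIndex_mul_relIndex _ _ _ bot_le inf_le_left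
    rw [Subgroup.relIndex_bot_left, Subgroup.relIndex_bot_left] at h2
    exact (hp.out.dvd_mul.1 (h2 ▸ dvd_card_component hcore hL)).elim h h1
  obtain ⟨u, hu⟩ := exists_prime_orderOf_dvd_card' (G := ↥(L ⊓ (P : Subgroup G))) p hd
  exact ⟨u, u.2.2, u.2.1, by rw [Subgroup.orderOf_coe, hu]⟩

/-- No element of order `p` centralising a component is independent of `x`. -/
theorem component_contra (hp2 : p ≠ 2) (hcore : pPrimeCore p G = ⊥) (hrank : PRankLE p 2 G)
    {x : G} (hx : orderOf x = p) (hiso : IsIsolated x) (P : Sylow p G)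
    (hxP : x ∈ (P : Subgroup G)) {L : Subgroup G} (hL : IsComponent L) {z : G}
    (hz : z ^ p = 1) (hzx : Commute z x) (hzL : ∀ l ∈ L, Commute z l)
    (hzone : orderOf z ≠ 1) (hxz : x ∉ Subgroup.zpowers z) : False := by
  have hPC := Iso.le_centralizer hiso P.2 hxP
  have hxp : x ^ p = 1 := by rw [← hx, pow_orderOf_eq_one]
  set E := Subgroup.zpowers x ⊔ Subgroup.zpowers z with hE
  have hxzc : Subgroup.zpowers x ≤ Subgroup.centralizer (Subgroup.zpowers z : Set G) := by
    rw [Subgroup.zpowers_le, Subgroup.mem_centralizer_iff]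
    rintro _ ⟨i, rfl⟩
    exact (hzx.zpow_left i).eq
  have hEe : IsElementaryAbelian p E := Base.isElementaryAbelian_sup
    (Base.isElementaryAbelian_zpowers hxp) (Base.isElementaryAbelian_zpowers hz) hxzc
  have hE2 : p ^ 2 ≤ Nat.card E := by
    obtain ⟨n, hn⟩ := Base.exists_card_eq_pow_of_isElementaryAbelian hEe
    rw [hn]
    refine Nat.pow_le_pow_right hp.out.pos ?_
    by_contra hlt
    have hle : Nat.card E ≤ Nat.card (Subgroup.zpowers x) := by
      rw [hn, Nat.card_zpowers, hx]
      calc p ^ n ≤ p ^ 1 := Nat.pow_le_pow_right hp.out.pos (by omega)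
        _ = p := pow_one p
    have hEx : Subgroup.zpowers x = E := Subgroup.eq_of_le_of_card_ge le_sup_left hle
    have hzE : z ∈ Subgroup.zpowers x :=
      hEx ▸ le_sup_right (a := Subgroup.zpowers x) (Subgroup.mem_zpowers z)
    rcases (Nat.dvd_prime hp.out).1 (orderOf_dvd_of_pow_eq_one hz) with h1 | h1
    · exact hzone h1
    · refine hxz ?_
      have h2 : Subgroup.zpowers z = Subgroup.zpowers x :=
        Subgroup.eq_of_le_of_card_ge (Subgroup.zpowers_le.2 hzE)
          (by rw [Nat.card_zpowers, Nat.card_zpowers, hx, h1])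
      exact h2 ▸ Subgroup.mem_zpowers x
  have key : ∀ u ∈ (P : Subgroup G), u ∈ L → u ^ p = 1 →
      ∃ i : ℤ, ∃ w : G, (∀ l ∈ L, Commute w l) ∧ Commute w x ∧ u = x ^ i * w := by
    intro u huP huL hup
    have hux : Commute u x := Subgroup.mem_centralizer_singleton_iff.1 (hPC huP)
    have hEu : E ≤ Subgroup.centralizer (Subgroup.zpowers u : Set G) := by
      refine sup_le ?_ ?_ <;> rw [Subgroup.zpowers_le, Subgroup.mem_centralizer_iff] <;>
        rintro _ ⟨i, rfl⟩
      · exact (hux.zpow_left i).eq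
      · exact ((hzL u huL).symm.zpow_left i).eq
    have hE3 := Base.isElementaryAbelian_sup hEe (Base.isElementaryAbelian_zpowers hup) hEu
    have heq : E = E ⊔ Subgroup.zpowers u :=
      Subgroup.eq_of_le_of_card_ge le_sup_left ((hrank _ hE3.1 hE3.2).trans hE2)
    have huE : u ∈ E := heq ▸ le_sup_right (a := E) (Subgroup.mem_zpowers u)
    obtain ⟨_, ⟨i, rfl⟩, _, ⟨j, rfl⟩, rfl⟩ := (Coprime.mem_sup_iff_of_le_normalizer
      (hxzc.trans (Subgroup.centralizer_le_normalizer _))).1 huE
    exact ⟨i, z ^ j, fun l hl => (hzL l hl).zpow_left j, hzx.zpow_left j, rfl⟩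
  obtain ⟨PL, hPL⟩ : ∃ PL : Sylow p L,
      (PL : Subgroup L) = (P : Subgroup G).subgroupOf L := by
    have hd := Components.not_dvd_relIndex_of_isSubnormal P hL.1
    exact ⟨(P.2.comap_subtype (K := L)).toSylow hd, rfl⟩
  have hpc : HasNormalPComplement p L := by
    refine hasNormalPComplement_of_fix hp2 PL fun u hu hup g hgu => ?_
    rw [hPL, Subgroup.mem_subgroupOf] at hu hgu
    obtain ⟨i, w, hwL, hwx, huw⟩ := key u hu u.2 (by simpa using congrArg Subtype.val hup)
    refine Subtype.ext ?_
    show (g : G) * u * (g : G)⁻¹ = u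
    have hgw : (g : G) * w * (g : G)⁻¹ = w := mul_inv_eq_iff_eq_mul.2 (hwL g g.2).symm.eq
    suffices h : (g : G) * x ^ i * (g : G)⁻¹ = x ^ i by
      calc (g : G) * u * (g : G)⁻¹ = ((g : G) * x ^ i * (g : G)⁻¹) * ((g : G) * w * (g : G)⁻¹) := by
            rw [huw]; group
        _ = u := by rw [h, hgw, huw]
    have hcomm : Commute x ((g : G) * x ^ i * (g : G)⁻¹) := by
      have e : (g : G) * x ^ i * (g : G)⁻¹ = ((g : G) * u * (g : G)⁻¹) * w⁻¹ := by
        calc (g : G) * x ^ i * (g : G)⁻¹ =
              ((g : G) * x ^ i * w * (g : G)⁻¹) * ((g : G) * w * (g : G)⁻¹)⁻¹ := by group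
          _ = ((g : G) * u * (g : G)⁻¹) * w⁻¹ := by rw [hgw, huw]; group
      rw [e]
      exact Commute.mul_right
        (Subgroup.mem_centralizer_singleton_iff.1 (hPC hgu) : Commute _ x).symm hwx.symm.inv_right
    by_cases hi : (p : ℤ) ∣ i
    · have : x ^ i = 1 := orderOf_dvd_iff_zpow_eq_one.1 (by rw [hx]; exact hi)
      rw [this, mul_one, mul_inv_cancel]
    · obtain ⟨a, b, hab⟩ := ((Nat.prime_iff_prime_int.1 hp.out).coprime_iff_not_dvd.2 hi).symm
      have hxa : (x ^ i) ^ a = x := by
        rw [← zpow_mul, show i * a = 1 - b * (p : ℤ) by linarith, zpow_sub, zpow_one, mul_comm b,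
          zpow_mul, zpow_natCast, hxp, one_zpow, inv_one, mul_one]
      have hc2 := hcomm.zpow_right a
      rw [conj_zpow, hxa] at hc2
      rw [← conj_zpow, hiso _ hc2]
  obtain ⟨Q, N, hN, hNQ⟩ := hpc
  haveI := hN
  rcases Components.quasisimple_normal_eq_top_or_le_center hL.2 N with h | h
  · have hd := dvd_card_component hcore hL
    have h1 : (Q : Subgroup L) = ⊥ := by
      have := hNQ.disjoint
      rwa [h, top_disjoint] at this
    exact Q.not_dvd_index (h1 ▸ by rwa [Subgroup.index_bot])
  · have hQn : Group.IsNilpotent ↥(Q : Subgroup L) := Q.2.isNilpotent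
    have hn : Group.IsNilpotent (L ⧸ N) :=
      Group.nilpotent_of_mulEquiv hNQ.symm.QuotientMulEquiv.symm
    exact Components.quasisimple_not_isNilpotent hL.2
      (Subgroup.isNilpotent_of_ker_le_center (QuotientGroup.mk' N)
        (by rwa [QuotientGroup.ker_mk']))

/-- The generalized Fitting subgroup is simple. -/
theorem fstar_simple (hp2 : p ≠ 2) (hcore : pPrimeCore p G = ⊥) (hrank : PRankLE p 2 G)
    {x : G} (hx : orderOf x = p) (hiso : IsIsolated x) (hnc : x ∉ Subgroup.center G) :
    IsSimpleGroup ↥(generalizedFittingSubgroup G) ∧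
      ¬ IsMulCommutative ↥(generalizedFittingSubgroup G) := by
  have hxp : IsPGroup p ↥(Subgroup.zpowers x) :=
    Iso.isPGroup_zpowers ⟨1, by rw [hx, pow_one]⟩
  obtain ⟨P, hP⟩ := hxp.exists_le_sylow
  have hxP : x ∈ (P : Subgroup G) := hP (Subgroup.mem_zpowers x)
  have hxpow : x ^ p = 1 := by rw [← hx, pow_orderOf_eq_one]
  have hxQ : x ∉ pCore p G := by
    intro h
    refine hnc (Subgroup.mem_center_iff.2 fun g => mul_inv_eq_iff_eq_mul.1 ?_)
    have h1 := Iso.eq_of_mem hiso (Base.isPGroup_pCore p G) g 1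
      ((pCore_normal p G).conj_mem x h g) (by simpa using h)
    simpa using h1
  have hxcomm : ∀ q ∈ pCore p G, Commute q x := fun q hq =>
    Subgroup.mem_centralizer_singleton_iff.1 (Iso.le_centralizer hiso P.2 hxP
      (Base.pCore_le_sylow P hq))
  have hcQ : x ∈ Subgroup.centralizer (pCore p G : Set G) :=
    Subgroup.mem_centralizer_iff.2 fun q hq => (hxcomm q hq).eq
  obtain ⟨L, hL⟩ : ∃ L : Subgroup G, IsComponent L := by
    rw [← Components.layer_ne_bot_iff]
    intro h
    exact hxQ ((Components.centralizer_pCore_le_iff_layer hcore).2 h hcQ)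
  -- trivial `O_p`
  have hQ : pCore p G = ⊥ := by
    by_contra hne
    obtain ⟨z, hz⟩ := exists_prime_orderOf_dvd_card' (G := ↥(pCore p G)) p (by
      obtain ⟨n, hn⟩ := Base.pCore_eq_pow_card p G
      rcases n with _ | n
      · exact absurd (Subgroup.card_eq_one.1 (by rw [hn, pow_zero])) hne
      · exact hn ▸ dvd_pow_self p n.succ_ne_zero)
    rw [← Subgroup.orderOf_coe] at hz
    refine component_contra hp2 hcore hrank hx hiso P hxP hL
      (z := (z : G)) (orderOf_dvd_iff_pow_eq_one.1 (dvd_of_eq hz)) (hxcomm z z.2) (fun l hl => ?_) (by rw [hz]; exact hp.out.ne_one) fun h => ?_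
    · have := Components.component_le_centralizer_fitting hL hl
      exact Subgroup.mem_centralizer_iff.1 this z (Base.pCore_le_fittingSubgroup p G z.2)
    · exact hxQ (Subgroup.zpowers_le.2 z.2 h)
  have hFQ := Components.fitting_eq_pCore_of_pPrimeCore_eq_bot hcore
  have huniq : ∀ M : Subgroup G, IsComponent M → M = L := by
    intro M hM
    by_contra hne
    have hcomm := Subgroup.commutator_eq_bot_iff_le_centralizer.1 (Components.components_commute hM hL hne)
    obtain ⟨v, hvP, hvM, hv⟩ := exists_mem_sylow_component hcore P hM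
    obtain ⟨u, huP, huL, hu⟩ := exists_mem_sylow_component hcore P hL
    have hvx : Commute v x :=
      Subgroup.mem_centralizer_singleton_iff.1 (Iso.le_centralizer hiso P.2 hxP hvP)
    have hux : Commute u x :=
      Subgroup.mem_centralizer_singleton_iff.1 (Iso.le_centralizer hiso P.2 hxP huP)
    by_cases hxM : x ∈ Subgroup.zpowers v
    · refine component_contra hp2 hcore hrank hx hiso P hxP hM
        (z := u) (by rw [← hu, pow_orderOf_eq_one]) hux
        (fun m hm => Subgroup.mem_centralizer_iff.1 (hcomm hm) u huL)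
        (by rw [hu]; exact hp.out.ne_one) fun hxL => ?_
      have hxM' : x ∈ M := Subgroup.zpowers_le.2 hvM hxM
      have hxL' : x ∈ L := Subgroup.zpowers_le.2 huL hxL
      -- `⟨x⟩` is central in `L`, so subnormal
      have hn : ((Subgroup.zpowers x).subgroupOf L).Normal := ⟨fun w hw g => by
        rw [Subgroup.mem_subgroupOf] at hw ⊢
        have hwM : (w : G) ∈ M := Subgroup.zpowers_le.2 hxM' hw
        have hwg := Subgroup.mem_centralizer_iff.1 (hcomm hwM) (g : G) g.2
        show (g : G) * w * (g : G)⁻¹ ∈ _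
        rwa [hwg, mul_inv_cancel_right]⟩
      exact hxQ (Base.le_pCore_of_isSubnormal
        (.step _ L (Subgroup.zpowers_le.2 hxL') hL.1 hn) hxp (Subgroup.mem_zpowers x))
    · exact component_contra hp2 hcore hrank hx hiso P hxP hL
        (z := v) (by rw [← hv, pow_orderOf_eq_one]) hvx
        (fun l hl => (Subgroup.mem_centralizer_iff.1 (hcomm hvM) l hl).symm)
        (by rw [hv]; exact hp.out.ne_one) hxM
  have hF : generalizedFittingSubgroup G = L := by
    rw [generalizedFittingSubgroup, hFQ, hQ, sup_bot_eq]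
    exact le_antisymm (Components.layer_le_iff.2 fun K hK => (huniq K hK).le)
      (Components.component_le_layer hL)
  have hZ : Subgroup.center L = ⊥ := by
    rw [← Subgroup.map_eq_bot_iff_of_injective _ L.subtype_injective]
    refine le_bot_iff.1 (le_trans (le_trans ?_ (Base.map_fittingSubgroup_le_of_isSubnormal hL.1))
      (hFQ.trans hQ).le)
    exact Subgroup.map_mono (Base.center_le_fittingSubgroup L)
  rw [hF]
  haveI := hL.2.2
  let e := (QuotientGroup.quotientMulEquivOfEq hZ).trans (QuotientGroup.quotientBot (G := L))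
  haveI : Nontrivial L := Components.quasisimple_nontrivial hL.2
  exact ⟨IsSimpleGroup.isSimpleGroup_of_surjective e.toMonoidHom e.surjective,
    Components.quasisimple_not_isMulCommutative hL.2⟩

end CfsgLib.LocalEven.IsoRankTwo
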