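import Mathlib
import Cfsg.Prelude.Def_IsolatedElements
import Cfsg.Prelude.Def_TwoFusion
import Cfsg.Prelude.Def_Transfer

/-!
Elementary properties of isolated `p`-elements.
-/

set_option autoImplicit false

namespace CfsgLib.LocalEven.Iso

variable {G : Type*} [Group G] [Finite G] {p : ℕ} [Fact p.Prime] {x : G}

theorem isPGroup_zpowers (hx : ∃ k : ℕ, orderOf x = p ^ k) : IsPGroup p (Subgroup.zpowers x) := by
  obtain ⟨k, hk⟩ := hx
  exact IsPGroup.of_card (n := k) (by rw [Nat.card_zpowers, hk])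

omit [Finite G] [Fact p.Prime] in
theorem iso_conj (hiso : Cfsg.IsIsolated x) (g h : G)
    (hc : Commute (g * x * g⁻¹) (h * x * h⁻¹)) : g * x * g⁻¹ = h * x * h⁻¹ := by
  have hc' : Commute x ((g⁻¹ * h) * x * (g⁻¹ * h)⁻¹) := by
    have h2 := hc.map (MulAut.conj g⁻¹)
    simp only [MulAut.conj_apply, inv_inv, mul_assoc, inv_mul_cancel_left, inv_mul_cancel,
      mul_one, mul_inv_rev] at h2 ⊢
    exact h2
  have h3 := hiso _ hc'
  calc g * x * g⁻¹ = g * ((g⁻¹ * h) * x * (g⁻¹ * h)⁻¹) * g⁻¹ := by rw [h3]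
    _ = h * x * h⁻¹ := by group

/-- A `p`-group containing an isolated element centralizes it. -/
theorem le_centralizer (hiso : Cfsg.IsIsolated x) {R : Subgroup G} (hR : IsPGroup p R)
    (hxR : x ∈ R) : R ≤ Subgroup.centralizer ({x} : Set G) := by
  set C := (Subgroup.centralizer ({x} : Set G)).subgroupOf R with hC
  have : Group.IsNilpotent R := hR.isNilpotent
  by_contra hle
  have hlt : C < ⊤ := lt_top_iff_ne_top.2 fun h => hle (Subgroup.subgroupOf_eq_top.1 h)
  obtain ⟨n, hn, hnC⟩ := SetLike.exists_of_lt (Group.normalizerCondition_of_isNilpotent C hlt)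
  refine hnC ?_
  have hxC : (⟨x, hxR⟩ : R) ∈ C := Subgroup.mem_centralizer_singleton_iff.2 rfl
  have h1 := Subgroup.mem_centralizer_singleton_iff.1 ((Subgroup.mem_normalizer_iff.1 hn _).1 hxC)
  have h2 : (n : G) * x * (n : G)⁻¹ = x := hiso n (Eq.symm h1)
  exact Subgroup.mem_centralizer_singleton_iff.2 (mul_inv_eq_iff_eq_mul.1 h2)

/-- Two conjugates of an isolated element in a common `p`-subgroup are equal. -/
theorem eq_of_mem (hiso : Cfsg.IsIsolated x) {R : Subgroup G} (hR : IsPGroup p R) (g h : G)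
    (hg : g * x * g⁻¹ ∈ R) (hh : h * x * h⁻¹ ∈ R) : g * x * g⁻¹ = h * x * h⁻¹ := by
  refine iso_conj hiso g h ?_
  have hiso' : Cfsg.IsIsolated (g * x * g⁻¹) := by
    intro k hk
    have e : k * (g * x * g⁻¹) * k⁻¹ = (k * g) * x * (k * g)⁻¹ := by group
    rw [e] at hk ⊢
    exact (iso_conj hiso g (k * g) hk).symm
  exact (Subgroup.mem_centralizer_singleton_iff.1 (le_centralizer hiso' hR hg hh)).symm

theorem central_sylow (hiso : Cfsg.IsIsolated x) (P : Sylow p G) (hxP : x ∈ (P : Subgroup G)) :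
    x ∈ (P : Subgroup G) ⊓ Subgroup.centralizer ((P : Subgroup G) : Set G) :=
  ⟨hxP, fun y hy => Subgroup.mem_centralizer_singleton_iff.1 (le_centralizer hiso P.2 hxP hy)⟩

/-- In a subgroup `N` every `p`-group is moved onto one containing `x`. -/
theorem exists_conj_mem {N : Subgroup G} {y : G} (hx : ∃ k : ℕ, orderOf x = p ^ k) (hxN : x ∈ N)
    (hy : ∃ k : ℕ, orderOf y = p ^ k) (hyN : y ∈ N) :
    ∃ (R : Subgroup G) (c : G), IsPGroup p R ∧ c ∈ N ∧ x ∈ R ∧ c * y * c⁻¹ ∈ R := by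
  obtain ⟨P, hP⟩ := ((isPGroup_zpowers hx).comap_subtype (K := N)).exists_le_sylow
  obtain ⟨Q, hQ⟩ := ((isPGroup_zpowers hy).comap_subtype (K := N)).exists_le_sylow
  obtain ⟨c, hc⟩ := MulAction.exists_smul_eq N Q P
  refine ⟨(P : Subgroup N).map N.subtype, c, P.2.map _, c.2,
    ⟨⟨x, hxN⟩, hP (Subgroup.mem_zpowers x), rfl⟩, ⟨c * ⟨y, hyN⟩ * c⁻¹, ?_, rfl⟩⟩
  rw [← hc]
  exact ⟨⟨y, hyN⟩, hQ (Subgroup.mem_zpowers y), rfl⟩

theorem orderOf_conj_pow (hx : ∃ k : ℕ, orderOf x = p ^ k) (g : G) :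
    ∃ k : ℕ, orderOf (g * x * g⁻¹) = p ^ k := by
  obtain ⟨k, hk⟩ := hx
  exact ⟨k, by rw [← hk]; exact orderOf_injective (MulAut.conj g).toMonoidHom (MulAut.conj g).injective x⟩

theorem closed (hx : ∃ k : ℕ, orderOf x = p ^ k) (hiso : Cfsg.IsIsolated x) (P : Sylow p G)
    (hxP : x ∈ (P : Subgroup G)) :
    Cfsg.IsStronglyClosed (Subgroup.zpowers x) (P : Subgroup G) ∧
      Cfsg.IsWeaklyClosed (Subgroup.zpowers x) (P : Subgroup G) := by
  have hle : Subgroup.zpowers x ≤ (P : Subgroup G) := Subgroup.zpowers_le.2 hxP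
  have hcen := le_centralizer hiso P.2 hxP
  refine ⟨⟨hle, fun w hw g hg => ?_⟩, hle, fun g hg => ?_⟩
  · set C := Subgroup.centralizer ({g * w * g⁻¹} : Set G) with hC
    have hxC : x ∈ C := Subgroup.mem_centralizer_singleton_iff.2
      (Subgroup.mem_centralizer_singleton_iff.1 (hcen hg)).symm
    obtain ⟨n, rfl⟩ := Subgroup.mem_zpowers_iff.1 hw
    have hyC : g * x * g⁻¹ ∈ C := Subgroup.mem_centralizer_singleton_iff.2
      (((Commute.refl x).zpow_right n).map (MulAut.conj g)).eq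
    obtain ⟨R, c, hR, hcC, hxR, hcR⟩ := exists_conj_mem hx hxC (orderOf_conj_pow hx g) hyC
    have h1 : c * (g * x * g⁻¹) * c⁻¹ = x := by
      have e : c * (g * x * g⁻¹) * c⁻¹ = (c * g) * x * (c * g)⁻¹ := by group
      rw [e] at hcR ⊢
      have := eq_of_mem hiso hR (c * g) 1 hcR (by simpa using hxR)
      simpa using this
    have h2 : c * (g * x ^ n * g⁻¹) * c⁻¹ = g * x ^ n * g⁻¹ :=
      mul_inv_eq_iff_eq_mul.2 (Subgroup.mem_centralizer_singleton_iff.1 hcC)
    rw [← h2, ← conj_zpow (a := g), ← conj_zpow (a := c), h1]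
    exact Subgroup.zpow_mem_zpowers x n
  · have h1 : g * x * g⁻¹ ∈ (P : Subgroup G) := hg ⟨x, Subgroup.mem_zpowers x, rfl⟩
    have h2 := eq_of_mem hiso P.2 g 1 h1 (by simpa using hxP)
    rw [MonoidHom.map_zpowers]
    congr 1
    simpa using h2

theorem normalizer_le (hiso : Cfsg.IsIsolated x) (R : Subgroup G) (hR : IsPGroup p R)
    (hxR : x ∈ R) :
    Subgroup.normalizer (R : Set G) ≤ Subgroup.centralizer ({x} : Set G) := fun n hn => by
  have h := eq_of_mem hiso hR n 1 ((Subgroup.mem_normalizer_iff.1 hn x).1 hxR) (by simpa using hxR)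
  simp only [one_mul, inv_one, mul_one] at h
  exact Subgroup.mem_centralizer_singleton_iff.2 (mul_inv_eq_iff_eq_mul.1 h)

theorem frattini (hx : ∃ k : ℕ, orderOf x = p ^ k) (hiso : Cfsg.IsIsolated x) (H N : Subgroup G)
    (hNH : N ≤ H) (hHN : H ≤ Subgroup.normalizer (N : Set G)) (hxN : x ∈ N) :
    N ⊔ (H ⊓ Subgroup.centralizer ({x} : Set G)) = H := by
  refine le_antisymm (sup_le hNH inf_le_left) fun h hh => ?_
  have hyN : h * x * h⁻¹ ∈ N := (Subgroup.mem_normalizer_iff.1 (hHN hh) x).1 hxN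
  obtain ⟨R, c, hR, hcN, hxR, hcR⟩ := exists_conj_mem hx hxN (orderOf_conj_pow hx h) hyN
  have e : c * (h * x * h⁻¹) * c⁻¹ = (c * h) * x * (c * h)⁻¹ := by group
  rw [e] at hcR
  have h1 := eq_of_mem hiso hR (c * h) 1 hcR (by simpa using hxR)
  simp only [one_mul, inv_one, mul_one] at h1
  have hmem : c * h ∈ H ⊓ Subgroup.centralizer ({x} : Set G) :=
    ⟨mul_mem (hNH hcN) hh, Subgroup.mem_centralizer_singleton_iff.2 (mul_inv_eq_iff_eq_mul.1 h1)⟩
  simpa using mul_mem (le_sup_left (b := H ⊓ Subgroup.centralizer ({x} : Set G)) (inv_mem hcN))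
    (le_sup_right (a := N) hmem)

theorem quotient (hx : ∃ k : ℕ, orderOf x = p ^ k) (hiso : Cfsg.IsIsolated x) (N : Subgroup G)
    [N.Normal] : Cfsg.IsIsolated (QuotientGroup.mk x : G ⧸ N) := by
  intro g hg
  obtain ⟨g, rfl⟩ := QuotientGroup.mk_surjective g
  set π := QuotientGroup.mk' N
  change Commute (π x) (π g * π x * (π g)⁻¹) at hg
  show π g * π x * (π g)⁻¹ = π x
  set H := (Subgroup.zpowers (π x) ⊔ Subgroup.zpowers (π g * π x * (π g)⁻¹)).comap π with hH
  have hxH : x ∈ H := le_sup_left (b := Subgroup.zpowers _) (Subgroup.mem_zpowers (π x))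
  have hyH : g * x * g⁻¹ ∈ H := by
    rw [hH, Subgroup.mem_comap, map_mul, map_mul, map_inv]
    exact le_sup_right (a := Subgroup.zpowers _) (Subgroup.mem_zpowers _)
  obtain ⟨R, c, hR, hcH, hxR, hcR⟩ := exists_conj_mem hx hxH (orderOf_conj_pow hx g) hyH
  have e : c * (g * x * g⁻¹) * c⁻¹ = (c * g) * x * (c * g)⁻¹ := by group
  rw [e] at hcR
  have h1 := eq_of_mem hiso hR (c * g) 1 hcR (by simpa using hxR)
  simp only [one_mul, inv_one, mul_one] at h1
  rw [← e] at h1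
  have hab : Subgroup.zpowers (π x) ⊔ Subgroup.zpowers (π g * π x * (π g)⁻¹) ≤
      Subgroup.centralizer ({π g * π x * (π g)⁻¹} : Set (G ⧸ N)) :=
    sup_le (Subgroup.zpowers_le.2 (Subgroup.mem_centralizer_singleton_iff.2 hg.eq))
      (Subgroup.zpowers_le.2 (Subgroup.mem_centralizer_singleton_iff.2 rfl))
  have hc : π c * (π g * π x * (π g)⁻¹) = π g * π x * (π g)⁻¹ * π c :=
    Subgroup.mem_centralizer_singleton_iff.1 (hab hcH)
  have h2 := congrArg π h1
  simp only [map_mul, map_inv] at h2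
  rw [hc, mul_inv_cancel_right] at h2
  exact h2

theorem normalPComplement_of_cyclic (hiso : Cfsg.IsIsolated x) (hx1 : x ≠ 1) (P : Sylow p G)
    (hxP : x ∈ (P : Subgroup G)) (hcyc : IsCyclic ↥(P : Subgroup G)) :
    Cfsg.HasNormalPComplement p G := by
  set N := Subgroup.normalizer ((P : Subgroup G) : Set G) with hN
  have hle : N ≤ Subgroup.centralizer ((P : Subgroup G) : Set G) := by
    intro n hn
    have hnx : n * x = x * n :=
      Subgroup.mem_centralizer_singleton_iff.1 (normalizer_le hiso _ P.2 hxP hn)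
    obtain ⟨y, hy⟩ := IsCyclic.exists_generator (α := ↥(P : Subgroup G))
    set q := orderOf n with hq
    obtain ⟨a, b, hb, hab⟩ := Nat.exists_eq_pow_mul_and_not_dvd (orderOf_pos n).ne' p
      (Fact.out : p.Prime).ne_one
    -- the `p`-part lies in `P`
    have hPn : ∀ m : G, m ∈ N → ∀ k, m ^ p ^ k = 1 → m ∈ (P : Subgroup G) := by
      intro m hm k hk
      have hz : IsPGroup p (Subgroup.zpowers m) := by
        obtain ⟨i, -, hi⟩ := (Nat.dvd_prime_pow (Fact.out : p.Prime)).1 (orderOf_dvd_of_pow_eq_one hk)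
        exact isPGroup_zpowers ⟨i, hi⟩
      have h1 := IsPGroup.inf_normalizer_sylow hz P
      exact (h1.le ⟨Subgroup.mem_zpowers m, hm⟩).2
    have hP : ∀ m : G, m ∈ (P : Subgroup G) → m ∈ Subgroup.centralizer ((P : Subgroup G) : Set G) := by
      intro m hm z hz
      obtain ⟨i, hi⟩ := Subgroup.mem_zpowers_iff.1 (hy ⟨m, hm⟩)
      obtain ⟨j, hj⟩ := Subgroup.mem_zpowers_iff.1 (hy ⟨z, hz⟩)
      have := ((Commute.refl y).zpow_zpow j i).eq
      rw [hi, hj] at this
      exact congrArg Subtype.val this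
    have hu : n ^ b ∈ Subgroup.centralizer ((P : Subgroup G) : Set G) := by
      refine hP _ (hPn _ (pow_mem hn b) a ?_)
      rw [← pow_mul, mul_comm, ← hab, pow_orderOf_eq_one]
    -- conjugation by `n` is a power map
    obtain ⟨m, hm⟩ := Subgroup.mem_zpowers_iff.1
      (hy ⟨n * y * n⁻¹, (Subgroup.mem_normalizer_iff.1 hn y).1 y.2⟩)
    replace hm : (y : G) ^ m = n * y * n⁻¹ := congrArg Subtype.val hm
    have hiter : ∀ k : ℕ, n ^ k * y * (n ^ k)⁻¹ = (y : G) ^ (m ^ k) := by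
      intro k
      induction k with
      | zero => simp
      | succ k ih =>
        rw [pow_succ', pow_succ']
        calc n * n ^ k * y * (n * n ^ k)⁻¹ = n * (n ^ k * y * (n ^ k)⁻¹) * n⁻¹ := by group
          _ = n * (y : G) ^ (m ^ k) * n⁻¹ := by rw [ih]
          _ = (y : G) ^ (m * m ^ k) := by rw [← conj_zpow, ← hm, ← zpow_mul]
    obtain ⟨e, he⟩ := IsPGroup.iff_orderOf.1 P.2 y
    have he' : orderOf (y : G) = p ^ e := by rw [Subgroup.orderOf_coe, he]
    have hp1 : (p : ℤ) ∣ m - 1 := by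
      obtain ⟨i, hi⟩ := Subgroup.mem_zpowers_iff.1 (hy ⟨x, hxP⟩)
      replace hi : (y : G) ^ i = x := congrArg Subtype.val hi
      have h1 : (y : G) ^ (m * i) = (y : G) ^ i := by
        rw [zpow_mul, hm, conj_zpow, hi, hnx, mul_inv_cancel_right]
      have h2 : ((p ^ e : ℕ) : ℤ) ∣ (m - 1) * i := by
        rw [← he', sub_mul, one_mul, orderOf_dvd_iff_zpow_eq_one, zpow_sub, h1, mul_inv_cancel]
      by_contra hnd
      have hco : IsCoprime ((p ^ e : ℕ) : ℤ) (m - 1) := by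
        push_cast
        exact ((Nat.prime_iff_prime_int.1 (Fact.out : p.Prime)).coprime_iff_not_dvd.2 hnd).pow_left
      refine hx1 ?_
      rw [← hi, ← orderOf_dvd_iff_zpow_eq_one, he']
      exact hco.dvd_of_dvd_mul_left h2
    have hv : n ^ p ^ e ∈ Subgroup.centralizer ((P : Subgroup G) : Set G) := by
      have hfix : n ^ p ^ e * (y : G) * (n ^ p ^ e)⁻¹ = y := by
        rw [hiter]
        conv_rhs => rw [← zpow_one (y : G)]
        rw [← mul_inv_eq_one, ← zpow_sub, ← orderOf_dvd_iff_zpow_eq_one, he']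
        have h := dvd_sub_pow_of_dvd_sub (R := ℤ) hp1 e
        rw [one_pow] at h
        push_cast
        exact (pow_dvd_pow _ (Nat.le_succ e)).trans h
      intro z hz
      obtain ⟨i, hi⟩ := Subgroup.mem_zpowers_iff.1 (hy ⟨z, hz⟩)
      have hi' : (y : G) ^ i = z := congrArg Subtype.val hi
      rw [← hi']
      exact ((show Commute (n ^ p ^ e) (y : G) from mul_inv_eq_iff_eq_mul.1 hfix).zpow_right i).eq.symm
    have hco : Nat.Coprime b (p ^ e) :=
      (((Fact.out : p.Prime).coprime_iff_not_dvd).2 hb).symm.pow_right _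
    have hgcd := zpow_mem hu (Nat.gcdA b (p ^ e))
    have hgcd' := zpow_mem hv (Nat.gcdB b (p ^ e))
    have hbez : ((b.gcd (p ^ e) : ℕ) : ℤ) =
        (b : ℤ) * Nat.gcdA b (p ^ e) + ((p ^ e : ℕ) : ℤ) * Nat.gcdB b (p ^ e) := Nat.gcd_eq_gcd_ab _ _
    rw [hco.gcd_eq_one, Nat.cast_one] at hbez
    have := mul_mem hgcd hgcd'
    rwa [← zpow_natCast, ← zpow_natCast n (p ^ e), ← zpow_mul, ← zpow_mul, ← zpow_add, ← hbez,
      zpow_one] at this
  exact ⟨P, _, inferInstance,
    MonoidHom.ker_transferSylow_isComplement' P hle⟩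

end CfsgLib.LocalEven.Iso
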