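import Cfsg.Agent.Lib.LocalEven.IsolatedPMinimal

/-!
An isolated `p`-minimal subgroup gives the situation studied in `IsolatedPMinimal` modulo `O_p(G)`.
-/

set_option autoImplicit false
set_option linter.style.haveILetI false
set_option linter.unusedSectionVars false

namespace CfsgLib.LocalEven.IsoPMin

open Cfsg Subgroup
open scoped commutatorElement

variable {G : Type*} [Group G] [Finite G] {p : ℕ} [Fact p.Prime]

theorem le_of_pMinimal (S : Sylow p G) (X : Subgroup G) (H₀ : Subgroup G)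
    (hN : normalizer ((S : Subgroup G) : Set G) ⊓ H₀ ≤ X)
    (hP : ∀ P : Subgroup G, (S : Subgroup G) ≤ P → P ≤ H₀ → Cfsg.IsPMinimal p P → P ≤ X)
    (H : Subgroup G) : (S : Subgroup G) ≤ H → H ≤ H₀ → H ≤ X := by
  induction H using WellFoundedLT.induction with
  | _ H ih =>
    intro hSH hH₀
    by_cases hn : H ≤ normalizer ((S : Subgroup G) : Set G)
    · exact (le_inf hn hH₀).trans hN
    by_cases hmin : Cfsg.IsPMinimal p H
    · exact hP H hSH hH₀ hmin
    set T : Sylow p H := S.subtype hSH with hT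
    have hTn : ¬ (T : Subgroup H).Normal := fun h => hn (by
      rw [Sylow.coe_subtype] at h
      exact (normal_subgroupOf_iff_le_normalizer hSH).1 h)
    have hnot : ¬ ∃! M : Subgroup H, IsCoatom M ∧ (T : Subgroup H) ≤ M := by
      intro hu
      refine hmin fun T' => ?_
      obtain ⟨g, rfl⟩ := MulAction.exists_smul_eq H T T'
      set φ := (MulAut.conj g).mapSubgroup
      have hφ : φ (T : Subgroup H) = ((g • T : Sylow p H) : Subgroup H) := rfl
      refine ⟨fun h => hTn ?_, ?_⟩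
      · have e : g⁻¹ • (g • T) = T := inv_smul_smul g T
        have := h
        rw [← e]
        rwa [Sylow.smul_eq_of_normal]
      · obtain ⟨M, ⟨hM, hTM⟩, huniq⟩ := hu
        refine ⟨φ M, ⟨φ.isCoatom_iff M |>.2 hM, hφ ▸ φ.monotone hTM⟩, ?_⟩
        rintro Y ⟨hY, hTY⟩
        rw [← huniq (φ.symm Y) ⟨φ.symm.isCoatom_iff Y |>.2 hY, φ.le_symm_apply.2 (hφ ▸ hTY)⟩,
          OrderIso.apply_symm_apply]
    have hne : (T : Subgroup H) ≠ ⊤ := fun h => hTn (h ▸ inferInstance)
    obtain ⟨M₁, hM₁, hT1⟩ := (eq_top_or_exists_le_coatom (T : Subgroup H)).resolve_left hne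
    obtain ⟨M₂, hM₂, hT2, h12⟩ : ∃ M₂, IsCoatom M₂ ∧ (T : Subgroup H) ≤ M₂ ∧ M₂ ≠ M₁ := by
      by_contra hc
      refine hnot ⟨M₁, ⟨hM₁, hT1⟩, fun Y hY => ?_⟩
      by_contra hY1
      exact hc ⟨Y, hY.1, hY.2, hY1⟩
    have key : ∀ M : Subgroup H, IsCoatom M → (T : Subgroup H) ≤ M → M.map H.subtype ≤ X := by
      intro M hM hTM
      refine ih _ ?_ ?_ ((map_subtype_le M).trans hH₀)
      · refine lt_of_le_of_ne (map_subtype_le M) fun h => hM.1 ?_
        rw [← comap_map_eq_self_of_injective H.subtype_injective M, h]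
        exact subgroupOf_self H
      · intro s hs
        exact ⟨⟨s, hSH hs⟩, hTM (by rw [Sylow.coe_subtype]; exact hs), rfl⟩
    have hsup : M₁ ⊔ M₂ = ⊤ := hM₁.2 _ (lt_of_le_of_ne le_sup_left fun h => h12 (by
      have h' : M₂ ≤ M₁ := h ▸ le_sup_right
      rcases hM₂.le_iff.1 h' with h1 | h1
      · exact absurd h1 hM₁.1
      · exact h1.symm))
    calc H = (⊤ : Subgroup H).map H.subtype := by rw [← MonoidHom.range_eq_map, range_subtype]
      _ ≤ X := by rw [← hsup, Subgroup.map_sup]; exact sup_le (key _ hM₁ hT1) (key _ hM₂ hT2)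

variable (S : Sylow p G) (P L Y : Subgroup G)

/-- The hypothesis common to both statements. -/
structure Isolated : Prop where
  hSP : (S : Subgroup G) ≤ P
  hL : L = normalizer ((S : Subgroup G) : Set G) ⊔
    ⨆ P' : {P' : Subgroup G // (S : Subgroup G) ≤ P' ∧ Cfsg.IsPMinimal p ↥P' ∧ P' ≠ P}, (P' : Subgroup G)
  hiso : ¬ (Cfsg.pCore p ↥L).map L.subtype ≤ (Cfsg.pCore p ↥P).map P.subtype
  hY : Y = normalClosure (((Cfsg.pResidual p ↥P).map P.subtype : Subgroup G) : Set G)

variable {S P L Y}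

namespace Isolated

variable (h : Isolated S P L Y)
include h

theorem SL : (S : Subgroup G) ≤ L := by
  rw [h.hL]; exact le_normalizer.trans le_sup_left

theorem core_le_S : (Cfsg.pCore p ↥L).map L.subtype ≤ S := by
  intro x hx
  obtain ⟨y, hy, rfl⟩ := hx
  have := CfsgLib.Base.pCore_le_sylow (S.subtype h.SL) hy
  rwa [Sylow.coe_subtype] at this

theorem S_normalizes : (S : Subgroup G) ≤
    normalizer (((Cfsg.pResidual p ↥P).map P.subtype : Subgroup G) : Set G) := by
  haveI := CfsgLib.Transfer.pResidual_normal (G := ↥P) (p := p)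
  refine h.hSP.trans ?_
  intro x hx
  refine mem_normalizer_of_map ?_
  rintro _ ⟨_, ⟨y, hy, rfl⟩, rfl⟩
  exact ⟨⟨x, hx⟩ * y * ⟨x, hx⟩⁻¹, ‹(Cfsg.pResidual p ↥P).Normal›.conj_mem y hy _, rfl⟩

theorem P_le : P ≤ (Cfsg.pResidual p ↥P).map P.subtype ⊔ S := by
  intro x hx
  have h1 := congrArg (Subgroup.map P.subtype)
    (CfsgLib.Transfer.sup_pResidual_eq_top (S.subtype h.hSP))
  rw [Subgroup.map_sup, ← MonoidHom.range_eq_map, range_subtype, Sylow.coe_subtype,
    map_subgroupOf_eq_of_le h.hSP] at h1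
  rw [sup_comm, h1]; exact hx

theorem pCore_le_S : Cfsg.pCore p G ≤ S := CfsgLib.Base.pCore_le_sylow S

theorem gen (H K : Subgroup G) (hSH : (S : Subgroup G) ≤ H) (hHL : H ⊓ L ≤ K)
    (hD : (Cfsg.pResidual p ↥P).map P.subtype ≤ K) : H ≤ K := by
  refine le_of_pMinimal S K H (fun x hx => hHL ⟨hx.2, ?_⟩) (fun P' hSP' hP'H hmin => ?_) H hSH le_rfl
  · rw [h.hL]; exact mem_sup_left hx.1
  by_cases hPP : P' = P
  · subst hPP
    exact h.P_le.trans (sup_le hD ((le_inf hSH h.SL).trans hHL))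
  · refine le_trans (le_inf hP'H ?_) hHL
    rw [h.hL]; exact le_sup_of_le_right (le_iSup_of_le ⟨P', hSP', hmin, hPP⟩ le_rfl)

theorem dich (N : Subgroup G) (hN : (S : Subgroup G) ≤ normalizer (N : Set G)) :
    (Cfsg.pResidual p ↥P).map P.subtype ≤ N ∨ N ≤ L := by
  by_cases hP : P ≤ N ⊔ S
  · left
    rintro _ ⟨x, hx, rfl⟩
    have hle : Cfsg.pResidual p ↥P ≤ N.subgroupOf P := by
      refine (closure_le _).2 fun g hg => ?_
      set H := N ⊔ (S : Subgroup G)
      haveI : (N.subgroupOf H).Normal := normal_subgroupOf_of_le_normalizer (sup_le le_normalizer hN)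
      have hidx : ∃ k, (N.subgroupOf H).index = p ^ k := by
        have h1 : Nat.card H * Nat.card ↥((S : Subgroup G) ⊓ N) = Nat.card S * Nat.card N := by
          rw [← CfsgLib.Coprime.card_sup_mul_card_inf hN, sup_comm]
        have h2 : (N.subgroupOf H).index ∣ Nat.card S := by
          have h3 := (N.subgroupOf H).card_mul_index
          rw [CfsgLib.Base.card_subgroupOf (le_sup_left : N ≤ H)] at h3
          rw [← h3, mul_assoc, mul_comm (Nat.card S)] at h1
          exact ⟨_, (Nat.eq_of_mul_eq_mul_left Nat.card_pos h1).symm⟩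
        obtain ⟨k, hk⟩ := IsPGroup.iff_card.1 S.2
        obtain ⟨i, -, hi⟩ := (Nat.dvd_prime_pow Fact.out).1 (hk ▸ h2)
        exact ⟨i, hi⟩
      have hg' : Nat.Coprime (orderOf (⟨(g : G), hP g.2⟩ : H)) p := by
        rw [← Subgroup.orderOf_coe]
        simpa [Subgroup.orderOf_coe] using hg
      exact CfsgLib.Transfer.mem_of_coprime_orderOf_of_index hidx hg'
    exact hle hx
  · right
    refine le_sup_left.trans (le_of_pMinimal S L (N ⊔ S) (fun x hx => ?_)
      (fun P' hSP' hP'H hmin => ?_) (N ⊔ S) le_sup_right le_rfl)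
    · rw [h.hL]; exact mem_sup_left hx.1
    · rw [h.hL]
      exact le_sup_of_le_right (le_iSup_of_le ⟨P', hSP', hmin, fun e => hP (e ▸ hP'H)⟩ le_rfl)

/-- The situation modulo `O_p(G)`. -/
theorem data [hn : (Cfsg.pCore p G).Normal] :
    Data p ((S : Subgroup G).map (QuotientGroup.mk' (Cfsg.pCore p G)))
      (L.map (QuotientGroup.mk' (Cfsg.pCore p G)))
      (((Cfsg.pCore p ↥L).map L.subtype).map (QuotientGroup.mk' (Cfsg.pCore p G)))
      (((Cfsg.pResidual p ↥P).map P.subtype).map (QuotientGroup.mk' (Cfsg.pCore p G)))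
      (Y.map (QuotientGroup.mk' (Cfsg.pCore p G))) := by
  set π := QuotientGroup.mk' (Cfsg.pCore p G) with hπ
  have hπs : Function.Surjective π := QuotientGroup.mk'_surjective _
  have hker : π.ker = Cfsg.pCore p G := QuotientGroup.ker_mk' _
  set D := (Cfsg.pResidual p ↥P).map P.subtype
  set R := (Cfsg.pCore p ↥L).map L.subtype
  have hOL : Cfsg.pCore p G ≤ L := h.pCore_le_S.trans h.SL
  have hLc : (L.map π).comap π = L := by rw [comap_map_eq, hker, sup_eq_left.2 hOL]
  have hnorm : ∀ A B : Subgroup G, A ≤ normalizer (B : Set G) →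
      A.map π ≤ normalizer ((B.map π : Subgroup (G ⧸ Cfsg.pCore p G)) : Set (G ⧸ Cfsg.pCore p G)) :=
    fun A B hAB => (map_mono hAB).trans (le_normalizer_map π)
  have hDL : ¬ D ≤ L := fun hD => h.hiso (by
    have hP : P ≤ L := h.P_le.trans (sup_le hD h.SL)
    refine CfsgLib.Base.le_map_pCore (h.core_le_S.trans h.hSP) (hP.trans ?_) ?_
    · exact CfsgLib.Base.le_normalizer_map_pCore L
    · exact CfsgLib.Base.isPGroup_map_pCore p L)
  refine
    { hO := CfsgLib.Base.pCore_quotient_pCore p G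
      hS := S.2.map _
      SL := map_mono h.SL
      RS := map_mono h.core_le_S
      LR := hnorm _ _ (CfsgLib.Base.le_normalizer_map_pCore L)
      dichN := fun N hN => ?_
      gen := fun H K hSH hHL hDK => ?_
      DL := fun hle => hDL fun x hx => hLc.le (hle ⟨x, hx, rfl⟩)
      SD := hnorm _ _ h.S_normalizes
      hY := by rw [h.hY, map_normalClosure _ π hπs]; rfl
      hYR := fun hle => ?_ }
  · have hN' : (S : Subgroup G) ≤ normalizer ((N.comap π : Subgroup G) : Set G) := fun s hs =>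
      le_normalizer_comap π (hN ⟨s, hs, rfl⟩ : π s ∈ normalizer (N : Set (G ⧸ Cfsg.pCore p G)))
    rcases h.dich _ hN' with h' | h'
    · exact Or.inl (map_le_iff_le_comap.2 h')
    · refine Or.inr ?_
      have := map_mono (f := π) h'
      rwa [map_comap_eq_self_of_surjective hπs] at this
  · have := h.gen (H.comap π) (K.comap π) (map_le_iff_le_comap.1 hSH)
      (fun x hx => hHL ⟨hx.1, x, hx.2, rfl⟩) (map_le_iff_le_comap.1 hDK)
    have := map_mono (f := π) this
    rwa [map_comap_eq_self_of_surjective hπs, map_comap_eq_self_of_surjective hπs] at this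
  · refine h.hiso ?_
    set RO := R ⊔ Cfsg.pCore p G
    have hROS : RO ≤ S := sup_le h.core_le_S h.pCore_le_S
    have hcomap : (R.map π).comap π = RO := by rw [comap_map_eq, hker]
    have hDn : D ≤ normalizer (RO : Set G) := by
      intro x hx
      rw [← hcomap]
      refine le_normalizer_comap π ?_
      exact centralizer_le_normalizer _ (hle ⟨x, h.hY ▸ le_normalClosure hx, rfl⟩)
    have hSn : (S : Subgroup G) ≤ normalizer (RO : Set G) := by
      intro x hx
      rw [← hcomap]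
      exact le_normalizer_comap π (hnorm _ _ (h.SL.trans (CfsgLib.Base.le_normalizer_map_pCore L))
        ⟨x, hx, rfl⟩)
    exact (le_sup_left : R ≤ RO).trans (CfsgLib.Base.le_map_pCore (hROS.trans h.hSP)
      (h.P_le.trans (sup_le hDn hSn)) (S.2.to_le hROS))

/-- If `Y ≤ D O_p(G)` then `Y = O^p(P)`. -/
theorem eq_of_le [hn : (Cfsg.pCore p G).Normal]
    (hle : Y.map (QuotientGroup.mk' (Cfsg.pCore p G)) ≤
      ((Cfsg.pResidual p ↥P).map P.subtype).map (QuotientGroup.mk' (Cfsg.pCore p G))) :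
    (Cfsg.pResidual p ↥P).map P.subtype = Y := by
  have hYP : Y ≤ P := by
    intro y hy
    obtain ⟨d, hd, hde⟩ := hle ⟨y, hy, rfl⟩
    have hdy : d⁻¹ * y ∈ Cfsg.pCore p G := QuotientGroup.eq.1 hde
    have := P.mul_mem (map_subtype_le _ hd) (h.hSP (h.pCore_le_S hdy))
    rwa [mul_inv_cancel_left] at this
  refine le_antisymm (h.hY ▸ le_normalClosure) ?_
  rw [h.hY, normalClosure, closure_le]
  rintro _ hx
  obtain ⟨a, ⟨y, hy, rfl⟩, ha⟩ := Group.mem_conjugatesOfSet_iff.1 hx
  obtain ⟨g, rfl⟩ := isConj_iff.1 ha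
  have hle' : Cfsg.pResidual p ↥P ≤
      (((Cfsg.pResidual p ↥P).map P.subtype).comap ((MulAut.conj g).toMonoidHom.comp P.subtype)) := by
    refine (closure_le _).2 fun z hz => ?_
    have hzY : g * (z : G) * g⁻¹ ∈ Y := by
      rw [h.hY]
      exact normalClosure_normal.conj_mem _
        (subset_normalClosure (show (z : G) ∈ ((Cfsg.pResidual p ↥P).map P.subtype : Subgroup G) from
          ⟨z, CfsgLib.Transfer.mem_pResidual_of_coprime hz, rfl⟩)) g
    show g * (z : G) * g⁻¹ ∈ (Cfsg.pResidual p ↥P).map P.subtype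
    refine ⟨⟨_, hYP hzY⟩, CfsgLib.Transfer.mem_pResidual_of_coprime ?_, rfl⟩
    rw [← Subgroup.orderOf_coe]
    have e : orderOf (g * (z : G) * g⁻¹) = orderOf z := by
      rw [← MulAut.conj_apply, MulEquiv.orderOf_eq, Subgroup.orderOf_coe]
    show Nat.Coprime (orderOf (g * (z : G) * g⁻¹)) p
    rw [e]; exact hz
  exact hle' hy

end Isolated

end CfsgLib.LocalEven.IsoPMin

namespace CfsgLib.LocalEven.IsoPMin

open Cfsg Subgroup

variable {G : Type*} [Group G] [Finite G] {p : ℕ} [Fact p.Prime] {S : Sylow p G} {P L Y : Subgroup G}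

/-- `Y / O_p(Y)` is the image of `Y` in `G / O_p(G)`. -/
theorem quotient_equiv [hn : (Cfsg.pCore p G).Normal] (Y : Subgroup G) [Y.Normal]
    [(Cfsg.pCore p ↥Y).Normal] :
    ∃ e : ↥Y ⧸ Cfsg.pCore p ↥Y ≃* ↥(Y.map (QuotientGroup.mk' (Cfsg.pCore p G))),
      ∀ y : Y, ((e (QuotientGroup.mk y)) : G ⧸ Cfsg.pCore p G) = QuotientGroup.mk (y : G) := by
  let φ := (QuotientGroup.mk' (Cfsg.pCore p G)).subgroupMap Y
  have hφ : Function.Surjective φ := MonoidHom.subgroupMap_surjective _ Y
  have hk : Cfsg.pCore p ↥Y = φ.ker := by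
    have h1 := CfsgLib.Base.map_pCore_eq_inf (p := p) Y
    ext y
    rw [MonoidHom.mem_ker, ← OneMemClass.coe_eq_one]
    refine ⟨fun hy => (QuotientGroup.eq_one_iff _).2 ?_, fun hy => ?_⟩
    · have : (y : G) ∈ (Cfsg.pCore p ↥Y).map Y.subtype := ⟨y, hy, rfl⟩
      rw [h1] at this
      first
        | exact this.2
        | exact this.1
    · have : (y : G) ∈ (Cfsg.pCore p ↥Y).map Y.subtype := by
        rw [h1]
        first
          | exact ⟨y.2, (QuotientGroup.eq_one_iff _).1 hy⟩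
          | exact ⟨(QuotientGroup.eq_one_iff _).1 hy, y.2⟩
      obtain ⟨z, hz, hze⟩ := this
      exact (Subtype.ext hze : z = y) ▸ hz
  exact ⟨(QuotientGroup.quotientMulEquivOfEq hk).trans
    (QuotientGroup.quotientKerEquivOfSurjective φ hφ), fun y => rfl⟩

end CfsgLib.LocalEven.IsoPMin
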