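import Cfsg.Agent.Lib.LocalEven.PMinimalStructure
import Cfsg.Agent.Lib.Coprime.Action

/-!
Isolated `p`-minimal subgroups: the structure of the normal closure of `O^p(P)` modulo `O_p(G)`.
-/

set_option autoImplicit false
set_option linter.style.haveILetI false
set_option linter.unusedSectionVars false

namespace CfsgLib.LocalEven.IsoPMin

open Cfsg Subgroup CfsgLib.Components
open scoped commutatorElement

variable {X : Type*} [Group X] [Finite X]

theorem mem_normalizer_of_map {g : X} {H : Subgroup X} (h : H.map (MulAut.conj g).toMonoidHom ≤ H) :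
    g ∈ normalizer (H : Set X) :=
  mem_normalizer_iff_map_conj_eq.2 (eq_of_le_of_card_ge h
    (card_map_of_injective (MulAut.conj g).injective).ge)

theorem comm_ne_self {Y : Subgroup X} (hsol : Group.IsSolvable Y) (hY : Y ≠ ⊥) : ⁅Y, Y⁆ ≠ Y := by
  haveI := (nontrivial_iff_ne_bot Y).2 hY
  intro h
  refine (Group.IsSolvable.commutator_lt_top_of_nontrivial Y).ne
    (map_injective Y.subtype_injective ?_)
  rw [commutator_def, map_commutator, ← MonoidHom.range_eq_map, range_subtype, h]

/-- A subgroup containing a Sylow subgroup for each prime is everything. -/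
theorem eq_top_of_sylow_le {Z : Subgroup X}
    (h : ∀ q : ℕ, q.Prime → ∃ P : Sylow q X, (P : Subgroup X) ≤ Z) : Z = ⊤ := by
  refine eq_top_of_card_eq Z (Nat.dvd_antisymm Z.card_subgroup_dvd_card ?_)
  rw [Nat.dvd_iff_prime_pow_dvd_dvd]
  intro q k hq hdvd
  haveI : Fact q.Prime := ⟨hq⟩
  obtain ⟨P, hP⟩ := h q hq
  exact (P.pow_dvd_card_of_pow_dvd_card hdvd).trans (card_dvd_of_le hP)

/-- Subgroups of coprime index factorize the group. -/
theorem exists_mul_of_coprime_index {C T : Subgroup X} (h : C.index.Coprime T.index) (y : X) :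
    ∃ t ∈ T, ∃ c ∈ C, t * c = y := by
  classical
  have hge : C.index ∣ C.relIndex T := by
    refine (h.dvd_mul_right).1 ?_
    rw [← inf_relIndex_right, relIndex_mul_index inf_le_right]
    exact index_dvd_of_le inf_le_left
  let f : ↥T ⧸ C.subgroupOf T → X ⧸ C := Quotient.map' (fun t => (t : X)) fun a b hab => by
    rw [QuotientGroup.leftRel_apply] at hab ⊢
    exact hab
  have hf : Function.Injective f := by
    rintro ⟨a⟩ ⟨b⟩ hab
    exact QuotientGroup.eq.2 (QuotientGroup.eq.1 hab : ((a : X))⁻¹ * b ∈ C)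
  have hle : Nat.card (X ⧸ C) ≤ Nat.card (↥T ⧸ C.subgroupOf T) :=
    Nat.le_of_dvd Nat.card_pos hge
  obtain ⟨t, ht⟩ := (hf.bijective_of_nat_card_le hle).2 (y : X ⧸ C)
  obtain ⟨t, rfl⟩ := QuotientGroup.mk_surjective t
  exact ⟨t, t.2, _, QuotientGroup.eq.1 ht, mul_inv_cancel_left _ _⟩

/-- The situation in a group with trivial `p`-core. -/
structure Data (p : ℕ) (S L R D Y : Subgroup X) : Prop where
  hO : pCore p X = ⊥
  hS : IsPGroup p S
  SL : S ≤ L
  RS : R ≤ S
  LR : L ≤ normalizer (R : Set X)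
  dichN : ∀ N : Subgroup X, S ≤ normalizer (N : Set X) → D ≤ N ∨ N ≤ L
  gen : ∀ H K : Subgroup X, S ≤ H → H ⊓ L ≤ K → D ≤ K → H ≤ K
  DL : ¬ D ≤ L
  SD : S ≤ normalizer (D : Set X)
  hY : Y = normalClosure (D : Set X)
  hYR : ¬ Y ≤ centralizer (R : Set X)

namespace Data

variable {p : ℕ} [Fact p.Prime] {S L R D Y : Subgroup X}
  (d : Data p S L R D Y)
include d

theorem Yn : Y.Normal := d.hY ▸ normalClosure_normal

theorem DY : D ≤ Y := d.hY ▸ le_normalClosure

theorem RN : R ≤ normalizer (D : Set X) := d.RS.trans d.SD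

theorem hR : IsPGroup p R := d.hS.to_le d.RS

theorem not_YL : ¬ Y ≤ L := fun h => d.DL (d.DY.trans h)

theorem sup_eq_top : Y ⊔ L = ⊤ :=
  top_le_iff.1 (d.gen ⊤ _ le_top (inf_le_right.trans le_sup_right) (d.DY.trans le_sup_left))

/-- A subnormal subgroup of `L` normalized by `R` is centralized by `R`. -/
theorem comm_subnormal {N : Subgroup X} (hN : N.IsSubnormal) (hNL : N ≤ L)
    (hRN : R ≤ normalizer (N : Set X)) : ⁅N, R⁆ = ⊥ := by
  have h1 : ⁅N, R⁆ ≤ R := le_normalizer_iff_commutator_le_right.1 (hNL.trans d.LR)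
  have h2 : ⁅N, R⁆ ≤ N := le_normalizer_iff_commutator_le_left.1 hRN
  haveI : (⁅N, R⁆.subgroupOf N).Normal :=
    normal_subgroupOf_of_le_normalizer (normalizer_commutator_ge_left N R)
  refine le_bot_iff.1 (d.hO ▸ CfsgLib.Base.le_pCore_of_isSubnormal
    (IsSubnormal.step _ _ h2 hN inferInstance) (d.hR.to_le h1))

theorem comm_eq_bot_of_normal {N : Subgroup X} [N.Normal] (hNL : N ≤ L) : ⁅N, R⁆ = ⊥ :=
  d.comm_subnormal (‹N.Normal›).isSubnormal hNL le_normalizer_of_normal

theorem closure_le : Y ≤ normalClosure (R : Set X) := by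
  haveI : (normalClosure (R : Set X)).Normal := normalClosure_normal
  rcases d.dichN (normalClosure (R : Set X)) le_normalizer_of_normal with h | h
  · exact d.hY ▸ normalClosure_le_normal h
  · exfalso
    have hsn : R.IsSubnormal := IsSubnormal.step _ _ le_normalClosure
      (normalClosure_normal (s := (R : Set X))).isSubnormal
      (normal_subgroupOf_of_le_normalizer (h.trans d.LR))
    have : R = ⊥ := le_bot_iff.1 (d.hO ▸ CfsgLib.Base.le_pCore_of_isSubnormal hsn d.hR)
    refine d.hYR fun y _ x hx => ?_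
    rw [this, Subgroup.coe_bot, Set.mem_singleton_iff] at hx
    rw [hx, one_mul, mul_one]

theorem proper_le {N : Subgroup X} [N.Normal] (hNY : N ≤ Y) (hne : N ≠ Y) : N ≤ L :=
  (d.dichN N le_normalizer_of_normal).resolve_left fun h =>
    hne (le_antisymm hNY (d.hY ▸ normalClosure_le_normal h))

/-- Proper normal subgroups inside `Y` are central in `Y`. -/
theorem proper_central {N : Subgroup X} [N.Normal] (hNY : N ≤ Y) (hne : N ≠ Y) : ⁅N, Y⁆ = ⊥ := by
  have h := d.comm_eq_bot_of_normal (d.proper_le hNY hne)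
  rw [commutator_eq_bot_iff_le_centralizer, le_centralizer_iff] at h ⊢
  exact d.closure_le.trans (normalClosure_le_normal h)

theorem comm_normal : ⁅Y, R⁆.Normal := by
  haveI := d.Yn
  refine normalizer_eq_top_iff.1 (top_le_iff.1 (d.sup_eq_top.ge.trans (sup_le
    (normalizer_commutator_ge_left Y R) ?_)))
  intro l hl
  refine mem_normalizer_of_map ?_
  rw [map_commutator]
  refine commutator_mono ?_ ?_
  · rintro _ ⟨y, hy, rfl⟩
    exact d.Yn.conj_mem y hy l
  · rintro _ ⟨r, hr, rfl⟩
    exact (mem_normalizer_iff.1 (d.LR hl) r).1 hr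

theorem comm_le : ⁅Y, R⁆ ≤ Y := by
  haveI := d.Yn
  exact le_normalizer_iff_commutator_le_left.1 le_normalizer_of_normal

/-! ### The solvable case -/

theorem nilpotent_case (hsol : Group.IsSolvable Y) :
    ⁅⁅Y, Y⁆, Y⁆ = ⊥ ∧ (∃ t : ℕ, t.Prime ∧ t ≠ p ∧ IsPGroup t Y) ∧ Y ≤ D := by
  haveI := d.Yn
  have hY1 : Y ≠ ⊥ := fun h => d.not_YL (h ▸ bot_le)
  have h2 : ⁅⁅Y, Y⁆, Y⁆ = ⊥ := by
    exact d.proper_central (commutator_le_left _ _) (comm_ne_self hsol hY1)
  haveI hnil : Group.IsNilpotent Y := (isNilpotent_iff_lowerCentralSeries Y).2 ⟨2, h2⟩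
  obtain ⟨t, ht, T, hT⟩ : ∃ t, t.Prime ∧ ∃ T : Sylow t Y, ((T : Subgroup Y).map Y.subtype) = Y := by
    by_contra hno
    push Not at hno
    refine d.not_YL ?_
    have htfae := ((Group.isNilpotent_of_finite_tfae (G := Y)).out 0 3).1 hnil
    have : L.subgroupOf Y = ⊤ := by
      refine eq_top_of_sylow_le fun q hq => ⟨default, ?_⟩
      haveI := htfae q ⟨hq⟩ (default : Sylow q Y)
      haveI : Fact q.Prime := ⟨hq⟩
      haveI hc : ((default : Sylow q Y) : Subgroup Y).Characteristic :=
        Sylow.characteristic_of_normal _ inferInstance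
      haveI : (((default : Sylow q Y) : Subgroup Y).map Y.subtype).Normal := inferInstance
      exact map_le_iff_le_comap.1 (d.proper_le (map_subtype_le _) (hno q hq _))
    exact fun y hy => this.ge (mem_top (⟨y, hy⟩ : Y))
  have htY : IsPGroup t Y := hT ▸ T.2.map _
  have htp : t ≠ p := by
    rintro rfl
    exact hY1 (le_bot_iff.1 (d.hO ▸ CfsgLib.Base.le_pCore (N := Y) htY))
  refine ⟨h2, ⟨t, ht, htp, htY⟩, ?_⟩
  haveI : Fact t.Prime := ⟨ht⟩
  have hcop : (Nat.card R).Coprime (Nat.card Y) :=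
    IsPGroup.coprime_card_of_ne p t htp.symm R Y d.hR htY
  -- `Y = [Y, R]`
  have hcomm : ⁅Y, R⁆ = Y := by
    by_contra hne
    haveI := d.comm_normal
    refine d.hYR (commutator_eq_bot_iff_le_centralizer.1 ?_)
    rw [← CfsgLib.Coprime.commutator_commutator_eq le_normalizer_of_normal hcop (Or.inr hsol)]
    exact d.comm_eq_bot_of_normal (d.proper_le d.comm_le hne)
  -- `Y ⊓ L` is centralized by `R`
  have hYL : Y ⊓ L ≤ centralizer (R : Set X) := by
    refine commutator_eq_bot_iff_le_centralizer.1 (le_bot_iff.1 ?_)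
    rw [← disjoint_iff.1 (disjoint_of_coprime_natCard hcop)]
    exact le_inf (le_normalizer_iff_commutator_le_right.1 (inf_le_right.trans d.LR))
      ((commutator_mono inf_le_left le_rfl).trans d.comm_le)
  -- `Y = D (Y ⊓ L)`
  have hcard : (Nat.card S).Coprime (Nat.card Y) := IsPGroup.coprime_card_of_ne p t htp.symm S Y d.hS htY
  haveI hLn : (Y ⊓ L).Normal := by
    refine normalizer_eq_top_iff.1 (top_le_iff.1 (d.sup_eq_top.ge.trans (sup_le ?_ ?_)))
    · refine le_normalizer_iff_commutator_le_right.2 (le_inf (commutator_le_left Y _) ?_)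
      have hc : ⁅Y, Y⁆ ≠ Y := comm_ne_self hsol hY1
      exact (commutator_mono le_rfl inf_le_left).trans (d.proper_le (commutator_le_left _ _) hc)
    · exact CfsgLib.Coprime.le_normalizer_inf_inf le_normalizer_of_normal le_normalizer
  set M := D ⊔ (Y ⊓ L) with hM
  have hMY : M ≤ Y := sup_le d.DY inf_le_left
  have hSM : S ≤ normalizer (M : Set X) :=
    CfsgLib.Coprime.le_normalizer_sup_sup d.SD le_normalizer_of_normal
  have hYM : Y ≤ M := by
    have h : Y ⊔ S ≤ M ⊔ S := by
      refine d.gen _ _ le_sup_right ?_ (le_sup_left.trans le_sup_left)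
      rintro x ⟨hx, hxL⟩
      obtain ⟨y, hy, s, hs, rfl⟩ := mem_sup_of_normal_left.1 hx
      exact mul_mem_sup (mem_sup_right ⟨hy, (L.mul_mem_cancel_right (d.SL hs)).1 hxL⟩) hs
    intro y hy
    have h' : y ∈ S ⊔ M := sup_comm M S ▸ h (mem_sup_left hy)
    obtain ⟨s, hs, m, hm, rfl⟩ := (CfsgLib.Coprime.mem_sup_iff_of_le_normalizer hSM).1 h'
    have hs1 : s ∈ (⊥ : Subgroup X) := disjoint_iff.1 (disjoint_of_coprime_natCard hcard) ▸
      ⟨hs, (Y.mul_mem_cancel_right (hMY hm)).1 hy⟩
    rw [mem_bot.1 hs1, one_mul]; exact hm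
  refine hcomm.ge.trans (commutator_le.2 fun y hy r hr => ?_)
  obtain ⟨a, ha, b, hb, rfl⟩ := mem_sup_of_normal_right.1 (hYM hy)
  rw [show ⁅a * b, r⁆ = a * ⁅b, r⁆ * a⁻¹ * ⁅a, r⁆ by simp [commutatorElement_def, mul_assoc],
    commutatorElement_eq_one_iff_commute.2 (hYL hb r hr).symm, mul_one, mul_inv_cancel, one_mul,
    commutatorElement_def, show a * r * a⁻¹ * r⁻¹ = a * (r * a⁻¹ * r⁻¹) by group]
  exact mul_mem ha ((mem_normalizer_iff.1 (d.RN hr) _).1 (inv_mem ha))

/-! ### The non-solvable case -/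

theorem perfect (hsol : ¬ Group.IsSolvable Y) : ⁅Y, Y⁆ = Y := by
  haveI := d.Yn
  by_contra hne
  have h2 := d.proper_central (commutator_le_left _ _) hne
  refine hsol ((Group.isSolvable_def Y).2 ⟨2, ?_⟩)
  apply Subgroup.map_injective Y.subtype_injective
  rw [Subgroup.map_bot]
  refine le_bot_iff.1 (le_trans (le_of_eq ?_) ((commutator_mono le_rfl (commutator_le_left Y Y)).trans h2.le))
  simp [derivedSeries_succ, map_commutator, commutator_def, ← MonoidHom.range_eq_map]

theorem comm_not_central (hsol : ¬ Group.IsSolvable Y) : ⁅Y, R⁆ = Y := by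
  haveI := d.Yn
  haveI := d.comm_normal
  by_contra hne
  have h1 : ⁅⁅Y, R⁆, Y⁆ = ⊥ := d.proper_central d.comm_le hne
  refine d.hYR (commutator_eq_bot_iff_le_centralizer.1 ?_)
  have h2 : ⁅⁅R, Y⁆, Y⁆ = ⊥ := by rw [commutator_comm R Y]; exact h1
  have h3 := commutator_commutator_eq_bot_of_rotate h1 h2
  rwa [d.perfect hsol] at h3

theorem dvd_card (hsol : ¬ Group.IsSolvable Y) : p ∣ Nat.card Y := by
  classical
  haveI := d.Yn
  by_contra hp
  have hpp : p.Prime := Fact.out
  obtain ⟨k, hk⟩ := IsPGroup.iff_card.1 d.hS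
  have hcop : (Nat.card S).Coprime (Nat.card Y) :=
    hk ▸ Nat.Coprime.pow_left _ (hpp.coprime_iff_not_dvd.2 hp)
  haveI : Group.IsNilpotent S := d.hS.isNilpotent
  have hsS : Group.IsSolvable S := inferInstance
  have hex : ∀ u : ℕ, u.Prime → ∃ U : Subgroup X, U ≤ Y ∧ IsPGroup u U ∧
      ¬ u ∣ U.relIndex Y ∧ S ≤ normalizer (U : Set X) := by
    intro u hu
    haveI : Fact u.Prime := ⟨hu⟩
    obtain ⟨P, hP⟩ := CfsgLib.Coprime.exists_invariant_sylow (p := u)
      (le_normalizer_of_normal : S ≤ normalizer (Y : Set X)) hcop (Or.inl hsS)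
    refine ⟨_, map_subtype_le _, P.2.map _, ?_, hP⟩
    rw [relIndex, subgroupOf, comap_map_eq_self_of_injective Y.subtype_injective]
    exact P.not_dvd_index
  choose U hUY hUp hUidx hUS using hex
  have hD1 : D ≠ ⊥ := fun h => d.DL (h ▸ bot_le)
  -- every invariant Sylow subgroup avoiding `D` is centralized by `R`
  have hUC : ∀ u hu, ¬ D ≤ U u hu → U u hu ≤ centralizer (R : Set X) := fun u hu h => by
    refine commutator_eq_bot_iff_le_centralizer.1 (le_bot_iff.1 ?_)
    have hUL := (d.dichN _ (hUS u hu)).resolve_left h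
    rw [← disjoint_iff.1 (disjoint_of_coprime_natCard ((hcop.coprime_dvd_left
      (card_dvd_of_le d.RS)).coprime_dvd_right (card_dvd_of_le (hUY u hu))))]
    exact le_inf (le_normalizer_iff_commutator_le_right.1 (hUL.trans d.LR))
      (le_normalizer_iff_commutator_le_left.1 (d.RS.trans (hUS u hu)))
  -- choose the prime of `D`
  obtain ⟨t, ht, hDt⟩ : ∃ t : ℕ, t.Prime ∧ ∀ (u : ℕ) (hu : u.Prime), D ≤ U u hu → u = t := by
    by_cases h : ∃ t ht, D ≤ U t ht
    · obtain ⟨t, ht, hDt⟩ := h
      refine ⟨t, ht, fun u hu hu' => ?_⟩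
      by_contra hne
      haveI : Fact u.Prime := ⟨hu⟩
      haveI : Fact t.Prime := ⟨ht⟩
      exact hD1 (le_bot_iff.1 (disjoint_iff.1 (disjoint_of_coprime_natCard
        (IsPGroup.coprime_card_of_ne u t hne _ _ (hUp u hu) (hUp t ht))) ▸ le_inf hu' hDt))
    · exact ⟨2, Nat.prime_two, fun u hu hu' => absurd ⟨u, hu, hu'⟩ h⟩
  set C := Y ⊓ centralizer (R : Set X) with hC
  set T := U t ht
  have hco : ((C.subgroupOf Y).index).Coprime ((T.subgroupOf Y).index) := by
    refine Nat.coprime_of_dvd fun u hu h1 h2 => ?_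
    by_cases hut : u = t
    · subst hut; exact hUidx u hu h2
    · exact hUidx u hu (h1.trans (relIndex_dvd_of_le_left Y
        (le_inf (hUY u hu) (hUC u hu fun h => hut (hDt u hu h)))))
  have htop := exists_mul_of_coprime_index hco
  have hRT : R ≤ normalizer (T : Set X) := d.RS.trans (hUS t ht)
  have hYT : ⁅Y, R⁆ ≤ T := by
    refine commutator_le.2 fun y hy r hr => ?_
    obtain ⟨τ, hτ, c, hc, e⟩ := htop (⟨y, hy⟩ : Y)
    have e' : (τ : X) * c = y := congrArg Subtype.val e
    have hcr : (c : X) * r * (c : X)⁻¹ = r := mul_inv_eq_iff_eq_mul.2 (hc.2 r hr).symm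
    rw [← e', commutatorElement_def, show (τ : X) * c * r * ((τ : X) * c)⁻¹ * r⁻¹ =
      (τ : X) * ((c : X) * r * (c : X)⁻¹) * (τ : X)⁻¹ * r⁻¹ by group, hcr,
      show (τ : X) * r * (τ : X)⁻¹ * r⁻¹ = (τ : X) * (r * (τ : X)⁻¹ * r⁻¹) by group]
    exact mul_mem hτ ((mem_normalizer_iff.1 (hRT hr) _).1 (inv_mem hτ))
  rw [d.comm_not_central hsol] at hYT
  haveI : Fact t.Prime := ⟨ht⟩
  haveI : Group.IsNilpotent Y := ((hUp t ht).to_le hYT).isNilpotent
  exact hsol inferInstance

theorem layer_eq_top (hsol : ¬ Group.IsSolvable Y) : layer Y = ⊤ := by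
  haveI := d.Yn
  haveI : ((layer Y).map Y.subtype).Normal := inferInstance
  by_contra hne
  have hlt : (layer Y).map Y.subtype ≠ Y := fun h => hne (map_injective Y.subtype_injective
    (by rw [h, ← MonoidHom.range_eq_map, range_subtype]))
  have hZ : ∀ N : Subgroup Y, ⁅N.map Y.subtype, Y⁆ = ⊥ → N ≤ center Y := by
    intro N h n hn
    refine mem_center_iff.2 fun y => Subtype.ext ?_
    exact commutator_eq_bot_iff_le_centralizer.1 h ⟨n, hn, rfl⟩ y y.2
  have hbot : layer Y = ⊥ := layer_eq_bot_iff.2 fun K hK => component_not_le_of_isSolvable hK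
    (Group.isSolvable_of_comm fun a b => Subtype.ext (mem_center_iff.1 b.2 a) : Group.IsSolvable ↥(center Y))
    ((component_le_layer hK).trans (hZ _ (d.proper_central (map_subtype_le _) hlt)))
  haveI : ((fittingSubgroup Y).map Y.subtype).Normal := inferInstance
  have hF : (fittingSubgroup Y).map Y.subtype ≠ Y := fun h => hsol (by
    have := CfsgLib.Coprime.isSolvable_map Y.subtype (isSolvable_fitting (G := Y))
    rwa [h] at this)
  have hFZ := hZ _ (d.proper_central (map_subtype_le _) hF)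
  have h1 : (⊤ : Subgroup Y) ≤ centralizer (generalizedFittingSubgroup Y : Set Y) := by
    rw [generalizedFittingSubgroup, hbot, bot_sup_eq]
    exact fun y _ f hf => (mem_center_iff.1 (hFZ hf) y).symm
  refine hF (le_antisymm (map_subtype_le _) fun y hy =>
    ⟨⟨y, hy⟩, centralizer_fstar_le_fitting (h1 (mem_top _)), rfl⟩)

theorem components_conj (hsol : ¬ Group.IsSolvable Y) {K₁ K₂ : Subgroup X} (h1 : IsComponent K₁)
    (h1Y : K₁ ≤ Y) (h2 : IsComponent K₂) (h2Y : K₂ ≤ Y) :
    ∃ s ∈ S, K₂ = K₁.map (MulAut.conj s).toMonoidHom := by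
  classical
  haveI := d.Yn
  have hlay : Y ≤ layer X := by
    have := layer_map_subtype_le (H := Y) d.Yn.isSubnormal
    rwa [d.layer_eq_top hsol, ← MonoidHom.range_eq_map, range_subtype] at this
  have hWY : ∀ K : Subgroup X, K ≤ Y → orbitJoin S K ≤ Y := fun K hK => iSup_le fun u => by
    rintro _ ⟨x, hx, rfl⟩
    exact d.Yn.conj_mem x (hK hx) u
  have hYgen : ∀ Z : Subgroup X, (∀ K : Subgroup X, IsComponent K → K ≤ Y → K ≤ Z) → Y ≤ Z := by
    intro Z hZ
    have : layer Y ≤ Z.subgroupOf Y := layer_le_iff.2 fun K hK => map_le_iff_le_comap.1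
      (hZ _ ((isComponent_map_subtype_iff d.Yn.isSubnormal K).2 hK) (map_subtype_le K))
    rw [d.layer_eq_top hsol] at this
    exact fun y hy => this (mem_top (⟨y, hy⟩ : Y))
  have hsmall : ∀ K : Subgroup X, IsComponent K → K ≤ Y → ¬ D ≤ orbitJoin S K →
      K ≤ centralizer (R : Set X) := fun K hK hKY h => (le_orbitJoin S K).trans
    (commutator_eq_bot_iff_le_centralizer.1 (d.comm_subnormal (orbitJoin_isSubnormal hK)
      ((d.dichN _ (le_normalizer_orbitJoin S K)).resolve_left h)
      (d.RS.trans (le_normalizer_orbitJoin S K))))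
  obtain ⟨K₀, hK₀, hK₀Y, hD⟩ : ∃ K : Subgroup X, IsComponent K ∧ K ≤ Y ∧ D ≤ orbitJoin S K := by
    by_contra hno
    push Not at hno
    exact d.hYR (hYgen _ fun K hK hKY => hsmall K hK hKY (hno K hK hKY))
  set W := orbitJoin S K₀
  have hYW : Y ≤ normalizer (W : Set X) := hlay.trans (layer_le_normalizer_orbitJoin hK₀)
  have hRW : R ≤ normalizer (W : Set X) := d.RS.trans (le_normalizer_orbitJoin S K₀)
  -- components outside the orbit
  have hout : ∀ K : Subgroup X, IsComponent K →
      (∀ u : S, K ≠ K₀.map (MulAut.conj (u : X)).toMonoidHom) → K ≤ centralizer (W : Set X) := by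
    intro K hK hne
    refine le_centralizer_iff.1 (iSup_le fun u => le_centralizer_iff.1 ?_)
    exact commutator_eq_bot_iff_le_centralizer.1
      (components_commute hK (isComponent_conj hK₀ _) (hne u))
  have horb : ∀ K : Subgroup X, IsComponent K → K ≤ Y →
      ∃ u : S, K = K₀.map (MulAut.conj (u : X)).toMonoidHom := by
    have hW : Y ≤ W := by
      refine (d.comm_not_central hsol).ge.trans (commutator_le.2 fun y hy r hr => ?_)
      -- the elements whose commutators with `R` lie in `W`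
      let Z : Subgroup X :=
        { carrier := {z | z ∈ normalizer (W : Set X) ∧ ∀ r ∈ R, ⁅z, r⁆ ∈ W}
          one_mem' := ⟨one_mem _, fun r _ => by simp⟩
          mul_mem' := fun {a b} ha hb => ⟨mul_mem ha.1 hb.1, fun r hr => by
            rw [show ⁅a * b, r⁆ = a * ⁅b, r⁆ * a⁻¹ * ⁅a, r⁆ by
              simp [commutatorElement_def, mul_assoc]]
            exact mul_mem ((mem_normalizer_iff.1 ha.1 _).1 (hb.2 r hr)) (ha.2 r hr)⟩
          inv_mem' := fun {a} ha => ⟨inv_mem ha.1, fun r hr => by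
            have e : ⁅a⁻¹, r⁆ = a⁻¹ * ⁅a, r⁆⁻¹ * a := by simp [commutatorElement_def, mul_assoc]
            rw [e]
            simpa using (mem_normalizer_iff.1 (inv_mem ha.1) _).1 (inv_mem (ha.2 r hr))⟩ }
      refine ((hYgen Z fun K hK hKY z hz => ⟨hYW (hKY hz), ?_⟩) hy).2 r hr
      intro r hr
      by_cases h : ∃ u : S, K = K₀.map (MulAut.conj (u : X)).toMonoidHom
      · obtain ⟨u, rfl⟩ := h
        have hzW : z ∈ W := le_iSup (fun u : S => K₀.map (MulAut.conj (u : X)).toMonoidHom) u hz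
        rw [commutatorElement_def, show z * r * z⁻¹ * r⁻¹ = z * (r * z⁻¹ * r⁻¹) by group]
        exact mul_mem hzW ((mem_normalizer_iff.1 (hRW hr) _).1 (inv_mem hzW))
      · push Not at h
        have hK' : ¬ D ≤ orbitJoin S K := by
          intro hD'
          refine d.DL (le_trans ?_ (d.proper_le (N := Y ⊓ centralizer (Y : Set X)) inf_le_left ?_))
          · refine le_inf d.DY (le_centralizer_iff.1 (hYgen _ fun K' hK' hK'Y => ?_))
            by_cases h' : ∃ u : S, K' = K₀.map (MulAut.conj (u : X)).toMonoidHom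
            · obtain ⟨u, rfl⟩ := h'
              refine le_centralizer_iff.1 (hD'.trans (iSup_le fun v => ?_))
              exact commutator_eq_bot_iff_le_centralizer.1 (components_commute
                (isComponent_conj hK _) (isComponent_conj hK₀ _) fun e => h ((v : S)⁻¹ * u) (by
                  rw [Subgroup.coe_mul, Subgroup.coe_inv, map_conj_mul, ← e, ← map_conj_mul,
                    inv_mul_cancel, map_conj_one]))
            · push Not at h'
              exact (hout K' hK' h').trans (centralizer_le hD)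
          · intro e
            refine hsol ?_
            haveI : IsMulCommutative Y := le_centralizer_iff_isMulCommutative.1 (e.ge.trans inf_le_right)
            exact Group.isSolvable_of_comm fun a b => mul_comm' a b
        rw [commutatorElement_eq_one_iff_commute.2 (hsmall K hK hKY hK' hz r hr).symm]
        exact one_mem _
    intro K hK hKY
    by_contra h
    push Not at h
    exact quasisimple_not_isMulCommutative hK.2 (le_centralizer_iff_isMulCommutative.1
      ((hout K hK h).trans (centralizer_le (hKY.trans hW))))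
  obtain ⟨u, rfl⟩ := horb K₁ h1 h1Y
  obtain ⟨v, rfl⟩ := horb K₂ h2 h2Y
  refine ⟨_, mul_mem v.2 (inv_mem u.2), ?_⟩
  rw [← map_conj_mul, inv_mul_cancel_right]

end Data

end CfsgLib.LocalEven.IsoPMin
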