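import Cfsg.Agent.Lib.LocalEven.J3InvolCode

/-!
The finite checks for the involutions of the third Janko group.
-/

set_option autoImplicit false
set_option maxRecDepth 100000

namespace CfsgLib.LocalEven.J3Lines

open Cfsg Cfsg.Spor

theorem qGrp_ok : grpOK qGens qGenCols qElts qTbl qCols = true := by decide +kernel

theorem hGrp_ok : grpOK hGens hGenCols hElts hTbl hCols = true := by decide +kernel

theorem pGrp_ok : grpOK pGens pGenCols pElts pTbl pCols = true := by decide +kernel

theorem tCols_ok : eqL tCols (wordCols tWord) = true ∧ eqL tCols (qCols.getD 5 []) = true := by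
  decide +kernel

theorem grp_len : qCols.length = 32 ∧ hCols.length = 60 ∧ pCols.length = 128 := by decide +kernel

theorem qCols_nodup : qCols.Nodup := by decide +kernel

theorem hCols_nodup : hCols.Nodup := by decide +kernel

theorem pCols_nodup : pCols.Nodup := by decide +kernel

theorem qh_commute : ((qGenCols ++ hGenCols).all fun g => eqL (mulL g tCols) (mulL tCols g)) = true := by
  decide +kernel

theorem qh_conj : ((List.range qGens.length).all fun i => (List.range 2).all fun j =>
    Nat.blt ((qConj.getD i []).getD j 0) 32 &&
    eqL (mulL (hGenCols.getD j []) (qGenCols.getD i []))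
      (mulL (qCols.getD ((qConj.getD i []).getD j 0) []) (hGenCols.getD j []))) = true := by
  decide +kernel

theorem qh_meet : (qCols.all fun a => eqL a idCols || hCols.all fun b => !eqL a b) = true := by
  decide +kernel

theorem h_scalar : (hCols.all fun a => !eqL a (idCols.map wMul) && !eqL a (idCols.map (wPow 2))) = true := by
  decide +kernel

theorem q_table : ((List.range 32).all fun i => (List.range 32).all fun j =>
    Nat.beq (tmul qElts qTbl i j) (tmul qElts qTbl j i) ||
      Nat.beq (tmul qElts qTbl 5 (tmul qElts qTbl i j)) (tmul qElts qTbl j i)) = true := by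
  decide +kernel

theorem q_square : ((List.range 32).all fun i =>
    Nat.beq (tmul qElts qTbl i i) 0 || Nat.beq (tmul qElts qTbl i i) 5) = true := by
  decide +kernel

theorem q_centre : ((List.range 32).all fun i => Nat.beq i 0 || Nat.beq i 5 ||
    (List.range 32).any fun j => !Nat.beq (tmul qElts qTbl i j) (tmul qElts qTbl j i)) = true := by
  decide +kernel

theorem q_rank : ((List.range 32).all fun i =>
    Nat.beq i 0 || !Nat.beq (tmul qElts qTbl i i) 0 || (List.range 32).all fun j =>
      Nat.beq j 0 || Nat.beq j i || !Nat.beq (tmul qElts qTbl j j) 0 ||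
        !Nat.beq (tmul qElts qTbl i j) (tmul qElts qTbl j i) || (List.range 32).all fun k =>
          Nat.beq k 0 || Nat.beq k i || Nat.beq k j || !Nat.beq (tmul qElts qTbl k k) 0 ||
            Nat.beq (tmul qElts qTbl i j) k ||
            !Nat.beq (tmul qElts qTbl i k) (tmul qElts qTbl k i) ||
            !Nat.beq (tmul qElts qTbl j k) (tmul qElts qTbl k j)) = true := by
  decide +kernel

theorem p_conj : ((List.range 128).all fun i => Nat.beq i 0 ||
    !Nat.beq (tmul pElts pTbl i i) 0 ||
      ((pConj.getD i []).all (fun j => Nat.blt j 7) &&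
        eqL (mulL (wordCols (pConj.getD i [])) tCols)
          (mulL (pCols.getD i []) (wordCols (pConj.getD i []))))) = true := by
  decide +kernel

theorem h_perm : ((List.range 60).all fun i =>
    (List.range 2).all fun k => eqL (hPerm.getD ((hTbl.getD i []).getD k 0) [])
      ((List.range 5).map fun x => (hPerm.getD ((hTbl.getD 0 []).getD k 0) []).getD
        ((hPerm.getD i []).getD x 0) 0)) = true := by
  decide +kernel

theorem hPerm_nodup : hPerm.Nodup ∧ eqL (hPerm.getD 0 []) [0, 1, 2, 3, 4] = true ∧
    hPerm.length = 60 := by
  decide +kernel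

theorem cBase_ok : (Nat.beq cBase.length 9 && cBase.all (fun b => Nat.blt b 262144) &&
    (List.range 18).all fun i => Nat.beq (evalC (cBaseCoef.getD i []) cBase) (2 ^ i)) = true := by
  decide +kernel

theorem cImage_ok :
    Nat.beq (orT (fun i => (cDom.spanL ((cBase.drop 5).map fun b => imgL tCols b ^^^ b)).getD i 0) 256 8 0)
      (sumT (fun i => (cDom.spanL ((cBase.drop 5).map fun b => imgL tCols b ^^^ b)).getD i 0) 256 8 0) =
      true ∧
    (cDom.spanL ((cBase.drop 5).map fun b => imgL tCols b ^^^ b)).length = 256 := by
  decide +kernel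

theorem cFix_nodup :
    Nat.beq (orT (fun i => (cDom.spanL (cBase.take 5)).getD i 0) 1024 10 0)
      (sumT (fun i => (cDom.spanL (cBase.take 5)).getD i 0) 1024 10 0) = true ∧
    (cDom.spanL (cBase.take 5)).length = 1024 := by
  decide +kernel

theorem cFix_ok : ((cBase.take 5).all fun b => Nat.beq (imgL tCols b) b) = true := by decide +kernel

theorem cOrbs_ok : ((List.range 9).all fun k =>
    eqL ((cDom k).filter (cKeep k)) (cOrbs.getD k [])) = true := by
  decide +kernel

theorem cWords_ok : ((List.range 9).all fun k =>
    (cOrbs.getD k []).contains (cBase.getD k 0) &&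
    (List.range (cOrbs.getD k []).length).all fun i =>
      ((cWords.getD k []).getD i []).all (fun j => Nat.blt j 7) &&
      eqL (mulL (wordCols ((cWords.getD k []).getD i [])) tCols)
        (mulL tCols (wordCols ((cWords.getD k []).getD i []))) &&
      (cBase.take k).all (fun b => Nat.beq (appWord ((cWords.getD k []).getD i []) b) b) &&
      Nat.beq (appWord ((cWords.getD k []).getD i []) (cBase.getD k 0))
        ((cOrbs.getD k []).getD i 0)) = true := by
  decide +kernel

theorem cOrbs_len : (List.range 9).map (fun k => (cOrbs.getD k []).length) =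
    [15, 12, 4, 2, 2, 2, 1, 1, 1] := by
  decide +kernel

theorem cOrbs_nodup : ∀ k : Fin 9, (cOrbs.getD k []).Nodup := by decide +kernel

end CfsgLib.LocalEven.J3Lines
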