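import Cfsg.Agent.Lib.LocalEven.J3OrderGroup
import Cfsg.Agent.Lib.LocalEven.J3InvolChecks

/-!
Subgroups of the triple cover of the third Janko group given by columns and multiplication tables.
-/

set_option autoImplicit false
set_option maxRecDepth 100000

namespace CfsgLib.LocalEven.J3Lines

open Cfsg Cfsg.Spor Matrix
open scoped MatrixGroups

attribute [local irreducible] bits1 bits2 bitsV el1 el2 getB getW app genCols genWords vec1 vec2
  par1 par2 loTbl hiTbl parTbl genOrd orbsTbl owordsTbl patsTbl witU witKey base baseCoef cycCoef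

variable {F : Type*} [Field F] [Fintype F] {ω : F}

/-- the columns of a matrix as codes -/
def Cols (F : Type*) [Field F] (ω : F) (M : Matrix F9 F9 F) (c : List ℕ) : Prop :=
  c.length = 18 ∧ ∀ i < 18, c.getD i 0 < 262144 ∧ M *ᵥ dec F ω (2 ^ i) = dec F ω (c.getD i 0)

theorem eqL_iff : ∀ {l m : List ℕ}, eqL l m = true ↔ l = m
  | [], [] => by simp [eqL]
  | [], _ :: _ => by simp [eqL]
  | _ :: _, [] => by simp [eqL]
  | a :: l, b :: m => by
    rw [eqL, Bool.and_eq_true, Nat.beq_eq, eqL_iff, List.cons_eq_cons]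

theorem imgL_lt : ∀ (c : List ℕ) (v : ℕ), (∀ x ∈ c, x < 262144) → imgL c v < 262144
  | [], _, _ => by simp [imgL]
  | a :: c, v, h => by
    rw [imgL]
    refine Nat.xor_lt_two_pow (n := 18) ?_ (imgL_lt c _ fun x hx => h x (List.mem_cons_of_mem _ hx))
    split
    · exact h a List.mem_cons_self
    · norm_num

theorem mod_two_xor (v : ℕ) : (v % 2) ^^^ (2 * (v / 2)) = v := by
  have h1 := Nat.xor_div_two (a := v % 2) (b := 2 * (v / 2))
  have h2 := Nat.div_add_mod ((v % 2) ^^^ (2 * (v / 2))) 2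
  rw [h1, Nat.xor_mod_two_eq, show v % 2 / 2 = 0 by omega, Nat.zero_xor] at h2
  omega

theorem imgL_spec (h : Four F ω) (f : (F9 → F) →+ (F9 → F)) : ∀ (c : List ℕ) (s : ℕ),
    (∀ i < c.length, f (dec F ω (2 ^ (s + i))) = dec F ω (c.getD i 0)) →
    ∀ v, v < 2 ^ c.length → f (dec F ω (v * 2 ^ s)) = dec F ω (imgL c v)
  | [], s, _, v, hv => by
    obtain rfl : v = 0 := by simpa using hv
    simp [imgL, dec_zero]
  | a :: c, s, hc, v, hv => by
    rw [List.length_cons, pow_succ] at hv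
    have e : v * 2 ^ s = ((v % 2) * 2 ^ s) ^^^ ((v / 2) * 2 ^ (s + 1)) := by
      conv_lhs => rw [← mod_two_xor v]
      rw [← Nat.shiftLeft_eq, Nat.shiftLeft_xor_distrib, Nat.shiftLeft_eq, Nat.shiftLeft_eq, pow_succ]
      congr 1; ring
    rw [e, dec_xor h, map_add, imgL, dec_xor h,
      imgL_spec h f c (s + 1) (fun i hi => by
        have := hc (i + 1) (by simpa using hi)
        rwa [List.getD_cons_succ, show s + (i + 1) = s + 1 + i by omega] at this) (v / 2) (by omega)]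
    congr 1
    rw [Nat.testBit_zero]
    rcases Nat.mod_two_eq_zero_or_one v with hb | hb
    · simp [hb, dec_zero]
    · have := hc 0 (by simp)
      simpa [hb] using this

theorem Cols.app (h : Four F ω) {M : Matrix F9 F9 F} {c : List ℕ} (hc : Cols F ω M c) {v : ℕ}
    (hv : v < 262144) : imgL c v < 262144 ∧ M *ᵥ dec F ω v = dec F ω (imgL c v) := by
  refine ⟨imgL_lt c v fun x hx => ?_, ?_⟩
  · obtain ⟨i, hi, rfl⟩ := List.mem_iff_getElem.1 hx
    rw [← List.getD_eq_getElem _ 0 hi]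
    exact (hc.2 i (hc.1 ▸ hi)).1
  · have := imgL_spec h (mv M) c 0 (fun i hi => by rw [Nat.zero_add]; exact (hc.2 i (hc.1 ▸ hi)).2)
      v (by rw [hc.1]; exact lt_of_lt_of_eq hv (by norm_num))
    rwa [pow_zero, mul_one] at this

theorem Cols.mul (h : Four F ω) {M N : Matrix F9 F9 F} {a b : List ℕ} (ha : Cols F ω M a)
    (hb : Cols F ω N b) : Cols F ω (M * N) (mulL a b) := by
  refine ⟨by rw [mulL, List.length_map, hb.1], fun i hi => ?_⟩
  obtain ⟨h1, h2⟩ := hb.2 i hi
  obtain ⟨h3, h4⟩ := ha.app h h1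
  rw [mulL, List.getD_eq_getElem _ _ (by rw [List.length_map, hb.1]; exact hi), List.getElem_map,
    ← List.getD_eq_getElem _ 0 (by rw [hb.1]; exact hi)]
  exact ⟨h3, by rw [← Matrix.mulVec_mulVec, h2, h4]⟩

theorem Cols.eq (h : Four F ω) {M N : Matrix F9 F9 F} {c : List ℕ} (ha : Cols F ω M c)
    (hb : Cols F ω N c) : M = N :=
  mat_ext h fun i hi => by rw [(ha.2 i hi).2, (hb.2 i hi).2]

theorem Cols.unique (h : Four F ω) {M : Matrix F9 F9 F} {a b : List ℕ} (ha : Cols F ω M a)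
    (hb : Cols F ω M b) : a = b := by
  refine List.ext_getElem (ha.1.trans hb.1.symm) fun i h1 h2 => ?_
  rw [← List.getD_eq_getElem _ 0 h1, ← List.getD_eq_getElem _ 0 h2]
  have hi : i < 18 := ha.1 ▸ h1
  exact dec_inj h (ha.2 i hi).1 (hb.2 i hi).1 ((ha.2 i hi).2.symm.trans (hb.2 i hi).2)

theorem Cols.one : Cols F ω 1 idCols := by
  refine ⟨by simp [idCols], fun i hi => ?_⟩
  have e : idCols.getD i 0 = 2 ^ i := by
    rw [idCols, List.getD_eq_getElem _ _ (by simp [hi]), List.getElem_map, List.getElem_range]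
  rw [e, Matrix.one_mulVec]
  exact ⟨two_pow_lt hi, rfl⟩

theorem Cols.word (h : Four F ω) {w : List ℕ} (hw : ∀ j ∈ w, j < 7) :
    Cols F ω (wordMat F ω w) (wordCols w) := by
  refine ⟨by simp [wordCols], fun i hi => ?_⟩
  have e : (wordCols w).getD i 0 = appWord w (2 ^ i) := by
    rw [wordCols, List.getD_eq_getElem _ _ (by simp [hi]), List.getElem_map, List.getElem_range]
  rw [e]
  exact appWord_spec h w hw _ (two_pow_lt hi)

/-- a tabulated subgroup -/
structure TGrp (F : Type*) [Field F] (ω : F) (elts tbl cols : List (List ℕ))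
    (S : Subgroup (GL F9 F)) (E : ℕ → GL F9 F) : Prop where
  le : S ≤ threeJ3 F ω
  cols_eq : ∀ i < cols.length, Cols F ω (E i : Matrix F9 F9 F) (cols.getD i [])
  mem : ∀ i < cols.length, E i ∈ S
  mem_iff : ∀ g ∈ S, ∃ i < cols.length, g = E i
  one : E 0 = 1
  mul : ∀ i < cols.length, ∀ j < cols.length,
    tmul elts tbl i j < cols.length ∧ E (tmul elts tbl i j) = E i * E j

theorem exists_tGrp (h : Four F ω) {gens gcols elts tbl cols : List (List ℕ)}
    (hok : grpOK gens gcols elts tbl cols = true) (hpos : 0 < cols.length) :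
    ∃ (S : Subgroup (GL F9 F)) (E : ℕ → GL F9 F), TGrp F ω elts tbl cols S E ∧
      ∀ k < gens.length, ∃ g ∈ S, Cols F ω (g : Matrix F9 F9 F) (gcols.getD k []) ∧
        ((tbl.getD 0 []).getD k 0 < cols.length ∧ E ((tbl.getD 0 []).getD k 0) = g) ∧
        S = Subgroup.closure {x : GL F9 F | ∃ k < gens.length, Cols F ω (x : Matrix F9 F9 F) (gcols.getD k [])} := by
  classical
  simp only [grpOK, Bool.and_eq_true, List.all_eq_true, List.mem_range, Nat.beq_eq, Nat.blt_eq,
    eqL_iff] at hok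
  obtain ⟨⟨⟨⟨-, hw⟩, hg⟩, h0⟩, hi⟩ := hok
  have hex : ∀ k : Fin gens.length, ∃ g : GL F9 F, g ∈ threeJ3 F ω ∧
      Cols F ω (g : Matrix F9 F9 F) (gcols.getD k []) := fun k => by
    have hk : gens.getD k [] ∈ gens := by
      rw [List.getD_eq_getElem _ _ k.2]; exact List.getElem_mem _
    obtain ⟨g, hgm, hge⟩ := exists_word h (gens.getD k []) (hw _ hk)
    exact ⟨g, selGrp_le h hgm, by rw [hge, hg k k.2]; exact Cols.word h (hw _ hk)⟩
  choose γ hγm hγc using hex
  let gp : List ℕ → GL F9 F := fun w =>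
    (w.map fun k => if hk : k < gens.length then γ ⟨k, hk⟩ else 1).prod
  let S : Subgroup (GL F9 F) :=
    Subgroup.closure {x : GL F9 F | ∃ k < gens.length, Cols F ω (x : Matrix F9 F9 F) (gcols.getD k [])}
  have hSγ : ∀ k, γ k ∈ S := fun k => Subgroup.subset_closure ⟨k, k.2, hγc k⟩
  have hwalk : ∀ w : List ℕ, (∀ k ∈ w, k < gens.length) → ∀ j < cols.length, ∀ M : GL F9 F,
      Cols F ω (M : Matrix F9 F9 F) (cols.getD j []) →
      walk tbl w j < cols.length ∧
        Cols F ω ((gp w * M : GL F9 F) : Matrix F9 F9 F) (cols.getD (walk tbl w j) []) ∧ gp w ∈ S := by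
    intro w
    induction w with
    | nil => intro _ j hj M hM; simpa [gp, walk, hj, one_mem] using hM
    | cons k w ih =>
      intro hk j hj M hM
      obtain ⟨a, b, c⟩ := ih (fun x hx => hk x (List.mem_cons_of_mem _ hx)) j hj M hM
      have hkl := hk k List.mem_cons_self
      obtain ⟨a', b'⟩ := ((hi _ a).2 k hkl)
      have hgp : gp (k :: w) = γ ⟨k, hkl⟩ * gp w := by simp [gp, hkl]
      refine ⟨a', ?_, by rw [hgp]; exact mul_mem (hSγ _) c⟩
      rw [walk, ← b', hgp, mul_assoc, Units.val_mul]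
      exact (hγc ⟨k, hkl⟩).mul h b
  have hone : Cols F ω ((1 : GL F9 F) : Matrix F9 F9 F) (cols.getD 0 []) := by
    rw [h0, Units.val_one]; exact Cols.one
  let E : ℕ → GL F9 F := fun i => gp (elts.getD i [])
  have hE : ∀ i < cols.length, Cols F ω (E i : Matrix F9 F9 F) (cols.getD i []) ∧ E i ∈ S := by
    intro i hil
    obtain ⟨⟨e, hk⟩, -⟩ := hi i hil
    obtain ⟨-, b, c⟩ := hwalk _ hk 0 hpos 1 hone
    rw [e, mul_one] at b
    exact ⟨b, c⟩
  have heq : ∀ {g : GL F9 F} {i}, i < cols.length →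
      Cols F ω (g : Matrix F9 F9 F) (cols.getD i []) → g = E i := fun {g i} hil hg' =>
    Units.ext (hg'.eq h (hE i hil).1)
  have hmul : ∀ i < cols.length, ∀ j < cols.length,
      tmul elts tbl i j < cols.length ∧ E (tmul elts tbl i j) = E i * E j := by
    intro i hil j hjl
    obtain ⟨⟨-, hk⟩, -⟩ := hi i hil
    obtain ⟨a, b, -⟩ := hwalk _ hk j hjl (E j) (hE j hjl).1
    exact ⟨a, (heq a b).symm⟩
  have hgen : ∀ k (hk : k < gens.length), (tbl.getD 0 []).getD k 0 < cols.length ∧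
      E ((tbl.getD 0 []).getD k 0) = γ ⟨k, hk⟩ := by
    intro k hk
    obtain ⟨a', b'⟩ := ((hi 0 hpos).2 k hk)
    refine ⟨a', (heq a' ?_).symm⟩
    rw [← b']
    have := (hγc ⟨k, hk⟩).mul h hone
    rwa [Units.val_one, mul_one] at this
  have hSle : S ≤ threeJ3 F ω := by
    refine (Subgroup.closure_le _).2 ?_
    rintro x ⟨k, hk, hx⟩
    rw [Units.ext (hx.eq h (hγc ⟨k, hk⟩))]
    exact hγm _
  refine ⟨S, E, ⟨hSle, fun i hil => (hE i hil).1, fun i hil => (hE i hil).2, ?_, (heq hpos hone).symm,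
    hmul⟩, fun k hk => ⟨γ ⟨k, hk⟩, hSγ _, hγc _, hgen k hk, rfl⟩⟩
  intro g hgS
  rw [← Subgroup.mem_toSubmonoid, Subgroup.closure_toSubmonoid_of_finite] at hgS
  induction hgS using Submonoid.closure_induction with
  | mem x hx =>
    obtain ⟨k, hk, hx⟩ := hx
    obtain ⟨a, b⟩ := hgen k hk
    exact ⟨_, a, by rw [b]; exact Units.ext (hx.eq h (hγc ⟨k, hk⟩))⟩
  | one => exact ⟨0, hpos, heq hpos hone⟩
  | mul a b _ _ ha hb =>
    obtain ⟨i, hil, rfl⟩ := ha
    obtain ⟨j, hjl, rfl⟩ := hb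
    exact ⟨_, (hmul i hil j hjl).1, (hmul i hil j hjl).2.symm⟩

theorem TGrp.inj (h : Four F ω) {elts tbl cols : List (List ℕ)} {S : Subgroup (GL F9 F)}
    {E : ℕ → GL F9 F} (hS : TGrp F ω elts tbl cols S E) (hn : cols.Nodup) {i j : ℕ}
    (hi : i < cols.length) (hj : j < cols.length) (e : E i = E j) : i = j := by
  have := Cols.unique h (hS.cols_eq i hi) (e ▸ hS.cols_eq j hj)
  rw [List.getD_eq_getElem _ _ hi, List.getD_eq_getElem _ _ hj] at this
  exact (List.Nodup.getElem_inj_iff hn).1 this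

theorem TGrp.card_eq (h : Four F ω) {elts tbl cols : List (List ℕ)} {S : Subgroup (GL F9 F)}
    {E : ℕ → GL F9 F} (hS : TGrp F ω elts tbl cols S E) (hn : cols.Nodup) :
    Nat.card S = cols.length := by
  rw [← Nat.card_fin cols.length]
  refine (Nat.card_congr (Equiv.ofBijective (fun i : Fin cols.length => (⟨E i, hS.mem i i.2⟩ : S))
    ⟨fun i j e => Fin.ext (hS.inj h hn i.2 j.2 (congrArg Subtype.val e)), fun g => ?_⟩)).symm
  obtain ⟨i, hi, e⟩ := hS.mem_iff g g.2
  exact ⟨⟨i, hi⟩, Subtype.ext e.symm⟩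

theorem TGrp.tmul_one (h : Four F ω) {elts tbl cols : List (List ℕ)} {S : Subgroup (GL F9 F)}
    {E : ℕ → GL F9 F} (hS : TGrp F ω elts tbl cols S E) (hn : cols.Nodup) {i j : ℕ}
    (hi : i < cols.length) (hj : j < cols.length) :
    E i * E j = 1 ↔ tmul elts tbl i j = 0 := by
  rw [← (hS.mul i hi j hj).2, ← hS.one]
  exact ⟨fun e => hS.inj h hn (hS.mul i hi j hj).1 (by omega) e, fun e => by rw [e]⟩

end CfsgLib.LocalEven.J3Lines
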