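import Cfsg.Agent.Lib.LocalEven.J3OrderCode
import Cfsg.Agent.Lib.LocalEven.J3InvolData

/-!
Groups of matrices given by columns of codes, with their multiplication by generators.
-/

set_option autoImplicit false
set_option maxRecDepth 100000

namespace CfsgLib.LocalEven.J3Lines

open Cfsg Cfsg.Spor

/-- image from the list of the images of the bits -/
def imgL : List ℕ → ℕ → ℕ
  | [], _ => 0
  | c :: cs, v => (if v.testBit 0 then c else 0) ^^^ imgL cs (v / 2)

/-- columns of a product -/
def mulL (a b : List ℕ) : List ℕ := b.map (imgL a)

/-- the basis codes -/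
def idCols : List ℕ := (List.range 18).map fun i => 2 ^ i

/-- columns of a word -/
def wordCols (w : List ℕ) : List ℕ := (List.range 18).map fun i => appWord w (2 ^ i)

/-- equality of lists of codes -/
def eqL : List ℕ → List ℕ → Bool
  | [], [] => true
  | a :: l, b :: m => Nat.beq a b && eqL l m
  | _, _ => false

/-- index after multiplying on the left by a word in the generators -/
def walk (tbl : List (List ℕ)) : List ℕ → ℕ → ℕ
  | [], j => j
  | k :: w, j => (tbl.getD (walk tbl w j) []).getD k 0

/-- product in a tabulated group -/
def tmul (elts tbl : List (List ℕ)) (i j : ℕ) : ℕ := walk tbl (elts.getD i []) j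

/-- validity of a tabulated group -/
def grpOK (gens gcols elts tbl cols : List (List ℕ)) : Bool :=
  Nat.beq gcols.length gens.length &&
  gens.all (fun w => w.all fun j => Nat.blt j 7) &&
  (List.range gens.length).all (fun k => eqL (gcols.getD k []) (wordCols (gens.getD k []))) &&
  eqL (cols.getD 0 []) idCols &&
  (List.range cols.length).all fun i =>
    Nat.beq (walk tbl (elts.getD i []) 0) i &&
    (elts.getD i []).all (fun k => Nat.blt k gens.length) &&
    (List.range gens.length).all fun k =>
      Nat.blt ((tbl.getD i []).getD k 0) cols.length &&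
        eqL (mulL (gcols.getD k []) (cols.getD i [])) (cols.getD ((tbl.getD i []).getD k 0) [])

/-- linear conditions of the centraliser stages: domain -/
def cDom (k : ℕ) : List ℕ :=
  if k < 5 then spanL (cBase.take 5) else (spanL (cBase.take 5)).map (fun f => cBase.getD k 0 ^^^ f)
where
  spanL : List ℕ → List ℕ
    | [] => [0]
    | b :: bs =>
      let s := spanL bs
      s ++ s.map (fun x => x ^^^ b) ++ s.map (fun x => x ^^^ wMul b) ++ s.map (fun x => x ^^^ wMul (wMul b))

/-- isolated bit tests for the three types -/
def tyT (t x : ℕ) : Bool := (tyB t).testBit x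

/-- fixed vectors in the first orbit -/
def fixV1 : List ℕ := (cDom.spanL (cBase.take 5)).filter fun u => bitsV.testBit u

/-- the conditions of a centraliser stage -/
def cKeep (k y : ℕ) : Bool :=
  (cPats.getD k []).all (fun p => tyT p.2 (y ^^^ evalC p.1 (cBase.take k))) &&
  (Nat.blt 1 k || !(cDom.spanL (cBase.take k)).any (fun z => Nat.beq z y)) &&
  ((cCnts.getD k []).isEmpty ||
    Nat.beq ((fixV1.filter fun u => tyT ((cCnts.getD k []).getD 0 0) (y ^^^ u)).length)
      ((cCnts.getD k []).getD 1 0))

end CfsgLib.LocalEven.J3Lines
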