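import Cfsg.Agent.Lib.LocalEven.J3LinesChecks

/-!
The orbits of the triple cover of the third Janko group on lines: the image set of the first
basis line has 23256 members, and the isotropic lines form one orbit.
-/

set_option autoImplicit false
set_option maxRecDepth 100000

namespace CfsgLib.LocalEven.J3Lines

open Cfsg Cfsg.Spor Matrix
open scoped MatrixGroups

attribute [local irreducible] bits1 bits2 el1 el2 getB getW app genCols genWords vec1 vec2 par1 par2
  loTbl hiTbl parTbl genOrd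

variable (F : Type*) [Field F] (ω : F)

/-- the element with a given code -/
def toF (c : ℕ) : F := (if c.testBit 0 then 1 else 0) + (if c.testBit 1 then ω else 0)

/-- the vector with a given code -/
def dec (v : ℕ) (z : F9) : F := toF F ω (cd v z)

/-- the matrix of a generator -/
def mat : Kind → F9 → Matrix F9 F9 F
  | .kA, Z => j3A F ω Z
  | .kE, Z => j3E F ω Z
  | .kD, Z => j3D F ω Z
  | .kB, Z => j3B F Z
  | .kC, Z => j3C F Z

/-- `F` has four elements and `ω` is a primitive cube root of unity -/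
structure Four [Fintype F] : Prop where
  card : Fintype.card F = 4
  root : ω ^ 2 + ω + 1 = 0

variable {F ω} [Fintype F]

theorem Four.two (h : Four F ω) : (2 : F) = 0 := by
  have h4 : ((Fintype.card F : ℕ) : F) = 0 := FiniteField.cast_card_eq_zero F
  rw [h.card] at h4
  have : (2 : F) * 2 = 0 := by rw [← h4]; norm_num
  simpa using this

theorem Four.sq (h : Four F ω) : ω * ω = 1 + ω := by linear_combination h.root - (ω + 1) * h.two

theorem Four.ne_zero (h : Four F ω) : ω ≠ 0 := fun e => by simpa [e] using h.root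

theorem Four.ne_one (h : Four F ω) : ω ≠ 1 := fun e => by
  have := h.root
  rw [e] at this
  exact one_ne_zero (α := F) (by linear_combination this - h.two)

theorem toF_xor (h : Four F ω) (a b : ℕ) : toF F ω (a ^^^ b) = toF F ω a + toF F ω b := by
  simp only [toF, Nat.testBit_xor]
  cases a.testBit 0 <;> cases b.testBit 0 <;> cases a.testBit 1 <;> cases b.testBit 1 <;>
    simp <;> grind [h.two]

theorem toF_vals : toF F ω 0 = 0 ∧ toF F ω 1 = 1 ∧ toF F ω 2 = ω ∧ toF F ω 3 = 1 + ω := by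
  simp [toF, Nat.testBit]

theorem toF_inj (h : Four F ω) {a b : ℕ} (ha : a < 4) (hb : b < 4) (e : toF F ω a = toF F ω b) :
    a = b := by
  obtain ⟨h0, h1, h2, h3⟩ := toF_vals (F := F) (ω := ω)
  have n3 : (1 : F) + ω ≠ 0 := fun e' => h.ne_one (by linear_combination e' - h.two)
  interval_cases a <;> interval_cases b <;> first
    | rfl
    | (rw [h0, h1] at e; exact absurd e zero_ne_one)
    | (rw [h0, h1] at e; exact absurd e one_ne_zero)
    | (rw [h0, h2] at e; exact absurd e.symm h.ne_zero)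
    | (rw [h0, h2] at e; exact absurd e h.ne_zero)
    | (rw [h0, h3] at e; exact absurd e.symm n3)
    | (rw [h0, h3] at e; exact absurd e n3)
    | (rw [h1, h2] at e; exact absurd e.symm h.ne_one)
    | (rw [h1, h2] at e; exact absurd e h.ne_one)
    | (rw [h1, h3] at e; exact absurd (by linear_combination e) h.ne_zero)
    | (rw [h1, h3] at e; exact absurd (by linear_combination -e) h.ne_zero)
    | (rw [h2, h3] at e; exact absurd (by linear_combination e) (one_ne_zero (α := F)))
    | (rw [h2, h3] at e; exact absurd (by linear_combination -e) (one_ne_zero (α := F)))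

theorem toF_mulC (h : Four F ω) {a b : ℕ} (ha : a < 4) (hb : b < 4) :
    toF F ω (mulC a b) = toF F ω a * toF F ω b := by
  obtain ⟨h0, h1, h2, h3⟩ := toF_vals (F := F) (ω := ω)
  have s := h.sq
  have t := h.two
  interval_cases a <;> interval_cases b <;> simp [mulC, h0, h1, h2, h3] <;> grind

theorem omegaPow_eq (h : Four F ω) (n : ZMod 3) : omegaPow F ω n = toF F ω (powC n) := by
  obtain ⟨h0, h1, h2, h3⟩ := toF_vals (F := F) (ω := ω)
  have hn : ∀ n : ZMod 3, n.val = 0 ∨ n.val = 1 ∨ n.val = 2 := by decide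
  rcases hn n with e | e | e <;> simp [omegaPow, powC, e, h1, h2, h3]
  linear_combination h.sq

theorem mat_eq (h : Four F ω) (g : Kind) (Z w z : F9) :
    mat F ω g Z w z = toF F ω (gMat g Z w z) := by
  obtain ⟨h0, h1, h2, h3⟩ := toF_vals (F := F) (ω := ω)
  cases g
  · simp only [mat, gMat, j3A, Matrix.diagonal_apply]
    by_cases e : w = z
    · simp [e, omegaPow_eq h]
    · simp [e, h0]
  · simp only [mat, gMat, j3E, Matrix.diagonal_apply]
    by_cases e : w = z
    · simp [e, omegaPow_eq h]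
    · simp [e, h0]
  · simp only [mat, gMat, j3D, Matrix.of_apply, lamC, j3Lam]
    split_ifs <;> simp [h0, h1, h2, h3]
    linear_combination h.sq
  · simp only [mat, gMat, j3B, Matrix.of_apply]
    split_ifs <;> simp [h0, h1]
  · simp only [mat, gMat, j3C, Matrix.of_apply]
    split_ifs <;> simp [h0, h1]

/-! ### Vectors -/

theorem kk_lt : ∀ z : F9, kk z < 9 := by decide

theorem cd_xor (a b : ℕ) (z : F9) : cd (a ^^^ b) z = cd a z ^^^ cd b z := by
  simp [cd, Nat.shiftRight_xor_distrib, Nat.and_xor_distrib_right]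

theorem cd_lt (v : ℕ) (z : F9) : cd v z < 4 := lt_of_le_of_lt Nat.and_le_right (by norm_num)

theorem dec_xor (h : Four F ω) (a b : ℕ) : dec F ω (a ^^^ b) = dec F ω a + dec F ω b := by
  funext z; simp [dec, cd_xor, toF_xor h]

theorem dec_zero : dec F ω 0 = 0 := by
  funext z; simp [dec, cd, toF]

theorem testBit_mod_succ (n v : ℕ) :
    v % 2 ^ (n + 1) = (v % 2 ^ n) ^^^ (if v.testBit n then 2 ^ n else 0) := by
  refine Nat.eq_of_testBit_eq fun i => ?_
  rw [Nat.testBit_mod_two_pow, Nat.testBit_xor, Nat.testBit_mod_two_pow]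
  rcases lt_trichotomy i n with hi | rfl | hi
  · split <;> simp [hi, (show i < n + 1 by omega), Nat.testBit_two_pow, (show ¬ n = i by omega)]
  · cases hb : v.testBit i <;> simp [hb, Nat.testBit_two_pow]
  · split <;> simp [(show ¬ i < n by omega), (show ¬ i < n + 1 by omega), Nat.testBit_two_pow,
      (show ¬ n = i by omega)]

/-- an additive map is determined by the codes of the images of the bits -/
theorem dec_imgN (h : Four F ω) (f : (F9 → F) →+ (F9 → F)) (c : List ℕ) :
    ∀ n, (∀ i < n, f (dec F ω (2 ^ i)) = dec F ω (c.getD i 0)) → ∀ v,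
      f (dec F ω (v % 2 ^ n)) = dec F ω (imgN c n v)
  | 0, _, v => by simp [imgN, Nat.mod_one, dec_zero]
  | n + 1, hc, v => by
    rw [testBit_mod_succ, dec_xor h, map_add, dec_imgN h f c n (fun i hi => hc i (by omega)), imgN,
      dec_xor h]
    cases v.testBit n
    · simp [dec_zero]
    · simp [hc n (by omega)]

/-- multiplication by a matrix as an additive map -/
def mv (M : Matrix F9 F9 F) : (F9 → F) →+ (F9 → F) where
  toFun x := M *ᵥ x
  map_zero' := Matrix.mulVec_zero M
  map_add' := Matrix.mulVec_add M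

theorem zs_nodup : zs.Nodup ∧ ∀ z : F9, z ∈ zs := by decide

theorem cd_two_pow : ∀ i : Fin 18, ∀ z : F9,
    cd (2 ^ (i : ℕ)) z = if z = zs.getD ((i : ℕ) / 2) 0 then 2 ^ ((i : ℕ) % 2) else 0 := by
  decide +kernel

theorem gMat_lt : ∀ g ∈ allGens, ∀ w z : F9, gMat g.1 g.2 w z < 4 := by decide +kernel

theorem cd_colCode : ∀ n : Fin 43, ∀ i : Fin 18, ∀ w : F9,
    cd (colCode (allGens.getD n (.kA, 0)) i) w =
      mulC (gMat (allGens.getD n (.kA, 0)).1 (allGens.getD n (.kA, 0)).2 w (zs.getD ((i : ℕ) / 2) 0))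
        (2 ^ ((i : ℕ) % 2)) := by
  decide +kernel

theorem allGens_length : allGens.length = 43 := rfl

theorem mv_bit (h : Four F ω) {n : ℕ} (hn : n < 43) {i : ℕ} (hi : i < 18) :
    mat F ω (allGens.getD n (.kA, 0)).1 (allGens.getD n (.kA, 0)).2 *ᵥ dec F ω (2 ^ i) =
      dec F ω (colCode (allGens.getD n (.kA, 0)) i) := by
  funext w
  have hg : allGens.getD n (.kA, 0) ∈ allGens := by
    rw [List.getD_eq_getElem _ _ (by rw [allGens_length]; exact hn)]; exact List.getElem_mem _
  rw [Matrix.mulVec, dotProduct, Finset.sum_eq_single (zs.getD (i / 2) 0)]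
  · rw [dec, dec, cd_colCode ⟨n, hn⟩ ⟨i, hi⟩ w, cd_two_pow ⟨i, hi⟩, if_pos rfl, mat_eq h]
    have h2 : 2 ^ (i % 2) < 4 := lt_of_le_of_lt (Nat.pow_le_pow_right (by norm_num)
      (Nat.le_of_lt_succ (Nat.mod_lt i (by norm_num) : i % 2 < 2))) (by norm_num)
    rw [toF_mulC h (gMat_lt _ hg _ _) h2]
  · intro z _ hz
    rw [dec, cd_two_pow ⟨i, hi⟩, if_neg hz]
    simp [toF]
  · exact fun hne => absurd (Finset.mem_univ _) hne

theorem sel_index : ∀ j : Fin 7, ∃ n : Fin 43,
    allGens.getD n (.kA, 0) = sel.getD j (.kA, 0) := by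
  intro j
  fin_cases j
  exacts [⟨3, rfl⟩, ⟨1, rfl⟩, ⟨9, rfl⟩, ⟨21, rfl⟩, ⟨19, rfl⟩, ⟨30, rfl⟩, ⟨37, rfl⟩]

/-- the matrix of a chosen generator -/
noncomputable def selMat (F : Type*) [Field F] (ω : F) (j : ℕ) : Matrix F9 F9 F :=
  mat F ω (sel.getD j (.kA, 0)).1 (sel.getD j (.kA, 0)).2

theorem mv_app (h : Four F ω) {j : ℕ} (hj : j < 7) {v : ℕ} (hv : v < 262144) :
    selMat F ω j *ᵥ dec F ω v = dec F ω (app j v) := by
  have hc : ∀ i < 18, mv (selMat F ω j) (dec F ω (2 ^ i)) =
      dec F ω ((genCols.getD j []).getD i 0) := by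
    intro i hi
    have hk := cols_ok
    simp only [List.all_eq_true, List.mem_range, Nat.beq_eq] at hk
    obtain ⟨n, hn⟩ := sel_index ⟨j, hj⟩
    rw [hk j hj i hi]
    show selMat F ω j *ᵥ _ = _
    rw [selMat, ← hn]
    exact mv_bit h n.2 hi
  have ht := tables_ok
  simp only [List.all_eq_true, List.mem_range, Bool.and_eq_true, Nat.beq_eq] at ht
  have hlo : v &&& 1023 < 1024 := lt_of_le_of_lt Nat.and_le_right (by norm_num)
  have hhi : v >>> 10 < 256 := by rw [Nat.shiftRight_eq_div_pow]; omega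
  have e : v = (v &&& 1023) ^^^ ((v >>> 10) <<< 10) := by
    refine Nat.eq_of_testBit_eq fun i => ?_
    rw [Nat.testBit_xor, Nat.testBit_and, Nat.testBit_shiftLeft, Nat.testBit_shiftRight,
      show (1023 : ℕ) = 2 ^ 10 - 1 by norm_num, Nat.testBit_two_pow_sub_one]
    by_cases hi : i < 10
    · simp [hi, (show ¬ 10 ≤ i by omega)]
    · simp [hi, (show 10 ≤ i by omega), (show 10 + (i - 10) = i by omega)]
  have e2 : ∀ u, u < 262144 → selMat F ω j *ᵥ dec F ω u = dec F ω (imgN (genCols.getD j []) 18 u) := by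
    intro u hu
    have := dec_imgN h (mv (selMat F ω j)) _ 18 hc u
    rwa [Nat.mod_eq_of_lt (lt_of_lt_of_eq hu (by norm_num))] at this
  have h3 : (v >>> 10) <<< 10 < 262144 := by rw [Nat.shiftLeft_eq]; omega
  conv_lhs => rw [e]
  rw [dec_xor h, Matrix.mulVec_add, e2 _ (by omega), e2 _ h3, ← (ht j hj).1 _ hlo,
    ← (ht j hj).2 _ hhi, ← dec_xor h]
  unfold app
  rfl

theorem cd_testBit (v : ℕ) (z : F9) (i : ℕ) :
    (cd v z).testBit i = (v.testBit (2 * kk z + i) && decide (i < 2)) := by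
  rw [cd, Nat.testBit_and, Nat.testBit_shiftRight, show (3 : ℕ) = 2 ^ 2 - 1 by norm_num,
    Nat.testBit_two_pow_sub_one]

theorem wMul_testBit (v n : ℕ) : (wMul v).testBit n =
    ((v.testBit (1 + n) && loMask.testBit n) || (decide (1 ≤ n) &&
      xor (v.testBit (n - 1) && loMask.testBit (n - 1))
        (v.testBit (1 + (n - 1)) && loMask.testBit (n - 1)))) := by
  simp only [wMul, Nat.testBit_or, Nat.testBit_shiftLeft, Nat.testBit_xor, Nat.testBit_and,
    Nat.testBit_shiftRight, ge_iff_le]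

theorem cd_wMul : ∀ z : F9, ∀ v : ℕ, cd (wMul v) z =
    (if (cd v z).testBit 1 then 1 else 0) + (if xor ((cd v z).testBit 0) ((cd v z).testBit 1) then 2 else 0) := by
  intro z v
  have hm : ∀ k : Fin 9, loMask.testBit (2 * (k : ℕ)) = true ∧ loMask.testBit (2 * (k : ℕ) + 1) = false := by
    decide
  obtain ⟨m0, m1⟩ := hm ⟨kk z, kk_lt z⟩
  simp only at m0 m1
  have hp : (decide (1 ≤ 2 * kk z) && loMask.testBit (2 * kk z - 1)) = false := by
    by_cases hk : 1 ≤ 2 * kk z
    · obtain ⟨-, m2⟩ := hm ⟨kk z - 1, by have := kk_lt z; omega⟩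
      simp only [show 2 * (kk z - 1) + 1 = 2 * kk z - 1 by omega] at m2
      rw [m2, Bool.and_false]
    · rw [decide_eq_false hk, Bool.false_and]
  have b0 : (cd (wMul v) z).testBit 0 = (cd v z).testBit 1 := by
    rw [cd_testBit, cd_testBit, wMul_testBit, Nat.add_zero, m0, add_comm 1 (2 * kk z)]
    revert hp
    generalize decide (1 ≤ 2 * kk z) = a
    generalize loMask.testBit (2 * kk z - 1) = b
    intro hp
    cases a <;> cases b <;> simp_all
  have b1 : (cd (wMul v) z).testBit 1 = xor ((cd v z).testBit 0) ((cd v z).testBit 1) := by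
    rw [cd_testBit, cd_testBit, cd_testBit, wMul_testBit, Nat.add_zero, m1, Nat.add_sub_cancel, m0,
      add_comm 1 (2 * kk z), decide_eq_true (Nat.le_add_left 1 _)]
    simp
  have key : ∀ c : ℕ, c < 4 → c = (if c.testBit 0 then 1 else 0) + (if c.testBit 1 then 2 else 0) := by
    decide
  conv_lhs => rw [key _ (cd_lt _ _), b0, b1]

theorem dec_wMul (h : Four F ω) (v : ℕ) : dec F ω (wMul v) = ω • dec F ω v := by
  funext z
  simp only [dec, Pi.smul_apply, smul_eq_mul, cd_wMul]
  obtain ⟨h0, h1, h2, h3⟩ := toF_vals (F := F) (ω := ω)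
  have := cd_lt v z
  generalize cd v z = c at this ⊢
  interval_cases c <;> simp [h0, h1, h2, h3, Nat.testBit, mul_add]
  all_goals grind [h.sq, h.two]

theorem wMul_lt {v : ℕ} (hv : v < 262144) : wMul v < 262144 := by
  have h1 : ∀ u, (u &&& loMask) < 2 ^ 17 := fun u =>
    lt_of_le_of_lt Nat.and_le_right (by decide)
  refine Nat.or_lt_two_pow (n := 18) (lt_trans (h1 _) (by norm_num)) ?_
  have := Nat.xor_lt_two_pow (h1 v) (h1 (v >>> 1))
  rw [Nat.shiftLeft_eq]
  omega

theorem dec_wPow (h : Four F ω) (v : ℕ) : ∀ k, dec F ω (wPow k v) = ω ^ k • dec F ω v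
  | 0 => by simp [wPow]
  | k + 1 => by rw [wPow, dec_wMul h, dec_wPow h v k, smul_smul, pow_succ']

theorem zs_kk : ∀ k : Fin 9, ∃ z : F9, kk z = k := by decide

theorem dec_inj (h : Four F ω) {u v : ℕ} (hu : u < 262144) (hv : v < 262144)
    (e : dec F ω u = dec F ω v) : u = v := by
  refine Nat.eq_of_testBit_eq fun i => ?_
  by_cases hi : i < 18
  · obtain ⟨z, hz⟩ := zs_kk ⟨i / 2, by omega⟩
    have h1 := toF_inj h (cd_lt u z) (cd_lt v z) (congrFun e z)
    have h2 := congrArg (fun c => Nat.testBit c (i % 2)) h1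
    simp only [cd, Nat.testBit_and, Nat.testBit_shiftRight, show (3 : ℕ) = 2 ^ 2 - 1 by norm_num,
      Nat.testBit_two_pow_sub_one, decide_eq_true (Nat.mod_lt i (by norm_num : 2 > 0)), Bool.and_true,
      hz] at h2
    rwa [show 2 * (i / 2) + i % 2 = i by omega] at h2
  · have : ∀ w, w < 262144 → w.testBit i = false := fun w hw =>
      Nat.testBit_eq_false_of_lt (lt_of_lt_of_le hw (le_trans (by norm_num)
        (Nat.pow_le_pow_right (by norm_num) (show 18 ≤ i by omega))))
    rw [this u hu, this v hv]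

theorem card_F9_fun (h : Four F ω) : Fintype.card (F9 → F) = 262144 := by
  rw [Fintype.card_fun, h.card]
  rfl

theorem exists_code (h : Four F ω) (x : F9 → F) : ∃ v < 262144, dec F ω v = x := by
  have : Function.Bijective (fun v : Fin 262144 => dec F ω v) := by
    rw [Fintype.bijective_iff_injective_and_card]
    exact ⟨fun u v e => Fin.ext (dec_inj h u.2 v.2 e), by rw [Fintype.card_fin, card_F9_fun h]⟩
  obtain ⟨v, hv⟩ := this.2 x
  exact ⟨v, v.2, hv⟩

/-! ### The group -/

theorem getW_lt (w : ℕ) (t : List ℕ) (i : ℕ) : getW w t i < 2 ^ w := by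
  unfold getW
  exact lt_of_le_of_lt Nat.and_le_right (Nat.sub_lt (Nat.two_pow_pos w) one_pos)

theorem app_lt (j v : ℕ) : app j v < 262144 := by
  unfold app
  exact Nat.xor_lt_two_pow (n := 18) (getW_lt _ _ _) (getW_lt _ _ _)

theorem appIter_spec (h : Four F ω) {j : ℕ} (hj : j < 7) {v : ℕ} (hv : v < 262144) :
    ∀ k, appIter j k v < 262144 ∧ (selMat F ω j ^ k) *ᵥ dec F ω v = dec F ω (appIter j k v)
  | 0 => by simp [appIter, hv]
  | k + 1 => by
    obtain ⟨h1, h2⟩ := appIter_spec h hj hv k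
    exact ⟨app_lt _ _, by rw [pow_succ', ← Matrix.mulVec_mulVec, h2, mv_app h hj h1, appIter]⟩

theorem mat_ext (h : Four F ω) {M N : Matrix F9 F9 F}
    (e : ∀ i < 18, M *ᵥ dec F ω (2 ^ i) = N *ᵥ dec F ω (2 ^ i)) : M = N := by
  refine Matrix.ext_of_mulVec_single fun z => ?_
  have hz : ∀ z : F9, cd (2 ^ (2 * kk z)) z = 1 ∧ ∀ w, w ≠ z → cd (2 ^ (2 * kk z)) w = 0 := by
    decide +kernel
  have e1 : dec F ω (2 ^ (2 * kk z)) = Pi.single z 1 := by
    funext w
    by_cases hw : w = z
    · subst hw; simp [dec, (hz w).1, toF_vals.2.1]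
    · simp [dec, (hz z).2 w hw, toF, hw]
  rw [← e1]
  exact e _ (by have := kk_lt z; omega)

theorem mat_mem_gens (g : Kind × F9) (hg : g ∈ allGens) : mat F ω g.1 g.2 ∈ j3Gens F ω := by
  simp only [allGens, List.mem_append, List.mem_map] at hg
  have hnz : ∀ Z ∈ nzs, Z ≠ 0 := by decide
  rcases hg with (((⟨Z, -, rfl⟩ | ⟨Z, -, rfl⟩) | ⟨Z, -, rfl⟩) | ⟨Z, hZ, rfl⟩) | ⟨Z, hZ, rfl⟩
  · exact Or.inl (Or.inl (Or.inl (Or.inl ⟨Z, rfl⟩)))
  · exact Or.inl (Or.inl (Or.inl (Or.inr ⟨Z, rfl⟩)))
  · exact Or.inl (Or.inl (Or.inr ⟨Z, rfl⟩))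
  · exact Or.inl (Or.inr ⟨Z, hnz Z hZ, rfl⟩)
  · exact Or.inr ⟨Z, hnz Z hZ, rfl⟩

theorem gens_listed {M : Matrix F9 F9 F} (hM : M ∈ j3Gens F ω) :
    ∃ n < 43, M = mat F ω (allGens.getD n (.kA, 0)).1 (allGens.getD n (.kA, 0)).2 := by
  have hall : ∀ Z : F9, Z ∈ zs := zs_nodup.2
  have hnz : ∀ Z : F9, Z ≠ 0 → Z ∈ nzs := by decide
  suffices ∃ g ∈ allGens, M = mat F ω g.1 g.2 by
    obtain ⟨g, hg, rfl⟩ := this
    obtain ⟨n, hn, rfl⟩ := List.mem_iff_getElem.1 hg
    exact ⟨n, allGens_length ▸ hn, by rw [List.getD_eq_getElem _ _ hn]⟩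
  rcases hM with (((⟨Z, rfl⟩ | ⟨Z, rfl⟩) | ⟨Z, rfl⟩) | ⟨Z, hZ, rfl⟩) | ⟨Z, hZ, rfl⟩
  · exact ⟨(.kA, Z), by simp [allGens, hall Z], rfl⟩
  · exact ⟨(.kE, Z), by simp [allGens, hall Z], rfl⟩
  · exact ⟨(.kD, Z), by simp [allGens, hall Z], rfl⟩
  · exact ⟨(.kB, Z), by simp [allGens, hnz Z hZ], rfl⟩
  · exact ⟨(.kC, Z), by simp [allGens, hnz Z hZ], rfl⟩

theorem exists_sel (h : Four F ω) {j : ℕ} (hj : j < 7) :
    ∃ g ∈ threeJ3 F ω, (g : Matrix F9 F9 F) = selMat F ω j := by
  have ho := orders_ok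
  simp only [List.all_eq_true, List.mem_range, Bool.and_eq_true, Nat.beq_eq, Nat.blt_eq] at ho
  obtain ⟨hpos, hfix⟩ := ho j hj
  obtain ⟨k, hk⟩ : ∃ k, genOrd.getD j 0 = k + 1 := ⟨genOrd.getD j 0 - 1, by omega⟩
  have h1 : selMat F ω j ^ (k + 1) = 1 := by
    refine mat_ext h fun i hi => ?_
    have hlt : 2 ^ i < 262144 := lt_of_lt_of_eq (Nat.pow_lt_pow_right (by norm_num) hi) (by norm_num)
    rw [(appIter_spec h hj hlt _).2, Matrix.one_mulVec, ← hk, hfix i hi]
  refine ⟨⟨selMat F ω j, selMat F ω j ^ k, by rw [← pow_succ', h1], by rw [← pow_succ, h1]⟩,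
    Subgroup.subset_closure ?_, rfl⟩
  obtain ⟨n, hn⟩ := sel_index ⟨j, hj⟩
  show selMat F ω j ∈ j3Gens F ω
  rw [selMat, ← hn]
  exact mat_mem_gens _ (by
    rw [List.getD_eq_getElem _ _ (by rw [allGens_length]; exact n.2)]; exact List.getElem_mem _)

/-- the codes of the first orbit, up to scalars -/
def InS (F : Type*) [Field F] (ω : F) (x : F9 → F) : Prop :=
  ∃ i < 23256, ∃ k < 3, x = ω ^ k • dec F ω (el1 i)

theorem Four.pow_three (h : Four F ω) : ω ^ 3 = 1 := by linear_combination (ω - 1) * h.root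

theorem pow_mod_three (h : Four F ω) (k : ℕ) : ω ^ k = ω ^ (k % 3) := by
  conv_lhs => rw [← Nat.mod_add_div k 3, pow_add, pow_mul, h.pow_three, one_pow, mul_one]

theorem InS.smul (h : Four F ω) {x : F9 → F} (hx : InS F ω x) (m : ℕ) : InS F ω (ω ^ m • x) := by
  obtain ⟨i, hi, k, -, rfl⟩ := hx
  exact ⟨i, hi, (m + k) % 3, Nat.mod_lt _ (by norm_num),
    by rw [smul_smul, ← pow_add, ← pow_mod_three h]⟩

theorem el_lt (t : List (List ℕ)) (i : ℕ) : getB 18 t i < 262144 := by
  unfold getB; exact getW_lt _ _ _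

theorem el1_lt (i : ℕ) : el1 i < 262144 := by unfold el1; exact el_lt _ _

theorem el2_lt (i : ℕ) : el2 i < 262144 := by unfold el2; exact el_lt _ _

theorem testBit_one_shiftLeft (a v : ℕ) : (1 <<< a).testBit v = decide (a = v) := by
  rw [Nat.one_shiftLeft, Nat.testBit_two_pow]

theorem testBit_orT (el : ℕ → ℕ) (n : ℕ) : ∀ d s v,
    (orT el n d s).testBit v = true ↔ ∃ i, s ≤ i ∧ i < s + 2 ^ d ∧ i < n ∧ el i = v
  | 0, s, v => by
    by_cases hs : Nat.blt s n = true
    · rw [orT, if_pos hs, testBit_one_shiftLeft, decide_eq_true_eq]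
      rw [Nat.blt_eq] at hs
      exact ⟨fun e => ⟨s, le_rfl, by simp, hs, e⟩, fun ⟨i, h1, h2, _, e⟩ => by
        rw [show s = i by omega]; exact e⟩
    · rw [orT, if_neg hs]
      rw [Nat.blt_eq] at hs
      simp only [Nat.zero_testBit, Bool.false_eq_true, false_iff, not_exists, not_and]
      intro i h1 h2 h3
      omega
  | d + 1, s, v => by
    rw [orT, Nat.testBit_or, Bool.or_eq_true, testBit_orT el n d, testBit_orT el n d]
    constructor
    · rintro (⟨i, a, b, c, e⟩ | ⟨i, a, b, c, e⟩)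
      · exact ⟨i, a, by rw [pow_succ]; omega, c, e⟩
      · exact ⟨i, by omega, by rw [pow_succ]; omega, c, e⟩
    · rintro ⟨i, a, b, c, e⟩
      rw [pow_succ] at b
      by_cases hi : i < s + 2 ^ d
      · exact Or.inl ⟨i, a, hi, c, e⟩
      · exact Or.inr ⟨i, by omega, by omega, c, e⟩

theorem or_le_add' (a b : ℕ) : a ||| b ≤ a + b := by
  induction a using Nat.binaryRec generalizing b with
  | zero => simp
  | bit x a ih =>
    induction b using Nat.binaryRec with
    | zero => simp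
    | bit y b _ =>
      rw [Nat.lor_bit, Nat.bit_val, Nat.bit_val, Nat.bit_val]
      have := ih b
      cases x <;> cases y <;> simp <;> omega

theorem not_both_of_or_eq_add : ∀ a b i : ℕ, a ||| b = a + b → a.testBit i = true → b.testBit i = false := by
  intro a
  induction a using Nat.binaryRec with
  | zero => simp
  | bit x a ih =>
    intro b
    induction b using Nat.binaryRec with
    | zero => simp
    | bit y b _ =>
      intro i e
      rw [Nat.lor_bit, Nat.bit_val, Nat.bit_val, Nat.bit_val] at e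
      have := or_le_add' a b
      cases i with
      | zero =>
        rw [Nat.testBit_bit_zero, Nat.testBit_bit_zero]
        rintro rfl
        cases y
        · rfl
        · simp at e; omega
      | succ i =>
        rw [Nat.testBit_bit_succ, Nat.testBit_bit_succ]
        refine ih b i ?_
        cases x <;> cases y <;> simp at e <;> omega

theorem orT_le_sumT (el : ℕ → ℕ) (n : ℕ) : ∀ d s, orT el n d s ≤ sumT el n d s
  | 0, s => le_rfl
  | d + 1, s => le_trans (or_le_add' _ _)
      (Nat.add_le_add (orT_le_sumT el n d s) (orT_le_sumT el n d (s + 2 ^ d)))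

theorem el_injOn (el : ℕ → ℕ) (n : ℕ) : ∀ d s, orT el n d s = sumT el n d s →
    ∀ i k, s ≤ i → i < s + 2 ^ d → i < n → s ≤ k → k < s + 2 ^ d → k < n → el i = el k → i = k
  | 0, s, _, i, k, a, b, _, a', b', _, _ => by omega
  | d + 1, s, e, i, k, a, b, c, a', b', c', ee => by
    rw [orT, sumT] at e
    have l1 := orT_le_sumT el n d s
    have l2 := orT_le_sumT el n d (s + 2 ^ d)
    have l3 := or_le_add' (orT el n d s) (orT el n d (s + 2 ^ d))
    have e1 : orT el n d s = sumT el n d s := by omega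
    have e2 : orT el n d (s + 2 ^ d) = sumT el n d (s + 2 ^ d) := by omega
    have e3 : orT el n d s ||| orT el n d (s + 2 ^ d) = orT el n d s + orT el n d (s + 2 ^ d) := by
      omega
    rw [pow_succ] at b b'
    by_cases hi : i < s + 2 ^ d <;> by_cases hk : k < s + 2 ^ d
    · exact el_injOn el n d s e1 i k a hi c a' hk c' ee
    · exfalso
      have := not_both_of_or_eq_add _ _ (el i) e3 ((testBit_orT el n d s _).2 ⟨i, a, hi, c, rfl⟩)
      rw [ee, (testBit_orT el n d (s + 2 ^ d) _).2 ⟨k, by omega, by omega, c', rfl⟩] at this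
      exact Bool.noConfusion this
    · exfalso
      have := not_both_of_or_eq_add _ _ (el i) e3
        ((testBit_orT el n d s _).2 ⟨k, a', hk, c', ee.symm⟩)
      rw [(testBit_orT el n d (s + 2 ^ d) _).2 ⟨i, by omega, by omega, c, rfl⟩] at this
      exact Bool.noConfusion this
    · exact el_injOn el n d _ e2 i k (by omega) (by omega) c (by omega) (by omega) c' ee

theorem bits1_iff (v : ℕ) : bits1.testBit v = true ↔ ∃ i < 23256, el1 i = v := by
  have h := sum1_ok
  simp only [Bool.and_eq_true, Nat.beq_eq] at h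
  rw [← h.1, testBit_orT]
  exact ⟨fun ⟨i, _, _, c, e⟩ => ⟨i, c, e⟩, fun ⟨i, c, e⟩ => ⟨i, Nat.zero_le _, by omega, c, e⟩⟩

theorem bits2_iff (v : ℕ) : bits2.testBit v = true ↔ ∃ i < 43605, el2 i = v := by
  have h := sum2_ok
  simp only [Bool.and_eq_true, Nat.beq_eq] at h
  rw [← h.1, testBit_orT]
  exact ⟨fun ⟨i, _, _, c, e⟩ => ⟨i, c, e⟩, fun ⟨i, c, e⟩ => ⟨i, Nat.zero_le _, by omega, c, e⟩⟩

theorem orbit1_at {i : ℕ} (hi : i < 23256) : parentOK el1 par1 i = true ∧
    loneOK bits1 el1 i = true ∧ ∀ j < 7, memC bits1 (app j (el1 i)) = true := by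
  have h := allT_imp orbit1_ok i (Nat.zero_le _) (by omega)
  simp only [Bool.or_eq_true, Bool.and_eq_true, Nat.ble_eq] at h
  obtain ⟨⟨⟨⟨⟨⟨⟨⟨hp, hl⟩, h0⟩, h1⟩, h2⟩, h3⟩, h4⟩, h5⟩, h6⟩ := h.resolve_left (by omega)
  refine ⟨hp, hl, fun j hj => ?_⟩
  interval_cases j <;> assumption

theorem orbit2_at {i : ℕ} (hi : i < 43605) : parentOK el2 par2 i = true ∧
    loneOK bits2 el2 i = true ∧ parV (el2 i) = false := by
  have h := allT_imp orbit2_ok i (Nat.zero_le _) (by omega)
  simp only [Bool.or_eq_true, Bool.and_eq_true, Nat.ble_eq, Bool.not_eq_true'] at h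
  obtain ⟨⟨hp, hl⟩, hv⟩ := h.resolve_left (by omega)
  exact ⟨hp, hl, hv⟩

theorem InS.sel (h : Four F ω) {j : ℕ} (hj : j < 7) {x : F9 → F} (hx : InS F ω x) :
    InS F ω (selMat F ω j *ᵥ x) := by
  obtain ⟨i, hi, k, -, rfl⟩ := hx
  rw [Matrix.mulVec_smul, mv_app h hj (el1_lt i)]
  refine InS.smul h ?_ k
  have hm := (orbit1_at hi).2.2 j hj
  simp only [memC, Bool.or_eq_true, bits1_iff] at hm
  rcases hm with (⟨a, ha, e⟩ | ⟨a, ha, e⟩) | ⟨a, ha, e⟩
  · exact ⟨a, ha, 0, by norm_num, by rw [e, pow_zero, one_smul]⟩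
  · refine ⟨a, ha, 2, by norm_num, ?_⟩
    rw [e, dec_wMul h, smul_smul, ← pow_succ, h.pow_three, one_smul]
  · refine ⟨a, ha, 1, by norm_num, ?_⟩
    rw [e, dec_wMul h, dec_wMul h, smul_smul, smul_smul, pow_one,
      show ω * ω * ω = 1 by rw [← h.pow_three]; ring, one_smul]

/-- product of the matrices of a word -/
noncomputable def wordMat (F : Type*) [Field F] (ω : F) : List ℕ → Matrix F9 F9 F
  | [] => 1
  | j :: w => selMat F ω j * wordMat F ω w

theorem appWord_spec (h : Four F ω) : ∀ w : List ℕ, (∀ j ∈ w, j < 7) → ∀ v, v < 262144 →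
    appWord w v < 262144 ∧ wordMat F ω w *ᵥ dec F ω v = dec F ω (appWord w v)
  | [], _, v, hv => by simp [appWord, wordMat, hv]
  | j :: w, hw, v, hv => by
    obtain ⟨h1, h2⟩ := appWord_spec h w (fun i hi => hw i (List.mem_cons_of_mem _ hi)) v hv
    exact ⟨app_lt _ _, by
      rw [wordMat, ← Matrix.mulVec_mulVec, h2, mv_app h (hw j List.mem_cons_self) h1, appWord]⟩

theorem InS.word (h : Four F ω) : ∀ w : List ℕ, (∀ j ∈ w, j < 7) → ∀ {x : F9 → F}, InS F ω x →
    InS F ω (wordMat F ω w *ᵥ x)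
  | [], _, x, hx => by simpa [wordMat] using hx
  | j :: w, hw, x, hx => by
    rw [wordMat, ← Matrix.mulVec_mulVec]
    exact (InS.word h w (fun i hi => hw i (List.mem_cons_of_mem _ hi)) hx).sel h (hw j List.mem_cons_self)

theorem InS.gen (h : Four F ω) {M : Matrix F9 F9 F} (hM : M ∈ j3Gens F ω) {x : F9 → F}
    (hx : InS F ω x) : InS F ω (M *ᵥ x) := by
  obtain ⟨n, hn, rfl⟩ := gens_listed hM
  have hw := words_ok
  simp only [Bool.and_eq_true, List.all_eq_true, List.mem_range, Nat.beq_eq, Nat.blt_eq] at hw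
  obtain ⟨hjs, hcol⟩ := hw.2 n hn
  generalize genWords.getD n ([], 0) = wk at hjs hcol
  obtain ⟨w, k⟩ := wk
  simp only at hjs hcol
  set g := allGens.getD n (Kind.kA, 0)
  have hM : wordMat F ω w = ω ^ k • mat F ω g.1 g.2 := by
    refine mat_ext h fun i hi => ?_
    have hlt : 2 ^ i < 262144 := lt_of_lt_of_eq (Nat.pow_lt_pow_right (by norm_num) hi) (by norm_num)
    rw [(appWord_spec h w hjs _ hlt).2, hcol i hi, dec_wPow h, Matrix.smul_mulVec, mv_bit h hn hi]
  have h1 := (InS.word h w hjs hx).smul h (2 * k)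
  rwa [hM, Matrix.smul_mulVec, smul_smul, ← pow_add, show 2 * k + k = 3 * k by ring, pow_mul,
    h.pow_three, one_pow, one_smul] at h1

theorem InS.mem (h : Four F ω) {g : GL F9 F} (hg : g ∈ threeJ3 F ω) :
    ∀ x : F9 → F, InS F ω x → InS F ω ((g : Matrix F9 F9 F) *ᵥ x) := by
  classical
  rw [threeJ3, ← Subgroup.mem_toSubmonoid, Subgroup.closure_toSubmonoid_of_finite] at hg
  induction hg using Submonoid.closure_induction with
  | mem g hg => exact fun x hx => InS.gen h hg hx
  | one => intro x hx; simpa using hx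
  | mul a b _ _ ha hb =>
    intro x hx
    rw [Units.val_mul, ← Matrix.mulVec_mulVec]
    exact ha _ (hb x hx)

/-- every listed element is reached from the first -/
theorem reach (h : Four F ω) (el : ℕ → ℕ) (hel : ∀ i, el i < 262144) (par : List (List ℕ)) (N : ℕ)
    (hpar : ∀ i < N, parentOK el par i = true) :
    ∀ i, i < N → ∃ g ∈ threeJ3 F ω, ∃ c : F, c ≠ 0 ∧
      (g : Matrix F9 F9 F) *ᵥ dec F ω (el 0) = c • dec F ω (el i) := by
  intro i
  induction i using Nat.strong_induction_on with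
  | _ i ih =>
    intro hi
    have hp := hpar i hi
    simp only [parentOK, Bool.or_eq_true, Bool.and_eq_true, Nat.beq_eq, Nat.blt_eq] at hp
    rcases hp with rfl | ⟨⟨hlt, hj⟩, happ⟩
    · exact ⟨1, one_mem _, 1, one_ne_zero, by simp⟩
    · obtain ⟨g, hg, c, hc, hgc⟩ := ih _ hlt (by omega)
      obtain ⟨s, hs, hse⟩ := exists_sel h hj
      refine ⟨s * g, mul_mem hs hg, c * ω ^ (getB 24 par i % 4),
        mul_ne_zero hc (pow_ne_zero _ h.ne_zero), ?_⟩
      rw [Units.val_mul, ← Matrix.mulVec_mulVec, hgc, hse, Matrix.mulVec_smul, mv_app h hj (hel _),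
        happ, dec_wPow h, smul_smul]

theorem exists_omega_pow (h : Four F ω) {c : F} (hc : c ≠ 0) : ∃ k < 3, c = ω ^ k := by
  classical
  have hs : ({0, 1, ω, ω ^ 2} : Finset F) = Finset.univ := by
    refine Finset.eq_univ_of_card _ ?_
    have h2 : ω ^ 2 ≠ 1 := fun e => h.ne_one (by linear_combination h.pow_three - ω * e)
    rw [h.card, Finset.card_insert_of_notMem (by simp [Ne.symm h.ne_zero, (pow_ne_zero 2 h.ne_zero).symm]),
      Finset.card_insert_of_notMem (by simp [Ne.symm h.ne_one, Ne.symm h2]),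
      Finset.card_pair (fun e => h.ne_one (mul_left_cancel₀ h.ne_zero (by
        rw [mul_one, ← pow_two]; exact e.symm)))]
  have := hs ▸ Finset.mem_univ c
  simp only [Finset.mem_insert, Finset.mem_singleton] at this
  rcases this with rfl | rfl | rfl | rfl
  · exact absurd rfl hc
  · exact ⟨0, by norm_num, (pow_zero ω).symm⟩
  · exact ⟨1, by norm_num, (pow_one c).symm⟩
  · exact ⟨2, by norm_num, rfl⟩

theorem dec_el0 : dec F ω (el1 0) = Pi.single (0 : F9) (1 : F) := by
  rw [start_ok]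
  have h : ∀ z : F9, cd 1 z = if z = 0 then 1 else 0 := by decide
  funext z
  by_cases hz : z = 0
  · subst hz; simp [dec, h, toF_vals.2.1]
  · simp [dec, h, toF, hz]

theorem lone_ne {bits : ℕ} {el : ℕ → ℕ} {N : ℕ} (hb : ∀ v, bits.testBit v = true ↔ ∃ i < N, el i = v)
    {i k : ℕ} (hi : i < N) (hk : loneOK bits el k = true) :
    el i ≠ wMul (el k) ∧ el i ≠ wMul (wMul (el k)) := by
  simp only [loneOK, Bool.and_eq_true, Bool.not_eq_true'] at hk
  constructor <;> intro e
  · rw [(hb _).2 ⟨i, hi, e⟩] at hk; exact Bool.noConfusion hk.1.2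
  · rw [(hb _).2 ⟨i, hi, e⟩] at hk; exact Bool.noConfusion hk.2

theorem lone_inj (h : Four F ω) {bits : ℕ} {el : ℕ → ℕ} {N : ℕ} (hel : ∀ i, el i < 262144)
    (hb : ∀ v, bits.testBit v = true ↔ ∃ i < N, el i = v)
    (hlone : ∀ i < N, loneOK bits el i = true)
    (hinj : ∀ i k, i < N → k < N → el i = el k → i = k)
    {i k a : ℕ} (hi : i < N) (hk : k < N) (ha : a < 3)
    (e : dec F ω (el i) = ω ^ a • dec F ω (el k)) : i = k ∧ a = 0 := by
  rw [← dec_wPow h] at e
  interval_cases a
  · exact ⟨hinj i k hi hk (dec_inj h (hel i) (hel k) e), rfl⟩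
  · exact absurd (dec_inj h (hel i) (wMul_lt (hel k)) e) (lone_ne hb hi (hlone k hk)).1
  · exact absurd (dec_inj h (hel i) (wMul_lt (wMul_lt (hel k))) e) (lone_ne hb hi (hlone k hk)).2

theorem el1_inj {i k : ℕ} (hi : i < 23256) (hk : k < 23256) (e : el1 i = el1 k) : i = k := by
  have h := sum1_ok
  simp only [Bool.and_eq_true, Nat.beq_eq] at h
  exact el_injOn el1 23256 15 0 (h.1.trans h.2.symm) i k (Nat.zero_le _) (by omega) hi
    (Nat.zero_le _) (by omega) hk e

theorem el2_inj {i k : ℕ} (hi : i < 43605) (hk : k < 43605) (e : el2 i = el2 k) : i = k := by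
  have h := sum2_ok
  simp only [Bool.and_eq_true, Nat.beq_eq] at h
  exact el_injOn el2 43605 16 0 (h.1.trans h.2.symm) i k (Nat.zero_le _) (by omega) hi
    (Nat.zero_le _) (by omega) hk e

/-- the images of the first basis line -/
theorem ncard_lines (h : Four F ω) : {L : Submodule F (F9 → F) | ∃ g ∈ threeJ3 F ω,
    L = F ∙ ((g : Matrix F9 F9 F) *ᵥ (Pi.single (0 : F9) (1 : F) : F9 → F))}.ncard = 23256 := by
  set Φ : Fin 23256 → Submodule F (F9 → F) := fun i => F ∙ dec F ω (el1 i)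
  have hspan : ∀ (c : F) (x : F9 → F), c ≠ 0 → F ∙ (c • x) = F ∙ x := fun c x hc =>
    Submodule.span_singleton_smul_eq (IsUnit.mk0 c hc) x
  have e : {L : Submodule F (F9 → F) | ∃ g ∈ threeJ3 F ω,
      L = F ∙ ((g : Matrix F9 F9 F) *ᵥ (Pi.single (0 : F9) (1 : F) : F9 → F))} = Set.range Φ := by
    ext L
    constructor
    · rintro ⟨g, hg, rfl⟩
      obtain ⟨i, hi, k, -, hx⟩ := InS.mem h hg _
        ⟨0, by norm_num, 0, by norm_num, by rw [pow_zero, one_smul, dec_el0]⟩
      exact ⟨⟨i, hi⟩, by rw [hx, hspan _ _ (pow_ne_zero _ h.ne_zero)]⟩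
    · rintro ⟨i, rfl⟩
      obtain ⟨g, hg, c, hc, hgc⟩ :=
        reach h el1 el1_lt par1 23256 (fun i hi => (orbit1_at hi).1) i i.2
      exact ⟨g, hg, by rw [← dec_el0 (ω := ω), hgc, hspan c _ hc]⟩
  have hinj : Function.Injective Φ := by
    intro i k e
    have hmem : dec F ω (el1 i) ∈ F ∙ dec F ω (el1 k) :=
      (show F ∙ dec F ω (el1 i) = F ∙ dec F ω (el1 k) from e) ▸ Submodule.mem_span_singleton_self _
    obtain ⟨c, hc⟩ := Submodule.mem_span_singleton.1 hmem
    have hc0 : c ≠ 0 := by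
      rintro rfl
      rw [zero_smul, ← dec_zero (F := F) (ω := ω)] at hc
      have := (orbit1_at i.2).2.1
      simp only [loneOK, Bool.and_eq_true, Bool.not_eq_true', ← dec_inj h (by norm_num) (el1_lt i) hc,
        Nat.beq_refl, Bool.true_eq_false, false_and] at this
    obtain ⟨a, ha, rfl⟩ := exists_omega_pow h hc0
    exact Fin.ext (lone_inj h el1_lt bits1_iff (fun i hi => (orbit1_at hi).2.1)
      (fun _ _ => el1_inj) i.2 k.2 ha hc.symm).1
  rw [e, Set.ncard_range_of_injective hinj, Nat.card_fin]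

/-! ### Isotropic vectors -/

theorem par_split : ∀ v : ℕ, v < 262144 →
    parV v = ((List.range 9).filter fun k => !Nat.beq ((v >>> (2 * k)) &&& 3) 0).length.bodd := by
  intro v hv
  have h := par_tbl_ok
  simp only [List.all_eq_true, List.mem_range, beq_iff_eq] at h
  have hlo : v &&& 1023 < 1024 := lt_of_le_of_lt Nat.and_le_right (by norm_num)
  have hhi : v >>> 10 < 1024 := by rw [Nat.shiftRight_eq_div_pow]; omega
  have e1 : ∀ k : ℕ, k < 5 → ((v &&& 1023) >>> (2 * k)) &&& 3 = (v >>> (2 * k)) &&& 3 := by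
    intro k hk
    refine Nat.eq_of_testBit_eq fun i => ?_
    simp only [Nat.testBit_and, Nat.testBit_shiftRight, show (3 : ℕ) = 2 ^ 2 - 1 by norm_num,
      show (1023 : ℕ) = 2 ^ 10 - 1 by norm_num, Nat.testBit_two_pow_sub_one]
    by_cases hi : i < 2
    · simp [hi, show 2 * k + i < 10 by omega]
    · simp [hi]
  have e2 : ∀ k : ℕ, ((v >>> 10) >>> (2 * k)) &&& 3 = (v >>> (2 * (5 + k))) &&& 3 := by
    intro k; rw [← Nat.shiftRight_add]; ring_nf
  have e3 : (v >>> 18) &&& 3 = 0 := by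
    rw [Nat.shiftRight_eq_div_pow, Nat.div_eq_of_lt (by omega)]; rfl
  have f1 : ((List.range 5).filter fun k => !Nat.beq (((v &&& 1023) >>> (2 * k)) &&& 3) 0) =
      (List.range 5).filter fun k => !Nat.beq ((v >>> (2 * k)) &&& 3) 0 :=
    List.filter_congr fun k hk => by rw [e1 k (List.mem_range.1 hk)]
  have f2 : ((List.range 5).filter fun k => !Nat.beq (((v >>> 10) >>> (2 * k)) &&& 3) 0) =
      (List.range 5).filter fun k => !Nat.beq ((v >>> (2 * (5 + k))) &&& 3) 0 :=
    List.filter_congr fun k _ => by rw [e2 k]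
  rw [parV, h _ hlo, h _ hhi, f1, f2]
  simp only [List.range_succ, List.range_zero, List.nil_append, List.filter_append,
    List.length_append, List.filter_cons, List.filter_nil, Nat.reduceAdd, Nat.reduceMul]
  have e4 : (v >>> 18 &&& 3).beq 0 = true := by rw [e3]; rfl
  simp only [e4]
  cases (v >>> 0 &&& 3).beq 0 <;> cases (v >>> 2 &&& 3).beq 0 <;> cases (v >>> 4 &&& 3).beq 0 <;>
    cases (v >>> 6 &&& 3).beq 0 <;> cases (v >>> 8 &&& 3).beq 0 <;> cases (v >>> 10 &&& 3).beq 0 <;>
    cases (v >>> 12 &&& 3).beq 0 <;> cases (v >>> 14 &&& 3).beq 0 <;>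
    cases (v >>> 16 &&& 3).beq 0 <;> rfl

theorem cube_eq (h : Four F ω) (c : ℕ) (hc : c < 4) :
    toF F ω c ^ 3 = if c = 0 then 0 else 1 := by
  obtain ⟨h0, h1, h2, h3⟩ := toF_vals (F := F) (ω := ω)
  have t := h.pow_three
  interval_cases c <;> simp [h0, h1, h2, h3, t]
  all_goals grind [h.two, h.sq]

theorem isotropic_iff (h : Four F ω) {v : ℕ} (hv : v < 262144) :
    ∑ z, dec F ω v z ^ 3 = 0 ↔ parV v = false := by
  show ∑ z, toF F ω (cd v z) ^ 3 = 0 ↔ _
  rw [Finset.sum_congr rfl fun z _ => cube_eq h _ (cd_lt v z), Finset.sum_ite, Finset.sum_const_zero,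
    zero_add, Finset.sum_const, nsmul_eq_mul, mul_one, par_split v hv]
  have hcard : (Finset.univ.filter fun z : F9 => ¬ cd v z = 0).card =
      ((List.range 9).filter fun k => !Nat.beq ((v >>> (2 * k)) &&& 3) 0).length := by
    rw [← List.toFinset_card_of_nodup (List.nodup_range.filter _)]
    refine Finset.card_bij (fun z _ => kk z) (fun z hz => ?_) (fun z _ w _ e => ?_) fun k hk => ?_
    · simp only [Finset.mem_filter, Finset.mem_univ, true_and] at hz
      simp only [List.mem_toFinset, List.mem_filter, List.mem_range, Bool.not_eq_true',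
        ← Bool.not_eq_true, Nat.beq_eq]
      exact ⟨kk_lt z, hz⟩
    · have : ∀ z w : F9, kk z = kk w → z = w := by decide
      exact this z w e
    · simp only [List.mem_toFinset, List.mem_filter, List.mem_range, Bool.not_eq_true',
        ← Bool.not_eq_true, Nat.beq_eq] at hk
      obtain ⟨z, hz⟩ := zs_kk ⟨k, hk.1⟩
      simp only at hz
      exact ⟨z, Finset.mem_filter.2 ⟨Finset.mem_univ _, by rw [cd, hz]; exact hk.2⟩, hz⟩
  rw [hcard]
  generalize ((List.range 9).filter fun k => !Nat.beq ((v >>> (2 * k)) &&& 3) 0).length = n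
  obtain ⟨q, rfl | rfl⟩ := Nat.even_or_odd' n
  · simp [h.two]
  · simp [h.two]

theorem card_iso_codes :
    ((Finset.range 262144).filter fun v => parV v = false).card = 130816 := by
  classical
  have e : ((Finset.range 262144).filter fun v => parV v = false).card =
      ((Finset.range 1024 ×ˢ Finset.range 256).filter fun p =>
        parTbl.testBit p.1 = parTbl.testBit p.2).card := by
    refine Finset.card_bij' (fun v _ => (v % 1024, v / 1024)) (fun p _ => p.1 + 1024 * p.2) ?_ ?_ ?_ ?_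
    · intro v hv
      simp only [Finset.mem_filter, Finset.mem_range, Finset.mem_product] at hv ⊢
      have h2 := hv.2
      rw [parV, show (1023 : ℕ) = 2 ^ 10 - 1 by norm_num, Nat.and_two_pow_sub_one_eq_mod,
        Nat.shiftRight_eq_div_pow, show 2 ^ 10 = 1024 by norm_num] at h2
      exact ⟨⟨Nat.mod_lt _ (by norm_num), by omega⟩, by simpa using h2⟩
    · intro p hp
      simp only [Finset.mem_filter, Finset.mem_range, Finset.mem_product] at hp ⊢
      refine ⟨by omega, ?_⟩
      rw [parV, show (1023 : ℕ) = 2 ^ 10 - 1 by norm_num, Nat.and_two_pow_sub_one_eq_mod,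
        Nat.shiftRight_eq_div_pow, show 2 ^ 10 = 1024 by norm_num,
        show (p.1 + 1024 * p.2) % 1024 = p.1 by omega, show (p.1 + 1024 * p.2) / 1024 = p.2 by omega,
        hp.2]
      cases parTbl.testBit p.2 <;> rfl
    · intro v _; simp only; omega
    · intro p hp
      simp only [Finset.mem_filter, Finset.mem_range, Finset.mem_product] at hp
      refine Prod.ext ?_ ?_ <;> simp only <;> omega
  rw [e]
  have hs : ((Finset.range 1024 ×ˢ Finset.range 256).filter fun p =>
      parTbl.testBit p.1 = parTbl.testBit p.2) =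
      ((Finset.range 1024).filter fun a => parTbl.testBit a = false) ×ˢ
        ((Finset.range 256).filter fun a => parTbl.testBit a = false) ∪
      ((Finset.range 1024).filter fun a => parTbl.testBit a = true) ×ˢ
        ((Finset.range 256).filter fun a => parTbl.testBit a = true) := by
    ext ⟨a, b⟩
    simp only [Finset.mem_filter, Finset.mem_product, Finset.mem_union]
    cases parTbl.testBit a <;> cases parTbl.testBit b <;> simp
  have hf0 : ∀ n, ((Finset.range n).filter fun a => parTbl.testBit a = false).card =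
      ((List.range n).filter fun a => !parTbl.testBit a).length := by
    intro n
    rw [← List.toFinset_card_of_nodup (List.nodup_range.filter _)]
    refine congrArg Finset.card (Finset.ext fun a => ?_)
    simp
  have hf1 : ∀ n, ((Finset.range n).filter fun a => parTbl.testBit a = true).card =
      ((List.range n).filter fun a => parTbl.testBit a).length := by
    intro n
    rw [← List.toFinset_card_of_nodup (List.nodup_range.filter _)]
    refine congrArg Finset.card (Finset.ext fun a => ?_)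
    simp
  obtain ⟨p1, p2, p3, p4⟩ := par_count_ok
  rw [hs, Finset.card_union_of_disjoint, Finset.card_product, Finset.card_product,
    hf0, hf0, hf1, hf1, p1, p2, p3, p4]
  rw [Finset.disjoint_left]
  intro p h1 h2
  simp only [Finset.mem_filter, Finset.mem_product] at h1 h2
  rw [h1.1.2] at h2
  exact Bool.noConfusion h2.1.2

theorem exists_preimage_of_card {α : Type*} [Fintype α] (f : α → ℕ) (T : Finset ℕ)
    (hf : Function.Injective f) (hm : ∀ a, f a ∈ T) (hc : T.card ≤ Fintype.card α)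
    {v : ℕ} (hv : v ∈ T) : ∃ a, f a = v := by
  have : Finset.univ.map ⟨f, hf⟩ = T := by
    refine Finset.eq_of_subset_of_card_le ?_ (by rw [Finset.card_map]; exact hc)
    intro u hu
    rw [Finset.mem_map] at hu
    obtain ⟨a, -, rfl⟩ := hu
    exact hm a
  rw [← this, Finset.mem_map] at hv
  obtain ⟨a, -, ha⟩ := hv
  exact ⟨a, ha⟩

/-- every non-zero isotropic vector is a multiple of a listed one -/
theorem isotropic_listed (h : Four F ω) {x : F9 → F} (hx : x ≠ 0) (hq : ∑ z, x z ^ 3 = 0) :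
    ∃ i < 43605, ∃ k < 3, x = ω ^ k • dec F ω (el2 i) := by
  classical
  obtain ⟨v, hv, rfl⟩ := exists_code h x
  let T : Finset ℕ := ((Finset.range 262144).filter fun v => parV v = false).erase 0
  let f : Fin 43605 × Fin 3 → ℕ := fun p => wPow p.2 (el2 p.1)
  have hlt : ∀ p, f p < 262144 := fun p => by
    obtain ⟨i, ⟨k, hk⟩⟩ := p
    interval_cases k
    · exact el2_lt _
    · exact wMul_lt (el2_lt _)
    · exact wMul_lt (wMul_lt (el2_lt _))
  have hne : ∀ p, dec F ω (f p) ≠ 0 := fun p e => by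
    rw [dec_wPow h] at e
    rcases smul_eq_zero.1 e with e | e
    · exact pow_ne_zero _ h.ne_zero e
    · rw [← dec_zero (F := F) (ω := ω)] at e
      have := (orbit2_at p.1.2).2.1
      simp only [loneOK, Bool.and_eq_true, Bool.not_eq_true', dec_inj h (el2_lt _) (by norm_num) e,
        Nat.beq_refl, Bool.true_eq_false, false_and] at this
  have hmem : ∀ p, f p ∈ T := fun p => by
    refine Finset.mem_erase.2 ⟨fun e => hne p (by rw [e, dec_zero]), Finset.mem_filter.2
      ⟨Finset.mem_range.2 (hlt p), ?_⟩⟩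
    rw [← isotropic_iff h (hlt p), dec_wPow h]
    have h1 := (isotropic_iff h (el2_lt p.1)).2 (orbit2_at p.1.2).2.2
    simp only [Pi.smul_apply, smul_eq_mul, mul_pow, ← Finset.mul_sum, h1, mul_zero]
  have hinj : Function.Injective f := by
    intro p q e
    have e' := congrArg (dec F ω) e
    simp only [f, dec_wPow h] at e'
    have e2 : dec F ω (el2 p.1) = ω ^ ((2 * (p.2 : ℕ) + q.2) % 3) • dec F ω (el2 q.1) := by
      rw [← pow_mod_three h, pow_add, mul_smul, ← e', smul_smul, ← pow_add,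
        show 2 * (p.2 : ℕ) + p.2 = 3 * p.2 by ring, pow_mul, h.pow_three, one_pow, one_smul]
    obtain ⟨h1, h2⟩ := lone_inj h el2_lt bits2_iff (fun i hi => (orbit2_at hi).2.1)
      (fun _ _ => el2_inj) p.1.2 q.1.2 (Nat.mod_lt _ (by norm_num)) e2
    have := p.2.2
    have := q.2.2
    exact Prod.ext (Fin.ext h1) (Fin.ext (by omega))
  have hzero : (0 : ℕ) ∈ (Finset.range 262144).filter fun v => parV v = false := by
    refine Finset.mem_filter.2 ⟨Finset.mem_range.2 (by norm_num), ?_⟩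
    rw [← isotropic_iff h (by norm_num), dec_zero]
    simp
  obtain ⟨p, hp⟩ := exists_preimage_of_card f
    (((Finset.range 262144).filter fun v => parV v = false).erase 0) hinj hmem (by
      rw [Fintype.card_prod, Fintype.card_fin, Fintype.card_fin, Finset.card_erase_of_mem hzero,
        card_iso_codes])
    (Finset.mem_erase.2 ⟨fun e => hx (by rw [e, dec_zero]),
      Finset.mem_filter.2 ⟨Finset.mem_range.2 hv, (isotropic_iff h hv).1 hq⟩⟩)
  exact ⟨p.1, p.1.2, p.2, p.2.2, by rw [← hp]; exact dec_wPow h _ _⟩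

/-- transitivity on isotropic lines -/
theorem isotropic_transitive (h : Four F ω) (v w : F9 → F) (hv : v ≠ 0) (hw : w ≠ 0)
    (hv' : ∑ z, v z ^ 3 = 0) (hw' : ∑ z, w z ^ 3 = 0) :
    ∃ g ∈ threeJ3 F ω, ∃ c : F, c ≠ 0 ∧ (g : Matrix F9 F9 F) *ᵥ v = c • w := by
  obtain ⟨i, hi, a, -, rfl⟩ := isotropic_listed h hv hv'
  obtain ⟨k, hk, b, -, rfl⟩ := isotropic_listed h hw hw'
  have hr := reach h el2 el2_lt par2 43605 fun i hi => (orbit2_at hi).1
  obtain ⟨g, hg, c, hc, hgc⟩ := hr i hi
  obtain ⟨g', hg', c', hc', hgc'⟩ := hr k hk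
  refine ⟨g' * g⁻¹, mul_mem hg' (inv_mem hg), ω ^ a * c⁻¹ * c' * (ω ^ b)⁻¹,
    mul_ne_zero (mul_ne_zero (mul_ne_zero (pow_ne_zero _ h.ne_zero) (inv_ne_zero hc)) hc')
      (inv_ne_zero (pow_ne_zero _ h.ne_zero)), ?_⟩
  have e : ((g⁻¹ : GL F9 F) : Matrix F9 F9 F) *ᵥ dec F ω (el2 i) = c⁻¹ • dec F ω (el2 0) := by
    have e0 : dec F ω (el2 i) = c⁻¹ • ((g : Matrix F9 F9 F) *ᵥ dec F ω (el2 0)) := by
      rw [hgc, smul_smul, inv_mul_cancel₀ hc, one_smul]
    rw [e0, Matrix.mulVec_smul, Matrix.mulVec_mulVec, Units.inv_mul, Matrix.one_mulVec]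
  rw [Units.val_mul, ← Matrix.mulVec_mulVec, Matrix.mulVec_smul, e, smul_smul, Matrix.mulVec_smul,
    hgc', smul_smul, smul_smul]
  congr 1
  field_simp [h.ne_zero]

end CfsgLib.LocalEven.J3Lines
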