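import Cfsg.Agent.Lib.LocalEven.J3LinesChecksDefs

/-!
A part of the orbit check.
-/

set_option autoImplicit false
set_option maxRecDepth 100000

namespace CfsgLib.LocalEven.J3Lines

open Cfsg Cfsg.Spor

theorem chk1_part0 : allT chk1 13 0 = true := by
  decide +kernel

end CfsgLib.LocalEven.J3Lines
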