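import Cfsg.Agent.Lib.LocalEven.J3LinesCode

/-!
The bit sums of the orbit tables.
-/

set_option autoImplicit false
set_option maxRecDepth 100000

namespace CfsgLib.LocalEven.J3Lines

open Cfsg Cfsg.Spor

theorem sum1_ok : (Nat.beq (orT el1 23256 15 0) bits1 && Nat.beq (sumT el1 23256 15 0) bits1) = true := by
  decide +kernel

end CfsgLib.LocalEven.J3Lines
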