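import Cfsg.Agent.Lib.LocalEven.J3LinesCode

/-!
The bit sums of the orbit tables.
-/

set_option autoImplicit false
set_option maxRecDepth 100000

namespace CfsgLib.LocalEven.J3Lines

open Cfsg Cfsg.Spor

theorem sum2_ok : (Nat.beq (orT el2 43605 16 0) bits2 && Nat.beq (sumT el2 43605 16 0) bits2) = true := by
  decide +kernel

end CfsgLib.LocalEven.J3Lines
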