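import Cfsg.Agent.Lib.LocalEven.J3LinesCode
import Cfsg.Agent.Lib.LocalEven.J3LinesChecksSum1
import Cfsg.Agent.Lib.LocalEven.J3LinesChecksSum2
import Cfsg.Agent.Lib.LocalEven.J3LinesChecksO1Part0
import Cfsg.Agent.Lib.LocalEven.J3LinesChecksO1Part1
import Cfsg.Agent.Lib.LocalEven.J3LinesChecksO1Part2
import Cfsg.Agent.Lib.LocalEven.J3LinesChecksO1Part3
import Cfsg.Agent.Lib.LocalEven.J3LinesChecksO2Part0
import Cfsg.Agent.Lib.LocalEven.J3LinesChecksO2Part1
import Cfsg.Agent.Lib.LocalEven.J3LinesChecksO2Part2
import Cfsg.Agent.Lib.LocalEven.J3LinesChecksO2Part3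
import Cfsg.Agent.Lib.LocalEven.J3LinesChecksO2Part4
import Cfsg.Agent.Lib.LocalEven.J3LinesChecksO2Part5
import Cfsg.Agent.Lib.LocalEven.J3LinesChecksO2Part6
import Cfsg.Agent.Lib.LocalEven.J3LinesChecksO2Part7

/-!
The finite checks on the tables of the two orbits.
-/

set_option autoImplicit false
set_option maxRecDepth 100000

namespace CfsgLib.LocalEven.J3Lines

open Cfsg Cfsg.Spor

theorem cols_ok : ((List.range 7).all fun j => (List.range 18).all fun i =>
    Nat.beq ((genCols.getD j []).getD i 0) (colCode (sel.getD j (.kA, 0)) i)) = true := by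
  decide +kernel

theorem tables_ok : ((List.range 7).all fun j =>
    (List.range 1024).all (fun a =>
      Nat.beq (getW 18 (loTbl.getD j []) a) (imgN (genCols.getD j []) 18 a)) &&
    (List.range 256).all (fun b =>
      Nat.beq (getW 18 (hiTbl.getD j []) b) (imgN (genCols.getD j []) 18 (b <<< 10)))) = true := by
  decide +kernel

theorem words_ok : (Nat.beq genWords.length 43 && (List.range 43).all fun n =>
    (genWords.getD n ([], 0)).1.all (fun j => Nat.blt j 7) &&
    (List.range 18).all fun i =>
      Nat.beq (appWord (genWords.getD n ([], 0)).1 (2 ^ i))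
        (wPow (genWords.getD n ([], 0)).2 (colCode (allGens.getD n (.kA, 0)) i))) = true := by
  decide +kernel

theorem orders_ok : ((List.range 7).all fun j => Nat.blt 0 (genOrd.getD j 0) &&
    (List.range 18).all fun i => Nat.beq (appIter j (genOrd.getD j 0) (2 ^ i)) (2 ^ i)) = true := by
  decide +kernel

theorem par_tbl_ok : ((List.range 1024).all fun a =>
    parTbl.testBit a == ((List.range 5).filter fun k => !Nat.beq ((a >>> (2 * k)) &&& 3) 0).length.bodd) = true := by
  decide +kernel

theorem par_count_ok :
    (((List.range 1024).filter fun a => !parTbl.testBit a).length = 496) ∧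
    (((List.range 1024).filter fun a => parTbl.testBit a).length = 528) ∧
    (((List.range 256).filter fun a => !parTbl.testBit a).length = 136) ∧
    (((List.range 256).filter fun a => parTbl.testBit a).length = 120) := by
  decide +kernel

theorem start_ok : el1 0 = 1 := by decide +kernel

theorem allT_join (p : ℕ → Bool) (d s : ℕ) (h1 : allT p d s = true)
    (h2 : allT p d (s + 2 ^ d) = true) : allT p (d + 1) s = true := by
  rw [allT, h1, h2]; rfl

theorem orbit1_ok : allT (fun i => Nat.ble 23256 i ||
    (parentOK el1 par1 i && loneOK bits1 el1 i &&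
      memC bits1 (app 0 (el1 i)) && memC bits1 (app 1 (el1 i)) && memC bits1 (app 2 (el1 i)) &&
      memC bits1 (app 3 (el1 i)) && memC bits1 (app 4 (el1 i)) && memC bits1 (app 5 (el1 i)) &&
      memC bits1 (app 6 (el1 i)))) 15 0 = true := by
  exact (allT_join chk1 14 0 (allT_join chk1 13 0 chk1_part0 chk1_part1) (allT_join chk1 13 16384 chk1_part2 chk1_part3))

theorem orbit2_ok : allT (fun i => Nat.ble 43605 i ||
    (parentOK el2 par2 i && loneOK bits2 el2 i && !parV (el2 i))) 16 0 = true := by
  exact (allT_join chk2 15 0 (allT_join chk2 14 0 (allT_join chk2 13 0 chk2_part0 chk2_part1) (allT_join chk2 13 16384 chk2_part2 chk2_part3)) (allT_join chk2 14 32768 (allT_join chk2 13 32768 chk2_part4 chk2_part5) (allT_join chk2 13 49152 chk2_part6 chk2_part7)))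

end CfsgLib.LocalEven.J3Lines
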