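import Cfsg.Agent.Lib.LocalEven.J3LinesCode

/-!
The positional checks on the two orbits.
-/

set_option autoImplicit false
set_option maxRecDepth 100000

namespace CfsgLib.LocalEven.J3Lines

open Cfsg Cfsg.Spor

/-- the check at one position of the first orbit -/
def chk1 : ℕ → Bool := fun i => Nat.ble 23256 i ||
    (parentOK el1 par1 i && loneOK bits1 el1 i &&
      memC bits1 (app 0 (el1 i)) && memC bits1 (app 1 (el1 i)) && memC bits1 (app 2 (el1 i)) &&
      memC bits1 (app 3 (el1 i)) && memC bits1 (app 4 (el1 i)) && memC bits1 (app 5 (el1 i)) &&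
      memC bits1 (app 6 (el1 i)))

/-- the check at one position of the second orbit -/
def chk2 : ℕ → Bool := fun i => Nat.ble 43605 i ||
    (parentOK el2 par2 i && loneOK bits2 el2 i && !parV (el2 i))

end CfsgLib.LocalEven.J3Lines
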