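import Cfsg.Prelude.Def_Spor_J3
import Cfsg.Agent.Lib.LocalEven.J3LinesGens
import Cfsg.Agent.Lib.LocalEven.J3LinesOrbit1
import Cfsg.Agent.Lib.LocalEven.J3LinesOrbit2

/-!
Two bit codes for the field with four elements and eighteen bit codes for its 9-space.
-/

set_option autoImplicit false
set_option maxRecDepth 100000

namespace CfsgLib.LocalEven.J3Lines

open Cfsg Cfsg.Spor

/-- entry of a packed table -/
def getW (w : ℕ) (t : List ℕ) (i : ℕ) : ℕ := ((t.getD (i / 64) 0) >>> (w * (i % 64))) &&& (2 ^ w - 1)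

/-- entry of a two level packed table -/
def getB (w : ℕ) (t : List (List ℕ)) (i : ℕ) : ℕ := getW w (t.getD (i / 2048) []) (i % 2048)

/-- position of a coordinate -/
def kk (z : F9) : ℕ := 3 * z.1.val + z.2.val

/-- coordinate code -/
def cd (v : ℕ) (z : F9) : ℕ := (v >>> (2 * kk z)) &&& 3

/-- product of codes -/
def mulC (a b : ℕ) : ℕ :=
  if a = 0 ∨ b = 0 then 0 else if a = 1 then b else if b = 1 then a
  else if a = 2 ∧ b = 2 then 3 else if a = 3 ∧ b = 3 then 2 else 1

/-- code of a power of `ω` -/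
def powC (n : ZMod 3) : ℕ := n.val + 1

/-- code of the coefficient of a translation -/
def lamC (Z z : F9) : ℕ :=
  if z = 0 then 1 else if F9.div Z z = F9.I - F9.one then 2
  else if F9.div Z z = -F9.I - F9.one then 3 else 1

/-- kinds of generators -/
inductive Kind where
  | kA | kE | kD | kB | kC

/-- code matrix of a generator -/
def gMat : Kind → F9 → F9 → F9 → ℕ
  | .kA, Z, w, z => if w = z then powC (Z.1 * z.1 + Z.2 * z.2) else 0
  | .kE, Z, w, z => if w = z then powC ((Z.1 - z.1) ^ 2 + (Z.2 - z.2) ^ 2) else 0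
  | .kD, Z, w, z => if w = z + Z then lamC Z z else 0
  | .kB, Z, w, z => if w = F9.mul Z z then 1 else 0
  | .kC, Z, w, z => if z = 0 then (if w = 0 then 1 else 0)
      else if w = -F9.div Z z ∨ w = F9.mul F9.I (F9.div Z z) ∨ w = -F9.mul F9.I (F9.div Z z) then 1
      else 0

/-- the coordinates in the order of the positions -/
def zs : List F9 := [(0, 0), (0, 1), (0, 2), (1, 0), (1, 1), (1, 2), (2, 0), (2, 1), (2, 2)]

/-- all coordinates but the origin -/
def nzs : List F9 := zs.tail

/-- all generators, in the order of `genWords` -/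
def allGens : List (Kind × F9) :=
  zs.map (fun Z => (Kind.kA, Z)) ++ zs.map (fun Z => (Kind.kE, Z)) ++ zs.map (fun Z => (Kind.kD, Z)) ++
    nzs.map (fun Z => (Kind.kB, Z)) ++ nzs.map (fun Z => (Kind.kC, Z))

/-- the seven chosen generators -/
def sel : List (Kind × F9) := [(.kA, (1, 0)), (.kA, (0, 1)), (.kE, (0, 0)), (.kD, (1, 0)),
  (.kD, (0, 1)), (.kB, (1, 1)), (.kC, (1, 0))]

/-- code of a column scaled by a basis bit -/
def colCode (g : Kind × F9) (i : ℕ) : ℕ :=
  (zs.map fun w => mulC (gMat g.1 g.2 w (zs.getD (i / 2) 0)) (2 ^ (i % 2)) * 2 ^ (2 * kk w)).sum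

/-- image from the images of the bits -/
def imgN (c : List ℕ) : ℕ → ℕ → ℕ
  | 0, _ => 0
  | n + 1, v => imgN c n v ^^^ (if v.testBit n then c.getD n 0 else 0)

/-- low bits of all coordinates -/
def loMask : ℕ := 0x15555

/-- multiplication by `ω` -/
def wMul (v : ℕ) : ℕ :=
  ((v >>> 1) &&& loMask) ||| (((v &&& loMask) ^^^ ((v >>> 1) &&& loMask)) <<< 1)

/-- multiplication by a power of `ω` -/
def wPow : ℕ → ℕ → ℕ
  | 0, v => v
  | k + 1, v => wMul (wPow k v)

/-- image under a chosen generator -/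
def app (j v : ℕ) : ℕ :=
  getW 18 (loTbl.getD j []) (v &&& 1023) ^^^ getW 18 (hiTbl.getD j []) (v >>> 10)

/-- image under a word -/
def appWord : List ℕ → ℕ → ℕ
  | [], v => v
  | j :: w, v => app j (appWord w v)

/-- iterate of a chosen generator -/
def appIter (j : ℕ) : ℕ → ℕ → ℕ
  | 0, v => v
  | k + 1, v => app j (appIter j k v)

/-- parity of the number of non-zero coordinates -/
def parV (v : ℕ) : Bool := xor (parTbl.testBit (v &&& 1023)) (parTbl.testBit (v >>> 10))

/-- a predicate on an interval, checked by halving -/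
def allT (p : ℕ → Bool) : ℕ → ℕ → Bool
  | 0, s => p s
  | d + 1, s => allT p d s && allT p d (s + 2 ^ d)

theorem allT_imp {p : ℕ → Bool} : ∀ {d s : ℕ}, allT p d s = true → ∀ i, s ≤ i → i < s + 2 ^ d → p i = true
  | 0, s, h, i, h1, h2 => by
    obtain rfl : i = s := by omega
    exact h
  | d + 1, s, h, i, h1, h2 => by
    rw [allT, Bool.and_eq_true] at h
    rw [pow_succ] at h2
    by_cases hi : i < s + 2 ^ d
    · exact allT_imp h.1 i h1 hi
    · exact allT_imp h.2 i (by omega) (by omega)

/-- bitwise union of the listed bits -/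
def orT (el : ℕ → ℕ) (n : ℕ) : ℕ → ℕ → ℕ
  | 0, s => if Nat.blt s n then 1 <<< el s else 0
  | d + 1, s => orT el n d s ||| orT el n d (s + 2 ^ d)

/-- sum of the listed bits -/
def sumT (el : ℕ → ℕ) (n : ℕ) : ℕ → ℕ → ℕ
  | 0, s => if Nat.blt s n then 1 <<< el s else 0
  | d + 1, s => sumT el n d s + sumT el n d (s + 2 ^ d)

/-- elements of the first orbit -/
def el1 (i : ℕ) : ℕ := getB 18 vec1 i

/-- elements of the second orbit -/
def el2 (i : ℕ) : ℕ := getB 18 vec2 i

/-- membership up to scalars -/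
def memC (bits v : ℕ) : Bool := bits.testBit v || bits.testBit (wMul v) || bits.testBit (wMul (wMul v))

/-- an element is reached from an earlier one -/
def parentOK (el : ℕ → ℕ) (par : List (List ℕ)) (i : ℕ) : Bool :=
  Nat.beq i 0 ||
    (Nat.blt (getB 24 par i / 32) i && Nat.blt (getB 24 par i / 4 % 8) 7 &&
      Nat.beq (app (getB 24 par i / 4 % 8) (el (getB 24 par i / 32))) (wPow (getB 24 par i % 4) (el i)))

/-- no other multiple is listed -/
def loneOK (bits : ℕ) (el : ℕ → ℕ) (i : ℕ) : Bool :=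
  !Nat.beq (el i) 0 && Nat.blt (el i) 262144 &&
    !bits.testBit (wMul (el i)) && !bits.testBit (wMul (wMul (el i)))

end CfsgLib.LocalEven.J3Lines
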