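import Cfsg.Agent.Lib.LocalEven.J3OrderGroup

/-!
The order of the triple cover of the third Janko group: a base of nine vectors with the orbits of
the successive stabilisers.
-/

set_option autoImplicit false
set_option maxRecDepth 100000

namespace CfsgLib.LocalEven.J3Lines

open Cfsg Cfsg.Spor Matrix
open scoped MatrixGroups

attribute [local irreducible] bits1 bits2 bitsV el1 el2 getB getW app genCols genWords vec1 vec2
  par1 par2 loTbl hiTbl parTbl genOrd orbsTbl owordsTbl patsTbl witU witKey base baseCoef cycCoef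

variable {F : Type*} [Field F] [Fintype F] {ω : F}

/-- the invertible matrices fixing a vector -/
def fixV (x : F9 → F) : Subgroup (GL F9 F) where
  carrier := {g | (g : Matrix F9 F9 F) *ᵥ x = x}
  one_mem' := by simp
  mul_mem' := by
    intro a b ha hb
    simp only [Set.mem_ofPred_eq] at ha hb ⊢
    rw [Units.val_mul, ← Matrix.mulVec_mulVec, hb, ha]
  inv_mem' := by
    intro a ha
    simp only [Set.mem_ofPred_eq] at ha ⊢
    conv_lhs => rw [← ha]
    rw [Matrix.mulVec_mulVec, Units.inv_mul, Matrix.one_mulVec]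

theorem mem_fixV {x : F9 → F} {g : GL F9 F} :
    g ∈ fixV x ↔ (g : Matrix F9 F9 F) *ᵥ x = x := Iff.rfl

omit [Fintype F] in
/-- orbit and stabiliser -/
theorem card_orbit_mul (K : Subgroup (GL F9 F)) (x : F9 → F) (S : Set (F9 → F))
    (h1 : ∀ g ∈ K, (g : Matrix F9 F9 F) *ᵥ x ∈ S)
    (h2 : ∀ y ∈ S, ∃ g ∈ K, (g : Matrix F9 F9 F) *ᵥ x = y) :
    Nat.card K = S.ncard * Nat.card ↥(K ⊓ fixV x) := by
  letI : MulAction K (F9 → F) :=
    { smul := fun g v => ((g : GL F9 F) : Matrix F9 F9 F) *ᵥ v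
      one_smul := fun v => Matrix.one_mulVec v
      mul_smul := fun a b v => (Matrix.mulVec_mulVec v _ _).symm }
  have hS : MulAction.orbit K x = S := by
    ext y
    constructor
    · rintro ⟨g, rfl⟩; exact h1 _ g.2
    · intro hy
      obtain ⟨g, hg, e⟩ := h2 y hy
      exact ⟨⟨g, hg⟩, e⟩
  have e1 : Nat.card (K ⧸ MulAction.stabilizer K x) = S.ncard := by
    rw [← hS, ← Nat.card_coe_set_eq]
    exact Nat.card_congr (MulAction.orbitEquivQuotientStabilizer K x).symm
  have e2 : Nat.card (MulAction.stabilizer K x) = Nat.card ↥(K ⊓ fixV x) :=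
    Nat.card_congr
      ⟨fun g => ⟨g.1.1, g.1.2, g.2⟩, fun g => ⟨⟨g.1, g.2.1⟩, g.2.2⟩, fun _ => rfl, fun _ => rfl⟩
  rw [Subgroup.card_eq_card_quotient_mul_card_subgroup (MulAction.stabilizer K x), e1, e2]

/-- the successive stabilisers -/
def stg (F : Type*) [Field F] (ω : F) : ℕ → Subgroup (GL F9 F)
  | 0 => threeJ3 F ω
  | k + 1 => stg F ω k ⊓ fixV (dec F ω (base.getD k 0))

theorem stg_le (h : Four F ω) : ∀ k, stg F ω k ≤ threeJ3 F ω
  | 0 => le_rfl
  | k + 1 => inf_le_left.trans (stg_le h k)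

theorem mem_stg {g : GL F9 F} : ∀ k, g ∈ stg F ω k ↔ g ∈ threeJ3 F ω ∧
    ∀ j < k, (g : Matrix F9 F9 F) *ᵥ dec F ω (base.getD j 0) = dec F ω (base.getD j 0)
  | 0 => by simp [stg]
  | k + 1 => by
    rw [stg, Subgroup.mem_inf, mem_stg k, mem_fixV]
    constructor
    · rintro ⟨⟨a, b⟩, c⟩
      refine ⟨a, fun j hj => ?_⟩
      rcases lt_or_eq_of_le (Nat.le_of_lt_succ hj) with hj | rfl
      · exact b j hj
      · exact c
    · rintro ⟨a, b⟩
      exact ⟨⟨a, fun j hj => b j (by omega)⟩, b k (by omega)⟩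

theorem base_facts : base.length = 9 ∧ base.getD 0 0 = 1 ∧ (∀ b ∈ base, b < 262144) ∧
    ∀ i < 18, evalC (baseCoef.getD i []) base = 2 ^ i := by
  have h := base_ok
  simp only [Bool.and_eq_true, List.all_eq_true, List.mem_range, Nat.beq_eq, Nat.blt_eq] at h
  exact ⟨h.1.1.1, h.1.1.2, h.1.2, h.2⟩

theorem base_lt {k : ℕ} (hk : k < 9) : base.getD k 0 < 262144 := by
  obtain ⟨hl, -, hb, -⟩ := base_facts
  rw [List.getD_eq_getElem _ _ (by omega)]
  exact hb _ (List.getElem_mem _)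

theorem mem_take_base {k b : ℕ} (hk : k ≤ 9) (hb : b ∈ base.take k) :
    ∃ j < k, base.getD j 0 = b := by
  obtain ⟨hl, -, -, -⟩ := base_facts
  obtain ⟨j, hj, rfl⟩ := List.mem_iff_getElem.1 hb
  rw [List.length_take, hl] at hj
  exact ⟨j, by omega, by rw [List.getD_eq_getElem _ _ (by omega), List.getElem_take]⟩

theorem dec_scaleC (h : Four F ω) (c v : ℕ) : ∃ a : F, dec F ω (scaleC c v) = a • dec F ω v := by
  unfold scaleC
  split_ifs
  · exact ⟨0, by rw [dec_zero, zero_smul]⟩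
  · exact ⟨ω ^ (c - 1), dec_wPow h v _⟩

theorem mulVec_evalC (h : Four F ω) {M : Matrix F9 F9 F} :
    ∀ (cs bs : List ℕ), (∀ b ∈ bs, M *ᵥ dec F ω b = dec F ω b) →
      M *ᵥ dec F ω (evalC cs bs) = dec F ω (evalC cs bs)
  | [], _, _ => by simp [evalC, dec_zero]
  | _ :: _, [], _ => by simp [evalC, dec_zero]
  | c :: cs, b :: bs, hf => by
    obtain ⟨a, ha⟩ := dec_scaleC h c b
    rw [evalC, dec_xor h, Matrix.mulVec_add, ha, Matrix.mulVec_smul, hf b List.mem_cons_self,
      mulVec_evalC h cs bs fun x hx => hf x (List.mem_cons_of_mem _ hx)]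

theorem stg_nine (h : Four F ω) : Nat.card (stg F ω 9) = 1 := by
  rw [Subgroup.card_eq_one, Subgroup.eq_bot_iff_forall]
  intro g hg
  obtain ⟨-, hf⟩ := (mem_stg 9).1 hg
  refine Units.ext (mat_ext h fun i hi => ?_)
  rw [Units.val_one, Matrix.one_mulVec, ← base_facts.2.2.2 i hi]
  refine mulVec_evalC h _ _ fun b hb => ?_
  obtain ⟨j, hj, rfl⟩ := mem_take_base le_rfl
    (show b ∈ base.take 9 by rw [List.take_of_length_le (by rw [base_facts.1])]; exact hb)
  exact hf j hj

/-! ### Types -/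

theorem testBit_bitsV (h : Four F ω) {x : ℕ} (hx : x < 262144) :
    bitsV.testBit x = true ↔ InS F ω (dec F ω x) := by
  have hb := bitsV_ok
  simp only [Nat.beq_eq] at hb
  rw [← hb, testBit_orT]
  constructor
  · rintro ⟨i, -, -, hi, rfl⟩
    exact ⟨i / 3, by omega, i % 3, Nat.mod_lt _ (by norm_num), dec_wPow h _ _⟩
  · rintro ⟨i, hi, k, hk, e⟩
    refine ⟨3 * i + k, Nat.zero_le _, by omega, by omega, ?_⟩
    rw [show (3 * i + k) % 3 = k by omega, show (3 * i + k) / 3 = i by omega]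
    refine dec_inj h ?_ hx (by rw [dec_wPow h, e])
    interval_cases k
    · exact el1_lt _
    · exact wMul_lt (el1_lt _)
    · exact wMul_lt (wMul_lt (el1_lt _))

/-- the three types of vectors -/
def Ty (F : Type*) [Field F] (ω : F) (t : ℕ) (x : F9 → F) : Prop :=
  if t = 1 then InS F ω x else if t = 2 then ∑ w, x w ^ 3 = 0 else ¬ InS F ω x ∧ ¬ ∑ w, x w ^ 3 = 0

theorem testBit_tyB (h : Four F ω) (t : ℕ) {x : ℕ} (hx : x < 262144) :
    (tyB t).testBit x = true ↔ Ty F ω t (dec F ω x) := by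
  have e2 : (evenB 9).testBit x = true ↔ ∑ w, dec F ω x w ^ 3 = 0 := by
    rw [testBit_even_nine hx, Bool.not_eq_true', isotropic_iff h hx]
  unfold tyB Ty
  split_ifs
  · exact testBit_bitsV h hx
  · exact e2
  · rw [← testBit_bitsV h hx, ← e2, Nat.testBit_xor, Nat.testBit_or, fullB_nine hx]
    cases bitsV.testBit x <;> cases (evenB 9).testBit x <;> simp

theorem InS_inv (h : Four F ω) {g : GL F9 F} (hg : g ∈ threeJ3 F ω) {x : F9 → F}
    (hx : InS F ω ((g : Matrix F9 F9 F) *ᵥ x)) : InS F ω x := by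
  have := InS.mem h (inv_mem hg) _ hx
  rwa [Matrix.mulVec_mulVec, Units.inv_mul, Matrix.one_mulVec] at this

theorem Ty_inv (h : Four F ω) {g : GL F9 F} (hg : g ∈ threeJ3 F ω) (t : ℕ) (x : F9 → F) :
    Ty F ω t ((g : Matrix F9 F9 F) *ᵥ x) ↔ Ty F ω t x := by
  have hI : InS F ω ((g : Matrix F9 F9 F) *ᵥ x) ↔ InS F ω x :=
    ⟨InS_inv h hg, fun hx => InS.mem h hg x hx⟩
  unfold Ty
  rw [form_inv h hg x, hI]

/-- a set cut out by a pattern over fixed vectors is invariant -/
theorem patB_inv (h : Four F ω) {g : GL F9 F} (hg : g ∈ threeJ3 F ω) {bs : List ℕ}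
    (hbs : ∀ b ∈ bs, b < 262144)
    (hfix : ∀ b ∈ bs, (g : Matrix F9 F9 F) *ᵥ dec F ω b = dec F ω b) (ps : List (List ℕ × ℕ))
    {x y : ℕ} (hx : x < 262144) (hy : y < 262144)
    (e : (g : Matrix F9 F9 F) *ᵥ dec F ω x = dec F ω y) (hp : (patB bs ps).testBit x = true) :
    (patB bs ps).testBit y = true := by
  rw [testBit_patB bs hbs ps hx] at hp
  rw [testBit_patB bs hbs ps hy]
  intro p hmem
  have hu := evalC_lt p.1 bs hbs
  have hxu := Nat.xor_lt_two_pow (n := 18) hx hu
  have hyu := Nat.xor_lt_two_pow (n := 18) hy hu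
  have := (testBit_tyB h p.2 hxu).1 (hp p hmem)
  rw [testBit_tyB h p.2 hyu, dec_xor h, ← e, ← mulVec_evalC h p.1 bs hfix, ← Matrix.mulVec_add,
    Ty_inv h hg, ← dec_xor h]
  exact this

theorem testBit_tB (h : Four F ω) {u x : ℕ} (hu : u < 262144) (hx : x < 262144) :
    (tB u).testBit x = true ↔ InS F ω (dec F ω x + dec F ω u) ∧
      InS F ω (dec F ω x + ω • dec F ω u) ∧ InS F ω (dec F ω x + ω ^ 2 • dec F ω u) := by
  have h1 := wMul_lt hu
  have h2 := wMul_lt h1
  rw [tB, Nat.testBit_and, Nat.testBit_and, Bool.and_eq_true, Bool.and_eq_true,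
    testBit_translate _ hx hu, testBit_translate _ hx h1, testBit_translate _ hx h2,
    testBit_bitsV h (Nat.xor_lt_two_pow (n := 18) hx hu),
    testBit_bitsV h (Nat.xor_lt_two_pow (n := 18) hx h1),
    testBit_bitsV h (Nat.xor_lt_two_pow (n := 18) hx h2), dec_xor h, dec_xor h, dec_xor h,
    dec_wMul h, dec_wMul h, dec_wMul h, smul_smul, ← pow_two, and_assoc]

theorem take_lt {k : ℕ} (hk : k ≤ 9) : ∀ b ∈ base.take k, b < 262144 := fun b hb => by
  obtain ⟨j, hj, rfl⟩ := mem_take_base hk hb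
  exact base_lt (by omega)

theorem stg_fixes {g : GL F9 F} {k : ℕ} (hk : k ≤ 9) (hg : g ∈ stg F ω k) :
    ∀ b ∈ base.take k, (g : Matrix F9 F9 F) *ᵥ dec F ω b = dec F ω b := fun b hb => by
  obtain ⟨j, hj, rfl⟩ := mem_take_base hk hb
  exact ((mem_stg k).1 hg).2 j hj

theorem cand_facts {k : ℕ} (hk : k < 8) (x : ℕ) :
    (candB k).testBit x = true ↔ x ∈ orbsTbl.getD k [] := by
  have h := cand_ok
  simp only [List.all_eq_true, List.mem_range, Nat.beq_eq] at h
  rw [h k hk, testBit_bitsOf]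

theorem stage_upper (h : Four F ω) {k : ℕ} (hk : k < 8) {g : GL F9 F} (hg : g ∈ stg F ω (k + 1))
    (hv : base.getD (k + 1) 0 ∈ orbsTbl.getD k [])
    {y : ℕ} (hy : y < 262144)
    (e : (g : Matrix F9 F9 F) *ᵥ dec F ω (base.getD (k + 1) 0) = dec F ω y) :
    y ∈ orbsTbl.getD k [] := by
  have hvlt := base_lt (k := k + 1) (by omega)
  have hgG := stg_le h _ hg
  have hcv := (cand_facts hk _).2 hv
  refine (cand_facts hk y).1 ?_
  by_cases hk0 : k = 0
  · subst hk0
    have hfix := stg_fixes (by norm_num) hg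
    have hlt := take_lt (k := 1) (by norm_num)
    simp only [candB, if_true, Nat.testBit_xor, Nat.testBit_and] at hcv ⊢
    have hpv : (patB (base.take 1) (patsTbl.getD 0 [])).testBit (base.getD 1 0) = true := by
      by_contra hc
      rw [Bool.not_eq_true] at hc
      rw [hc] at hcv
      simp at hcv
    rw [patB_inv h hgG hlt hfix _ hvlt hy e hpv]
    suffices (tUnion witU).testBit y = false by simp [this]
    by_contra hc
    rw [Bool.not_eq_false, testBit_tUnion] at hc
    obtain ⟨u, humem, hu⟩ := hc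
    have hw := wit_ok
    simp only [Bool.and_eq_true, List.all_eq_true, Nat.beq_eq, Nat.blt_eq] at hw
    obtain ⟨hult, huX⟩ := hw.2 u humem
    obtain ⟨u', hu'lt, hu'⟩ := exists_code h (((g⁻¹ : GL F9 F) : Matrix F9 F9 F) *ᵥ dec F ω u)
    have huX' : (patB (base.take 1) witPat).testBit u' = true :=
      patB_inv h (inv_mem hgG) hlt (stg_fixes (by norm_num) (inv_mem hg)) _ hult hu'lt hu'.symm huX
    have hgu : dec F ω u = (g : Matrix F9 F9 F) *ᵥ dec F ω u' := by
      rw [hu', Matrix.mulVec_mulVec, Units.mul_inv, Matrix.one_mulVec]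
    obtain ⟨a1, a2, a3⟩ := (testBit_tB h hult hy).1 hu
    rw [← e, hgu, ← Matrix.mulVec_add] at a1
    rw [← e, hgu, ← Matrix.mulVec_smul, ← Matrix.mulVec_add] at a2 a3
    have b1 := InS_inv h hgG a1
    have b2 := InS.smul h (InS_inv h hgG a2) 2
    have b3 := InS.smul h (InS_inv h hgG a3) 1
    rw [smul_add, smul_smul, ← pow_succ, h.pow_three, one_smul] at b2
    rw [pow_one, smul_add, smul_smul, ← pow_succ', h.pow_three, one_smul] at b3
    rw [add_comm] at b1 b2 b3
    have hT : (tB (base.getD 1 0)).testBit u' = true :=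
      (testBit_tB h hvlt hu'lt).2 ⟨b1, b3, b2⟩
    have := congrArg (fun n => n.testBit u') hw.1
    simp only [Nat.testBit_and, huX', hT, Nat.zero_testBit, Bool.true_and] at this
    exact Bool.noConfusion this
  · simp only [candB, if_neg hk0] at hcv ⊢
    exact patB_inv h hgG (take_lt (by omega)) (stg_fixes (by omega) hg) _ hvlt hy e hcv

theorem orbs_lt (h : Four F ω) {k : ℕ} (hk : k < 8) {i : ℕ} (hi : i < (orbsTbl.getD k []).length) :
    (orbsTbl.getD k []).getD i 0 < 262144 ∧ ∃ g ∈ stg F ω (k + 1),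
      (g : Matrix F9 F9 F) *ᵥ dec F ω (base.getD (k + 1) 0) =
        dec F ω ((orbsTbl.getD k []).getD i 0) := by
  have hw := owords_ok
  simp only [List.all_eq_true, List.mem_range, Bool.and_eq_true, Nat.beq_eq, Nat.blt_eq] at hw
  obtain ⟨⟨hj, hfix⟩, himg⟩ := (hw k hk).2 i hi
  obtain ⟨g, hg, hge⟩ := exists_word h _ hj
  have hvlt := base_lt (k := k + 1) (by omega)
  obtain ⟨h1, h2⟩ := appWord_spec h _ hj _ hvlt
  rw [himg] at h1 h2
  refine ⟨h1, g, (mem_stg _).2 ⟨selGrp_le h hg, fun j hjk => ?_⟩, by rw [hge]; exact h2⟩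
  have hb : base.getD j 0 ∈ base.take (k + 1) := by
    rw [List.getD_eq_getElem _ _ (by rw [base_facts.1]; omega)]
    exact List.mem_take_iff_getElem.2 ⟨j, by rw [base_facts.1]; omega, rfl⟩
  rw [hge, (appWord_spec h _ hj _ (base_lt (by omega))).2, hfix _ hb]

theorem card_stage (h : Four F ω) {k : ℕ} (hk : k < 8) :
    Nat.card (stg F ω (k + 1)) = (orbsTbl.getD k []).length * Nat.card (stg F ω (k + 2)) := by
  classical
  have hw := owords_ok
  simp only [List.all_eq_true, List.mem_range, Bool.and_eq_true, List.contains_iff_mem] at hw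
  have hv := (hw k hk).1
  let S : Set (F9 → F) := (dec F ω) '' {x | x ∈ orbsTbl.getD k []}
  have hmem : ∀ x ∈ orbsTbl.getD k [], x < 262144 := fun x hx => by
    obtain ⟨i, hi, rfl⟩ := List.mem_iff_getElem.1 hx
    rw [← List.getD_eq_getElem _ 0 hi]
    exact (orbs_lt h hk hi).1
  have hS : S.ncard = (orbsTbl.getD k []).length := by
    refine (Set.InjOn.ncard_image fun a ha b hb e => dec_inj h (hmem a ha) (hmem b hb) e).trans ?_
    rw [← List.toFinset_card_of_nodup (orbs_nodup ⟨k, hk⟩), ← Set.ncard_coe_finset,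
      List.coe_toFinset]
    rfl
  rw [← hS]
  refine card_orbit_mul _ _ S (fun g hg => ?_) ?_
  · obtain ⟨y, hy, e⟩ := exists_code h ((g : Matrix F9 F9 F) *ᵥ dec F ω (base.getD (k + 1) 0))
    exact ⟨y, stage_upper h hk hg hv hy e.symm, e⟩
  · rintro _ ⟨x, hx, rfl⟩
    obtain ⟨i, hi, rfl⟩ := List.mem_iff_getElem.1 hx
    rw [← List.getD_eq_getElem _ 0 hi]
    exact (orbs_lt h hk hi).2

theorem card_first (h : Four F ω) :
    Nat.card (threeJ3 F ω) = 69768 * Nat.card (stg F ω 1) := by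
  let Φ : Fin 23256 × Fin 3 → (F9 → F) := fun p => ω ^ (p.2 : ℕ) • dec F ω (el1 p.1)
  have hΦ : Set.range Φ = {x | InS F ω x} := by
    ext x
    constructor
    · rintro ⟨p, rfl⟩; exact ⟨p.1, p.1.2, p.2, p.2.2, rfl⟩
    · rintro ⟨i, hi, k, hk, rfl⟩; exact ⟨(⟨i, hi⟩, ⟨k, hk⟩), rfl⟩
  have hinj : Function.Injective Φ := by
    intro p q e
    have e2 : dec F ω (el1 p.1) = ω ^ ((2 * (p.2 : ℕ) + q.2) % 3) • dec F ω (el1 q.1) := by
      rw [← pow_mod_three h, pow_add, mul_smul, ← show Φ p = ω ^ (q.2 : ℕ) • dec F ω (el1 q.1) from e,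
        smul_smul, ← pow_add, show 2 * (p.2 : ℕ) + p.2 = 3 * p.2 by ring, pow_mul, h.pow_three,
        one_pow, one_smul]
    obtain ⟨h1, h2⟩ := lone_inj h el1_lt bits1_iff (fun i hi => (orbit1_at hi).2.1)
      (fun _ _ => el1_inj) p.1.2 q.1.2 (Nat.mod_lt _ (by norm_num)) e2
    have := p.2.2
    have := q.2.2
    exact Prod.ext (Fin.ext h1) (Fin.ext (by omega))
  have hc : ({x | InS F ω x} : Set (F9 → F)).ncard = 69768 := by
    rw [← hΦ, Set.ncard_range_of_injective hinj, Nat.card_prod, Nat.card_fin, Nat.card_fin]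
  have hb : dec F ω (base.getD 0 0) = dec F ω (el1 0) := by rw [base_facts.2.1, start_ok]
  rw [← hc]
  refine card_orbit_mul (threeJ3 F ω) (dec F ω (base.getD 0 0)) _ (fun g hg => ?_) ?_
  · rw [hb]
    exact InS.mem h hg _ ⟨0, by norm_num, 0, by norm_num, by rw [pow_zero, one_smul]⟩
  · rintro _ ⟨i, hi, k, -, rfl⟩
    obtain ⟨g, hg, c, hc, hgc⟩ :=
      reach h el1 el1_lt par1 23256 (fun i hi => (orbit1_at hi).1) i hi
    obtain ⟨m, -, rfl⟩ := exists_omega_pow h hc
    obtain ⟨s, hs, hse⟩ := exists_scalar h (k + 2 * m)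
    refine ⟨s * g, mul_mem (selGrp_le h hs) hg, ?_⟩
    rw [hb, Units.val_mul, ← Matrix.mulVec_mulVec, hgc, hse, Matrix.smul_mulVec, Matrix.one_mulVec,
      smul_smul, ← pow_add, show k + 2 * m + m = k + 3 * m by ring, pow_add, pow_mul, h.pow_three,
      one_pow, mul_one]

theorem card_threeJ3 (h : Four F ω) : Nat.card (threeJ3 F ω) = 150698880 := by
  have hl := orbs_len
  simp only [List.range_succ, List.range_zero, List.nil_append, List.map_append, List.map_cons,
    List.map_nil, List.cons_append, List.cons.injEq, and_true] at hl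
  obtain ⟨l0, l1, l2, l3, l4, l5, l6, l7⟩ := hl
  rw [card_first h, card_stage h (k := 0) (by norm_num), card_stage h (k := 1) (by norm_num),
    card_stage h (k := 2) (by norm_num), card_stage h (k := 3) (by norm_num),
    card_stage h (k := 4) (by norm_num), card_stage h (k := 5) (by norm_num),
    card_stage h (k := 6) (by norm_num), card_stage h (k := 7) (by norm_num), stg_nine h,
    l0, l1, l2, l3, l4, l5, l6, l7]

end CfsgLib.LocalEven.J3Lines
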