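import Cfsg.Agent.Lib.LocalEven.J3OrderCode

/-!
The finite checks for the order of the triple cover of the third Janko group.
-/

set_option autoImplicit false
set_option maxRecDepth 100000

namespace CfsgLib.LocalEven.J3Lines

open Cfsg Cfsg.Spor

theorem bitsV_ok :
    Nat.beq (orT (fun i => wPow (i % 3) (el1 (i / 3))) 69768 17 0) bitsV = true := by
  decide +kernel

theorem cand_ok : ((List.range 8).all fun k =>
    Nat.beq (candB k) (bitsOf (orbsTbl.getD k []))) = true := by
  decide +kernel

theorem wit_ok : (Nat.beq (patB (base.take 1) witPat &&& tB (base.getD 1 0)) 0 &&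
    witU.all (fun u => Nat.blt u 262144 && (patB (base.take 1) witPat).testBit u)) = true := by
  decide +kernel

theorem owords_ok : ((List.range 8).all fun k =>
    (orbsTbl.getD k []).contains (base.getD (k + 1) 0) &&
    (List.range (orbsTbl.getD k []).length).all fun i =>
      ((owordsTbl.getD k []).getD i []).all (fun j => Nat.blt j 7) &&
      (base.take (k + 1)).all (fun b => Nat.beq (appWord ((owordsTbl.getD k []).getD i []) b) b) &&
      Nat.beq (appWord ((owordsTbl.getD k []).getD i []) (base.getD (k + 1) 0))
        ((orbsTbl.getD k []).getD i 0)) = true := by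
  decide +kernel

theorem orbs_nodup : ∀ k : Fin 8, (orbsTbl.getD k []).Nodup := by decide +kernel

theorem orbs_len : ((List.range 8).map fun k => (orbsTbl.getD k []).length) =
    [90, 3, 2, 2, 2, 1, 1, 1] := by decide +kernel

theorem base_ok : (Nat.beq base.length 9 && Nat.beq (base.getD 0 0) 1 &&
    base.all (fun b => Nat.blt b 262144) &&
    (List.range 18).all fun i => Nat.beq (evalC (baseCoef.getD i []) base) (2 ^ i)) = true := by
  decide +kernel

theorem cyc_ok : ((List.range 18).all fun i =>
    Nat.beq (evalC (cycCoef.getD i []) ((List.range 9).map fun n => appWordPow w19 n 1)) (2 ^ i)) = true := by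
  decide +kernel

theorem ordWords_ok : (ordWords.all fun p => p.1.all (fun j => Nat.blt j 7) &&
    (List.range 18).all fun i => Nat.beq (appWordPow p.1 p.2 (2 ^ i)) (2 ^ i)) = true := by
  decide +kernel

theorem w19_ne : Nat.beq (appWord w19 1) 1 = false := by decide +kernel

theorem scalar_ok : (wScalar.all (fun j => Nat.blt j 7) &&
    (List.range 18).all fun i => Nat.beq (appWord wScalar (2 ^ i)) (wPow 2 (2 ^ i))) = true := by
  decide +kernel

theorem trace_ok : trC w19 = 3 ∧
    trC (w19 ++ w19 ++ w19 ++ w19 ++ w19 ++ w19 ++ w19 ++ w19 ++ w19 ++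
      w19 ++ w19 ++ w19 ++ w19 ++ w19 ++ w19 ++ w19 ++ w19 ++ w19) = 2 := by
  decide +kernel

theorem gram_ok : ∀ j : Fin 7, ∀ a b : F9, gramC j a b = if a = b then 1 else 0 := by
  decide +kernel

end CfsgLib.LocalEven.J3Lines
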