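import Cfsg.Agent.Lib.LocalEven.J3Lines
import Cfsg.Agent.Lib.LocalEven.J3OrderChecks

/-!
Meaning of the bit sets of codes.
-/

set_option autoImplicit false
set_option maxRecDepth 100000

namespace CfsgLib.LocalEven.J3Lines

open Cfsg Cfsg.Spor Matrix

attribute [local irreducible] bits1 bits2 bitsV el1 el2 getB getW app genCols genWords vec1 vec2
  par1 par2 loTbl hiTbl parTbl genOrd orbsTbl owordsTbl patsTbl witU witKey base baseCoef cycCoef

theorem testBit_dbl : ∀ (k w m x : ℕ), 0 < w → m < 2 ^ w →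
    (dbl k w m).testBit x = (decide (x < w * 2 ^ k) && m.testBit (x % w))
  | 0, w, m, x, hw, hm => by
    rw [dbl, pow_zero, mul_one]
    by_cases hx : x < w
    · simp [hx, Nat.mod_eq_of_lt hx]
    · simp [hx, Nat.testBit_lt_two_pow (lt_of_lt_of_le hm (Nat.pow_le_pow_right (by norm_num) (not_lt.1 hx)))]
  | k + 1, w, m, x, hw, hm => by
    have hm' : m ||| m <<< w < 2 ^ (2 * w) := by
      refine Nat.or_lt_two_pow (lt_of_lt_of_le hm (Nat.pow_le_pow_right (by norm_num) (by omega))) ?_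
      rw [Nat.shiftLeft_eq, two_mul, pow_add]
      exact Nat.mul_lt_mul_of_pos_right hm (Nat.two_pow_pos w)
    rw [dbl, testBit_dbl k (2 * w) _ x (by omega) hm', Nat.testBit_or, Nat.testBit_shiftLeft,
      show w * 2 ^ (k + 1) = 2 * w * 2 ^ k by ring]
    congr 1
    have h1 : x % (2 * w) % w = x % w := Nat.mod_mod_of_dvd x (dvd_mul_left w 2)
    have h2 := Nat.mod_lt x (show 2 * w > 0 by omega)
    by_cases hx : x % (2 * w) < w
    · rw [Nat.mod_eq_of_lt hx] at h1
      simp [h1, not_le.2 (Nat.mod_lt x hw)]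
    · have h3 : x % (2 * w) - w = x % w := by
        rw [← h1, Nat.mod_eq_sub_mod (not_lt.1 hx), Nat.mod_eq_of_lt (show x % (2 * w) - w < w by omega)]
      simp [not_lt.1 hx, h3, Nat.testBit_lt_two_pow
        (lt_of_lt_of_le hm (Nat.pow_le_pow_right (by norm_num) (not_lt.1 hx)))]

theorem testBit_selMask {i x : ℕ} (hi : i < 18) (hx : x < 262144) :
    (selMask i).testBit x = !x.testBit i := by
  have hm : 2 ^ (2 ^ i) - 1 < 2 ^ (2 ^ (i + 1)) :=
    lt_of_lt_of_le (Nat.sub_lt (Nat.two_pow_pos _) one_pos)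
      (Nat.pow_le_pow_right (by norm_num) (Nat.pow_le_pow_right (by norm_num) (by omega)))
  rw [selMask, testBit_dbl _ _ _ _ (Nat.two_pow_pos _) hm, Nat.testBit_two_pow_sub_one, ← pow_add,
    show i + 1 + (17 - i) = 18 by omega, decide_eq_true (lt_of_lt_of_eq hx (by norm_num)),
    Bool.true_and, Nat.testBit_eq_decide_div_mod_eq, Nat.mod_pow_succ]
  rcases Nat.mod_two_eq_zero_or_one (x / 2 ^ i) with e | e
  · simp [e, Nat.mod_lt x (Nat.two_pow_pos i)]
  · simp [e]

theorem xor_two_pow : ∀ i x : ℕ,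
    x ^^^ 2 ^ i = if x / 2 ^ i % 2 = 1 then x - 2 ^ i else x + 2 ^ i
  | 0, x => by
    have h1 := Nat.xor_div_two (a := x) (b := 1)
    have h2 := Nat.div_add_mod (x ^^^ 1) 2
    rw [h1, Nat.xor_mod_two_eq] at h2
    rw [pow_zero, Nat.div_one]
    simp at h2
    split_ifs <;> omega
  | i + 1, x => by
    have h1 := Nat.xor_div_two (a := x) (b := 2 ^ (i + 1))
    have h2 := Nat.div_add_mod (x ^^^ 2 ^ (i + 1)) 2
    rw [h1, Nat.xor_mod_two_eq, show 2 ^ (i + 1) / 2 = 2 ^ i by rw [pow_succ]; omega,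
      xor_two_pow i] at h2
    rw [show x / 2 ^ (i + 1) = x / 2 / 2 ^ i by rw [Nat.div_div_eq_div_mul, pow_succ']]
    have h3 : 2 ^ i ≤ x / 2 ∨ ¬ x / 2 / 2 ^ i % 2 = 1 := by
      by_cases h : 2 ^ i ≤ x / 2
      · exact Or.inl h
      · exact Or.inr (by rw [Nat.div_eq_of_lt (not_le.1 h)]; norm_num)
    have h4 : 2 ^ (i + 1) % 2 = 0 := by rw [pow_succ]; omega
    rw [Nat.add_mod, h4, add_zero, Nat.mod_mod] at h2
    rw [pow_succ] at h2 ⊢
    split_ifs at h2 ⊢ <;> omega

theorem testBit_swapB (B : ℕ) {i x : ℕ} (hi : i < 18) (hx : x < 262144) :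
    (swapB B i).testBit x = B.testBit (x ^^^ 2 ^ i) := by
  rw [swapB, Nat.testBit_or, Nat.testBit_shiftLeft, Nat.testBit_and, Nat.testBit_and,
    Nat.testBit_shiftRight, testBit_selMask hi hx, xor_two_pow, Nat.testBit_eq_decide_div_mod_eq (i := i)]
  by_cases h : x / 2 ^ i % 2 = 1
  · have hle : 2 ^ i ≤ x := by
      by_contra hc
      rw [Nat.div_eq_of_lt (not_le.1 hc)] at h
      exact absurd h (by norm_num)
    have hd : (x - 2 ^ i) / 2 ^ i % 2 = 0 := by
      have := Nat.add_div_right (x - 2 ^ i) (Nat.two_pow_pos i)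
      rw [Nat.sub_add_cancel hle] at this
      omega
    rw [testBit_selMask hi (lt_of_le_of_lt (Nat.sub_le _ _) hx), Nat.testBit_eq_decide_div_mod_eq (i := i)]
    simp [h, hle, hd]
  · rw [if_neg h, add_comm (2 ^ i) x]
    simp only [decide_eq_false h, Bool.not_false, Bool.and_true]
    by_cases hle : 2 ^ i ≤ x
    · have hd : (x - 2 ^ i) / 2 ^ i % 2 = 1 := by
        have := Nat.add_div_right (x - 2 ^ i) (Nat.two_pow_pos i)
        rw [Nat.sub_add_cancel hle] at this
        omega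
      rw [testBit_selMask hi (lt_of_le_of_lt (Nat.sub_le _ _) hx), Nat.testBit_eq_decide_div_mod_eq (i := i)]
      simp [hd]
    · simp [hle]

theorem testBit_shiftX (B : ℕ) {u x : ℕ} (hx : x < 262144) :
    ∀ n ≤ 18, (shiftX B u n).testBit x = B.testBit (x ^^^ u % 2 ^ n)
  | 0, _ => by simp [shiftX, Nat.mod_one]
  | n + 1, hn => by
    rw [testBit_mod_succ]
    cases hb : u.testBit n
    · simp only [shiftX, hb, Bool.false_eq_true, if_false, Nat.xor_zero]
      exact testBit_shiftX B hx n (by omega)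
    · have h2 : x ^^^ 2 ^ n < 262144 := by
        refine Nat.xor_lt_two_pow (n := 18) (lt_of_lt_of_eq hx (by norm_num)) ?_
        exact Nat.pow_lt_pow_right (by norm_num) (by omega)
      simp only [shiftX, hb, if_true]
      rw [testBit_swapB _ (by omega) hx]
      have := testBit_shiftX B (u := u) h2 n (by omega)
      rw [this, Nat.xor_assoc, Nat.xor_comm (2 ^ n)]

theorem testBit_translate (B : ℕ) {u x : ℕ} (hx : x < 262144) (hu : u < 262144) :
    (shiftX B u 18).testBit x = B.testBit (x ^^^ u) := by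
  rw [testBit_shiftX B hx 18 le_rfl, Nat.mod_eq_of_lt (lt_of_lt_of_eq hu (by norm_num))]

theorem fullB_bit {k x : ℕ} (hx : x < 4 ^ k) : (fullB k).testBit x = true := by
  rw [fullB, Nat.testBit_two_pow_sub_one]; simpa using hx

theorem fullB_nine {x : ℕ} (hx : x < 262144) : (fullB 9).testBit x = true :=
  fullB_bit (lt_of_lt_of_eq hx (by norm_num))

theorem evenB_lt : ∀ k, evenB k < 2 ^ (4 ^ k)
  | 0 => by simp [evenB]
  | k + 1 => by
    have he := evenB_lt k
    have ho : fullB k ^^^ evenB k < 2 ^ (4 ^ k) :=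
      Nat.xor_lt_two_pow (Nat.sub_lt (Nat.two_pow_pos _) one_pos) he
    have hs : ∀ j a, a < 2 ^ (4 ^ k) → j ≤ 3 → a <<< (j * 4 ^ k) < 2 ^ (4 ^ (k + 1)) := by
      intro j a ha hj
      rw [Nat.shiftLeft_eq]
      refine lt_of_lt_of_le (Nat.mul_lt_mul_of_pos_right ha (Nat.two_pow_pos _)) ?_
      rw [← pow_add]
      refine Nat.pow_le_pow_right (by norm_num) ?_
      calc 4 ^ k + j * 4 ^ k = (1 + j) * 4 ^ k := by ring
        _ ≤ 4 * 4 ^ k := Nat.mul_le_mul_right _ (by omega)
        _ = 4 ^ (k + 1) := by rw [pow_succ']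
    rw [evenB, stepB]
    refine Nat.or_lt_two_pow (Nat.or_lt_two_pow (Nat.or_lt_two_pow ?_ ?_) (hs 2 _ ho (by omega)))
      (hs 3 _ ho le_rfl)
    · exact lt_of_lt_of_le he (Nat.pow_le_pow_right (by norm_num) (Nat.pow_le_pow_right (by norm_num) (by omega)))
    · have := hs 1 _ ho (by omega)
      rwa [one_mul] at this

/-- number of non-zero coordinates among the first `k` -/
def cntV (k x : ℕ) : ℕ :=
  ((List.range k).filter fun j => !Nat.beq ((x >>> (2 * j)) &&& 3) 0).length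

theorem cntV_succ (k x : ℕ) : cntV (k + 1) x =
    cntV k x + if (x >>> (2 * k)) &&& 3 = 0 then 0 else 1 := by
  unfold cntV
  rw [List.range_succ, List.filter_append, List.length_append, List.filter_singleton]
  cases hb : Nat.beq ((x >>> (2 * k)) &&& 3) 0
  · rw [if_neg (Nat.ne_of_beq_eq_false hb)]; simp [hb]
  · rw [if_pos (Nat.eq_of_beq_eq_true hb)]; simp [hb]

theorem cntV_mod (k x : ℕ) : cntV k (x % 4 ^ k) = cntV k x := by
  unfold cntV
  refine congrArg List.length (List.filter_congr fun j hj => ?_)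
  rw [List.mem_range] at hj
  have : ((x % 4 ^ k) >>> (2 * j)) &&& 3 = (x >>> (2 * j)) &&& 3 := by
    refine Nat.eq_of_testBit_eq fun i => ?_
    simp only [Nat.testBit_and, Nat.testBit_shiftRight, show (3 : ℕ) = 2 ^ 2 - 1 by norm_num,
      Nat.testBit_two_pow_sub_one, show (4 : ℕ) ^ k = 2 ^ (2 * k) by rw [pow_mul]; norm_num,
      Nat.testBit_mod_two_pow]
    by_cases hi : i < 2
    · simp [hi, show 2 * j + i < 2 * k by omega]
    · simp [hi]
  rw [this]

theorem testBit_evenB : ∀ (k x : ℕ), x < 4 ^ k → (evenB k).testBit x = !(cntV k x).bodd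
  | 0, x, hx => by
    obtain rfl : x = 0 := by simpa using hx
    simp [evenB, cntV]
  | k + 1, x, hx => by
    have hpos : 0 < 4 ^ k := pow_pos (by norm_num) k
    have hdig : (x >>> (2 * k)) &&& 3 = x / 4 ^ k := by
      rw [Nat.shiftRight_eq_div_pow, show (2 : ℕ) ^ (2 * k) = 4 ^ k by rw [pow_mul]; norm_num,
        show (3 : ℕ) = 2 ^ 2 - 1 by norm_num, Nat.and_two_pow_sub_one_eq_mod]
      exact Nat.mod_eq_of_lt (Nat.div_lt_of_lt_mul (by rw [pow_succ] at hx; simpa using hx))
    rw [cntV_succ, hdig, ← cntV_mod k x, evenB, stepB]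
    have hr := Nat.mod_lt x hpos
    have hq : x / 4 ^ k < 4 := Nat.div_lt_of_lt_mul (by rw [pow_succ] at hx; omega)
    have hx' := Nat.div_add_mod x (4 ^ k)
    have he := testBit_evenB k _ hr
    have ho : (fullB k ^^^ evenB k).testBit (x % 4 ^ k) = (cntV k (x % 4 ^ k)).bodd := by
      rw [Nat.testBit_xor, fullB_bit hr, he]; simp
    have hol : fullB k ^^^ evenB k < 2 ^ (4 ^ k) :=
      Nat.xor_lt_two_pow (Nat.sub_lt (Nat.two_pow_pos _) one_pos) (evenB_lt k)
    have hz : ∀ a y, a < 2 ^ (4 ^ k) → 4 ^ k ≤ y → a.testBit y = false := fun a y ha hy =>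
      Nat.testBit_lt_two_pow (lt_of_lt_of_le ha (Nat.pow_le_pow_right (by norm_num) hy))
    simp only [Nat.testBit_or, Nat.testBit_shiftLeft, Nat.bodd_add]
    generalize x / 4 ^ k = q at hq hx' ⊢
    generalize x % 4 ^ k = r at hr hx' he ho ⊢
    interval_cases q
    · obtain rfl : r = x := by omega
      simp [he, not_le.2 hr, show ¬ 2 * 4 ^ k ≤ r by omega, show ¬ 3 * 4 ^ k ≤ r by omega]
    · simp [hz _ x (evenB_lt k) (by omega), show 4 ^ k ≤ x by omega, show x - 4 ^ k = r by omega, ho,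
        show ¬ 2 * 4 ^ k ≤ x by omega, show ¬ 3 * 4 ^ k ≤ x by omega]
    · simp [hz _ x (evenB_lt k) (by omega), hz _ (x - 4 ^ k) hol (by omega), ho,
        show 2 * 4 ^ k ≤ x by omega, show x - 2 * 4 ^ k = r by omega, show ¬ 3 * 4 ^ k ≤ x by omega]
    · simp [hz _ x (evenB_lt k) (by omega), hz _ (x - 4 ^ k) hol (by omega),
        hz _ (x - 2 * 4 ^ k) hol (by omega), ho,
        show 3 * 4 ^ k ≤ x by omega, show x - 3 * 4 ^ k = r by omega]

theorem testBit_even_nine {x : ℕ} (hx : x < 262144) : (evenB 9).testBit x = !parV x := by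
  rw [testBit_evenB 9 x (lt_of_lt_of_eq hx (by norm_num)), par_split x hx]
  rfl

theorem testBit_bitsOf : ∀ (l : List ℕ) (x : ℕ), (bitsOf l).testBit x = true ↔ x ∈ l
  | [], x => by simp [bitsOf]
  | y :: ys, x => by
    rw [bitsOf, Nat.testBit_or, Bool.or_eq_true, testBit_bitsOf ys, testBit_one_shiftLeft,
      decide_eq_true_eq, List.mem_cons]
    exact or_congr_left eq_comm

theorem testBit_tUnion : ∀ (l : List ℕ) (x : ℕ),
    (tUnion l).testBit x = true ↔ ∃ u ∈ l, (tB u).testBit x = true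
  | [], x => by simp [tUnion]
  | y :: ys, x => by
    rw [tUnion, Nat.testBit_or, Bool.or_eq_true, testBit_tUnion ys]
    simp

theorem scaleC_lt {c v : ℕ} (hv : v < 262144) : scaleC c v < 262144 := by
  unfold scaleC
  split_ifs
  · norm_num
  · generalize c - 1 = k
    induction k with
    | zero => exact hv
    | succ k ih => exact wMul_lt ih

theorem evalC_lt : ∀ (cs bs : List ℕ), (∀ b ∈ bs, b < 262144) → evalC cs bs < 262144
  | [], _, _ => by simp [evalC]
  | _ :: _, [], _ => by simp [evalC]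
  | c :: cs, b :: bs, h => by
    rw [evalC]
    exact Nat.xor_lt_two_pow (n := 18) (scaleC_lt (h b List.mem_cons_self))
      (evalC_lt cs bs fun x hx => h x (List.mem_cons_of_mem _ hx))

theorem testBit_patB (bs : List ℕ) (hbs : ∀ b ∈ bs, b < 262144) :
    ∀ (ps : List (List ℕ × ℕ)) {x : ℕ}, x < 262144 →
      ((patB bs ps).testBit x = true ↔ ∀ p ∈ ps, (tyB p.2).testBit (x ^^^ evalC p.1 bs) = true)
  | [], x, hx => by simp [patB, fullB_nine hx]
  | p :: ps, x, hx => by
    rw [patB, Nat.testBit_and, Bool.and_eq_true, testBit_translate _ hx (evalC_lt _ _ hbs),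
      testBit_patB bs hbs ps hx, List.forall_mem_cons]

end CfsgLib.LocalEven.J3Lines
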