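import Cfsg.Agent.Lib.LocalEven.J3LinesCode
import Cfsg.Agent.Lib.LocalEven.J3OrderData

/-!
Bit sets of codes: the three types of vectors and the patterns cut out by their translates.
-/

set_option autoImplicit false
set_option maxRecDepth 100000

namespace CfsgLib.LocalEven.J3Lines

open Cfsg Cfsg.Spor

/-- periodic extension of a mask -/
def dbl : ℕ → ℕ → ℕ → ℕ
  | 0, _, m => m
  | k + 1, w, m => dbl k (2 * w) (m ||| (m <<< w))

/-- the codes with a given bit off -/
def selMask (i : ℕ) : ℕ := dbl (17 - i) (2 ^ (i + 1)) (2 ^ (2 ^ i) - 1)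

/-- exchange along one bit -/
def swapB (B i : ℕ) : ℕ := ((B &&& selMask i) <<< (2 ^ i)) ||| ((B >>> (2 ^ i)) &&& selMask i)

/-- translate of a set of codes -/
def shiftX (B u : ℕ) : ℕ → ℕ
  | 0 => B
  | n + 1 => if u.testBit n then swapB (shiftX B u n) n else shiftX B u n

/-- all codes of a given length -/
def fullB (k : ℕ) : ℕ := 2 ^ (4 ^ k) - 1

/-- one more coordinate -/
def stepB (w e o : ℕ) : ℕ := e ||| (o <<< w) ||| (o <<< (2 * w)) ||| (o <<< (3 * w))

/-- the codes with evenly many coordinates -/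
def evenB : ℕ → ℕ
  | 0 => 1
  | k + 1 => stepB (4 ^ k) (evenB k) (fullB k ^^^ evenB k)

/-- the three types -/
def tyB (t : ℕ) : ℕ :=
  if t = 1 then bitsV else if t = 2 then evenB 9 else fullB 9 ^^^ (bitsV ||| evenB 9)

/-- multiple by a coefficient code -/
def scaleC (c v : ℕ) : ℕ := if c = 0 then 0 else wPow (c - 1) v

/-- combination of codes -/
def evalC : List ℕ → List ℕ → ℕ
  | c :: cs, b :: bs => scaleC c b ^^^ evalC cs bs
  | _, _ => 0

/-- set cut out by a pattern -/
def patB (bs : List ℕ) : List (List ℕ × ℕ) → ℕ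
  | [] => fullB 9
  | p :: ps => shiftX (tyB p.2) (evalC p.1 bs) 18 &&& patB bs ps

/-- vectors whose three sums with the multiples of `u` lie in the first orbit -/
def tB (u : ℕ) : ℕ :=
  shiftX bitsV u 18 &&& shiftX bitsV (wMul u) 18 &&& shiftX bitsV (wMul (wMul u)) 18

/-- union of the witness sets -/
def tUnion : List ℕ → ℕ
  | [] => 0
  | u :: us => tB u ||| tUnion us

/-- bit set of a list -/
def bitsOf : List ℕ → ℕ
  | [] => 0
  | x :: xs => (1 <<< x) ||| bitsOf xs

/-- auxiliary pattern of the first stage -/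
def witPat : List (List ℕ × ℕ) :=
  [([0], witKey.getD 0 0), ([1], witKey.getD 1 0), ([2], witKey.getD 2 0), ([3], witKey.getD 3 0)]

/-- candidates at a stage -/
def candB (k : ℕ) : ℕ :=
  if k = 0 then patB (base.take 1) (patsTbl.getD 0 []) ^^^
    (patB (base.take 1) (patsTbl.getD 0 []) &&& tUnion witU)
  else patB (base.take (k + 1)) (patsTbl.getD k [])

/-- iterated image under a word -/
def appWordPow (w : List ℕ) : ℕ → ℕ → ℕ
  | 0, v => v
  | n + 1, v => appWord w (appWordPow w n v)

/-- the element of order nineteen -/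
def w19 : List ℕ := [2, 4, 6]

/-- a word for a scalar -/
def wScalar : List ℕ := [4, 1, 4, 4, 1, 1, 0]

/-- words with their orders -/
def ordWords : List (List ℕ × ℕ) :=
  [([4, 6], 17), ([0, 6], 4), ([1, 6, 0], 5), ([2, 4, 6], 19), ([3, 6], 4), ([5, 4, 6], 15)]

/-- trace code of a word -/
def trC (w : List ℕ) : ℕ := (zs.map fun z => cd (appWord w (2 ^ (2 * kk z))) z).foldr (· ^^^ ·) 0

/-- inner product code of two columns of a chosen generator -/
def gramC (j : ℕ) (a b : F9) : ℕ :=
  (zs.map fun w => mulC (gMat (sel.getD j (.kA, 0)).1 (sel.getD j (.kA, 0)).2 w a)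
    (mulC (gMat (sel.getD j (.kA, 0)).1 (sel.getD j (.kA, 0)).2 w b)
      (gMat (sel.getD j (.kA, 0)).1 (sel.getD j (.kA, 0)).2 w b))).foldr (· ^^^ ·) 0

end CfsgLib.LocalEven.J3Lines
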