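import Cfsg.Agent.Lib.LocalEven.J3OrderBits

/-!
Elements of the triple cover of the third Janko group as words, its scalars, and the invariant form.
-/

set_option autoImplicit false
set_option maxRecDepth 100000

namespace CfsgLib.LocalEven.J3Lines

open Cfsg Cfsg.Spor Matrix
open scoped MatrixGroups

attribute [local irreducible] bits1 bits2 bitsV el1 el2 getB getW app genCols genWords vec1 vec2
  par1 par2 loTbl hiTbl parTbl genOrd orbsTbl owordsTbl patsTbl witU witKey base baseCoef cycCoef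

variable {F : Type*} [Field F] [Fintype F] {ω : F}

/-- the group generated by the chosen generators -/
def selGrp (F : Type*) [Field F] (ω : F) : Subgroup (GL F9 F) :=
  Subgroup.closure {g | ∃ j < 7, (g : Matrix F9 F9 F) = selMat F ω j}

theorem exists_word (h : Four F ω) : ∀ w : List ℕ, (∀ j ∈ w, j < 7) →
    ∃ g ∈ selGrp F ω, (g : Matrix F9 F9 F) = wordMat F ω w
  | [], _ => ⟨1, one_mem _, by simp [wordMat]⟩
  | j :: w, hw => by
    obtain ⟨s, -, hse⟩ := exists_sel h (hw j List.mem_cons_self)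
    obtain ⟨g, hg, hge⟩ := exists_word h w fun i hi => hw i (List.mem_cons_of_mem _ hi)
    exact ⟨s * g, mul_mem (Subgroup.subset_closure ⟨j, hw j List.mem_cons_self, hse⟩) hg,
      by rw [Units.val_mul, hse, hge, wordMat]⟩

theorem selGrp_le (h : Four F ω) : selGrp F ω ≤ threeJ3 F ω := by
  refine (Subgroup.closure_le _).2 ?_
  rintro g ⟨j, hj, hg⟩
  obtain ⟨s, hs, hse⟩ := exists_sel h hj
  rwa [show g = s from Units.ext (hg.trans hse.symm)]

theorem two_pow_lt {i : ℕ} (hi : i < 18) : 2 ^ i < 262144 :=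
  lt_of_lt_of_eq (Nat.pow_lt_pow_right (by norm_num) hi) (by norm_num)

theorem gen_word (h : Four F ω) {n : ℕ} (hn : n < 43) : ∃ w k, (∀ j ∈ w, j < 7) ∧
    wordMat F ω w = ω ^ k • mat F ω (allGens.getD n (.kA, 0)).1 (allGens.getD n (.kA, 0)).2 := by
  have hw := words_ok
  simp only [Bool.and_eq_true, List.all_eq_true, List.mem_range, Nat.beq_eq, Nat.blt_eq] at hw
  obtain ⟨hjs, hcol⟩ := hw.2 n hn
  refine ⟨(genWords.getD n ([], 0)).1, (genWords.getD n ([], 0)).2, hjs, mat_ext h fun i hi => ?_⟩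
  rw [(appWord_spec h _ hjs _ (two_pow_lt hi)).2, hcol i hi, dec_wPow h, Matrix.smul_mulVec,
    mv_bit h hn hi]

theorem wScalar_eq (h : Four F ω) :
    (∀ j ∈ wScalar, j < 7) ∧ wordMat F ω wScalar = ω ^ 2 • (1 : Matrix F9 F9 F) := by
  have hs := scalar_ok
  simp only [Bool.and_eq_true, List.all_eq_true, List.mem_range, Nat.beq_eq, Nat.blt_eq] at hs
  refine ⟨hs.1, mat_ext h fun i hi => ?_⟩
  rw [(appWord_spec h _ hs.1 _ (two_pow_lt hi)).2, hs.2 i hi, dec_wPow h, Matrix.smul_mulVec,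
    Matrix.one_mulVec]

theorem exists_scalar (h : Four F ω) (k : ℕ) :
    ∃ g ∈ selGrp F ω, (g : Matrix F9 F9 F) = ω ^ k • (1 : Matrix F9 F9 F) := by
  obtain ⟨hs, he⟩ := wScalar_eq h
  obtain ⟨g, hg, hge⟩ := exists_word h wScalar hs
  refine ⟨g ^ (2 * k), pow_mem hg _, ?_⟩
  rw [Units.val_pow_eq_pow_val, hge, he, smul_pow, one_pow, ← pow_mul,
    show 2 * (2 * k) = k + 3 * k by ring, pow_add, pow_mul, h.pow_three, one_pow, mul_one]

theorem selGrp_eq (h : Four F ω) : selGrp F ω = threeJ3 F ω := by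
  refine le_antisymm (selGrp_le h) ?_
  rw [threeJ3]
  refine (Subgroup.closure_le _).2 fun g hg => ?_
  obtain ⟨n, hn, he⟩ := gens_listed hg
  obtain ⟨w, k, hw, hwe⟩ := gen_word h hn
  obtain ⟨a, ha, hae⟩ := exists_word h w hw
  obtain ⟨s, hs, hse⟩ := exists_scalar h (2 * k)
  have : g = s * a := Units.ext (by
    rw [Units.val_mul, hse, hae, hwe, he, Matrix.smul_mul, one_mul, smul_smul, ← pow_add,
      show 2 * k + k = 3 * k by ring, pow_mul, h.pow_three, one_pow, one_smul])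
  rw [this]
  exact mul_mem hs ha

theorem appWordPow_spec (h : Four F ω) {w : List ℕ} (hw : ∀ j ∈ w, j < 7) {v : ℕ} (hv : v < 262144) :
    ∀ n, appWordPow w n v < 262144 ∧
      (wordMat F ω w ^ n) *ᵥ dec F ω v = dec F ω (appWordPow w n v)
  | 0 => by simp [appWordPow, hv]
  | n + 1 => by
    obtain ⟨h1, h2⟩ := appWordPow_spec h hw hv n
    obtain ⟨h3, h4⟩ := appWord_spec h w hw _ h1
    exact ⟨h3, by rw [pow_succ', ← Matrix.mulVec_mulVec, h2, h4, appWordPow]⟩

/-! ### The form -/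

theorem toF_foldr (h : Four F ω) :
    ∀ l : List ℕ, toF F ω (l.foldr (· ^^^ ·) 0) = (l.map (toF F ω)).sum
  | [] => by simp [toF_vals.1]
  | a :: l => by simp [toF_xor h, toF_foldr h l]

theorem sum_zs {M : Type*} [AddCommMonoid M] (f : F9 → M) : ∑ z, f z = (zs.map f).sum := by
  rw [← List.sum_toFinset _ zs_nodup.1]
  refine Finset.sum_congr (Finset.ext fun z => ?_) fun _ _ => rfl
  simpa using zs_nodup.2 z

theorem mulC_lt {a b : ℕ} (ha : a < 4) (hb : b < 4) : mulC a b < 4 := by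
  interval_cases a <;> interval_cases b <;> decide

theorem sel_gMat_lt : ∀ j : Fin 7, ∀ w z : F9,
    gMat (sel.getD j (.kA, 0)).1 (sel.getD j (.kA, 0)).2 w z < 4 := by
  decide +kernel

theorem selMat_gram (h : Four F ω) {j : ℕ} (hj : j < 7) (a b : F9) :
    ∑ w, selMat F ω j w a * selMat F ω j w b ^ 2 = if a = b then 1 else 0 := by
  have e : toF F ω (gramC j a b) = if a = b then 1 else 0 := by
    rw [gram_ok ⟨j, hj⟩ a b]
    split_ifs
    · exact toF_vals.2.1
    · exact toF_vals.1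
  rw [← e, gramC, toF_foldr h, List.map_map, sum_zs]
  refine congrArg List.sum (List.map_congr_left fun w _ => ?_)
  rw [Function.comp_apply, selMat, mat_eq h, mat_eq h,
    toF_mulC h (sel_gMat_lt ⟨j, hj⟩ w a) (mulC_lt (sel_gMat_lt ⟨j, hj⟩ w b) (sel_gMat_lt ⟨j, hj⟩ w b)),
    toF_mulC h (sel_gMat_lt ⟨j, hj⟩ w b) (sel_gMat_lt ⟨j, hj⟩ w b), pow_two]

theorem charTwo (h : Four F ω) : CharP F 2 :=
  CharTwo.of_one_ne_zero_of_two_eq_zero one_ne_zero h.two

theorem form_sel (h : Four F ω) {j : ℕ} (hj : j < 7) (x : F9 → F) :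
    ∑ w, (selMat F ω j *ᵥ x) w ^ 3 = ∑ w, x w ^ 3 := by
  haveI := charTwo h
  haveI : Fact (Nat.Prime 2) := ⟨Nat.prime_two⟩
  simp only [Matrix.mulVec, dotProduct]
  calc ∑ w, (∑ a, selMat F ω j w a * x a) ^ 3
      = ∑ w, ∑ a, ∑ b, (selMat F ω j w a * selMat F ω j w b ^ 2) * (x a * x b ^ 2) := by
        refine Finset.sum_congr rfl fun w _ => ?_
        rw [pow_succ', sum_pow_char, Finset.sum_mul_sum]
        refine Finset.sum_congr rfl fun a _ => Finset.sum_congr rfl fun b _ => ?_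
        ring
    _ = ∑ a, ∑ b, (if a = b then 1 else 0) * (x a * x b ^ 2) := by
        rw [Finset.sum_comm]
        refine Finset.sum_congr rfl fun a _ => ?_
        rw [Finset.sum_comm]
        refine Finset.sum_congr rfl fun b _ => ?_
        rw [← Finset.sum_mul, selMat_gram h hj]
    _ = ∑ w, x w ^ 3 := by
        refine Finset.sum_congr rfl fun a _ => ?_
        rw [Finset.sum_eq_single a]
        · simp; ring
        · intro b _ hb; simp [Ne.symm hb]
        · simp

theorem form_inv (h : Four F ω) {g : GL F9 F} (hg : g ∈ threeJ3 F ω) :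
    ∀ x : F9 → F, ∑ w, ((g : Matrix F9 F9 F) *ᵥ x) w ^ 3 = ∑ w, x w ^ 3 := by
  rw [← selGrp_eq h] at hg
  induction hg using Subgroup.closure_induction with
  | mem g hg => obtain ⟨j, hj, e⟩ := hg; intro x; rw [e, form_sel h hj]
  | one => intro x; simp
  | mul a b _ _ ha hb =>
    intro x
    rw [Units.val_mul, ← Matrix.mulVec_mulVec, ha, hb]
  | inv a _ ha =>
    intro x
    rw [← ha, Matrix.mulVec_mulVec, Units.mul_inv, Matrix.one_mulVec]

end CfsgLib.LocalEven.J3Lines
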