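import Cfsg.Agent.Lib.LocalEven.J3Order

/-!
The centre and the derived group of the triple cover of the third Janko group, and its element of
order nineteen.
-/

set_option autoImplicit false
set_option maxRecDepth 100000

namespace CfsgLib.LocalEven.J3Lines

open Cfsg Cfsg.Spor Matrix
open scoped MatrixGroups

attribute [local irreducible] bits1 bits2 bitsV el1 el2 getB getW app genCols genWords vec1 vec2
  par1 par2 loTbl hiTbl parTbl genOrd orbsTbl owordsTbl patsTbl witU witKey base baseCoef cycCoef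

variable {F : Type*} [Field F] [Fintype F] {ω : F}

theorem ordWord_pow (h : Four F ω) {w : List ℕ} {n : ℕ} (hmem : (w, n) ∈ ordWords) :
    (∀ j ∈ w, j < 7) ∧ wordMat F ω w ^ n = 1 := by
  have hw := ordWords_ok
  simp only [List.all_eq_true, List.mem_range, Bool.and_eq_true, Nat.beq_eq, Nat.blt_eq] at hw
  obtain ⟨h1, h2⟩ := hw _ hmem
  refine ⟨h1, mat_ext h fun i hi => ?_⟩
  rw [(appWordPow_spec h h1 (two_pow_lt hi) n).2, h2 i hi, Matrix.one_mulVec]

theorem selMat_pow (h : Four F ω) {j : ℕ} (hj : j < 7) :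
    selMat F ω j ^ genOrd.getD j 0 = 1 := by
  have ho := orders_ok
  simp only [List.all_eq_true, List.mem_range, Bool.and_eq_true, Nat.beq_eq, Nat.blt_eq] at ho
  refine mat_ext h fun i hi => ?_
  rw [(appIter_spec h hj (two_pow_lt hi) _).2, (ho j hj).2 i hi, Matrix.one_mulVec]

theorem genOrd_vals : (List.range 7).map (fun j => genOrd.getD j 0) = [3, 3, 3, 9, 9, 8, 2] := by
  decide +kernel

theorem eq_one_of_coprime {A : Type*} [Monoid A] {a : A} {m n : ℕ} (hmn : Nat.gcd m n = 1)
    (hm : a ^ m = 1) (hn : a ^ n = 1) : a = 1 := by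
  have := (pow_gcd_eq_one (a := a) (m := m) (n := n)).2 ⟨hm, hn⟩
  rwa [hmn, pow_one] at this

theorem perfect (h : Four F ω) : commutator (threeJ3 F ω) = ⊤ := by
  let π := Abelianization.of (G := threeJ3 F ω)
  have hex : ∀ j : Fin 7, ∃ g : threeJ3 F ω, ((g : GL F9 F) : Matrix F9 F9 F) = selMat F ω j :=
    fun j => by obtain ⟨g, hg, e⟩ := exists_sel h j.2; exact ⟨⟨g, hg⟩, e⟩
  choose s hs using hex
  let val : threeJ3 F ω →* Matrix F9 F9 F := (Units.coeHom _).comp (threeJ3 F ω).subtype
  have hval : Function.Injective val := fun a b e => Subtype.ext (Units.ext e)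
  have hord : ∀ j : Fin 7, π (s j) ^ genOrd.getD (j : ℕ) 0 = 1 := fun j => by
    rw [← map_pow, show s j ^ genOrd.getD (j : ℕ) 0 = 1 from hval (by
      rw [map_pow, map_one]; exact (congrArg (· ^ _) (hs j)).trans (selMat_pow h j.2)), map_one]
  have hl := genOrd_vals
  simp only [List.range_succ, List.range_zero, List.nil_append, List.map_cons, List.map_nil,
    List.cons_append, List.cons.injEq, and_true] at hl
  obtain ⟨o0, o1, o2, o3, o4, o5, o6⟩ := hl
  have a0 : π (s 0) ^ 3 = 1 := by
    have := hord 0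
    rwa [show ((0 : Fin 7) : ℕ) = 0 from rfl, o0] at this
  have a1 : π (s 1) ^ 3 = 1 := by
    have := hord 1
    rwa [show ((1 : Fin 7) : ℕ) = 1 from rfl, o1] at this
  have a2 : π (s 2) ^ 3 = 1 := by
    have := hord 2
    rwa [show ((2 : Fin 7) : ℕ) = 2 from rfl, o2] at this
  have a3 : π (s 3) ^ 9 = 1 := by
    have := hord 3
    rwa [show ((3 : Fin 7) : ℕ) = 3 from rfl, o3] at this
  have a4 : π (s 4) ^ 9 = 1 := by
    have := hord 4
    rwa [show ((4 : Fin 7) : ℕ) = 4 from rfl, o4] at this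
  have a5 : π (s 5) ^ 8 = 1 := by
    have := hord 5
    rwa [show ((5 : Fin 7) : ℕ) = 5 from rfl, o5] at this
  have a6 : π (s 6) ^ 2 = 1 := by
    have := hord 6
    rwa [show ((6 : Fin 7) : ℕ) = 6 from rfl, o6] at this
  have w2 : ∀ a b : Fin 7, ∀ n, ([(a : ℕ), (b : ℕ)], n) ∈ ordWords →
      (π (s a) * π (s b)) ^ n = 1 := fun a b n hm => by
    rw [← map_mul, ← map_pow, show (s a * s b) ^ n = 1 from hval (by
      rw [map_pow, map_one, map_mul]
      have := (ordWord_pow h hm).2
      rw [wordMat, wordMat, wordMat, mul_one, ← hs, ← hs] at this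
      exact this), map_one]
  have w3 : ∀ a b c : Fin 7, ∀ n, ([(a : ℕ), (b : ℕ), (c : ℕ)], n) ∈ ordWords →
      (π (s a) * π (s b) * π (s c)) ^ n = 1 := fun a b c n hm => by
    rw [← map_mul, ← map_mul, ← map_pow, show (s a * s b * s c) ^ n = 1 from hval (by
      rw [map_pow, map_one, map_mul, map_mul]
      have := (ordWord_pow h hm).2
      rw [wordMat, wordMat, wordMat, wordMat, mul_one, ← hs, ← hs, ← hs, ← mul_assoc] at this
      exact this), map_one]
  have e46 := w2 4 6 17 (by decide)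
  rw [mul_pow] at e46
  have e4 : π (s 4) = 1 := by
    refine eq_one_of_coprime (m := 9) (n := 34) (by norm_num) a4 ?_
    have := congrArg (· ^ 2) e46
    simpa [mul_pow, ← pow_mul, show π (s 6) ^ (17 * 2) = (π (s 6) ^ 2) ^ 17 by rw [← pow_mul], a6]
      using this
  rw [e4, one_pow, one_mul] at e46
  have e6 : π (s 6) = 1 := eq_one_of_coprime (m := 2) (n := 17) (by norm_num) a6 e46
  have e0 : π (s 0) = 1 := by
    refine eq_one_of_coprime (m := 3) (n := 4) (by norm_num) a0 ?_
    have := w2 0 6 4 (by decide)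
    rwa [e6, mul_one] at this
  have e1 : π (s 1) = 1 := by
    refine eq_one_of_coprime (m := 3) (n := 5) (by norm_num) a1 ?_
    have := w3 1 6 0 5 (by decide)
    rwa [e6, e0, mul_one, mul_one] at this
  have e2 : π (s 2) = 1 := by
    refine eq_one_of_coprime (m := 3) (n := 19) (by norm_num) a2 ?_
    have := w3 2 4 6 19 (by decide)
    rwa [e6, e4, mul_one, mul_one] at this
  have e3 : π (s 3) = 1 := by
    refine eq_one_of_coprime (m := 9) (n := 4) (by norm_num) a3 ?_
    have := w2 3 6 4 (by decide)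
    rwa [e6, mul_one] at this
  have e5 : π (s 5) = 1 := by
    refine eq_one_of_coprime (m := 8) (n := 15) (by norm_num) a5 ?_
    have := w3 5 4 6 15 (by decide)
    rwa [e6, e4, mul_one, mul_one] at this
  have hall : ∀ j : Fin 7, π (s j) = 1 := by intro j; fin_cases j <;> assumption
  rw [← Abelianization.ker_of, eq_top_iff]
  rintro ⟨g, hg⟩ -
  have hg' : g ∈ selGrp F ω := by rwa [selGrp_eq h]
  show π ⟨g, hg⟩ = 1
  suffices ∀ hg : g ∈ threeJ3 F ω, π ⟨g, hg⟩ = 1 from this hg
  clear hg
  induction hg' using Subgroup.closure_induction with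
  | mem a ha =>
    intro hg
    obtain ⟨j, hj, e⟩ := ha
    rw [show (⟨a, hg⟩ : threeJ3 F ω) = s ⟨j, hj⟩ from hval (e.trans (hs ⟨j, hj⟩).symm)]
    exact hall _
  | one => intro hg; exact map_one π
  | mul a b ha hb iha ihb =>
    intro hg
    rw [show (⟨a * b, hg⟩ : threeJ3 F ω) = ⟨a, selGrp_le h ha⟩ * ⟨b, selGrp_le h hb⟩ from rfl,
      map_mul, iha, ihb, one_mul]
  | inv a ha iha =>
    intro hg
    rw [show (⟨a⁻¹, hg⟩ : threeJ3 F ω) = ⟨a, selGrp_le h ha⟩⁻¹ from rfl, map_inv, iha, inv_one]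

/-! ### The centre -/

theorem diag_sep : ∀ w z : F9, w ≠ z →
    gMat .kA (1, 0) w w ≠ gMat .kA (1, 0) z z ∨ gMat .kA (0, 1) w w ≠ gMat .kA (0, 1) z z := by
  decide

theorem shift_reach (f : F9 → F) (h1 : ∀ z, f (z + (1, 0)) = f z) (h2 : ∀ z, f (z + (0, 1)) = f z) :
    ∀ z, f z = f 0 := by
  have e : ∀ a : ℕ, ∀ z : F9, f (z + ((a : ZMod 3), 0)) = f z := by
    intro a
    induction a with
    | zero =>
      intro z
      rw [show ((((0 : ℕ) : ZMod 3), 0) : F9) = 0 by simp, add_zero]
    | succ a ih =>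
      intro z
      rw [show (((a + 1 : ℕ) : ZMod 3), (0 : ZMod 3)) = (((a : ℕ) : ZMod 3), (0 : ZMod 3)) + (1, 0) by
        simp, ← add_assoc, h1, ih]
  have e' : ∀ a : ℕ, ∀ z : F9, f (z + (0, (a : ZMod 3))) = f z := by
    intro a
    induction a with
    | zero =>
      intro z
      rw [show ((0, ((0 : ℕ) : ZMod 3)) : F9) = 0 by simp, add_zero]
    | succ a ih =>
      intro z
      rw [show ((0 : ZMod 3), ((a + 1 : ℕ) : ZMod 3)) = ((0 : ZMod 3), ((a : ℕ) : ZMod 3)) + (0, 1) by
        simp, ← add_assoc, h2, ih]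
  intro z
  obtain ⟨x, y⟩ := z
  have := e x.val ((0 : F9) + (0, (y.val : ZMod 3)))
  rw [e' y.val 0, ZMod.natCast_zmod_val, ZMod.natCast_zmod_val] at this
  simpa using this

theorem scalar_of_commute (h : Four F ω) {g : GL F9 F}
    (hc : ∀ j < 7, (g : Matrix F9 F9 F) * selMat F ω j = selMat F ω j * (g : Matrix F9 F9 F)) :
    (g : Matrix F9 F9 F) = (g : Matrix F9 F9 F) 0 0 • (1 : Matrix F9 F9 F) := by
  set M : Matrix F9 F9 F := (g : Matrix F9 F9 F)
  have hdiag : ∀ (j : ℕ) (Z : F9), sel.getD j (.kA, 0) = (.kA, Z) → j < 7 → ∀ w z : F9,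
      M w z * toF F ω (gMat .kA Z z z) = toF F ω (gMat .kA Z w w) * M w z := by
    intro j Z hZ hj w z
    have e := congrFun (congrFun (hc j hj) w) z
    rw [selMat, hZ, mat, j3A, Matrix.mul_diagonal, Matrix.diagonal_mul] at e
    rw [← mat_eq h, ← mat_eq h, mat, j3A, Matrix.diagonal_apply_eq, Matrix.diagonal_apply_eq]
    exact e
  have hoff : ∀ w z : F9, w ≠ z → M w z = 0 := by
    intro w z hwz
    rcases diag_sep w z hwz with hne | hne
    · by_contra hM
      refine hne (toF_inj h ?_ ?_ (mul_left_cancel₀ hM ?_))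
      · simp only [gMat, if_true, powC]; have := ZMod.val_lt ((1 : ZMod 3) * w.1 + (0 : ZMod 3) * w.2); omega
      · simp only [gMat, if_true, powC]; have := ZMod.val_lt ((1 : ZMod 3) * z.1 + (0 : ZMod 3) * z.2); omega
      · rw [hdiag 0 (1, 0) rfl (by norm_num) w z]; ring
    · by_contra hM
      refine hne (toF_inj h ?_ ?_ (mul_left_cancel₀ hM ?_))
      · simp only [gMat, if_true, powC]; have := ZMod.val_lt ((0 : ZMod 3) * w.1 + (1 : ZMod 3) * w.2); omega
      · simp only [gMat, if_true, powC]; have := ZMod.val_lt ((0 : ZMod 3) * z.1 + (1 : ZMod 3) * z.2); omega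
      · rw [hdiag 1 (0, 1) rfl (by norm_num) w z]; ring
  have hlam : ∀ Z z : F9, j3Lam F ω Z z ≠ 0 := fun Z z => by
    unfold j3Lam
    split_ifs <;> first | exact one_ne_zero | exact h.ne_zero | exact pow_ne_zero _ h.ne_zero
  have hshift : ∀ (j : ℕ) (Z : F9), sel.getD j (.kA, 0) = (.kD, Z) → j < 7 → ∀ z : F9,
      M (z + Z) (z + Z) = M z z := by
    intro j Z hZ hj z
    have e := congrFun (congrFun (hc j hj) (z + Z)) z
    rw [selMat, hZ, Matrix.mul_apply, Matrix.mul_apply, Finset.sum_eq_single (z + Z),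
      Finset.sum_eq_single z] at e
    · simp only [mat, j3D, Matrix.of_apply, if_true] at e
      exact mul_right_cancel₀ (hlam Z z) (by rw [e]; ring)
    · intro b _ hb; rw [hoff b z hb, mul_zero]
    · simp
    · intro b _ hb; rw [hoff _ b (Ne.symm hb), zero_mul]
    · simp
  ext w z
  rw [Matrix.smul_apply, smul_eq_mul]
  by_cases hwz : w = z
  · subst hwz
    rw [Matrix.one_apply_eq, mul_one]
    exact shift_reach (fun z => M z z) (hshift 3 (1, 0) rfl (by norm_num))
      (hshift 4 (0, 1) rfl (by norm_num)) w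
  · rw [Matrix.one_apply_ne hwz, mul_zero, hoff w z hwz]

theorem card_center (h : Four F ω) : Nat.card (Subgroup.center (threeJ3 F ω)) = 3 := by
  haveI : Fact (Nat.Prime 3) := ⟨by norm_num⟩
  obtain ⟨s, hs, hse⟩ := exists_scalar h 1
  rw [pow_one] at hse
  set z : threeJ3 F ω := ⟨s, selGrp_le h hs⟩
  have hpow : ∀ k : ℕ, ((z ^ k : threeJ3 F ω) : GL F9 F) = s ^ k := fun k => rfl
  have hmat : ∀ k : ℕ, ((s ^ k : GL F9 F) : Matrix F9 F9 F) = ω ^ k • (1 : Matrix F9 F9 F) :=
    fun k => by rw [Units.val_pow_eq_pow_val, hse, smul_pow, one_pow]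
  have h3 : orderOf z = 3 := by
    refine orderOf_eq_prime (Subtype.ext (Units.ext ?_)) fun e => ?_
    · rw [hpow, hmat, h.pow_three, one_smul]; rfl
    · have := congrArg (fun g : threeJ3 F ω => ((g : GL F9 F) : Matrix F9 F9 F) 0 0) e
      simp [z, hse, h.ne_one] at this
  have hz : z ∈ Subgroup.center (threeJ3 F ω) := Subgroup.mem_center_iff.2 fun g =>
    Subtype.ext (Units.ext (by simp [z, hse]))
  have hc : Subgroup.center (threeJ3 F ω) = Subgroup.zpowers z := by
    refine le_antisymm (fun g hg => ?_) (Subgroup.zpowers_le.2 hz)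
    have hcj : ∀ j < 7, ((g : GL F9 F) : Matrix F9 F9 F) * selMat F ω j =
        selMat F ω j * ((g : GL F9 F) : Matrix F9 F9 F) := fun j hj => by
      obtain ⟨a, ha, hae⟩ := exists_sel h hj
      rw [← hae, ← Units.val_mul, ← Units.val_mul]
      exact congrArg (fun x : threeJ3 F ω => ((x : GL F9 F) : Matrix F9 F9 F))
        (Subgroup.mem_center_iff.1 hg ⟨a, ha⟩).symm
    have e := scalar_of_commute h hcj
    have hc0 : ((g : GL F9 F) : Matrix F9 F9 F) 0 0 ≠ 0 := fun e0 => by
      rw [e0, zero_smul] at e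
      exact (g : GL F9 F).ne_zero e
    obtain ⟨k, -, hk⟩ := exists_omega_pow h hc0
    rw [hk] at e
    exact ⟨k, by show z ^ (k : ℤ) = g; rw [zpow_natCast]; exact Subtype.ext (Units.ext (by rw [hpow, hmat, e]))⟩
  rw [hc, Nat.card_zpowers, h3]

/-! ### The element of order nineteen -/

theorem w19_mem : (w19, 19) ∈ ordWords := by decide

theorem w19_lt : ∀ j ∈ w19, j < 7 := by decide

/-- a matrix commuting with the element of order nineteen is a polynomial in it, and so satisfies
`y ^ 262144 = y` -/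
theorem centralizer_pow (h : Four F ω) {y : Matrix F9 F9 F}
    (hy : y * wordMat F ω w19 = wordMat F ω w19 * y) : y ^ 262144 = y := by
  set X := wordMat F ω w19 with hX
  have hX19 : X ^ 19 = 1 := (ordWord_pow h w19_mem).2
  have hc := cyc_ok
  simp only [List.all_eq_true, List.mem_range, Nat.beq_eq] at hc
  let Orb : Submodule F (F9 → F) :=
    Submodule.span F (Set.range fun n : Fin 9 => (X ^ (n : ℕ)) *ᵥ dec F ω 1)
  have hev : ∀ (cs bs : List ℕ), (∀ b ∈ bs, dec F ω b ∈ Orb) → dec F ω (evalC cs bs) ∈ Orb := by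
    intro cs
    induction cs with
    | nil => intro bs _; simp [evalC, dec_zero]
    | cons c cs ih =>
      intro bs hb
      cases bs with
      | nil => simp [evalC, dec_zero]
      | cons b bs =>
        obtain ⟨a, ha⟩ := dec_scaleC h c b
        rw [evalC, dec_xor h, ha]
        exact add_mem (Submodule.smul_mem _ _ (hb b List.mem_cons_self))
          (ih bs fun x hx => hb x (List.mem_cons_of_mem _ hx))
  have hbits : ∀ i < 18, dec F ω (2 ^ i) ∈ Orb := fun i hi => by
    rw [← hc i hi]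
    refine hev _ _ fun b hb => ?_
    rw [List.mem_map] at hb
    obtain ⟨n, hn, rfl⟩ := hb
    rw [← (appWordPow_spec h w19_lt (by norm_num) n).2]
    exact Submodule.subset_span ⟨⟨n, List.mem_range.1 hn⟩, rfl⟩
  have htop : ∀ x : F9 → F, x ∈ Orb := fun x => by
    obtain ⟨v, hv, rfl⟩ := exists_code h x
    have : ∀ n ≤ 18, dec F ω (v % 2 ^ n) ∈ Orb := by
      intro n
      induction n with
      | zero => intro _; simp [Nat.mod_one, dec_zero]
      | succ n ih =>
        intro hn
        rw [testBit_mod_succ, dec_xor h]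
        refine add_mem (ih (by omega)) ?_
        split
        · exact hbits n (by omega)
        · rw [dec_zero]; exact zero_mem _
    have := this 18 le_rfl
    rwa [Nat.mod_eq_of_lt (lt_of_lt_of_eq hv (by norm_num))] at this
  obtain ⟨c, hcv⟩ := (Submodule.mem_span_range_iff_exists_fun F).1 (htop (y *ᵥ dec F ω 1))
  let p : Polynomial F := ∑ n : Fin 9, Polynomial.C (c n) * Polynomial.X ^ (n : ℕ)
  have hp1 : Polynomial.aeval X p *ᵥ dec F ω 1 = y *ᵥ dec F ω 1 := by
    rw [← hcv, map_sum, Matrix.sum_mulVec]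
    refine Finset.sum_congr rfl fun n _ => ?_
    rw [map_mul, Polynomial.aeval_C, map_pow, Polynomial.aeval_X, ← Algebra.smul_def,
      Matrix.smul_mulVec]
  have hpy : Polynomial.aeval X p = y := by
    refine mat_ext h fun i hi => ?_
    have hsub : Orb ≤ (LinearMap.eqLocus (Matrix.mulVecLin (Polynomial.aeval X p))
        (Matrix.mulVecLin y)) := by
      refine Submodule.span_le.2 ?_
      rintro _ ⟨n, rfl⟩
      simp only [SetLike.mem_coe, LinearMap.mem_eqLocus, Matrix.mulVecLin_apply]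
      have hcy : Commute y (X ^ (n : ℕ)) := (show Commute y X from hy).pow_right _
      have hcp : Commute (Polynomial.aeval X p) (X ^ (n : ℕ)) := by
        rw [show X ^ (n : ℕ) = Polynomial.aeval X ((Polynomial.X : Polynomial F) ^ (n : ℕ)) by simp]
        exact (Commute.all p _).map (Polynomial.aeval X)
      rw [Matrix.mulVec_mulVec, Matrix.mulVec_mulVec, hcp.eq, hcy.eq, ← Matrix.mulVec_mulVec, hp1,
        Matrix.mulVec_mulVec]
    exact hsub (hbits i hi)
  have hfrob : ∀ m : ℕ, ∀ q : Polynomial F,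
      Polynomial.aeval X (q ^ (4 ^ m)) = Polynomial.aeval (X ^ (4 ^ m)) q := by
    intro m
    induction m with
    | zero => intro q; simp
    | succ m ih =>
      intro q
      rw [pow_succ', pow_mul, ih, ← h.card, ← FiniteField.expand_card, Polynomial.expand_aeval,
        h.card, ← pow_mul, mul_comm]
  rw [← hpy, ← map_pow, show (262144 : ℕ) = 4 ^ 9 by norm_num, hfrob]
  congr 1
  rw [show (4 : ℕ) ^ 9 = 19 * 13797 + 1 by norm_num, pow_succ, pow_mul, hX19, one_pow, one_mul]

theorem trace_word (h : Four F ω) {w : List ℕ} (hw : ∀ j ∈ w, j < 7) :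
    Matrix.trace (wordMat F ω w) = toF F ω (trC w) := by
  rw [trC, toF_foldr h, List.map_map, Matrix.trace, sum_zs]
  refine congrArg List.sum (List.map_congr_left fun z _ => ?_)
  rw [Function.comp_apply, Matrix.diag_apply]
  have hz : ∀ z : F9, cd (2 ^ (2 * kk z)) z = 1 ∧ ∀ w, w ≠ z → cd (2 ^ (2 * kk z)) w = 0 := by
    decide +kernel
  have e1 : dec F ω (2 ^ (2 * kk z)) = Pi.single z 1 := by
    funext u
    by_cases hu : u = z
    · subst hu; simp [dec, (hz u).1, toF_vals.2.1]
    · simp [dec, (hz z).2 u hu, toF_vals.1, hu]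
  have h2 : 2 ^ (2 * kk z) < 262144 := two_pow_lt (by have := kk_lt z; omega)
  have := congrFun (appWord_spec h w hw _ h2).2 z
  rw [e1, Matrix.mulVec_single_one] at this
  exact this

theorem wordMat_append : ∀ a b : List ℕ, wordMat F ω (a ++ b) = wordMat F ω a * wordMat F ω b
  | [], b => by simp [wordMat]
  | j :: a, b => by rw [List.cons_append, wordMat, wordMat, wordMat_append a b, mul_assoc]

/-- the element of order nineteen is not conjugate to its inverse -/
theorem trace_ne (h : Four F ω) :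
    Matrix.trace (wordMat F ω w19) ≠ Matrix.trace (wordMat F ω w19 ^ 18) := by
  obtain ⟨t1, t2⟩ := trace_ok
  have e : wordMat F ω (w19 ++ w19 ++ w19 ++ w19 ++ w19 ++ w19 ++ w19 ++ w19 ++ w19 ++
      w19 ++ w19 ++ w19 ++ w19 ++ w19 ++ w19 ++ w19 ++ w19 ++ w19) = wordMat F ω w19 ^ 18 := by
    simp only [wordMat_append, pow_succ, pow_zero, one_mul]
  rw [trace_word h w19_lt, t1, ← e, trace_word h (by decide), t2]
  exact fun e => absurd (toF_inj h (by norm_num) (by norm_num) e) (by norm_num)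

end CfsgLib.LocalEven.J3Lines
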