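import Cfsg.Agent.Lib.LocalEven.J3InvolCode
import Cfsg.Agent.Lib.LocalEven.J3OutData

/-!
Representatives of the involutions and relations of a generating pair of the third Janko group.
-/

set_option autoImplicit false
set_option maxRecDepth 100000

namespace CfsgLib.LocalEven.J3Lines

open Cfsg Cfsg.Spor

/-- image from the list of the images of the bits, in a form that is fast to evaluate -/
noncomputable def imgF (c : List ℕ) : ℕ → ℕ :=
  List.rec (motive := fun _ => ℕ → ℕ) (fun _ => 0)
    (fun a _ ih v => Nat.xor (Nat.mul a (Nat.mod v 2)) (ih (Nat.div v 2))) c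

theorem imgF_eq : ∀ (c : List ℕ) (v : ℕ), imgF c v = imgL c v
  | [], _ => rfl
  | a :: c, v => by
    show Nat.xor (Nat.mul a (Nat.mod v 2)) (imgF c (Nat.div v 2)) = _
    rw [imgL, imgF_eq c, Nat.testBit_zero]
    show (a * (v % 2)) ^^^ imgL c (v / 2) = _
    rcases Nat.mod_two_eq_zero_or_one v with h | h <;> simp [h]

/-- columns of a product, in a form that is fast to evaluate -/
noncomputable def mulF (a b : List ℕ) : List ℕ := b.map (imgF a)

theorem mulF_eq (a b : List ℕ) : mulF a b = mulL a b := by
  rw [mulF, mulL]; exact List.map_congr_left fun v _ => imgF_eq a v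

/-- a representative of the involutions -/
def repC (i : ℕ) : List ℕ := (invReps.getD (i / 128) []).getD (i % 128) []

/-- image of a code under the conjugate of a representative by a power -/
noncomputable def conjApp (i m v : ℕ) : ℕ :=
  imgF (xPows.getD m []) (imgF (repC i) (imgF (xPows.getD ((19 - m) % 19) []) v))

/-- the two probe images of a conjugate, packed -/
noncomputable def probeC (i m : ℕ) : ℕ := conjApp i m probe1 + 262144 * conjApp i m probe2

/-- an entry of the sorted table -/
def clsAt (q : ℕ) : ℕ := getB 52 clsTbl q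

/-- index part of an entry -/
def clsI (q : ℕ) : ℕ := clsAt q % 65536 / 32

/-- exponent part of an entry -/
def clsM (q : ℕ) : ℕ := clsAt q % 32

/-- validity of an entry -/
noncomputable def clsOK (q : ℕ) : Bool :=
  Nat.ble 26163 q || (Nat.blt (clsI q) 1377 && Nat.blt (clsM q) 19 &&
    Nat.beq (clsAt q / 65536) (probeC (clsI q) (clsM q)) &&
    (Nat.ble 26162 q || Nat.blt (clsAt q / 65536) (clsAt (q + 1) / 65536)))

/-- iterate of `v ↦ x^k r v` -/
noncomputable def relIter (k : ℕ) (r : List ℕ) : ℕ → ℕ → ℕ
  | 0, v => v
  | n + 1, v => imgF (xPows.getD k []) (imgF r (relIter k r n v))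

/-- a relation fails on the first basis code -/
noncomputable def relFails (k n : ℕ) (r : List ℕ) : Bool :=
  !Nat.beq (relIter k r n 1) 1 && !Nat.beq (relIter k r n 1) 2 && !Nat.beq (relIter k r n 1) 3

/-- image of a code under a product given by exponents -/
noncomputable def expApp : List ℕ → ℕ → ℕ
  | [], v => v
  | [e], v => imgF (xPows.getD e []) v
  | e :: e' :: es, v => imgF (xPows.getD e []) (imgF bCols (expApp (e' :: es) v))

/-- validity of the parent of a representative: it is a conjugate of an earlier one -/
noncomputable def parOK (j : ℕ) : Bool :=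
  Nat.beq j 0 || Nat.ble 1377 j ||
    (Nat.blt (parP j) j && Nat.blt (parG j) 7 && Nat.blt (parA j) 19 && Nat.blt (parM j) 19 &&
      eqL (repC j) (mulF (xPows.getD ((19 - parM j) % 19) []) (mulF (genFwdCols.getD (parG j) [])
        (mulF (xPows.getD (parA j) []) (mulF (repC (parP j)) (mulF (xPows.getD ((19 - parA j) % 19) [])
          (mulF (genInvCols.getD (parG j) []) (xPows.getD (parM j) []))))))))
where
  par (j : ℕ) : ℕ := (invPar.getD (j / 128) []).getD (j % 128) 0
  parP (j : ℕ) : ℕ := par j / 8192
  parG (j : ℕ) : ℕ := par j / 1024 % 8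
  parA (j : ℕ) : ℕ := par j / 32 % 32
  parM (j : ℕ) : ℕ := par j % 32

/-- the index permutation of the field automorphism -/
def cj9 (z : F9) : F9 := (z.1, -z.2)

/-- the field automorphism on codes -/
def frobC (c : ℕ) : ℕ := if c = 2 then 3 else if c = 3 then 2 else c

/-- columns of the image of a chosen generator under the field automorphism -/
def tauEntry (j : ℕ) (w z : F9) : ℕ :=
  frobC (gMat (sel.getD j (.kA, 0)).1 (sel.getD j (.kA, 0)).2 (cj9 w) (cj9 z))

end CfsgLib.LocalEven.J3Lines
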