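import Cfsg.Agent.Lib.LocalEven.J3SubCode

/-!
The finite checks for the subgroup of order 8160 of the third Janko group.
-/

set_option autoImplicit false
set_option maxRecDepth 100000

namespace CfsgLib.LocalEven.J3Lines

open Cfsg Cfsg.Spor

theorem lGens_ok : (lWordX.all (fun j => Nat.blt j 7) && lWordU.all (fun j => Nat.blt j 7) &&
    eqL lColsX (wordCols lWordX) && eqL lColsU (wordCols lWordU) &&
    (List.range 9).all (fun q => Nat.beq (lComp 0 q) (4 ^ q) && Nat.beq (wMul (4 ^ q)) (2 * 4 ^ q))) = true := by
  decide +kernel

theorem l_0 : allT lOK 10 0 = true := by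
  decide +kernel

theorem l_1 : allT lOK 10 1024 = true := by
  decide +kernel

theorem l_2 : allT lOK 10 2048 = true := by
  decide +kernel

theorem l_3 : allT lOK 10 3072 = true := by
  decide +kernel

theorem l_4 : allT lOK 10 4096 = true := by
  decide +kernel

theorem l_5 : allT lOK 10 5120 = true := by
  decide +kernel

theorem l_6 : allT lOK 10 6144 = true := by
  decide +kernel

theorem l_7 : allT lOK 10 7168 = true := by
  decide +kernel

theorem l_ok : ∀ i, i < 8192 → lOK i = true := by
  intro i hi
  by_cases h0 : i < 1024
  · exact allT_imp l_0 i (by omega) (by omega)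
  by_cases h1 : i < 2048
  · exact allT_imp l_1 i (by omega) (by omega)
  by_cases h2 : i < 3072
  · exact allT_imp l_2 i (by omega) (by omega)
  by_cases h3 : i < 4096
  · exact allT_imp l_3 i (by omega) (by omega)
  by_cases h4 : i < 5120
  · exact allT_imp l_4 i (by omega) (by omega)
  by_cases h5 : i < 6144
  · exact allT_imp l_5 i (by omega) (by omega)
  by_cases h6 : i < 7168
  · exact allT_imp l_6 i (by omega) (by omega)
  exact allT_imp l_7 i (by omega) (by omega)

end CfsgLib.LocalEven.J3Lines
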