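import Cfsg.Agent.Lib.LocalEven.J3Invol
import Cfsg.Agent.Lib.LocalEven.J3SubChecks
import Cfsg.Prelude.Def_Sporadic

/-!
A subgroup of order 8160 of the third Janko group, and the action on its 6156 cosets.
-/

set_option autoImplicit false
set_option maxRecDepth 100000

namespace CfsgLib.LocalEven.J3Lines

open Cfsg Cfsg.Spor Matrix
open scoped MatrixGroups

attribute [local irreducible] bits1 bits2 bitsV el1 el2 getB getW app genCols genWords vec1 vec2
  par1 par2 loTbl hiTbl parTbl genOrd orbsTbl owordsTbl patsTbl witU witKey base baseCoef cycCoef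
  lElts lTgtX lTgtU lPar lOrd lColsX lColsU lWordX lWordU

variable {F : Type*} [Field F] [Fintype F] {ω : F}

/-- an element agrees with a tabulated one on nine codes -/
def LRep (F : Type*) [Field F] (ω : F) (i : ℕ) (g : threeJ3 F ω) : Prop :=
  ∀ q < 9, ((g : GL F9 F) : Matrix F9 F9 F) *ᵥ dec F ω (4 ^ q) = dec F ω (lComp i q)

theorem four_pow_lt {q : ℕ} (hq : q < 9) : 4 ^ q < 262144 :=
  lt_of_lt_of_eq (Nat.pow_lt_pow_right (by norm_num) hq) (by norm_num)

theorem wMul_four {q : ℕ} (hq : q < 9) : wMul (4 ^ q) = 2 * 4 ^ q := by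
  have h := lGens_ok
  simp only [Bool.and_eq_true, List.all_eq_true, List.mem_range, Nat.beq_eq] at h
  exact (h.2 q hq).2

theorem ext_four (h : Four F ω) {M N : Matrix F9 F9 F}
    (e : ∀ q < 9, M *ᵥ dec F ω (4 ^ q) = N *ᵥ dec F ω (4 ^ q)) : M = N := by
  refine mat_ext h fun i hi => ?_
  rcases Nat.even_or_odd' i with ⟨q, rfl | rfl⟩
  · rw [pow_mul, show (2 : ℕ) ^ 2 = 4 by norm_num]
    exact e q (by omega)
  · rw [pow_succ, pow_mul, show (2 : ℕ) ^ 2 = 4 by norm_num, mul_comm,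
      ← wMul_four (show q < 9 by omega), dec_wMul h, Matrix.mulVec_smul, Matrix.mulVec_smul,
      e q (by omega)]

theorem lComp_lt (i q : ℕ) : lComp i q < 262144 := Nat.mod_lt _ (by norm_num)

theorem LRep.eq (h : Four F ω) {i : ℕ} {a b : threeJ3 F ω} (ha : LRep F ω i a) (hb : LRep F ω i b) :
    a = b :=
  Subtype.ext (Units.ext (ext_four h fun q hq => by rw [ha q hq, hb q hq]))

theorem exists_sub (h : Four F ω) : ∃ H : Subgroup (threeJ3 F ω),
    Nat.card H = 8160 ∧ ∀ z ∈ H, z ∈ Subgroup.center (threeJ3 F ω) → z = 1 := by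
  classical
  have hg := lGens_ok
  simp only [Bool.and_eq_true, List.all_eq_true, List.mem_range, Nat.beq_eq, Nat.blt_eq, eqL_iff] at hg
  obtain ⟨⟨⟨⟨hwx, hwu⟩, hcx⟩, hcu⟩, h0⟩ := hg
  obtain ⟨x, hx, hxe⟩ := exists_word h lWordX hwx
  obtain ⟨u, hu, hue⟩ := exists_word h lWordU hwu
  set X : threeJ3 F ω := ⟨x, selGrp_le h hx⟩
  set U : threeJ3 F ω := ⟨u, selGrp_le h hu⟩
  have hXc : Cols F ω ((X : GL F9 F) : Matrix F9 F9 F) lColsX := by
    rw [hcx, show ((X : GL F9 F) : Matrix F9 F9 F) = (x : Matrix F9 F9 F) from rfl, hxe]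
    exact Cols.word h hwx
  have hUc : Cols F ω ((U : GL F9 F) : Matrix F9 F9 F) lColsU := by
    rw [hcu, show ((U : GL F9 F) : Matrix F9 F9 F) = (u : Matrix F9 F9 F) from rfl, hue]
    exact Cols.word h hwu
  have hl : ∀ i < 8160, lX i < 8160 ∧ lU i < 8160 ∧ lO i < 8160 ∧
      (i + 1 < 8160 → lKey (lO i) < lKey (lO (i + 1))) ∧
      (i = 0 ∨ lP i / 2 < i ∧ (lX (lP i / 2) = i ∨ lU (lP i / 2) = i)) ∧
      (∀ q < 9, lComp (lX i) q = imgL lColsX (lComp i q) ∧ lComp (lU i) q = imgL lColsU (lComp i q)) ∧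
      ¬ (∀ q < 9, lComp i q = wMul (4 ^ q)) ∧ ¬ (∀ q < 9, lComp i q = wMul (wMul (4 ^ q))) := by
    intro i hi
    have hc := l_ok i (by omega)
    simp only [lOK, Bool.or_eq_true, Bool.and_eq_true, List.all_eq_true, List.mem_range, Nat.ble_eq,
      Nat.beq_eq, Nat.blt_eq, imgF_eq, Bool.not_eq_true', ← Bool.not_eq_true] at hc
    obtain ⟨⟨⟨⟨⟨⟨⟨a, b⟩, c⟩, d⟩, e⟩, f⟩, g⟩, k⟩ := hc.resolve_left (by omega)
    refine ⟨a, b, c, fun hlt => d.resolve_left (by omega), e.imp id fun e' => ⟨e'.1, ?_⟩, f, g, k⟩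
    have := e'.2
    split_ifs at this
    · exact Or.inl (Nat.beq_eq.mp this)
    · exact Or.inr (Nat.beq_eq.mp this)
  set H : Subgroup (threeJ3 F ω) := Subgroup.closure {X, U}
  have hstepX : ∀ {i} {g : threeJ3 F ω}, i < 8160 → LRep F ω i g → LRep F ω (lX i) (X * g) := by
    intro i g hi hr q hq
    rw [Subgroup.coe_mul, Units.val_mul, ← Matrix.mulVec_mulVec, hr q hq,
      (hXc.app h (lComp_lt i q)).2, ((hl i hi).2.2.2.2.2.1 q hq).1]
  have hstepU : ∀ {i} {g : threeJ3 F ω}, i < 8160 → LRep F ω i g → LRep F ω (lU i) (U * g) := by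
    intro i g hi hr q hq
    rw [Subgroup.coe_mul, Units.val_mul, ← Matrix.mulVec_mulVec, hr q hq,
      (hUc.app h (lComp_lt i q)).2, ((hl i hi).2.2.2.2.2.1 q hq).2]
  have hrep0 : LRep F ω 0 1 := fun q hq => by
    rw [(h0 q hq).1, Subgroup.coe_one, Units.val_one, Matrix.one_mulVec]
  have hex : ∀ i, i < 8160 → ∃ g ∈ H, LRep F ω i g := by
    intro i
    induction i using Nat.strong_induction_on with
    | h i ih =>
      intro hi
      rcases (hl i hi).2.2.2.2.1 with rfl | ⟨hp, e⟩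
      · exact ⟨1, one_mem _, hrep0⟩
      · obtain ⟨g, hgH, hgr⟩ := ih _ hp (by omega)
        rcases e with e | e
        · exact ⟨X * g, mul_mem (Subgroup.subset_closure (by simp)) hgH,
            by have := hstepX (by omega) hgr; rwa [e] at this⟩
        · exact ⟨U * g, mul_mem (Subgroup.subset_closure (by simp)) hgH,
            by have := hstepU (by omega) hgr; rwa [e] at this⟩
  choose E hEH hErep using hex
  let f : Fin 8160 → H := fun i => ⟨E i i.2, hEH i i.2⟩
  have hinj : Function.Injective f := by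
    intro i j e
    let ord : Fin 8160 → Fin 8160 := fun q => ⟨lO q, (hl q q.2).2.2.1⟩
    have hmono : StrictMono fun q : Fin 8160 => lKey (ord q) :=
      Fin.strictMono_iff_lt_succ.2 fun q => by
        simpa [ord] using (hl q.castSucc (by omega)).2.2.2.1 (by simp only [Fin.val_castSucc]; omega)
    have hord : Function.Bijective ord := Finite.injective_iff_bijective.1
      fun a b e => hmono.injective (by simp only [e])
    obtain ⟨a, rfl⟩ := hord.2 i
    obtain ⟨b, rfl⟩ := hord.2 j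
    have e2 : E (ord a) (ord a).2 = E (ord b) (ord b).2 := congrArg Subtype.val e
    have ha := hErep (ord a) (ord a).2
    have hb := hErep (ord b) (ord b).2
    rw [e2] at ha
    refine congrArg ord (hmono.injective ?_)
    show lKey (ord a) = lKey (ord b)
    rw [lKey, lKey]
    refine congrArg List.sum (List.map_congr_left fun q hq => ?_)
    have hq' : q < 9 := List.mem_range.1 hq
    rw [dec_inj h (lComp_lt _ q) (lComp_lt _ q) ((ha q hq').symm.trans (hb q hq'))]
  have hclosed : ∀ g ∈ H, ∀ i (hi : i < 8160), ∃ j, ∃ hj : j < 8160, g * E i hi = E j hj := by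
    intro g hg
    rw [← Subgroup.mem_toSubmonoid, Subgroup.closure_toSubmonoid_of_finite] at hg
    induction hg using Submonoid.closure_induction with
    | mem g hg =>
      intro i hi
      rcases hg with rfl | rfl
      · exact ⟨lX i, (hl i hi).1, LRep.eq h (hstepX hi (hErep i hi)) (hErep _ _)⟩
      · exact ⟨lU i, (hl i hi).2.1, LRep.eq h (hstepU hi (hErep i hi)) (hErep _ _)⟩
    | one => intro i hi; exact ⟨i, hi, one_mul _⟩
    | mul a b _ _ ha hb =>
      intro i hi
      obtain ⟨j, hj, e⟩ := hb i hi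
      obtain ⟨k, hk, e'⟩ := ha j hj
      exact ⟨k, hk, by rw [mul_assoc, e, e']⟩
  have hsurj : Function.Surjective f := by
    rintro ⟨g, hg⟩
    obtain ⟨j, hj, e⟩ := hclosed g hg 0 (by norm_num)
    rw [LRep.eq h (hErep 0 (by norm_num)) hrep0, mul_one] at e
    exact ⟨⟨j, hj⟩, Subtype.ext e.symm⟩
  refine ⟨H, by rw [← Nat.card_fin 8160]; exact (Nat.card_congr (Equiv.ofBijective f ⟨hinj, hsurj⟩)).symm,
    fun z hz hzc => ?_⟩
  obtain ⟨⟨i, hi⟩, hie⟩ := hsurj ⟨z, hz⟩
  have hr : LRep F ω i z := by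
    rw [← show E i hi = z from congrArg Subtype.val hie]
    exact hErep i hi
  obtain ⟨-, k, hk, hkc⟩ := center_scalar h hzc
  have hcomp : ∀ q < 9, lComp i q = wPow k (4 ^ q) := by
    intro q hq
    have h2 := hkc.2 (2 * q) (by omega)
    rw [pow_mul, show (2 : ℕ) ^ 2 = 4 by norm_num] at h2
    have e2 : (idCols.map (wPow k)).getD (2 * q) 0 = wPow k (4 ^ q) := by
      rw [List.getD_eq_getElem _ _ (by simp [idCols]; omega), List.getElem_map]
      simp [idCols, pow_mul]
    rw [e2] at h2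
    exact dec_inj h (lComp_lt i q) h2.1 ((hr q hq).symm.trans h2.2)
  interval_cases k
  · refine LRep.eq h hr fun q hq => ?_
    rw [Subgroup.coe_one, Units.val_one, Matrix.one_mulVec, hcomp q hq]
    rfl
  · exact absurd (fun q hq => by rw [hcomp q hq]; rfl) (hl i hi).2.2.2.2.2.2.1
  · exact absurd (fun q hq => by rw [hcomp q hq]; rfl) (hl i hi).2.2.2.2.2.2.2

theorem perm_realization (h : Four F ω) : ∃ H : Subgroup (Equiv.Perm (Fin 6156)),
    IsJ3 H ∧ MulAction.IsPretransitive H (Fin 6156) ∧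
      Nat.card (MulAction.stabilizer H (0 : Fin 6156)) = 8160 := by
  classical
  obtain ⟨H₀, hH₀, hz⟩ := exists_sub h
  let π : threeJ3 F ω →* J3 F ω := QuotientGroup.mk' (Subgroup.center (threeJ3 F ω))
  let K : Subgroup (J3 F ω) := H₀.map π
  have cardK : Nat.card K = 8160 := by
    rw [← hH₀]
    refine (Nat.card_congr (Equiv.ofBijective (fun a : H₀ => (⟨π a, Subgroup.mem_map_of_mem _ a.2⟩ : K))
      ⟨fun a b e => ?_, ?_⟩)).symm
    · have e' : π a = π b := congrArg Subtype.val e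
      exact Subtype.ext (inv_mul_eq_one.1 (hz _ (mul_mem (inv_mem a.2) b.2) (QuotientGroup.eq.1 e')))
    · rintro ⟨y, a, ha, rfl⟩
      exact ⟨⟨a, ha⟩, rfl⟩
  have cardX : Nat.card (J3 F ω ⧸ K) = 6156 := by
    have e := Subgroup.card_eq_card_quotient_mul_card_subgroup K
    rw [card_J3 h, cardK] at e
    omega
  let e₀ : J3 F ω ⧸ K ≃ Fin 6156 := Finite.equivFinOfCardEq cardX
  let e : J3 F ω ⧸ K ≃ Fin 6156 := e₀.trans (Equiv.swap (e₀ ((1 : J3 F ω) : J3 F ω ⧸ K)) 0)
  let ρ : J3 F ω →* Equiv.Perm (Fin 6156) :=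
    e.permCongrHom.toMonoidHom.comp (MulAction.toPermHom (J3 F ω) (J3 F ω ⧸ K))
  have hρ : ∀ g x, ρ g x = e (g • e.symm x) := fun g x => rfl
  haveI := simple_J3 h
  have hinj : Function.Injective ρ := by
    rw [← MonoidHom.ker_eq_bot_iff]
    rcases Subgroup.Normal.eq_bot_or_eq_top (inferInstance : ρ.ker.Normal) with hk | hk
    · exact hk
    · exfalso
      have hall : ∀ g : J3 F ω, g ∈ K := fun g => by
        have e1 : ρ g = 1 := MonoidHom.mem_ker.1 (hk ▸ Subgroup.mem_top g)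
        have e2 : e (g • ((1 : J3 F ω) : J3 F ω ⧸ K)) = e ((1 : J3 F ω) : J3 F ω ⧸ K) := by
          have := congrArg (fun p : Equiv.Perm (Fin 6156) => p (e ((1 : J3 F ω) : J3 F ω ⧸ K))) e1
          simpa [hρ] using this
        have e3 := e.injective e2
        rw [MulAction.Quotient.smul_coe, smul_eq_mul, mul_one, QuotientGroup.eq, mul_one,
          inv_mem_iff] at e3
        exact e3
      have : K = ⊤ := eq_top_iff.2 fun g _ => hall g
      rw [this, Subgroup.card_top, card_J3 h] at cardK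
      omega
  let E : J3 F ω ≃* ρ.range := MonoidHom.ofInjective hinj
  have hcardR : Nat.card ρ.range = 50232960 := by rw [← Nat.card_congr E.toEquiv, card_J3 h]
  have htrans : MulAction.IsPretransitive ρ.range (Fin 6156) := by
    refine ⟨fun x y => ?_⟩
    obtain ⟨g, hg⟩ := MulAction.exists_smul_eq (J3 F ω) (e.symm x) (e.symm y)
    refine ⟨⟨ρ g, g, rfl⟩, ?_⟩
    show ρ g x = y
    rw [hρ, hg, e.apply_symm_apply]
  refine ⟨ρ.range, ⟨MulEquiv.isSimpleGroup E.symm, hcardR⟩, htrans, ?_⟩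
  have e1 := (MulAction.stabilizer ρ.range (0 : Fin 6156)).card_mul_index
  rw [MulAction.index_stabilizer_of_transitive, Nat.card_fin, hcardR] at e1
  omega

end CfsgLib.LocalEven.J3Lines
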