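import Cfsg.Agent.Lib.LocalEven.J3OutCode
import Cfsg.Agent.Lib.LocalEven.J3SubData

/-!
Code for the subgroup of order 8160 of the third Janko group, given by the images of nine basis codes.
-/

set_option autoImplicit false
set_option maxRecDepth 100000

namespace CfsgLib.LocalEven.J3Lines

open Cfsg Cfsg.Spor

/-- component of a packed element -/
def lComp (i q : ℕ) : ℕ := (getB 162 lElts i >>> (18 * q)) % 262144

/-- the packed element, rebuilt from its components -/
def lKey (i : ℕ) : ℕ := ((List.range 9).map fun q => lComp i q * 2 ^ (18 * q)).sum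

/-- product by the first generator -/
def lX (i : ℕ) : ℕ := getB 13 lTgtX i

/-- product by the second generator -/
def lU (i : ℕ) : ℕ := getB 13 lTgtU i

/-- parent -/
def lP (i : ℕ) : ℕ := getB 14 lPar i

/-- position in increasing order -/
def lO (q : ℕ) : ℕ := getB 13 lOrd q

/-- validity of an element -/
noncomputable def lOK (i : ℕ) : Bool :=
  Nat.ble 8160 i ||
    (Nat.blt (lX i) 8160 && Nat.blt (lU i) 8160 && Nat.blt (lO i) 8160 &&
    (Nat.ble 8159 i || Nat.blt (lKey (lO i)) (lKey (lO (i + 1)))) &&
    (Nat.beq i 0 || (Nat.blt (lP i / 2) i &&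
      (if lP i % 2 = 0 then Nat.beq (lX (lP i / 2)) i else Nat.beq (lU (lP i / 2)) i))) &&
    (List.range 9).all (fun q =>
      Nat.beq (lComp (lX i) q) (imgF lColsX (lComp i q)) &&
      Nat.beq (lComp (lU i) q) (imgF lColsU (lComp i q))) &&
    !((List.range 9).all fun q => Nat.beq (lComp i q) (wMul (4 ^ q))) &&
    !((List.range 9).all fun q => Nat.beq (lComp i q) (wMul (wMul (4 ^ q)))))

end CfsgLib.LocalEven.J3Lines
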