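import Cfsg.Agent.Lib.LocalEven.JCompBase

/-!
A `2`-group acting on a four-group, and elementary abelian subgroups of largest order next to it.
-/

set_option autoImplicit false
set_option linter.style.haveILetI false
set_option linter.unusedSectionVars false

namespace CfsgLib.LocalEven.JComp

open Cfsg
open scoped commutatorElement

variable {G : Type*} [Group G] [Finite G]

/-- A nontrivial `2`-group of automorphisms of a four-group fixes exactly one involution. -/
theorem four_action {S W : Subgroup G} (hS : IsPGroup 2 S) (hW : Nat.card W = 4)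
    (hWe : IsElementaryAbelian 2 W) (hn : S ≤ Subgroup.normalizer (W : Set G)) :
    ∃ w0 ∈ W, w0 ≠ 1 ∧ S ≤ Subgroup.centralizer {w0} ∧
      (∀ s ∈ S, s ∉ Subgroup.centralizer (W : Set G) →
        ∀ v ∈ W, s * v = v * s → v = 1 ∨ v = w0) ∧
      ∀ a ∈ S, ∀ b ∈ S, a ∉ Subgroup.centralizer (W : Set G) →
        b ∉ Subgroup.centralizer (W : Set G) → a * b ∈ Subgroup.centralizer (W : Set G) := by
  classical
  have hW2 : IsPGroup 2 W := CfsgLib.PLocal.isPGroup_of_isElementaryAbelian hWe
  set X := S ⊔ W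
  have hX : IsPGroup 2 X := hS.to_sup_of_normal_right' hW2 hn
  haveI : (W.subgroupOf X).Normal :=
    Subgroup.normal_subgroupOf_of_le_normalizer (sup_le hn Subgroup.le_normalizer)
  have hWne : W ≠ ⊥ := fun e => by rw [e, Subgroup.card_bot] at hW; omega
  have hne := CfsgLib.PGroups.inf_center_ne_bot hX (N := W.subgroupOf X) (fun e => hWne (by
    rw [← Subgroup.map_subgroupOf_eq_of_le (le_sup_right : W ≤ X), e, Subgroup.map_bot]))
  obtain ⟨⟨⟨w0, hw0X⟩, hw0, hw0c⟩, hw01⟩ := Subgroup.ne_bot_iff_exists_ne_one.1 hne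
  have hw01' : w0 ≠ 1 := fun e => hw01 (Subtype.ext (Subtype.ext e))
  have hSw0 : ∀ s ∈ S, s * w0 = w0 * s := fun s hs =>
    congrArg Subtype.val (Subgroup.mem_center_iff.1 hw0c ⟨s, Subgroup.mem_sup_left hs⟩)
  have hfix : ∀ s ∈ S, s ∉ Subgroup.centralizer (W : Set G) →
      ∀ v ∈ W, s * v = v * s → v = 1 ∨ v = w0 := by
    intro s hs hsC v hv hc
    by_contra hne'
    push Not at hne'
    have hle : W ≤ W ⊓ Subgroup.centralizer {s} := by
      refine (Subgroup.eq_of_le_of_card_ge inf_le_left ?_).ge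
      rw [hW]
      have h1 : Subgroup.closure {v, w0} ≤ W ⊓ Subgroup.centralizer {s} := by
        rw [Subgroup.closure_le]
        rintro x (rfl | rfl)
        · exact ⟨hv, Subgroup.mem_centralizer_singleton_iff.2 hc.symm⟩
        · exact ⟨hw0, Subgroup.mem_centralizer_singleton_iff.2 (hSw0 s hs).symm⟩
      refine le_trans ?_ (Subgroup.card_le_of_le h1)
      have hd : Nat.card (Subgroup.closure {v, w0}) ∣ 4 :=
        hW ▸ Subgroup.card_dvd_of_le (h1.trans inf_le_left)
      have h3 : 2 < Nat.card (Subgroup.closure {v, w0}) := by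
        have m1 : (1 : G) ∈ Subgroup.closure {v, w0} := one_mem _
        have m2 : v ∈ Subgroup.closure {v, w0} := Subgroup.subset_closure (Or.inl rfl)
        have m3 : w0 ∈ Subgroup.closure {v, w0} := Subgroup.subset_closure (Or.inr rfl)
        have hsub : ({(1 : G), v, w0} : Set G) ⊆ (Subgroup.closure {v, w0} : Set G) := by
          rintro x (rfl | rfl | rfl) <;> assumption
        have hnc : ({(1 : G), v, w0} : Set G).ncard = 3 :=
          Set.ncard_eq_three.2 ⟨1, v, w0, hne'.1.symm, hw01'.symm, hne'.2, rfl⟩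
        have := Nat.card_mono (Set.toFinite _) hsub
        rw [Nat.card_coe_set_eq, hnc] at this
        exact this
      exact Nat.le_of_dvd Nat.card_pos (by
        have := Nat.le_of_dvd (by norm_num) hd
        interval_cases hc : Nat.card (Subgroup.closure {v, w0}) <;> simp_all)
    exact hsC fun x hx => Subgroup.mem_centralizer_singleton_iff.1 (hle hx).2
  refine ⟨w0, hw0, hw01', fun s hs => Subgroup.mem_centralizer_singleton_iff.2 (hSw0 s hs), hfix, ?_⟩
  have hmove : ∀ s ∈ S, s ∉ Subgroup.centralizer (W : Set G) →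
      ∀ v ∈ W, v ≠ 1 → v ≠ w0 → s * v * s⁻¹ = v * w0 := by
    intro s hs hsC v hv h1 h2
    have hm : s * v * s⁻¹ ∈ W := (Subgroup.mem_normalizer_iff.1 (hn hs) v).1 hv
    have hne1 : s * v * s⁻¹ ≠ 1 := fun e => h1 (by
      have := congrArg (fun x => s⁻¹ * x * s) e; simpa [mul_assoc] using this)
    have hne0 : s * v * s⁻¹ ≠ w0 := fun e => h2 (by
      have := congrArg (fun x => s⁻¹ * x * s) e
      simp only [mul_assoc, inv_mul_cancel_left, inv_mul_cancel, mul_one] at this
      rw [this, ← hSw0 s hs]; group)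
    have hnev : s * v * s⁻¹ ≠ v := fun e => by
      rcases hfix s hs hsC v hv (mul_inv_eq_iff_eq_mul.1 e) with h | h
      · exact h1 h
      · exact h2 h
    have hvw : v * w0 ∈ W := mul_mem hv hw0
    have hvw1 : v * w0 ≠ 1 := fun e => h2 (by
      have := hWe.2 w0 hw0
      rw [pow_two] at this
      calc v = v * (w0 * w0) := by rw [this, mul_one]
        _ = v * w0 * w0 := (mul_assoc _ _ _).symm
        _ = w0 := by rw [e, one_mul])
    by_contra hne'
    have hsub : ({1, w0, v, v * w0, s * v * s⁻¹} : Set G) ⊆ (W : Set G) := by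
      rintro x (rfl | rfl | rfl | rfl | rfl)
      · exact one_mem _
      · exact hw0
      · exact hv
      · exact hvw
      · exact hm
    have h5 : ({1, w0, v, v * w0, s * v * s⁻¹} : Set G).ncard = 5 := by
      rw [Set.ncard_insert_of_notMem, Set.ncard_insert_of_notMem, Set.ncard_insert_of_notMem,
        Set.ncard_pair]
      · exact fun e => hne' e.symm
      all_goals simp only [Set.mem_insert_iff, Set.mem_singleton_iff, not_or]
      · exact ⟨fun e => hw01' (mul_eq_left.1 e.symm), hnev.symm⟩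
      · exact ⟨h2.symm, fun e => h1 (mul_eq_right.1 e.symm), hne0.symm⟩
      · exact ⟨hw01'.symm, h1.symm, hvw1.symm, hne1.symm⟩
    have := Nat.card_mono (Set.toFinite _) hsub
    rw [Nat.card_coe_set_eq, h5] at this
    exact absurd (this.trans hW.le) (by norm_num)
  intro a ha b hb haC hbC x hx
  show x * (a * b) = a * b * x
  by_cases hx1 : x = 1
  · simp [hx1]
  by_cases hx0 : x = w0
  · subst hx0
    rw [← mul_assoc, ← hSw0 a ha, mul_assoc, ← hSw0 b hb, mul_assoc]
  have h1 := hmove b hb hbC x hx hx1 hx0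
  have h2 := hmove a ha haC x hx hx1 hx0
  have hw2 : w0 * w0 = 1 := by have := hWe.2 w0 hw0; rwa [pow_two] at this
  have : a * b * x * (a * b)⁻¹ = x := by
    calc a * b * x * (a * b)⁻¹ = a * (b * x * b⁻¹) * a⁻¹ := by group
      _ = a * x * a⁻¹ * (a * w0 * a⁻¹) := by rw [h1]; group
      _ = x * w0 * w0 := by rw [h2, hSw0 a ha, mul_inv_cancel_right]
      _ = x := by rw [mul_assoc, hw2, mul_one]
  exact (mul_inv_eq_iff_eq_mul.1 this).symm

/-- The centralizer of a four-group has index at most two in a `2`-group acting on it. -/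
theorem card_le_two_mul {S W A : Subgroup G} (hS : IsPGroup 2 S) (hW : Nat.card W = 4)
    (hWe : IsElementaryAbelian 2 W) (hn : S ≤ Subgroup.normalizer (W : Set G)) (hAS : A ≤ S) :
    Nat.card A ≤ 2 * Nat.card ↥(A ⊓ Subgroup.centralizer (W : Set G)) := by
  obtain ⟨-, -, -, -, -, hmul⟩ := four_action hS hW hWe hn
  set C := Subgroup.centralizer (W : Set G)
  by_cases h : A ≤ C
  · rw [inf_eq_left.2 h]; omega
  obtain ⟨a, ha, haC⟩ := SetLike.not_le_iff_exists.1 h
  have h2 : (A ⊓ C).relIndex A = 2 := by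
    rw [Subgroup.relIndex, Subgroup.index_eq_two_iff]
    refine ⟨⟨a, ha⟩, fun b => ?_⟩
    simp only [Subgroup.mem_subgroupOf, Subgroup.mem_inf, Subgroup.coe_mul]
    by_cases hb : (b : G) ∈ C
    · exact Or.inr ⟨⟨b.2, hb⟩, fun h' => haC (by simpa using C.mul_mem (C.inv_mem hb) h'.2)⟩
    · exact Or.inl ⟨⟨mul_mem b.2 ha, hmul _ (hAS b.2) _ (hAS ha) hb haC⟩, fun h' => hb h'.2⟩
  have := Subgroup.relIndex_mul_relIndex ⊥ (A ⊓ C) A bot_le inf_le_left
  simp only [Subgroup.relIndex_bot_left, h2] at this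
  omega

end CfsgLib.LocalEven.JComp
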