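import Cfsg.Agent.Lib.LocalEven.CharP
import Cfsg.Agent.Lib.Fusion.SylowAux
import Cfsg.Prelude.Def_EvenType

/-!
Strongly `p`-embedded subgroups.
-/

namespace CfsgLib.LocalEven

variable {G : Type*} [Group G] {p : ℕ}

theorem not_pRankLE_zero_iff [Finite G] [hp : Fact p.Prime] {Q : Subgroup G} (hQ : IsPGroup p Q) :
    ¬ Cfsg.PRankLE p 0 Q ↔ Q ≠ ⊥ := by
  constructor
  · rintro h rfl
    apply h
    intro A _ _
    rw [pow_zero]
    exact le_of_eq (Nat.card_eq_one_iff_unique.2 ⟨inferInstance, ⟨1⟩⟩)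
  · intro hne h
    have hdvd : p ∣ Nat.card Q := by
      obtain ⟨k, hk⟩ := IsPGroup.iff_card.1 hQ
      rcases k with _ | k
      · rw [pow_zero] at hk
        exact absurd (Subgroup.eq_bot_of_card_eq _ hk) hne
      · rw [hk]; exact dvd_pow_self p k.succ_ne_zero
    obtain ⟨x, hx⟩ := exists_prime_orderOf_dvd_card' p hdvd
    have := h (Subgroup.zpowers x) inferInstance (fun a ha => by
      obtain ⟨m, rfl⟩ := ha
      rw [← zpow_natCast, ← zpow_mul, mul_comm, zpow_mul, zpow_natCast, ← hx, pow_orderOf_eq_one, one_zpow])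
    rw [Nat.card_zpowers, hx, pow_zero] at this
    exact absurd this (not_le.2 hp.out.one_lt)

theorem kGeneratedCore_one_le_iff [Finite G] [Fact p.Prime] {P Y : Subgroup G} (hP : IsPGroup p P) :
    Cfsg.kGeneratedCore p 1 P ≤ Y ↔
      ∀ Q : Subgroup G, Q ≤ P → Q ≠ ⊥ → Subgroup.normalizer (Q : Set G) ≤ Y := by
  rw [Cfsg.kGeneratedCore, iSup_le_iff]
  exact ⟨fun h Q hQ hne => h ⟨Q, hQ, (not_pRankLE_zero_iff (hP.to_le hQ)).2 hne⟩,
    fun h Q => h Q Q.2.1 ((not_pRankLE_zero_iff (hP.to_le Q.2.1)).1 Q.2.2)⟩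

theorem map_conj_normalizer (g : G) (A : Subgroup G) :
    (Subgroup.normalizer (A : Set G)).map (MulAut.conj g).toMonoidHom =
      Subgroup.normalizer ((A.map (MulAut.conj g).toMonoidHom : Subgroup G) : Set G) :=
  Subgroup.map_equiv_normalizer_eq A (MulAut.conj g)

theorem map_conj_le_iff {g : G} {A B : Subgroup G} (hg : g ∈ B) :
    A.map (MulAut.conj g).toMonoidHom ≤ B ↔ A ≤ B := by
  constructor
  · intro h x hx
    have := h ⟨x, hx, rfl⟩
    exact (B.mul_mem_cancel_left hg).1 ((B.mul_mem_cancel_right (B.inv_mem hg)).1 this)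
  · rintro h _ ⟨x, hx, rfl⟩
    exact B.mul_mem (B.mul_mem hg (h hx)) (B.inv_mem hg)

theorem map_conj_ne_bot {g : G} {A : Subgroup G} (h : A ≠ ⊥) :
    A.map (MulAut.conj g).toMonoidHom ≠ ⊥ := fun e =>
  h ((Subgroup.map_eq_bot_iff_of_injective _ (MulAut.conj g).injective).1 e)

theorem conj_map_conj_map (g h : G) (A : Subgroup G) :
    (A.map (MulAut.conj g).toMonoidHom).map (MulAut.conj h).toMonoidHom =
      A.map (MulAut.conj (h * g)).toMonoidHom := by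
  rw [Subgroup.map_map]
  congr 1
  ext x
  simp

theorem conj_map_one (A : Subgroup G) : A.map (MulAut.conj (1 : G)).toMonoidHom = A := by
  ext x; simp

/-- Every nontrivial `p`-subgroup of `Y` has its normalizer in `Y`. -/
def LocallyClosedIn (p : ℕ) (Y : Subgroup G) : Prop :=
  ∀ A : Subgroup G, A ≤ Y → IsPGroup p A → A ≠ ⊥ → Subgroup.normalizer (A : Set G) ≤ Y

theorem LocallyClosedIn.exists_sylow_le [Finite G] [Fact p.Prime] {Y : Subgroup G}
    (hY : LocallyClosedIn p Y) (hpY : p ∣ Nat.card Y) :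
    ∀ S : Sylow p Y, ∃ P : Sylow p G, (P : Subgroup G) = (S : Subgroup Y).map Y.subtype := by
  intro S
  set SG := (S : Subgroup Y).map Y.subtype with hSG
  have hle : SG ≤ Y := Subgroup.map_subtype_le _
  have hne : SG ≠ ⊥ := fun e => S.ne_bot_of_dvd_card hpY
    ((Subgroup.map_eq_bot_iff_of_injective _ Y.subtype_injective).1 e)
  obtain ⟨P, hP⟩ := (S.isPGroup'.map Y.subtype).exists_le_sylow
  refine ⟨P, ?_⟩
  by_contra hne'
  have hlt : SG < (P : Subgroup G) := lt_of_le_of_ne hP (Ne.symm hne')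
  obtain ⟨x, hx, hxS⟩ := SetLike.exists_of_lt (CfsgLib.Fusion.lt_inf_normalizer P.isPGroup' hlt)
  apply hxS
  have hxY : x ∈ Y := hY SG hle (S.isPGroup'.map _) hne hx.2
  have hmax : ((P : Subgroup G).subgroupOf Y) = (S : Subgroup Y) :=
    S.3 P.isPGroup'.comap_subtype fun s hs => hP ⟨s, hs, rfl⟩
  exact ⟨⟨x, hxY⟩, hmax.le hx.1, rfl⟩

theorem LocallyClosedIn.stronglyPEmbedded [Finite G] [Fact p.Prime] {Y : Subgroup G}
    (hY : LocallyClosedIn p Y) (hne : Y ≠ ⊤) (hpY : p ∣ Nat.card Y) :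
    Cfsg.IsStronglyPEmbedded p Y := by
  obtain ⟨S⟩ : Nonempty (Sylow p Y) := inferInstance
  obtain ⟨P, hP⟩ := hY.exists_sylow_le hpY S
  have hPY : (P : Subgroup G) ≤ Y := hP ▸ Subgroup.map_subtype_le _
  exact ⟨hpY.trans (Subgroup.card_subgroup_dvd_card Y), hne, P,
    (kGeneratedCore_one_le_iff P.isPGroup').2 fun Q hQ hQne =>
      hY Q (hQ.trans hPY) (P.isPGroup'.to_le hQ) hQne⟩

/-- A Sylow subgroup whose nontrivial subgroups have their normalizers in `Y`. -/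
theorem exists_sylow_of_stronglyPEmbedded [Finite G] [Fact p.Prime] {Y : Subgroup G}
    (hY : Cfsg.IsStronglyPEmbedded p Y) :
    ∃ P : Sylow p G, (P : Subgroup G) ≠ ⊥ ∧ (P : Subgroup G) ≤ Y ∧
      ∀ Q : Subgroup G, Q ≤ (P : Subgroup G) → Q ≠ ⊥ → Subgroup.normalizer (Q : Set G) ≤ Y := by
  obtain ⟨hpG, -, P, hP⟩ := hY
  have h := (kGeneratedCore_one_le_iff P.isPGroup').1 hP
  have hne : (P : Subgroup G) ≠ ⊥ := P.ne_bot_of_dvd_card hpG
  exact ⟨P, hne, Subgroup.le_normalizer.trans (h _ le_rfl hne), h⟩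

theorem LocallyClosedIn.of_sylow [Finite G] [Fact p.Prime] {Y : Subgroup G} (P : Sylow p G)
    (hPY : (P : Subgroup G) ≤ Y)
    (h : ∀ Q : Subgroup G, Q ≤ (P : Subgroup G) → Q ≠ ⊥ → Subgroup.normalizer (Q : Set G) ≤ Y) :
    LocallyClosedIn p Y := by
  intro A hA hAp hne
  have hsyl : CfsgLib.Fusion.IsSylIn p (P : Subgroup G) Y :=
    ⟨hPY, P.isPGroup', fun C hC hPC _ => P.3 hC hPC⟩
  obtain ⟨y, hy, hyA⟩ := hsyl.exists_conj_le hAp hA
  have hle : A.map (MulAut.conj y).toMonoidHom ≤ (P : Subgroup G) := by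
    rintro _ ⟨a, ha, rfl⟩; exact hyA a ha
  have := h _ hle (map_conj_ne_bot hne)
  rw [← map_conj_normalizer] at this
  exact (map_conj_le_iff hy).1 this

theorem stronglyPEmbedded_iff [Finite G] [Fact p.Prime] {Y : Subgroup G} :
    Cfsg.IsStronglyPEmbedded p Y ↔ Y ≠ ⊤ ∧ p ∣ Nat.card Y ∧ LocallyClosedIn p Y := by
  refine ⟨fun h => ?_, fun ⟨h1, h2, h3⟩ => h3.stronglyPEmbedded h1 h2⟩
  obtain ⟨P, hne, hPY, hP⟩ := exists_sylow_of_stronglyPEmbedded h
  refine ⟨h.2.1, ?_, LocallyClosedIn.of_sylow P hPY hP⟩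
  exact (P.dvd_card_of_dvd_card h.1).trans (Subgroup.card_dvd_of_le hPY)

theorem exists_isPGroup_ne_bot [Finite G] [Fact p.Prime] {D : Subgroup G} (h : p ∣ Nat.card D) :
    ∃ A : Subgroup G, A ≤ D ∧ IsPGroup p A ∧ A ≠ ⊥ := by
  obtain ⟨S⟩ : Nonempty (Sylow p D) := inferInstance
  exact ⟨_, Subgroup.map_subtype_le _, S.isPGroup'.map _, fun e => S.ne_bot_of_dvd_card h
    ((Subgroup.map_eq_bot_iff_of_injective _ D.subtype_injective).1 e)⟩

theorem LocallyClosedIn.not_dvd_inf_conj [Finite G] [Fact p.Prime] {Y : Subgroup G}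
    (hY : LocallyClosedIn p Y) {g : G} (hg : g ∉ Y) :
    ¬ p ∣ Nat.card ↥(Y ⊓ Y.map (MulAut.conj g).toMonoidHom) := by
  intro hd
  set D := Y ⊓ Y.map (MulAut.conj g).toMonoidHom with hD
  obtain ⟨S⟩ : Nonempty (Sylow p D) := inferInstance
  set SG := (S : Subgroup D).map D.subtype with hSG
  have hSD : SG ≤ D := Subgroup.map_subtype_le _
  have hSne : SG ≠ ⊥ := fun e => S.ne_bot_of_dvd_card hd
    ((Subgroup.map_eq_bot_iff_of_injective _ D.subtype_injective).1 e)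
  have hSp : IsPGroup p SG := S.isPGroup'.map _
  have hS' : SG.map (MulAut.conj g⁻¹).toMonoidHom ≤ Y := by
    refine (Subgroup.map_mono (hSD.trans inf_le_right)).trans ?_
    rw [conj_map_conj_map, inv_mul_cancel, conj_map_one]
  have hN : Subgroup.normalizer (SG : Set G) ≤ D := by
    refine le_inf (hY _ (hSD.trans inf_le_left) hSp hSne) ?_
    have := Subgroup.map_mono (f := (MulAut.conj g).toMonoidHom)
      (hY _ hS' (hSp.map _) (map_conj_ne_bot hSne))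
    rwa [map_conj_normalizer, conj_map_conj_map, mul_inv_cancel, conj_map_one] at this
  obtain ⟨P, hP⟩ := hSp.exists_le_sylow
  have hPeq : (P : Subgroup G) = SG := by
    by_contra hne'
    obtain ⟨x, hx, hxS⟩ := SetLike.exists_of_lt
      (CfsgLib.Fusion.lt_inf_normalizer P.isPGroup' (lt_of_le_of_ne hP (Ne.symm hne')))
    apply hxS
    have hmax : ((P : Subgroup G).subgroupOf D) = (S : Subgroup D) :=
      S.3 P.isPGroup'.comap_subtype fun s hs => hP ⟨s, hs, rfl⟩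
    exact ⟨⟨x, hN hx.2⟩, hmax.le hx.1, rfl⟩
  have hsyl : CfsgLib.Fusion.IsSylIn p SG Y :=
    ⟨hSD.trans inf_le_left, hSp, fun C hC hSC _ => hPeq ▸ P.3 hC (hPeq ▸ hSC)⟩
  obtain ⟨m, hm, hmS⟩ := hsyl.exists_conj_le (hSp.map (MulAut.conj g⁻¹).toMonoidHom) hS'
  have hle : SG.map (MulAut.conj (m * g⁻¹)).toMonoidHom ≤ SG := by
    rw [← conj_map_conj_map]
    rintro _ ⟨a, ha, rfl⟩
    exact hmS a ha
  have heq : SG.map (MulAut.conj (m * g⁻¹)).toMonoidHom = SG :=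
    Subgroup.eq_of_le_of_card_ge hle
      (le_of_eq (Subgroup.card_map_of_injective (MulAut.conj (m * g⁻¹)).injective).symm)
  have hmem := (hN (mem_normalizer_of_conj heq)).1
  exact hg (by simpa using Y.inv_mem ((Y.mul_mem_cancel_left hm).1 hmem))

theorem LocallyClosedIn.of_disjoint [Finite G] [hp : Fact p.Prime] {Y : Subgroup G}
    (h : ∀ g : G, g ∉ Y → ¬ p ∣ Nat.card ↥(Y ⊓ Y.map (MulAut.conj g).toMonoidHom)) :
    LocallyClosedIn p Y := by
  intro A hA hAp hne g hg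
  by_contra hgY
  refine h g hgY (dvd_trans ?_ (Subgroup.card_dvd_of_le (show A ≤ Y ⊓ _ from le_inf hA
    ((conj_map_eq_of_mem_normalizer hg).ge.trans (Subgroup.map_mono hA)))))
  obtain ⟨k, hk⟩ := IsPGroup.iff_card.1 hAp
  rcases k with _ | k
  · rw [pow_zero] at hk; exact absurd (Subgroup.eq_bot_of_card_eq _ hk) hne
  · rw [hk]; exact dvd_pow_self p k.succ_ne_zero

theorem stronglyPEmbedded_iff_disjoint [Finite G] [Fact p.Prime] {Y : Subgroup G} :
    Cfsg.IsStronglyPEmbedded p Y ↔ Y ≠ ⊤ ∧ p ∣ Nat.card Y ∧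
      ∀ g : G, g ∉ Y → ¬ p ∣ Nat.card ↥(Y ⊓ Y.map (MulAut.conj g).toMonoidHom) := by
  rw [stronglyPEmbedded_iff]
  exact and_congr_right fun _ => and_congr_right fun _ =>
    ⟨fun h _ hg => h.not_dvd_inf_conj hg, LocallyClosedIn.of_disjoint⟩

theorem stronglyPEmbedded_subgroupOf [Finite G] [Fact p.Prime] {X H : Subgroup G}
    (hX : Cfsg.IsStronglyPEmbedded p X) (hH : ¬ H ≤ X) (hd : p ∣ Nat.card ↥(H ⊓ X)) :
    Cfsg.IsStronglyPEmbedded p ((H ⊓ X).subgroupOf H) := by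
  obtain ⟨-, -, hdis⟩ := stronglyPEmbedded_iff_disjoint.1 hX
  rw [stronglyPEmbedded_iff_disjoint]
  refine ⟨fun e => hH ((Subgroup.subgroupOf_eq_top.1 e).trans inf_le_right),
    by rwa [Nat.card_congr (Subgroup.subgroupOfEquivOfLe inf_le_left).toEquiv], fun h hh hdvd => ?_⟩
  have hh' : (h : G) ∉ X := fun hx => hh (Subgroup.mem_subgroupOf.2 ⟨h.2, hx⟩)
  refine hdis h hh' (hdvd.trans ?_)
  rw [← Subgroup.card_map_of_injective H.subtype_injective]
  refine Subgroup.card_dvd_of_le ?_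
  rintro _ ⟨z, ⟨hz, y, hy, rfl⟩, rfl⟩
  exact ⟨hz.2, (y : G), hy.2, by simp⟩

theorem stronglyPEmbedded_mono [Finite G] [Fact p.Prime] {X Y : Subgroup G}
    (hX : Cfsg.IsStronglyPEmbedded p X) (hXY : X ≤ Y) (hY : Y ≠ ⊤) :
    Cfsg.IsStronglyPEmbedded p Y := by
  obtain ⟨P, hne, hPX, hP⟩ := exists_sylow_of_stronglyPEmbedded hX
  exact ⟨hX.1, hY, P, (kGeneratedCore_one_le_iff P.isPGroup').2 fun Q hQ hQne =>
    (hP Q hQ hQne).trans hXY⟩

end CfsgLib.LocalEven
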