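import Cfsg.Agent.Lib.LocalEven.PReduced3
import Cfsg.Agent.Lib.LocalEven.StrongEmb
import Cfsg.Agent.Lib.PGroups.Basic
import Cfsg.Agent.Lib.Coprime.Basic

/-!
`p`-reduced normal subgroups and subnormal subgroups.
-/

namespace CfsgLib.LocalEven

open Cfsg

variable {G : Type*} [Group G] {p : ℕ}

/-- Every element of `A` has a `p`-power in `C`. -/
def PPow (p : ℕ) (A C : Subgroup G) : Prop := ∀ a ∈ A, ∃ k, a ^ p ^ k ∈ C

theorem exists_mul_pow {a : G} {B : Subgroup G} (ha : a ∈ Subgroup.normalizer (B : Set G)) {b : G}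
    (hb : b ∈ B) (n : ℕ) : ∃ b' ∈ B, (a * b) ^ n = a ^ n * b' := by
  induction n with
  | zero => exact ⟨1, B.one_mem, by simp⟩
  | succ n ih =>
    obtain ⟨b', hb', e⟩ := ih
    refine ⟨a⁻¹ * b' * a * b, B.mul_mem ?_ hb, by rw [pow_succ, e, pow_succ]; group⟩
    simpa using (Subgroup.mem_normalizer_iff.1 (Subgroup.inv_mem _ ha) b').1 hb'

theorem ppow_sup {A B C : Subgroup G} (hAB : A ≤ Subgroup.normalizer (B : Set G))
    (hBC : B ≤ Subgroup.normalizer (C : Set G)) (hA : PPow p A C) (hB : PPow p B C) :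
    PPow p (A ⊔ B) C := by
  intro x hx
  obtain ⟨a, ha, b, hb, rfl⟩ := (CfsgLib.Coprime.mem_sup_iff_of_le_normalizer hAB).1 hx
  obtain ⟨k, hk⟩ := hA a ha
  obtain ⟨b', hb', e⟩ := exists_mul_pow (hAB ha) hb (p ^ k)
  obtain ⟨j, hj⟩ := hB b' hb'
  refine ⟨k + j, ?_⟩
  rw [pow_add, pow_mul, e]
  -- `a ^ p ^ k * b' = b' * c` with `c ∈ C`
  obtain ⟨c, hc, e'⟩ := exists_mul_pow (hBC hb')
    (show b'⁻¹ * a ^ p ^ k * b' ∈ C by
      simpa using (Subgroup.mem_normalizer_iff.1 (hBC (B.inv_mem hb')) _).1 hk) (p ^ j)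
  rw [show a ^ p ^ k * b' = b' * (b'⁻¹ * a ^ p ^ k * b') by group, e']
  exact C.mul_mem hj hc

theorem mem_centralizer_map_conj {C' : Subgroup G} {g x : G}
    (h : g⁻¹ * x * g ∈ Subgroup.centralizer (C' : Set G)) :
    x ∈ Subgroup.centralizer ((C'.map (MulAut.conj g).toMonoidHom : Subgroup G) : Set G) := by
  rintro _ ⟨v, hv, rfl⟩
  have := h v hv
  calc (MulAut.conj g).toMonoidHom v * x = g * (v * (g⁻¹ * x * g)) * g⁻¹ := by simp [mul_assoc]
    _ = g * (g⁻¹ * x * g * v) * g⁻¹ := by rw [this]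
    _ = x * (MulAut.conj g).toMonoidHom v := by simp [mul_assoc]

theorem IsPRedIn.map_conj {V L : Subgroup G} {g : G} (hg : g ∈ Subgroup.normalizer (L : Set G))
    (hV : IsPRedIn p V L) : IsPRedIn p (V.map (MulAut.conj g).toMonoidHom) L := by
  obtain ⟨hle, hn, he, hD⟩ := hV
  have hL : L.map (MulAut.conj g).toMonoidHom = L := conj_map_eq_of_mem_normalizer hg
  refine ⟨(Subgroup.map_mono hle).trans hL.le, ?_, elemAbelian_iff.2 ⟨?_, ?_⟩,
    fun D hDL hDn hDp x hx => ?_⟩
  · exact hL.ge.trans ((Subgroup.map_mono hn).trans (map_conj_normalizer g V).le)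
  · rintro _ ⟨a, ha, rfl⟩
    refine mem_centralizer_map_conj ?_
    simpa [mul_assoc] using (elemAbelian_iff.1 he).1 ha
  · rintro _ ⟨a, ha, rfl⟩
    rw [← map_pow, (elemAbelian_iff.1 he).2 a ha, map_one]
  · refine mem_centralizer_map_conj ?_
    have hgi : g⁻¹ ∈ Subgroup.normalizer (L : Set G) := Subgroup.inv_mem _ hg
    refine hD (D.map (MulAut.conj g⁻¹).toMonoidHom)
      ((Subgroup.map_mono hDL).trans (conj_map_eq_of_mem_normalizer hgi).le) ?_ ?_ ⟨x, hx, by simp⟩
    · exact (conj_map_eq_of_mem_normalizer hgi).ge.trans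
        ((Subgroup.map_mono hDn).trans (map_conj_normalizer g⁻¹ D).le)
    · rintro _ ⟨d, hd, rfl⟩
      obtain ⟨k, hk⟩ := hDp d hd
      refine ⟨k, fun v hv => ?_⟩
      have h1 := hk ((MulAut.conj g).toMonoidHom v) ⟨v, hv, rfl⟩
      rw [← map_pow]
      have h2 := congrArg (MulAut.conj g⁻¹).toMonoidHom h1
      simpa [mul_assoc] using h2

variable [Finite G] [Fact p.Prime]

theorem largestPReducedOf_le_normalizer {L : Subgroup G} :
    Subgroup.normalizer (L : Set G) ≤ Subgroup.normalizer (largestPReducedOf p L : Set G) :=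
  fun g hg => mem_normalizer_of_conj (Subgroup.eq_of_le_of_card_ge
    (((isPRedIn_largest (p := p) L).map_conj hg).le_largest)
    (le_of_eq (Subgroup.card_map_of_injective (MulAut.conj g).injective).symm))

/-- Restriction of a `p`-reduced normal subgroup to a normal subgroup. -/
theorem IsPRedIn.inf_normal {V₀ L₁ L : Subgroup G} (hV : IsPRedIn p V₀ L₁) (hLL : L ≤ L₁)
    (hn : L₁ ≤ Subgroup.normalizer (L : Set G)) :
    IsPRedIn p (V₀ ⊓ L) L ∧
      L ⊓ Subgroup.centralizer ((V₀ ⊓ L : Subgroup G) : Set G) =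
        L ⊓ Subgroup.centralizer (V₀ : Set G) := by
  set V := V₀ ⊓ L with hVdef
  set CV := Subgroup.centralizer (V : Set G)
  have hVn : L₁ ≤ Subgroup.normalizer (V : Set G) :=
    (le_inf hV.2.1 hn).trans Subgroup.inf_normalizer_le_normalizer_inf
  have hCn : L₁ ≤ Subgroup.normalizer (CV : Set G) :=
    hVn.trans (normalizer_le_normalizer_centralizer _)
  -- the largest normal subgroup of `L` acting on `V` as a `p`-group
  let S : Set (Subgroup G) := {D | D ≤ L ∧ L ≤ Subgroup.normalizer (D : Set G) ∧ PPow p D CV}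
  have hsup : ∀ A B, A ∈ S → B ∈ S → A ⊔ B ∈ S := by
    rintro A B ⟨hA, hAn, hAp⟩ ⟨hB, hBn, hBp⟩
    refine ⟨sup_le hA hB, fun l hl => ?_, ppow_sup (hA.trans hBn) ((hB.trans hLL).trans hCn) hAp hBp⟩
    apply mem_normalizer_of_conj
    rw [Subgroup.map_sup, conj_map_eq_of_mem_normalizer (hAn hl),
      conj_map_eq_of_mem_normalizer (hBn hl)]
  obtain ⟨M, hM, hmax⟩ := S.toFinite.exists_maximalFor id S
    ⟨⊥, bot_le, le_top.trans (Subgroup.normalizer_eq_top_iff.2 (inferInstance : (⊥ : Subgroup G).Normal)).ge,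
      fun a ha => ⟨0, by simp [Subgroup.mem_bot.1 ha]⟩⟩
  have hle : ∀ D ∈ S, D ≤ M := fun D hD =>
    le_sup_right.trans (hmax (hsup M D hM hD) le_sup_left)
  have hMn : L₁ ≤ Subgroup.normalizer (M : Set G) := by
    intro g hg
    refine mem_normalizer_of_conj (Subgroup.eq_of_le_of_card_ge (hle _ ⟨?_, ?_, ?_⟩)
      (le_of_eq (Subgroup.card_map_of_injective (MulAut.conj g).injective).symm))
    · exact (Subgroup.map_mono hM.1).trans (conj_map_eq_of_mem_normalizer (hn hg)).le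
    · exact (conj_map_eq_of_mem_normalizer (hn hg)).ge.trans
        ((Subgroup.map_mono hM.2.1).trans (map_conj_normalizer g M).le)
    · rintro _ ⟨d, hd, rfl⟩
      obtain ⟨k, hk⟩ := hM.2.2 d hd
      refine ⟨k, ?_⟩
      rw [← map_pow]
      simpa using (Subgroup.mem_normalizer_iff.1 (hCn hg) _).1 hk
  have hMC : M ≤ Subgroup.centralizer (V₀ : Set G) := by
    refine hV.2.2.2 M (hM.1.trans hLL) hMn fun d hd => ?_
    obtain ⟨k, hk⟩ := hM.2.2 d hd
    have hdL : d ^ p ^ k ∈ L := L.pow_mem (hM.1 hd) _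
    obtain ⟨m, hm⟩ := exists_pow_mem_centralizer (A := (V₀ : Set G)) (c := d ^ p ^ k) (B := V)
      (isPGroup_of_exponent fun a ha => (elemAbelian_iff.1 hV.2.2.1).2 a ha.1)
      (fun x hx => ⟨V₀.mul_mem ((Subgroup.mem_normalizer_iff.1 (hV.2.1 (hLL hdL)) x).1 hx)
        (V₀.inv_mem hx), by
          have := L.mul_mem hdL ((Subgroup.mem_normalizer_iff.1 (hn (hV.1 hx)) _).1 (L.inv_mem hdL))
          simpa [mul_assoc] using this⟩) hk
    exact ⟨k + m, by rwa [pow_add, pow_mul]⟩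
  have hVsub : Subgroup.centralizer (V₀ : Set G) ≤ CV :=
    Subgroup.centralizer_le (SetLike.coe_subset_coe.2 inf_le_left)
  refine ⟨⟨inf_le_right, hLL.trans hVn, elemAbelian_mono hV.2.2.1 inf_le_left,
    fun D hDL hDn hDp => ((hle D ⟨hDL, hDn, hDp⟩).trans hMC).trans hVsub⟩,
    le_antisymm (le_inf inf_le_left ?_) (inf_le_inf_left _ hVsub)⟩
  exact (hle _ ⟨inf_le_left, (le_inf Subgroup.le_normalizer (hLL.trans hCn)).trans
    Subgroup.inf_normalizer_le_normalizer_inf,
    fun a ha => ⟨0, by rw [pow_zero, pow_one]; exact ha.2⟩⟩).trans hMC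

/-- `A × B`-lemma step: an element of order prime to `p` which commutes with `D` modulo the
centralizer of `W` and fixes `C_W(D)` fixes `W`. -/
theorem le_centralizer_of_fixes_fixed {W P : Subgroup G} (hW : IsPGroup p W) (hP : IsPGroup p P)
    (habel : W ≤ Subgroup.centralizer (W : Set G))
    (hPW : P ≤ Subgroup.normalizer (W : Set G)) {k : G} (hk : k ∈ Subgroup.normalizer (W : Set G))
    (hcop : (orderOf k).Coprime p)
    (hcomm : ∀ t ∈ P, t⁻¹ * k * t * k⁻¹ ∈ Subgroup.centralizer (W : Set G))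
    (hfix : W ⊓ Subgroup.centralizer (P : Set G) ≤ Subgroup.centralizer ({k} : Set G)) :
    k ∈ Subgroup.centralizer (W : Set G) := by
  set U := W ⊓ Subgroup.centralizer ({k} : Set G) with hU
  have hcomm' : ∀ t ∈ P, t * k * t⁻¹ * k⁻¹ ∈ Subgroup.centralizer (W : Set G) := by
    intro t ht
    simpa using hcomm t⁻¹ (P.inv_mem ht)
  have hPn : P ≤ Subgroup.normalizer (U : Set G) := by
    have key : ∀ t ∈ P, ∀ u ∈ U, t * u * t⁻¹ ∈ U := by
      intro t ht u hu
      refine ⟨(Subgroup.mem_normalizer_iff.1 (hPW ht) u).1 hu.1,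
        Subgroup.mem_centralizer_singleton_iff.2 ?_⟩
      have hku : k * u * k⁻¹ = u := by
        rw [← Subgroup.mem_centralizer_singleton_iff.1 hu.2, mul_inv_cancel_right]
      have hc := hcomm t ht u hu.1
      symm
      calc k * (t * u * t⁻¹) = t * ((t⁻¹ * k * t * k⁻¹) * (k * u * k⁻¹) * (t⁻¹ * k * t * k⁻¹)⁻¹) *
            t⁻¹ * k := by group
        _ = t * u * t⁻¹ * k := by rw [hku, ← hc, mul_inv_cancel_right]
    intro t ht
    rw [Subgroup.mem_normalizer_iff]
    refine fun u => ⟨key t ht u, fun hu => ?_⟩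
    simpa [mul_assoc] using key t⁻¹ (P.inv_mem ht) _ hu
  by_contra hcon
  set P1 := P ⊔ W
  have hP1 : IsPGroup p P1 := hP.to_sup_of_normal_right' hW hPW
  have hP1n : P1 ≤ Subgroup.normalizer (U : Set G) :=
    sup_le hPn fun w hw => by
      rw [Subgroup.mem_normalizer_iff]
      intro u
      constructor
      · intro hu
        rwa [habel hu.1 w hw, mul_inv_cancel_right]
      · intro hu
        have hu' : u = w⁻¹ * (w * u * w⁻¹) * w := by group
        rw [hu', habel hu.1 w⁻¹ (W.inv_mem hw), inv_mul_cancel_right]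
        exact hu
  have hUP : U ≤ P1 := inf_le_left.trans le_sup_right
  have : (U.subgroupOf P1).Normal := (Subgroup.normal_subgroupOf_iff_le_normalizer hUP).2 hP1n
  have hWn : (W.subgroupOf P1).Normal :=
    (Subgroup.normal_subgroupOf_iff_le_normalizer le_sup_right).2 (sup_le hPW Subgroup.le_normalizer)
  have hne : (W.subgroupOf P1).map (QuotientGroup.mk' (U.subgroupOf P1)) ≠ ⊥ := by
    intro e
    rw [Subgroup.map_eq_bot_iff, QuotientGroup.ker_mk'] at e
    exact hcon fun w hw =>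
      Subgroup.mem_centralizer_singleton_iff.1 (e (show (⟨w, le_sup_right (a := P) hw⟩ : P1) ∈ _ from hw)).2
  have := hWn.map _ (QuotientGroup.mk'_surjective (U.subgroupOf P1))
  obtain ⟨⟨q, hq⟩, hq1⟩ := (Subgroup.ne_bot_iff_exists_ne_one.1
    (CfsgLib.PGroups.inf_center_ne_bot (hP1.to_quotient (U.subgroupOf P1)) hne))
  obtain ⟨⟨w, hwW, hwq⟩, hqc⟩ := hq
  have hqc' := Subgroup.mem_center_iff.1 hqc
  subst hwq
  have hwU : (w : G) ∉ U := fun h => hq1 (Subtype.ext ((QuotientGroup.eq_one_iff w).2 h))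
  set z := k * (w : G) * k⁻¹ * (w : G)⁻¹
  have hzW : z ∈ W := W.mul_mem ((Subgroup.mem_normalizer_iff.1 hk _).1 hwW) (W.inv_mem hwW)
  have hzfix : z ∈ W ⊓ Subgroup.centralizer (P : Set G) := by
    refine ⟨hzW, fun t ht => ?_⟩
    have h1 := QuotientGroup.eq.1 (hqc' (QuotientGroup.mk ⟨t, (le_sup_left : P ≤ P1) ht⟩))
    rw [Subgroup.mem_subgroupOf] at h1
    simp only [Subgroup.coe_mul, Subgroup.coe_inv] at h1
    set u := (t * (w : G))⁻¹ * ((w : G) * t)
    have hu : u ∈ U := h1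
    have htw : t * (w : G) * t⁻¹ = (w : G) * (t * u⁻¹ * t⁻¹) := by simp [u]; group
    have hu' : t * u⁻¹ * t⁻¹ ∈ U :=
      (Subgroup.mem_normalizer_iff.1 (hPn ht) _).1 (U.inv_mem hu)
    generalize t * u⁻¹ * t⁻¹ = v at htw hu'
    have hkv : k * v * k⁻¹ = v := by
      rw [← Subgroup.mem_centralizer_singleton_iff.1 hu'.2, mul_inv_cancel_right]
    have hc := hcomm' t ht ((k * (w : G) * k⁻¹) * v)
      (W.mul_mem ((Subgroup.mem_normalizer_iff.1 hk _).1 hwW) hu'.1)
    have e : t * z * t⁻¹ = z := by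
      calc t * z * t⁻¹ = (t * k * t⁻¹ * k⁻¹) * ((k * (w : G) * k⁻¹) * (k * v * k⁻¹)) *
            (t * k * t⁻¹ * k⁻¹)⁻¹ * (t * (w : G) * t⁻¹)⁻¹ := by
              rw [show (k * (w : G) * k⁻¹) * (k * v * k⁻¹) = k * ((w : G) * v) * k⁻¹ by group, ← htw]
              simp only [z]; group
        _ = z := by
              rw [hkv, ← hc, mul_inv_cancel_right, htw]
              simp only [z]; group
    calc t * z = t * z * t⁻¹ * t := by group
      _ = z * t := by rw [e]
  have hkz : k * z = z * k := (Subgroup.mem_centralizer_singleton_iff.1 (hfix hzfix)).symm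
  have h2 := conj_pow_of_commute (x := (w : G)) (c := k) (z := z) (by simp [z]) hkz (orderOf k)
  rw [pow_orderOf_eq_one, one_mul, inv_one, mul_one] at h2
  have hzn : z ^ orderOf k = 1 := right_eq_mul.1 h2
  obtain ⟨j, hj⟩ := hW ⟨z, hzW⟩
  have hzp : z ^ p ^ j = 1 := by simpa using congrArg Subtype.val hj
  have hz1 : z = 1 := by
    have := pow_gcd_eq_one.2 ⟨hzn, hzp⟩
    rwa [(Nat.Coprime.pow_right j hcop).gcd_eq_one, pow_one] at this
  refine hwU ⟨hwW, Subgroup.mem_centralizer_singleton_iff.2 ?_⟩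
  symm
  calc k * (w : G) = z * (w : G) * k := by simp [z]
    _ = (w : G) * k := by rw [hz1, one_mul]

/-- For a normal subgroup `L` of `L₁`, `Y_L` and `Y_{L₁}` have the same centralizer in `L`. -/
theorem inf_centralizer_largest {L₁ L : Subgroup G} (hLL : L ≤ L₁)
    (hn : L₁ ≤ Subgroup.normalizer (L : Set G)) :
    L ⊓ Subgroup.centralizer (largestPReducedOf p L₁ : Set G) =
      L ⊓ Subgroup.centralizer (largestPReducedOf p L : Set G) := by
  set Y₁ := largestPReducedOf p L₁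
  set Y := largestPReducedOf p L
  obtain ⟨h1, h2⟩ := (isPRedIn_largest (p := p) L₁).inf_normal hLL hn
  have hY := isPRedIn_largest (p := p) L
  refine le_antisymm ?_ (h2 ▸ inf_le_inf_left _ (Subgroup.centralizer_le h1.le_largest))
  -- a minimal invariant subgroup of `Y` with the same centralizer in `L`
  obtain ⟨W, ⟨hWY, hWn, hWC⟩, hmin⟩ := ({W : Subgroup G | W ≤ Y ∧
      L₁ ≤ Subgroup.normalizer (W : Set G) ∧
      L ⊓ Subgroup.centralizer (W : Set G) ≤ Subgroup.centralizer (Y : Set G)}).toFinite.exists_minimalFor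
    id _ ⟨Y, le_rfl, hn.trans largestPReducedOf_le_normalizer, inf_le_right⟩
  have hWel := elemAbelian_mono hY.2.2.1 hWY
  suffices hWred : IsPRedIn p W L₁ from
    le_inf inf_le_left ((inf_le_inf_left _ (Subgroup.centralizer_le hWred.le_largest)).trans hWC)
  refine ⟨(hWY.trans hY.1).trans hLL, hWn, hWel, fun D₀ hD₀L hD₀n hD₀p => ?_⟩
  set CW := Subgroup.centralizer (W : Set G)
  have hCWn : L₁ ≤ Subgroup.normalizer (CW : Set G) := hWn.trans (normalizer_le_normalizer_centralizer _)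
  set C₁ := L₁ ⊓ CW
  have hC₁n : L₁ ≤ Subgroup.normalizer (C₁ : Set G) :=
    (le_inf Subgroup.le_normalizer hCWn).trans Subgroup.inf_normalizer_le_normalizer_inf
  set D := D₀ ⊔ C₁
  have hDp : PPow p D CW := ppow_sup (hD₀L.trans hC₁n) (inf_le_left.trans hCWn) hD₀p
    (fun a ha => ⟨0, by rw [pow_zero, pow_one]; exact ha.2⟩)
  have hDL : D ≤ L₁ := sup_le hD₀L inf_le_left
  have hDn : L₁ ≤ Subgroup.normalizer (D : Set G) := fun g hg => by
    apply mem_normalizer_of_conj
    rw [Subgroup.map_sup, conj_map_eq_of_mem_normalizer (hD₀n hg),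
      conj_map_eq_of_mem_normalizer (hC₁n hg)]
  have hDLC : D ⊓ L ≤ CW := by
    refine (hY.2.2.2 (D ⊓ L) inf_le_right ((le_inf (hLL.trans hDn) Subgroup.le_normalizer).trans
      Subgroup.inf_normalizer_le_normalizer_inf) fun d hd => ?_).trans (Subgroup.centralizer_le hWY)
    obtain ⟨k, hk⟩ := hDp d hd.1
    exact ⟨k, hWC ⟨L.pow_mem hd.2 _, hk⟩⟩
  set W' := W ⊓ Subgroup.centralizer (D : Set G)
  have hW'n : L₁ ≤ Subgroup.normalizer (W' : Set G) :=
    (le_inf hWn (hDn.trans (normalizer_le_normalizer_centralizer _))).trans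
      Subgroup.inf_normalizer_le_normalizer_inf
  suffices hK : L ⊓ Subgroup.centralizer (W' : Set G) ≤ Subgroup.centralizer (Y : Set G) from
    le_sup_left.trans (Subgroup.le_centralizer_iff.1
      ((hmin ⟨inf_le_left.trans hWY, hW'n, hK⟩ inf_le_left).trans inf_le_right))
  refine hY.2.2.2 _ inf_le_left ?_ fun x hx => ?_
  · exact (le_inf Subgroup.le_normalizer
      (hLL.trans (hW'n.trans (normalizer_le_normalizer_centralizer _)))).trans
      Subgroup.inf_normalizer_le_normalizer_inf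
  obtain ⟨j, m, hm, hord⟩ := Nat.exists_eq_pow_mul_and_not_dvd (orderOf_pos x).ne' p
    (Fact.out : p.Prime).ne_one
  refine ⟨j, hWC ⟨L.pow_mem hx.1 _, ?_⟩⟩
  obtain ⟨S⟩ : Nonempty (Sylow p L₁) := inferInstance
  set P := (S : Subgroup L₁).map L₁.subtype ⊓ D
  have hkL : x ^ p ^ j ∈ L := L.pow_mem hx.1 _
  refine le_centralizer_of_fixes_fixed (W := W) (P := P)
    (isPGroup_of_exponent (elemAbelian_iff.1 hWel).2) ((S.isPGroup'.map _).to_le inf_le_left)
    (elemAbelian_le_centralizer hWel) ((inf_le_right.trans hDL).trans hWn) ((hLL.trans hWn) hkL)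
    ?_ (fun t ht => hDLC ⟨?_, ?_⟩) ?_
  · have : orderOf (x ^ p ^ j) = m := by
      rw [orderOf_pow' x (pow_ne_zero _ (Fact.out : p.Prime).ne_zero), hord,
        Nat.gcd_eq_right (Dvd.intro m rfl),
        Nat.mul_div_cancel_left _ (pow_pos (Fact.out : p.Prime).pos j)]
    rw [this]
    exact ((Nat.Prime.coprime_iff_not_dvd Fact.out).2 hm).symm
  · rw [mul_assoc t⁻¹ _ t, mul_assoc t⁻¹]
    exact D.mul_mem (D.inv_mem ht.2) ((Subgroup.mem_normalizer_iff.1 (hDn (hLL hkL)) t).1 ht.2)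
  · exact L.mul_mem (by
      simpa using (Subgroup.mem_normalizer_iff.1 (hn (L₁.inv_mem (hDL ht.2))) _).1 hkL) (L.inv_mem hkL)
  · intro w hw
    rw [Subgroup.mem_centralizer_singleton_iff]
    refine ((L ⊓ Subgroup.centralizer (W' : Set G)).pow_mem hx (p ^ j)).2 w ⟨hw.1, fun d hd => ?_⟩
    obtain ⟨s, hs, c, hc, rfl⟩ := exists_sylow_mul_centralizer hWn hDL hDn hDp S hd
    have hsD : s ∈ D := by
      have := D.mul_mem hd (D.inv_mem ((le_sup_right : C₁ ≤ D) hc))
      simpa using this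
    have h1 := hw.2 s ⟨hs, hsD⟩
    have h2 := hc.2 w hw.1
    rw [mul_assoc, ← h2, ← mul_assoc, h1, mul_assoc]

theorem subnormal_largest {L : Subgroup G} (hL : L.IsSubnormal) :
    IsPRedIn p (largestPReduced p G ⊓ L) L ∧
      L ⊓ Subgroup.centralizer (largestPReducedOf p L : Set G) =
        L ⊓ Subgroup.centralizer (largestPReduced p G : Set G) ∧
      L ⊓ Subgroup.centralizer ((largestPReduced p G ⊓ L : Subgroup G) : Set G) =
        L ⊓ Subgroup.centralizer (largestPReduced p G : Set G) := by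
  have hT : IsPRedIn p (largestPReduced p G) ⊤ :=
    isPReducedNormal_iff.1 (isPReducedNormal_largestPReduced p G)
  induction hL with
  | top =>
    have e : largestPReducedOf p (⊤ : Subgroup G) = largestPReduced p G :=
      le_antisymm (le_sSup (isPReducedNormal_iff.2 (isPRedIn_largest (p := p) (⊤ : Subgroup G))))
        hT.le_largest
    simp [e, hT]
  | step L K hle hK hN ih =>
    obtain ⟨h1, h2, h3⟩ := ih
    have hKn := (Subgroup.normal_subgroupOf_iff_le_normalizer hle).1 hN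
    obtain ⟨g1, g2⟩ := h1.inf_normal hle hKn
    rw [inf_assoc, inf_eq_right.2 hle] at g1 g2
    refine ⟨g1, ?_, ?_⟩
    · rw [← inf_centralizer_largest hle hKn, ← inf_eq_left.2 hle, inf_assoc, h2, inf_assoc]
    · rw [g2, ← inf_eq_left.2 hle, inf_assoc, h3, inf_assoc]

end CfsgLib.LocalEven
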