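import Cfsg.Prelude.Def_JComponents
import Cfsg.Agent.Lib.LocalEven.CharP
import Cfsg.Agent.Lib.LocalEven.Subnormal
import Cfsg.Agent.Lib.Coprime.Action2
import Cfsg.Agent.Lib.PLocal.OffenderCoprime
import Cfsg.Agent.Lib.PGroups.Basic
import Cfsg.Agent.Lib.PLocal.Stable

/-!
Elementary facts about `J`-components: the part generated by elements of odd order, the
four-group `W_K`, and the behaviour of a transvection on it.
-/

set_option autoImplicit false
set_option linter.style.haveILetI false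
set_option linter.unusedSectionVars false

namespace CfsgLib.LocalEven.JComp

open Cfsg
open scoped commutatorElement

variable {G : Type*} [Group G]

/-- The subgroup generated by the elements of odd order of `K`. -/
def oddGen (K : Subgroup G) : Subgroup G := Subgroup.closure {g : G | g ∈ K ∧ Odd (orderOf g)}

theorem oddGen_le (K : Subgroup G) : oddGen K ≤ K := (Subgroup.closure_le _).2 fun _ h => h.1

theorem mem_oddGen {K : Subgroup G} {g : G} (hg : g ∈ K) (ho : Odd (orderOf g)) : g ∈ oddGen K :=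
  Subgroup.subset_closure ⟨hg, ho⟩

/-- An element of odd order having a power `2 ^ n` in `K` lies in `K`. -/
theorem mem_of_ppow {X K : Subgroup G} (h : CfsgLib.LocalEven.PPow 2 X K) {x : G} (hx : x ∈ X)
    (ho : Odd (orderOf x)) : x ∈ K := by
  obtain ⟨n, hn⟩ := h x hx
  obtain ⟨m, hm⟩ := exists_pow_eq_self_of_coprime
    (x := x) (n := 2 ^ n) (Nat.Coprime.pow_left n (Nat.coprime_two_left.2 ho))
  rw [← hm]
  exact K.pow_mem hn m

theorem ppow_of_isPGroup {P : Subgroup G} (hP : IsPGroup 2 P) (K : Subgroup G) :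
    CfsgLib.LocalEven.PPow 2 P K := fun a ha => by
  obtain ⟨n, hn⟩ := hP ⟨a, ha⟩
  refine ⟨n, ?_⟩
  have : a ^ 2 ^ n = 1 := by simpa using congrArg Subtype.val hn
  rw [this]; exact one_mem _

theorem mem_of_odd_sup {K P : Subgroup G} (hP : IsPGroup 2 P)
    (hn : P ≤ Subgroup.normalizer (K : Set G)) {x : G} (hx : x ∈ P ⊔ K) (ho : Odd (orderOf x)) :
    x ∈ K :=
  mem_of_ppow (CfsgLib.LocalEven.ppow_sup hn Subgroup.le_normalizer (ppow_of_isPGroup hP K)
    fun a ha => ⟨0, by simpa using ha⟩) hx ho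

theorem oddGen_le_of_sup {K P : Subgroup G} (hP : IsPGroup 2 P)
    (hn : P ≤ Subgroup.normalizer (K : Set G)) : oddGen (P ⊔ K) ≤ K :=
  (Subgroup.closure_le _).2 fun _ h => mem_of_odd_sup hP hn h.1 h.2

theorem map_oddGen {H : Type*} [Group H] {f : G →* H} (hf : Function.Injective f) (K : Subgroup G) :
    (oddGen K).map f = oddGen (K.map f) := by
  rw [oddGen, oddGen, MonoidHom.map_closure]
  congr 1
  ext y
  constructor
  · rintro ⟨x, ⟨hx, ho⟩, rfl⟩
    exact ⟨⟨x, hx, rfl⟩, by rwa [orderOf_injective f hf]⟩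
  · rintro ⟨⟨x, hx, rfl⟩, ho⟩
    exact ⟨x, ⟨hx, by rwa [orderOf_injective f hf] at ho⟩, rfl⟩

/-- The intrinsic conditions on a `J`-component. -/
structure IsPre (K : Subgroup G) : Prop where
  gen : oddGen K = K
  index : (pCoreOf 2 K).relIndex K = 3
  card_w : Nat.card ↥(wOf K) = 4
  sq : ∀ w ∈ wOf K, w * w = 1

/-- The intrinsic conditions on a `J`-component, with the action of `J`. -/
structure IsComp (J K : Subgroup G) : Prop extends IsPre K where
  comm : ⁅K, J⁆ = K

theorem isComp_of {T K : Subgroup G} (h : Cfsg.IsJComponent T K) :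
    IsComp (thompsonSubgroupOf 2 T) K :=
  { gen := h.1, comm := h.2.1, index := h.2.2.1, card_w := h.2.2.2.2.1, sq := h.2.2.2.2.2 }

theorem map_omegaCenterOf {H : Type*} [Group H] {f : G →* H} (hf : Function.Injective f)
    (X : Subgroup G) : (omegaCenterOf X).map f = omegaCenterOf (X.map f) := by
  rw [omegaCenterOf, omegaCenterOf, CfsgLib.PLocal.map_omegaOne hf,
    CfsgLib.PLocal.map_inf_centralizer hf]

theorem map_wOf {H : Type*} [Group H] {f : G →* H} (hf : Function.Injective f)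
    (K : Subgroup G) : (wOf K).map f = wOf (K.map f) := by
  rw [wOf, wOf, Subgroup.map_commutator, map_omegaCenterOf hf, CfsgLib.LocalEven.map_pCoreOf 2 f hf]

theorem isComp_map_iff {H : Type*} [Group H] {f : G →* H} (hf : Function.Injective f)
    (J K : Subgroup G) : IsComp (J.map f) (K.map f) ↔ IsComp J K := by
  have e1 : Nat.card ↥(wOf (K.map f)) = Nat.card ↥(wOf K) := by
    rw [← map_wOf hf]; exact Subgroup.card_map_of_injective hf
  have e2 : (pCoreOf 2 (K.map f)).relIndex (K.map f) = (pCoreOf 2 K).relIndex K := by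
    rw [← CfsgLib.LocalEven.map_pCoreOf 2 f hf, Subgroup.relIndex_map_map_of_injective _ _ hf]
  constructor
  · rintro ⟨⟨h1, h3, h4, h5⟩, h2⟩
    refine ⟨⟨Subgroup.map_injective hf ((map_oddGen hf K).trans h1), e2 ▸ h3, e1 ▸ h4,
      fun w hw => hf ?_⟩, Subgroup.map_injective hf ((Subgroup.map_commutator K J f).trans h2)⟩
    rw [map_mul, map_one]
    exact h5 _ (map_wOf hf K ▸ Subgroup.mem_map_of_mem f hw)
  · rintro ⟨⟨h1, h3, h4, h5⟩, h2⟩
    refine ⟨⟨by rw [← map_oddGen hf, h1], e2.trans h3, e1.trans h4, fun w hw => ?_⟩,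
      by rw [← Subgroup.map_commutator, h2]⟩
    rw [← map_wOf hf] at hw
    obtain ⟨v, hv, rfl⟩ := hw
    rw [← map_mul, h5 v hv, map_one]

theorem IsComp.conj {J K : Subgroup G} (h : IsComp J K) (g : G) :
    IsComp (J.map (MulAut.conj g).toMonoidHom) (K.map (MulAut.conj g).toMonoidHom) :=
  (isComp_map_iff (MulAut.conj g).injective J K).2 h

theorem IsComp.le_normalizer [Finite G] {J K : Subgroup G} (h : IsComp J K) :
    J ≤ Subgroup.normalizer (K : Set G) := by
  rw [Subgroup.le_normalizer_iff_commutator_le_left]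
  exact h.comm.le

/-- A subgroup normalized by `K` and `J` and normalizing `J` normalizes `K`. -/
theorem IsComp.le_normalizer_of [Finite G] {J K : Subgroup G} (h : IsComp J K) (hJ : IsPGroup 2 J)
    {Q : Subgroup G} (hKQ : K ⊔ J ≤ Subgroup.normalizer (Q : Set G))
    (hQJ : Q ≤ Subgroup.normalizer (J : Set G)) : Q ≤ Subgroup.normalizer (K : Set G) := by
  intro q hq
  have hqJ : ∀ j ∈ J, q * j * q⁻¹ ∈ J := fun j hj => (Subgroup.mem_normalizer_iff.1 (hQJ hq) j).1 hj
  have hKle : K ≤ (J ⊔ K).comap (MulAut.conj q).toMonoidHom := by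
    conv_lhs => rw [← h.comm]
    rw [Subgroup.commutator_le]
    intro k hk j hj
    show q * ⁅k, j⁆ * q⁻¹ ∈ J ⊔ K
    have hlq : k⁻¹ * q * k ∈ Q := by
      simpa using (Subgroup.mem_normalizer_iff.1 (hKQ ((K ⊔ J).inv_mem (Subgroup.mem_sup_left hk))) q).1 hq
    have hj' := (Subgroup.mem_normalizer_iff.1 (hQJ hlq) j).1 hj
    have h1 : q * (k * j * k⁻¹) * q⁻¹ ∈ J ⊔ K := by
      have hkS : k ∈ J ⊔ K := Subgroup.mem_sup_right hk
      have := mul_mem (mul_mem hkS (Subgroup.mem_sup_left (T := K) hj')) (inv_mem hkS)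
      convert this using 1
      group
    have h2 : q * j⁻¹ * q⁻¹ ∈ J ⊔ K := Subgroup.mem_sup_left (hqJ _ (inv_mem hj))
    convert mul_mem h1 h2 using 1
    rw [commutatorElement_def]
    group
  have hqK : K.map (MulAut.conj q).toMonoidHom ≤ K := by
    rw [Subgroup.map_le_iff_le_comap]
    conv_lhs => rw [← h.gen, oddGen]
    rw [Subgroup.closure_le]
    rintro x ⟨hx, hxo⟩
    refine mem_of_odd_sup hJ h.le_normalizer (hKle hx) ?_
    rwa [show (MulAut.conj q).toMonoidHom x = MulAut.conj q x from rfl, MulEquiv.orderOf_eq]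
  rw [Subgroup.mem_normalizer_iff_map_conj_eq]
  exact Subgroup.eq_of_le_of_card_ge hqK
    (Nat.card_congr (Subgroup.equivMapOfInjective K _ (MulAut.conj q).injective).toEquiv).le

/-! ### The module `W_K` -/

theorem isElementaryAbelian_omegaCenterOf (X : Subgroup G) :
    IsElementaryAbelian 2 (omegaCenterOf X) :=
  CfsgLib.PLocal.isElementaryAbelian_omegaOne
    (CfsgLib.PLocal.inf_centralizer_le_centralizer X)

theorem omegaCenterOf_le (X : Subgroup G) : omegaCenterOf X ≤ X :=
  (CfsgLib.PLocal.omegaOne_le 2 _).trans inf_le_left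

theorem omegaCenterOf_le_centralizer (X : Subgroup G) :
    omegaCenterOf X ≤ Subgroup.centralizer (X : Set G) :=
  (CfsgLib.PLocal.omegaOne_le 2 _).trans inf_le_right

theorem normalizer_le_normalizer_omegaCenterOf (X : Subgroup G) :
    Subgroup.normalizer (X : Set G) ≤ Subgroup.normalizer (omegaCenterOf X : Set G) := fun g hg => by
  rw [Subgroup.mem_normalizer_iff_map_conj_eq] at hg ⊢
  rw [map_omegaCenterOf (MulAut.conj g).injective, hg]

theorem normalizer_le_normalizer_wOf (K : Subgroup G) :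
    Subgroup.normalizer (K : Set G) ≤ Subgroup.normalizer (wOf K : Set G) := fun g hg => by
  rw [Subgroup.mem_normalizer_iff_map_conj_eq] at hg ⊢
  rw [map_wOf (MulAut.conj g).injective, hg]

theorem le_normalizer_omega_pCore (K : Subgroup G) :
    K ≤ Subgroup.normalizer (omegaCenterOf (pCoreOf 2 K) : Set G) :=
  (CfsgLib.LocalEven.le_normalizer_pCoreOf 2 K).trans (normalizer_le_normalizer_omegaCenterOf _)

theorem wOf_le (K : Subgroup G) : wOf K ≤ omegaCenterOf (pCoreOf 2 K) :=
  Subgroup.le_normalizer_iff_commutator_le_left.1 (le_normalizer_omega_pCore K)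

variable [Finite G]

/-- For `K` generated by elements of odd order acting on an abelian `2`-group, `[V, K, K] = [V, K]`. -/
theorem commutator_commutator_eq {V K : Subgroup G} (hK : oddGen K = K)
    (hV : IsElementaryAbelian 2 V) (hn : K ≤ Subgroup.normalizer (V : Set G)) :
    ⁅⁅V, K⁆, K⁆ = ⁅V, K⁆ := by
  have hle : ⁅V, K⁆ ≤ V := Subgroup.le_normalizer_iff_commutator_le_left.1 hn
  refine le_antisymm (Subgroup.commutator_mono hle le_rfl) ?_
  set X2 := ⁅⁅V, K⁆, K⁆
  have hX2 : X2 ≤ V := (Subgroup.commutator_mono hle le_rfl).trans hle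
  have habel : ∀ a ∈ V, ∀ b ∈ V, a * b = b * a := fun a ha b hb =>
    CfsgLib.PLocal.comm_of_mem hV.1 ha hb
  have key : ∀ k ∈ K, ∀ v ∈ V, ⁅v, k⁆ ∈ X2 := by
    intro k hk
    rw [← hK] at hk
    refine Subgroup.closure_induction (p := fun k _ => ∀ v ∈ V, ⁅v, k⁆ ∈ X2) ?_ ?_ ?_ ?_ hk
    · rintro y ⟨hy, ho⟩ v hv
      have hyV : Subgroup.zpowers y ≤ Subgroup.normalizer (V : Set G) := Subgroup.zpowers_le.2 (hn hy)
      obtain ⟨n, hn'⟩ := IsPGroup.iff_card.1 (CfsgLib.PLocal.isPGroup_of_isElementaryAbelian hV)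
      have hcop : (Nat.card (Subgroup.zpowers y)).Coprime (Nat.card V) := by
        rw [Nat.card_zpowers, hn']
        exact Nat.Coprime.pow_right _ (Nat.coprime_two_right.2 ho)
      haveI := hV.1
      have := CfsgLib.Coprime.commutator_commutator_eq hyV hcop
        (Or.inr (Group.isSolvable_of_comm fun a b => Subtype.ext (CfsgLib.PLocal.comm_of_mem hV.1 a.2 b.2)))
      exact Subgroup.commutator_mono (Subgroup.commutator_mono le_rfl (Subgroup.zpowers_le.2 hy))
        (Subgroup.zpowers_le.2 hy) (this.ge (Subgroup.commutator_mem_commutator hv (Subgroup.mem_zpowers y)))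
    · intro v _; simp
    · intro a b ha _ iha ihb v hv
      have ha' : a ∈ K := hK ▸ ha
      have haX : a ∈ Subgroup.normalizer (X2 : Set G) :=
        Subgroup.normalizer_commutator_ge_right _ _ ha'
      have e : ⁅v, a * b⁆ = ⁅v, a⁆ * (a * ⁅v, b⁆ * a⁻¹) := by
        simp only [commutatorElement_def]; group
      rw [e]
      exact mul_mem (iha v hv) ((Subgroup.mem_normalizer_iff.1 haX _).1 (ihb v hv))
    · intro a ha iha v hv
      have ha' : a ∈ K := hK ▸ ha
      have hv' : a⁻¹ * v * a ∈ V := by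
        simpa using (Subgroup.mem_normalizer_iff.1 (hn (inv_mem ha')) v).1 hv
      have := iha _ hv'
      have haX : a⁻¹ ∈ Subgroup.normalizer (X2 : Set G) :=
        Subgroup.normalizer_commutator_ge_right _ _ (inv_mem ha')
      have h2 := (Subgroup.mem_normalizer_iff.1 haX _).1 (inv_mem (iha v hv))
      have e : ⁅v, a⁻¹⁆ = a⁻¹ * ⁅v, a⁆⁻¹ * a⁻¹⁻¹ := by
        simp only [commutatorElement_def]; group
      rw [e]
      exact h2
  exact Subgroup.commutator_le.2 fun v hv k hk => key k hk v hv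

theorem IsPre.wOf_comm {K : Subgroup G} (h : IsPre K) : ⁅wOf K, K⁆ = wOf K :=
  commutator_commutator_eq h.gen (isElementaryAbelian_omegaCenterOf _) (le_normalizer_omega_pCore K)

theorem IsPre.wOf_ne_bot {K : Subgroup G} (h : IsPre K) : wOf K ≠ ⊥ := by
  intro e
  have := h.card_w
  rw [e, Subgroup.card_bot] at this
  omega

theorem IsPre.le_normalizer_w {K : Subgroup G} (_ : IsPre K) :
    K ≤ Subgroup.normalizer (wOf K : Set G) :=
  Subgroup.le_normalizer.trans (normalizer_le_normalizer_wOf K)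

theorem centralizes_of_card_two {U : Subgroup G} (hU : Nat.card U = 2) :
    Subgroup.normalizer (U : Set G) ≤ Subgroup.centralizer (U : Set G) := by
  intro g hg u hu
  by_cases hu1 : u = 1
  · simp [hu1]
  have h2 : g * u * g⁻¹ = u := by
    obtain ⟨y, -, hy⟩ := (Nat.card_eq_two_iff' (1 : U)).1 hU
    have key : ∀ a : U, a = 1 ∨ a = ⟨u, hu⟩ := fun a => by
      by_cases ha : a = 1
      · exact Or.inl ha
      · refine Or.inr ((hy a ha).trans (hy ⟨u, hu⟩ fun e => hu1 (congrArg Subtype.val e)).symm)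
    rcases key ⟨_, (Subgroup.mem_normalizer_iff.1 hg u).1 hu⟩ with e | e
    · have := congrArg Subtype.val e
      simp only [Subgroup.coe_one] at this
      exact absurd (by simpa using this) hu1
    · exact congrArg Subtype.val e
  calc u * g = g * u * g⁻¹ * g := by rw [h2]
    _ = g * u := by group

/-- `K` fixes no nonidentity element of `W_K`. -/
theorem IsPre.inf_centralizer_w {K : Subgroup G} (h : IsPre K) :
    wOf K ⊓ Subgroup.centralizer (K : Set G) = ⊥ := by
  set W := wOf K with hW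
  have hWe : IsElementaryAbelian 2 W :=
    CfsgLib.PLocal.isElementaryAbelian_of_le (isElementaryAbelian_omegaCenterOf _) (wOf_le K)
  haveI := hWe.1
  obtain ⟨y, hy, ho, hne⟩ : ∃ y ∈ K, Odd (orderOf y) ∧ ¬ y ∈ Subgroup.centralizer (W : Set G) := by
    by_contra hno
    push Not at hno
    refine h.wOf_ne_bot ?_
    rw [← h.wOf_comm, Subgroup.commutator_comm, Subgroup.commutator_eq_bot_iff_le_centralizer]
    conv_lhs => rw [← h.gen, oddGen]
    exact (Subgroup.closure_le _).2 fun g hg => hno g hg.1 hg.2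
  have hyW : Subgroup.zpowers y ≤ Subgroup.normalizer (W : Set G) :=
    Subgroup.zpowers_le.2 (h.le_normalizer_w hy)
  have hcop : (Nat.card (Subgroup.zpowers y)).Coprime (Nat.card W) := by
    rw [Nat.card_zpowers, hW, h.card_w, show (4 : ℕ) = 2 ^ 2 by norm_num]
    exact Nat.Coprime.pow_right _ (Nat.coprime_two_right.2 ho)
  have h1 := CfsgLib.Coprime.centralizer_inf_commutator_eq_bot hyW hcop
  have h2 := CfsgLib.Coprime.commutator_sup_centralizer hyW hcop
    (Or.inr (Group.isSolvable_of_comm fun a b => Subtype.ext (CfsgLib.PLocal.comm_of_mem hWe.1 a.2 b.2)))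
  set X := ⁅W, Subgroup.zpowers y⁆ with hX
  set C := W ⊓ Subgroup.centralizer ((Subgroup.zpowers y : Subgroup G) : Set G)
  have hXne : X ≠ ⊥ := fun e => hne
    (Subgroup.le_centralizer_iff.1 (Subgroup.commutator_eq_bot_iff_le_centralizer.1 e) (Subgroup.mem_zpowers y))
  have hcard : Nat.card X * Nat.card C = 4 := by
    rw [← h.card_w]
    have := CfsgLib.Coprime.card_sup_mul_card_inf (H := X) (N := C)
      ((Subgroup.le_normalizer_iff_commutator_le_left.1 hyW).trans
        (CfsgLib.PLocal.le_normalizer_of_abelian hWe.1 inf_le_left))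
    rw [h2, inf_comm, h1, Subgroup.card_bot, mul_one] at this
    exact this.symm
  by_contra hne'
  have hC1 : 2 ≤ Nat.card C := by
    have : C ≠ ⊥ := fun e => hne' (le_bot_iff.1 (e ▸ inf_le_inf_left _
      (Subgroup.centralizer_le (Subgroup.zpowers_le.2 hy))))
    exact (Subgroup.one_lt_card_iff_ne_bot C).2 this
  have hX1 : 2 ≤ Nat.card X := (Subgroup.one_lt_card_iff_ne_bot X).2 hXne
  have hX2 : Nat.card X = 2 := by nlinarith
  apply hXne
  rw [← h1, eq_comm]
  refine inf_eq_right.2 (le_inf (Subgroup.le_normalizer_iff_commutator_le_left.1 hyW) ?_)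
  refine Subgroup.le_centralizer_iff.1 ((Subgroup.normalizer_commutator_ge_right W _).trans
    (centralizes_of_card_two hX2))

/-- A nontrivial `K`-invariant subgroup of `W_K` is `W_K`. -/
theorem IsPre.eq_w_of_invariant {K U : Subgroup G} (h : IsPre K) (hU : U ≤ wOf K)
    (hU1 : U ≠ ⊥) (hn : K ≤ Subgroup.normalizer (U : Set G)) : U = wOf K := by
  refine Subgroup.eq_of_le_of_card_ge hU ?_
  rw [h.card_w]
  have h4 : Nat.card U ∣ 4 := h.card_w ▸ Subgroup.card_dvd_of_le hU
  have h2 : 2 ≤ Nat.card U := (Subgroup.one_lt_card_iff_ne_bot U).2 hU1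
  have hle : Nat.card U ≤ 4 := Nat.le_of_dvd (by norm_num) h4
  by_contra hlt
  have : Nat.card U = 2 := by interval_cases hc : Nat.card U <;> simp_all
  exact hU1 (le_bot_iff.1 (h.inf_centralizer_w ▸ le_inf hU
    (Subgroup.le_centralizer_iff.1 (hn.trans (centralizes_of_card_two this)))))

/-- A `2`-group normalizing `K` and acting on `W_K` compatibly with `K` centralizes `W_K`. -/
theorem IsPre.le_centralizer_w {K P : Subgroup G} (h : IsPre K) (hP : IsPGroup 2 P)
    (hPK : P ≤ Subgroup.normalizer (K : Set G))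
    (hc : ⁅P, K⁆ ≤ Subgroup.centralizer (wOf K : Set G)) :
    P ≤ Subgroup.centralizer (wOf K : Set G) := by
  set W := wOf K
  have hPW : P ≤ Subgroup.normalizer (W : Set G) := hPK.trans (normalizer_le_normalizer_wOf K)
  have hW2 : IsPGroup 2 W :=
    IsPGroup.of_card (n := 2) (by rw [h.card_w]; norm_num)
  set S := P ⊔ W
  have hS : IsPGroup 2 S := hP.to_sup_of_normal_right' hW2 hPW
  haveI : (W.subgroupOf S).Normal :=
    Subgroup.normal_subgroupOf_of_le_normalizer (sup_le hPW Subgroup.le_normalizer)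
  have hne := CfsgLib.PGroups.inf_center_ne_bot hS (N := W.subgroupOf S) (fun e => h.wOf_ne_bot (by
    show W = ⊥
    rw [← Subgroup.map_subgroupOf_eq_of_le (le_sup_right : W ≤ S), e, Subgroup.map_bot]))
  obtain ⟨⟨⟨w, hwS⟩, hw, hwc⟩, hw1⟩ := Subgroup.ne_bot_iff_exists_ne_one.1 hne
  have hU : w ∈ W ⊓ Subgroup.centralizer (P : Set G) := by
    refine ⟨hw, fun g hg => ?_⟩
    exact congrArg Subtype.val (Subgroup.mem_center_iff.1 hwc ⟨g, Subgroup.mem_sup_left hg⟩)
  have hKU : K ≤ Subgroup.normalizer ((W ⊓ Subgroup.centralizer (P : Set G) : Subgroup G) : Set G) := by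
    intro k hk
    refine CfsgLib.LocalEven.mem_normalizer_of_conj (Subgroup.eq_of_le_of_card_ge ?_
      (Nat.card_congr (Subgroup.equivMapOfInjective _ _ (MulAut.conj k).injective).toEquiv).le)
    rintro _ ⟨u, ⟨huW, huP⟩, rfl⟩
    refine ⟨(Subgroup.mem_normalizer_iff.1 (h.le_normalizer_w hk) u).1 huW, fun g hg => ?_⟩
    show g * (k * u * k⁻¹) = k * u * k⁻¹ * g
    have hc' := hc (Subgroup.commutator_mem_commutator hg hk) (k * u * k⁻¹)
      ((Subgroup.mem_normalizer_iff.1 (h.le_normalizer_w hk) u).1 huW)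
    calc g * (k * u * k⁻¹) = ⁅g, k⁆ * k * (g * u) * k⁻¹ := by
          simp only [commutatorElement_def]; group
      _ = ⁅g, k⁆ * (k * u * k⁻¹) * ⁅g, k⁆⁻¹ * g := by
          rw [huP g hg]; simp only [commutatorElement_def]; group
      _ = k * u * k⁻¹ * g := by rw [← hc', mul_inv_cancel_right]
  have e := h.eq_w_of_invariant inf_le_left (fun e => hw1 (by
    rw [e] at hU; exact Subtype.ext (Subtype.ext (Subgroup.mem_bot.1 hU)))) hKU
  exact Subgroup.le_centralizer_iff.1 (e.symm.le.trans inf_le_right)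

/-- A transvection maps `[V, K]` to itself when `K` and its conjugate generate a `3`-group. -/
theorem mem_normalizer_of_transvection {V K : Subgroup G} {b : G}
    (hV : IsElementaryAbelian 2 V) (hKV : K ≤ Subgroup.normalizer (V : Set G))
    (hb : b ∈ Subgroup.normalizer (V : Set G)) (hW : Nat.card ↥⁅V, K⁆ = 4)
    (hWK : ⁅⁅V, K⁆, K⁆ = ⁅V, K⁆) (hbV : Nat.card ↥⁅V, Subgroup.zpowers b⁆ = 2)
    (h3 : IsPGroup 3 ↥(K ⊔ K.map (MulAut.conj b).toMonoidHom)) :
    b ∈ Subgroup.normalizer ((⁅V, K⁆ : Subgroup G) : Set G) := by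
  set W := ⁅V, K⁆ with hWd
  set c := ⁅V, Subgroup.zpowers b⁆ with hc
  set K' := K.map (MulAut.conj b).toMonoidHom with hK'
  set W' := W.map (MulAut.conj b).toMonoidHom with hW'
  have hbV' := Subgroup.mem_normalizer_iff_map_conj_eq.1 hb
  have eW' : W' = ⁅V, K'⁆ := by
    rw [hW', hWd, Subgroup.map_commutator]; exact congrArg (fun X : Subgroup G => ⁅X, K'⁆) hbV'
  have hWV : W ≤ V := Subgroup.le_normalizer_iff_commutator_le_left.1 hKV
  have hcV : c ≤ V := Subgroup.le_normalizer_iff_commutator_le_left.1 (Subgroup.zpowers_le.2 hb)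
  have hW'V : W' ≤ V := hbV' ▸ Subgroup.map_mono hWV
  have hK'V : K' ≤ Subgroup.normalizer (V : Set G) := by
    rintro _ ⟨k, hk, rfl⟩
    exact mul_mem (mul_mem hb (hKV hk)) (inv_mem hb)
  by_contra hne
  have hWW' : W' ≠ W := fun e => hne (Subgroup.mem_normalizer_iff_map_conj_eq.2 e)
  set U := W ⊔ W' with hU
  have hUV : U ≤ V := sup_le hWV hW'V
  have hUc : U ≤ c ⊔ W := by
    refine sup_le le_sup_right ?_
    rintro _ ⟨w, hw, rfl⟩
    show b * w * b⁻¹ ∈ _
    rw [show b * w * b⁻¹ = ⁅w, b⁆⁻¹ * w by simp only [commutatorElement_def]; group]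
    exact mul_mem (Subgroup.mem_sup_left (inv_mem (Subgroup.commutator_mem_commutator (hWV hw)
      (Subgroup.mem_zpowers b)))) (Subgroup.mem_sup_right hw)
  have hlt : 4 < Nat.card U := by
    by_contra hle
    refine hWW' (Subgroup.eq_of_le_of_card_ge ?_
      ((Nat.card_congr (Subgroup.equivMapOfInjective W _ (MulAut.conj b).injective).toEquiv).le))
    exact le_sup_right.trans
      (Subgroup.eq_of_le_of_card_ge (le_sup_left : W ≤ U) (by rw [hW]; exact Nat.not_lt.1 hle)).ge
  have h8 : Nat.card U = 8 := by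
    have h1 : Nat.card ↥(c ⊔ W) * Nat.card ↥(c ⊓ W) = Nat.card c * Nat.card W :=
      CfsgLib.Coprime.card_sup_mul_card_inf (CfsgLib.PLocal.le_normalizer_of_abelian hV.1 hWV |> hcV.trans)
    rw [hbV, hW] at h1
    have h2 : Nat.card ↥(c ⊔ W) ≤ 8 := by
      have : 1 ≤ Nat.card ↥(c ⊓ W) := Nat.card_pos
      nlinarith
    have h3 : Nat.card U ≤ 8 := (Subgroup.card_le_of_le hUc).trans h2
    obtain ⟨n, hn⟩ := IsPGroup.iff_card.1
      ((CfsgLib.PLocal.isPGroup_of_isElementaryAbelian hV).to_le hUV)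
    rw [hn] at hlt h3 ⊢
    rcases n with _ | _ | _ | _ | n
    · norm_num at hlt
    · norm_num at hlt
    · norm_num at hlt
    · norm_num
    · exfalso
      have : 2 ^ (n + 4) ≥ 16 := by
        rw [pow_add]; have := Nat.one_le_two_pow (n := n); omega
      omega
  set R := K ⊔ K' with hR
  have hRU : R ≤ Subgroup.normalizer (U : Set G) := by
    refine sup_le ?_ ?_ <;> rw [Subgroup.le_normalizer_iff_commutator_le_left]
    · exact (Subgroup.commutator_mono hUV le_rfl).trans le_sup_left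
    · exact (Subgroup.commutator_mono hUV le_rfl).trans (eW'.ge.trans le_sup_right)
  have hUR : U ≤ ⁅U, R⁆ := by
    refine sup_le ?_ ?_
    · exact hWK.ge.trans (Subgroup.commutator_mono le_sup_left le_sup_left)
    · calc W' = ⁅W', K'⁆ := by rw [hW', hK', ← Subgroup.map_commutator, hWK]
        _ ≤ ⁅U, R⁆ := Subgroup.commutator_mono le_sup_right le_sup_right
  letI : MulDistribMulAction ↥R ↥U :=
    MulDistribMulAction.compHom ↥U (CfsgLib.PLocal.actHom R U hRU)
  have hmod := h3.card_modEq_card_fixedPoints (α := ↥U)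
  rw [h8] at hmod
  have : 1 < Nat.card (MulAction.fixedPoints ↥R ↥U) := by
    by_contra hle
    interval_cases hcf : Nat.card (MulAction.fixedPoints ↥R ↥U) <;> simp [Nat.ModEq] at hmod
  obtain ⟨u, hu, hu1⟩ : ∃ u : ↥U, u ∈ MulAction.fixedPoints ↥R ↥U ∧ u ≠ 1 := by
    by_contra hno
    push Not at hno
    have : MulAction.fixedPoints ↥R ↥U ⊆ {1} := fun u hu => hno u hu
    have h1 := Nat.card_mono (Set.finite_singleton (1 : ↥U)) this
    rw [Nat.card_coe_set_eq ({1} : Set ↥U), Set.ncard_singleton] at h1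
    omega
  have huc : (u : G) ∈ U ⊓ Subgroup.centralizer (R : Set G) := by
    refine ⟨u.2, fun r hr => ?_⟩
    have := congrArg Subtype.val (hu ⟨r, hr⟩)
    change r * (u : G) * r⁻¹ = u at this
    exact mul_inv_eq_iff_eq_mul.1 this
  haveI := CfsgLib.PLocal.isElementaryAbelian_of_le hV hUV |>.1
  obtain ⟨n, hn⟩ := IsPGroup.iff_card.1 h3
  have hb0 := CfsgLib.Coprime.centralizer_inf_commutator_eq_bot hRU
    (by rw [hn, h8]; exact Nat.Coprime.pow_left _ (by norm_num))
  exact hu1 (Subtype.ext (Subgroup.mem_bot.1 (hb0 ▸ Subgroup.mem_inf.2 ⟨huc, hUR u.2⟩)))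

end CfsgLib.LocalEven.JComp
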