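import Cfsg.Agent.Lib.LocalEven.JCompCenter

/-!
The possibilities for `Ω₁(Z(J(T)))` and `Ω₁(Z(S))`.
-/

set_option autoImplicit false
set_option linter.style.haveILetI false
set_option linter.unusedSectionVars false

namespace CfsgLib.LocalEven.JComp

open Cfsg CfsgLib.PLocal
open scoped commutatorElement

variable {G : Type*} [Group G] [Finite G] {M T : Subgroup G}

theorem mul_mem_of_half {X Z : Subgroup G} (hXZ : X ≤ Z) (hc : Nat.card Z = 2 * Nat.card X) {u v : G}
    (hu : u ∈ Z) (huX : u ∉ X) (hv : v ∈ Z) (hvX : v ∉ X) : u * v ∈ X := by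
  have h2 : (X.subgroupOf Z).index = 2 := by
    have h := Subgroup.relIndex_mul_relIndex ⊥ X Z bot_le hXZ
    simp only [Subgroup.relIndex_bot_left] at h
    exact Nat.eq_of_mul_eq_mul_left Nat.card_pos (h.trans (hc.trans (mul_comm 2 _)))
  have := (Subgroup.mul_mem_iff_of_index_two h2 (a := ⟨u, hu⟩) (b := ⟨v, hv⟩)).2 (by
    simp only [Subgroup.mem_subgroupOf]; exact iff_of_false huX hvX)
  simpa [Subgroup.mem_subgroupOf] using this

theorem eq_of_card_eq_two {X : Subgroup G} (h : Nat.card X = 2) {x y : G} (hx : x ∈ X) (hx1 : x ≠ 1)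
    (hy : y ∈ X) (hy1 : y ≠ 1) : x = y := by
  obtain ⟨w, -, hw⟩ := (Nat.card_eq_two_iff' (1 : X)).1 h
  exact congrArg Subtype.val ((hw ⟨x, hx⟩ fun e => hx1 (congrArg Subtype.val e)).trans
    (hw ⟨y, hy⟩ fun e => hy1 (congrArg Subtype.val e)).symm)

namespace Ctx

variable (c : Ctx M T)
include c

theorem exists_normalizer_not_mem {L : Subgroup G} (hTL : IsSylowTwoIn T L) {S : Sylow 2 G}
    (hTS : T ≤ (S : Subgroup G)) (hne : T ≠ S) :
    ∃ g ∈ Subgroup.normalizer (T : Set G), g ∈ (S : Subgroup G) ∧ g ∉ L := by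
  have hlt : T.subgroupOf (S : Subgroup G) < ⊤ :=
    lt_top_iff_ne_top.2 fun h => hne (le_antisymm hTS (Subgroup.subgroupOf_eq_top.1 h))
  obtain ⟨⟨g, hgS⟩, hg, hgT⟩ := SetLike.exists_of_lt (CfsgLib.PGroups.lt_normalizer S.2 hlt)
  rw [← Subgroup.subgroupOf_normalizer_eq hTS] at hg
  refine ⟨g, hg, hgS, fun hgL => hgT ?_⟩
  set U := T ⊔ Subgroup.zpowers g
  have hU : IsPGroup 2 U := S.2.to_le (sup_le hTS (Subgroup.zpowers_le.2 hgS))
  have hUL : U ≤ L := sup_le hTL.1 (Subgroup.zpowers_le.2 hgL)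
  have hd : T.relIndex U ∣ T.relIndex L :=
    ⟨_, (Subgroup.relIndex_mul_relIndex T U L le_sup_left hUL).symm⟩
  obtain ⟨n, hn⟩ := IsPGroup.iff_card.1 hU
  have h2 : T.relIndex U ∣ 2 ^ n := by
    rw [← hn]
    have := Subgroup.relIndex_mul_relIndex ⊥ T U bot_le le_sup_left
    simp only [Subgroup.relIndex_bot_left] at this
    exact ⟨_, (mul_comm _ _).trans this |>.symm⟩
  have h1 : T.relIndex U = 1 := Nat.eq_one_of_dvd_coprimes
    (Nat.Coprime.pow_left n (Nat.coprime_two_left.2 hTL.2.2)) h2 hd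
  exact Subgroup.relIndex_eq_one.1 h1 (Subgroup.mem_sup_right (Subgroup.mem_zpowers g))

section

variable {K L : Subgroup G} {S : Sylow 2 G}

/-- Nontrivial elements of `Ω₁(Z(S))` and of the fixed points, in the case of four elements. -/
theorem four_setup (hK : IsComp (thompsonSubgroupOf 2 T) K) (hKj : IsJComponent T K)
    (hL : L ∈ jOvergroups T) (hTS : T ≤ (S : Subgroup G))
    (hX : Nat.card ↥(fix (thompsonSubgroupOf 2 T) K) = 2) :
    ∃ x z : G, x ∈ fix (thompsonSubgroupOf 2 T) K ∧ x ≠ 1 ∧ z ∈ omegaCenterOf (S : Subgroup G) ∧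
      z ≠ 1 ∧ z ≠ x ∧ Nat.card ↥(omegaCenterOf (thompsonSubgroupOf 2 T)) = 4 ∧
      ∀ u ∈ omegaCenterOf (thompsonSubgroupOf 2 T), u = 1 ∨ u = x ∨ u = z ∨ u = x * z := by
  obtain ⟨hc, -⟩ := c.card_center hKj
  obtain ⟨z, hz, hzX⟩ := SetLike.not_le_iff_exists.1 (c.center_not_le_fix hK (S := S))
  obtain ⟨⟨x, hx⟩, hx1⟩ := Subgroup.ne_bot_iff_exists_ne_one.1
    (fun e : fix (thompsonSubgroupOf 2 T) K = ⊥ => by rw [e, Subgroup.card_bot] at hX; omega)
  have hx1' : x ≠ 1 := fun e => hx1 (Subtype.ext e)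
  refine ⟨x, z, hx, hx1', hz, fun e => hzX (e ▸ one_mem _), fun e => hzX (e ▸ hx),
    by rw [hc, hX], fun u hu => ?_⟩
  have hzZ := c.center_le hL hTS hz
  have hz2 : z * z = 1 := by
    have := (isElementaryAbelian_omegaCenterOf _).2 z hz; rwa [pow_two] at this
  by_cases huX : u ∈ fix (thompsonSubgroupOf 2 T) K
  · by_cases hu1 : u = 1
    · exact Or.inl hu1
    · exact Or.inr (Or.inl (eq_of_card_eq_two hX huX hu1 hx hx1'))
  · have h := mul_mem_of_half inf_le_left hc hu huX hzZ hzX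
    by_cases h1 : u * z = 1
    · refine Or.inr (Or.inr (Or.inl ?_))
      calc u = u * (z * z) := by rw [hz2, mul_one]
        _ = z := by rw [← mul_assoc, h1, one_mul]
    · refine Or.inr (Or.inr (Or.inr ?_))
      rw [← eq_of_card_eq_two hX h h1 hx hx1', mul_assoc, hz2, mul_one]

/-- With more than two central elements `Ω₁(Z(S)) = Ω₁(Z(J(T)))` as soon as `S` fixes `x`. -/
theorem center_eq (hL : L ∈ jOvergroups T) (hTS : T ≤ (S : Subgroup G))
    (hJS : (S : Subgroup G) ≤ Subgroup.centralizer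
      (omegaCenterOf (thompsonSubgroupOf 2 T) : Set G)) :
    omegaCenterOf (S : Subgroup G) = omegaCenterOf (thompsonSubgroupOf 2 T) :=
  le_antisymm (c.center_le hL hTS) fun u hu => mem_omegaOne
    ⟨hTS (thompsonSubgroupOf_le 2 T (omegaCenterOf_le _ hu)),
      fun s hs => (hJS hs u hu).symm⟩ ((isElementaryAbelian_omegaCenterOf _).2 u hu)

theorem center_eq_of_two (hKj : IsJComponent T K) (hL : L ∈ jOvergroups T) (hTS : T ≤ (S : Subgroup G))
    (hX : Nat.card ↥(fix (thompsonSubgroupOf 2 T) K) < 2) :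
    omegaCenterOf (S : Subgroup G) = omegaCenterOf (thompsonSubgroupOf 2 T) ∧
      Nat.card ↥(omegaCenterOf (thompsonSubgroupOf 2 T)) = 2 := by
  obtain ⟨hc, -⟩ := c.card_center hKj
  have h0 : Nat.card ↥(fix (thompsonSubgroupOf 2 T) K) = 1 := by
    have := Nat.card_pos (α := fix (thompsonSubgroupOf 2 T) K); omega
  rw [h0, mul_one] at hc
  refine ⟨Subgroup.eq_of_le_of_card_ge (c.center_le hL hTS) ?_, hc⟩
  rw [hc]
  exact (Subgroup.one_lt_card_iff_ne_bot _).2 (omegaCenterOf_ne_bot S.2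
    fun e => c.ne_bot (le_bot_iff.1 (e ▸ hTS)))

end

theorem mem_normalizer_J {g : G} (hg : g ∈ Subgroup.normalizer (T : Set G)) :
    g ∈ Subgroup.normalizer (thompsonSubgroupOf 2 T : Set G) :=
  CfsgLib.Transfer.normalizer_le_normalizer_thompsonSubgroupOf _ hg

/-- The case that `T` is not a Sylow subgroup of `G`. -/
theorem proper_case {K L : Subgroup G} {S : Sylow 2 G} (hK : IsComp (thompsonSubgroupOf 2 T) K)
    (hKM : ¬ K ≤ M) (hL : IsMaximalTwoLocal L) (hKL : K ⊔ thompsonSubgroupOf 2 T ≤ L)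
    (hTL : T ≤ L) (hTS : T ≤ (S : Subgroup G)) (hne : T ≠ S) :
    (omegaCenterOf (S : Subgroup G) = omegaCenterOf (thompsonSubgroupOf 2 T) ∧
        Nat.card ↥(omegaCenterOf (thompsonSubgroupOf 2 T)) = 2) ∨
      (omegaCenterOf T = omegaCenterOf (thompsonSubgroupOf 2 T) ∧
        Nat.card ↥(omegaCenterOf (thompsonSubgroupOf 2 T)) = 4 ∧
        (L ⊓ Subgroup.centralizer (omegaCenterOf (thompsonSubgroupOf 2 T) : Set G)).relIndex
          (Subgroup.normalizer (omegaCenterOf (thompsonSubgroupOf 2 T) : Set G)) = 2) := by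
  have hLM : ¬ L ≤ M := fun h => hKM ((le_sup_left.trans hKL).trans h)
  have hLT := c.overgroup hL.1 hLM hTL
  have hKj := c.isJComponent hK hKM hL.1 hKL
  obtain ⟨g, hgN, hgS, hgL⟩ := c.exists_normalizer_not_mem hLT.1 hTS hne
  have hgJ := c.mem_normalizer_J hgN
  have hX := c.card_fix_le hK hKM hL hKL hgJ hgL
  rcases hX.lt_or_eq with hX | hX
  · exact Or.inl (c.center_eq_of_two hKj hLT hTS hX)
  obtain ⟨x, z, hx, hx1, hz, hz1, hzx, h4, hall⟩ := c.four_setup hK hKj hLT hTS hX
  set J := thompsonSubgroupOf 2 T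
  set Z₀ := omegaCenterOf J
  have hzZ : z ∈ Z₀ := c.center_le hLT hTS hz
  have hSz : ∀ s ∈ (S : Subgroup G), s * z * s⁻¹ = z := fun s hs =>
    mul_inv_eq_iff_eq_mul.2 (omegaCenterOf_le_centralizer _ hz s hs)
  have hxz1 : x * z ≠ 1 := fun e => hzx (by
    have := (isElementaryAbelian_omegaCenterOf _).2 x hx.1
    rw [pow_two] at this
    exact (mul_left_cancel (this.trans e.symm)).symm)
  have hmove : ∀ t ∈ Subgroup.normalizer (J : Set G), t * z * t⁻¹ = z → t * x * t⁻¹ ≠ x →
      t * x * t⁻¹ = x * z := by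
    intro t ht htz hne'
    rcases hall _ ((Subgroup.mem_normalizer_iff.1 (normalizer_le_normalizer_omegaCenterOf J ht) x).1 hx.1)
      with e | e | e | e
    · exact absurd (conj_eq_one_iff.1 e) hx1
    · exact absurd e hne'
    · exact absurd (mul_left_cancel (mul_right_cancel (e.trans htz.symm))) hzx.symm
    · exact e
  have hgx : g * x * g⁻¹ = x * z := hmove g hgJ (hSz g hgS) fun e =>
    hx1 (c.fix_disjoint hK hKM hL hKL hgJ hgL hx (by rw [e]; exact hx))
  -- `T` centralizes `Z₀`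
  have hTx : ∀ t ∈ T, t * x * t⁻¹ = x := by
    intro t ht
    by_contra hne'
    have htN : t ∈ Subgroup.normalizer (T : Set G) := Subgroup.le_normalizer ht
    have h1 := hmove t (c.mem_normalizer_J htN) (hSz t (hTS ht)) hne'
    refine hgL ?_
    by_contra hgL'
    have hu : t⁻¹ * g ∉ L := fun h => hgL' (by simpa using mul_mem (hTL ht) h)
    refine hx1 (c.fix_disjoint hK hKM hL hKL (c.mem_normalizer_J (mul_mem (inv_mem htN) hgN)) hu hx ?_)
    rw [show t⁻¹ * g * x * (t⁻¹ * g)⁻¹ = t⁻¹ * (g * x * g⁻¹) * t by group, hgx, ← h1,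
      show t⁻¹ * (t * x * t⁻¹) * t = x by group]
    exact hx
  have hTZ : Z₀ ≤ omegaCenterOf T := by
    intro u hu
    refine mem_omegaOne ⟨thompsonSubgroupOf_le 2 T (omegaCenterOf_le _ hu), fun t ht => ?_⟩
      ((isElementaryAbelian_omegaCenterOf _).2 u hu)
    have ex : t * x = x * t := mul_inv_eq_iff_eq_mul.1 (hTx t ht)
    have ez : t * z = z * t := mul_inv_eq_iff_eq_mul.1 (hSz t (hTS ht))
    rcases hall u hu with rfl | rfl | rfl | rfl
    · simp
    · exact ex
    · exact ez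
    · rw [← mul_assoc, ex, mul_assoc, ez, mul_assoc]
  refine Or.inr ⟨le_antisymm omegaCenter_le hTZ, h4, ?_⟩
  have hZ2 : Nat.card ↥(omegaCenterOf (S : Subgroup G)) = 2 := by
    have hle := c.center_le hLT hTS
    have hxS : x ∉ omegaCenterOf (S : Subgroup G) := fun h => by
      have : g * x * g⁻¹ = x := mul_inv_eq_iff_eq_mul.2 (omegaCenterOf_le_centralizer _ h g hgS)
      exact hz1 (mul_eq_left.1 (hgx.symm.trans this))
    have hsub : omegaCenterOf (S : Subgroup G) < Z₀ := lt_of_le_of_ne hle fun e => hxS (e ▸ hx.1)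
    have h1 : 1 < Nat.card ↥(omegaCenterOf (S : Subgroup G)) :=
      (Subgroup.one_lt_card_iff_ne_bot _).2 fun e => hz1 (Subgroup.mem_bot.1 (e ▸ hz))
    have h2 : Nat.card ↥(omegaCenterOf (S : Subgroup G)) ∣ 4 := h4 ▸ Subgroup.card_dvd_of_le hle
    have h3 : Nat.card ↥(omegaCenterOf (S : Subgroup G)) < 4 := by
      by_contra h
      exact hsub.ne (Subgroup.eq_of_le_of_card_ge hle (by rw [h4]; exact Nat.not_lt.1 h))
    have h5 := Nat.le_of_dvd (by norm_num) h2
    interval_cases h6 : Nat.card ↥(omegaCenterOf (S : Subgroup G)) <;> simp_all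
  set N := Subgroup.normalizer (Z₀ : Set G)
  set C := Subgroup.centralizer (Z₀ : Set G)
  have hCL : C ≤ L := (Subgroup.centralizer_le (Set.singleton_subset_iff.2 hx.1)).trans
    (c.centralizer_fix_le hK hKM hL hKL hx hx1)
  rw [inf_eq_right.2 hCL]
  have hnz : ∀ n ∈ N, n * z * n⁻¹ = z := by
    intro n hn
    rcases hall _ ((Subgroup.mem_normalizer_iff.1 hn z).1 hzZ) with e | e | e | e
    · exact absurd (conj_eq_one_iff.1 e) hz1
    · exact absurd (by rw [e]; exact hx) (c.not_conj_fix hK hZ2 hz hz1 n)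
    · exact e
    · exfalso
      refine c.not_conj_fix hK hZ2 hz hz1 (g⁻¹ * n) ?_
      rw [show g⁻¹ * n * z * (g⁻¹ * n)⁻¹ = g⁻¹ * (n * z * n⁻¹) * g by group, e, ← hgx,
        show g⁻¹ * (g * x * g⁻¹) * g = x by group]
      exact hx
  have hgN' : g ∈ N := normalizer_le_normalizer_omegaCenterOf J hgJ
  have hfixC : ∀ n ∈ N, n * x * n⁻¹ = x → n ∈ C := by
    intro n hn e u hu
    have ex : n * x = x * n := mul_inv_eq_iff_eq_mul.1 e
    have ez : n * z = z * n := mul_inv_eq_iff_eq_mul.1 (hnz n hn)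
    rcases hall u hu with rfl | rfl | rfl | rfl
    · simp
    · exact ex.symm
    · exact ez.symm
    · rw [← mul_assoc, ex, mul_assoc x n z, ez, mul_assoc]
  have hnx : ∀ n ∈ N, n ∉ C → n * x * n⁻¹ = x * z := by
    intro n hn hnC
    rcases hall _ ((Subgroup.mem_normalizer_iff.1 hn x).1 hx.1) with e | e | e | e
    · exact absurd (conj_eq_one_iff.1 e) hx1
    · exact absurd (hfixC n hn e) hnC
    · exact absurd (mul_left_cancel (mul_right_cancel (e.trans (hnz n hn).symm))) hzx.symm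
    · exact e
  have hgC : g ∉ C := fun h => hgL (hCL h)
  rw [Subgroup.relIndex, Subgroup.index_eq_two_iff]
  refine ⟨⟨g, hgN'⟩, fun b => ?_⟩
  simp only [Subgroup.mem_subgroupOf, Subgroup.coe_mul]
  by_cases hb : (b : G) ∈ C
  · exact Or.inr ⟨hb, fun h' => hgC (by simpa using C.mul_mem (C.inv_mem hb) h')⟩
  · refine Or.inl ⟨hfixC _ (mul_mem b.2 hgN') ?_, fun h' => hb h'⟩
    have hzz : z * z = 1 := by
      have := (isElementaryAbelian_omegaCenterOf _).2 z hz; rwa [pow_two] at this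
    calc (b : G) * g * x * ((b : G) * g)⁻¹ = (b : G) * (g * x * g⁻¹) * (b : G)⁻¹ := by group
      _ = (b : G) * x * (b : G)⁻¹ * ((b : G) * z * (b : G)⁻¹) := by rw [hgx]; group
      _ = x := by rw [hnx _ b.2 hb, hnz _ b.2, mul_assoc, hzz, mul_one]

/-- The case that `T` is a Sylow subgroup, given a second component. -/
theorem top_case {K L : Subgroup G} {S : Sylow 2 G} (hK : IsComp (thompsonSubgroupOf 2 T) K)
    (hKM : ¬ K ≤ M) (hL : IsMaximalTwoLocal L) (hKL : K ⊔ thompsonSubgroupOf 2 T ≤ L)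
    (hTL : T ≤ L) (hTS : T = S)
    (hsep : (∃ g ∈ Subgroup.normalizer (thompsonSubgroupOf 2 T : Set G), g ∉ L) ∨
      ∃ K₂, IsJComponent T K₂ ∧ ¬ K₂ ≤ L) :
    omegaCenterOf (S : Subgroup G) = omegaCenterOf (thompsonSubgroupOf 2 T) ∧
      (Nat.card ↥(omegaCenterOf (thompsonSubgroupOf 2 T)) = 2 ∨
        Nat.card ↥(omegaCenterOf (thompsonSubgroupOf 2 T)) = 4) := by
  have hLM : ¬ L ≤ M := fun h => hKM ((le_sup_left.trans hKL).trans h)
  have hLT := c.overgroup hL.1 hLM hTL
  have hTS' : T ≤ (S : Subgroup G) := hTS.le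
  have hKj := c.isJComponent hK hKM hL.1 hKL
  obtain ⟨hc, -⟩ := c.card_center hKj
  set J := thompsonSubgroupOf 2 T
  set X := fix J K
  -- two fixed points at most
  have hX : Nat.card X ≤ 2 := by
    rcases hsep with ⟨g, hg, hgL⟩ | ⟨K₂, hK₂, hK₂L⟩
    · exact c.card_fix_le hK hKM hL hKL hg hgL
    obtain ⟨hc₂, -⟩ := c.card_center hK₂
    have hdis : X ⊓ fix J K₂ = ⊥ := eq_bot_iff.2 fun u hu => by
      by_contra hu1
      refine hK₂L fun k hk => c.centralizer_fix_le hK hKM hL hKL hu.1 hu1 ?_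
      exact Subgroup.mem_centralizer_singleton_iff.2 (hu.2.2 k hk)
    have h1 := CfsgLib.Coprime.card_sup_mul_card_inf (H := X) (N := fix J K₂)
      (inf_le_left.trans (le_normalizer_of_abelian (isElementaryAbelian_omegaCenterOf J).1 inf_le_left))
    rw [hdis, Subgroup.card_bot, mul_one] at h1
    have h2 := Subgroup.card_le_of_le (sup_le inf_le_left inf_le_left : X ⊔ fix J K₂ ≤ omegaCenterOf J)
    rw [h1, hc] at h2
    have h3 : Nat.card ↥(fix J K₂) = Nat.card X :=
      Nat.eq_of_mul_eq_mul_left two_pos (hc₂.symm.trans hc)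
    rw [h3] at h2
    exact Nat.le_of_mul_le_mul_right h2 Nat.card_pos
  rcases hX.lt_or_eq with hX | hX
  · obtain ⟨e, h2⟩ := c.center_eq_of_two hKj hLT hTS' hX
    exact ⟨e, Or.inl h2⟩
  obtain ⟨x, z, hx, hx1, hz, hz1, hzx, h4, hall⟩ := c.four_setup hK hKj hLT hTS' hX
  refine ⟨c.center_eq hLT hTS' ?_, Or.inr h4⟩
  -- `S` fixes `x`
  have hSz : ∀ s ∈ (S : Subgroup G), s * z * s⁻¹ = z := fun s hs =>
    mul_inv_eq_iff_eq_mul.2 (omegaCenterOf_le_centralizer _ hz s hs)
  have hxz1 : x * z ≠ 1 := fun e => hzx (by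
    have := (isElementaryAbelian_omegaCenterOf _).2 x hx.1
    rw [pow_two] at this
    exact (mul_left_cancel (this.trans e.symm)).symm)
  have hSx : ∀ s ∈ (S : Subgroup G), s * x * s⁻¹ = x := by
    intro s hs
    by_contra hne
    have hsN : s ∈ Subgroup.normalizer (T : Set G) := Subgroup.le_normalizer (hTS.symm ▸ hs)
    have hsx : s * x * s⁻¹ = x * z := by
      rcases hall _ ((Subgroup.mem_normalizer_iff.1 (normalizer_le_normalizer_omegaCenterOf J
        (c.mem_normalizer_J hsN)) x).1 hx.1) with e | e | e | e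
      · exact absurd (conj_eq_one_iff.1 e) hx1
      · exact absurd e hne
      · exact absurd (mul_left_cancel (mul_right_cancel (e.trans (hSz s hs).symm))) hzx.symm
      · exact e
    have hsL : s ∈ L := hTL (hTS.symm ▸ hs)
    rcases hsep with ⟨g, hg, hgL⟩ | ⟨K₂, hK₂, hK₂L⟩
    · have hgx : g * x * g⁻¹ = x * z := by
        rcases hall _ ((Subgroup.mem_normalizer_iff.1 (normalizer_le_normalizer_omegaCenterOf J
          hg) x).1 hx.1) with e | e | e | e
        · exact absurd (conj_eq_one_iff.1 e) hx1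
        · exact absurd (c.fix_disjoint hK hKM hL hKL hg hgL hx (by rw [e]; exact hx)) hx1
        · exfalso
          have hZ2 : Nat.card ↥(omegaCenterOf (S : Subgroup G)) = 2 := by
            refine le_antisymm ?_ ((Subgroup.one_lt_card_iff_ne_bot _).2
              fun e => hz1 (Subgroup.mem_bot.1 (e ▸ hz)))
            by_contra h
            have hle := c.center_le hLT hTS'
            have h2 : Nat.card ↥(omegaCenterOf (S : Subgroup G)) ∣ 4 := h4 ▸ Subgroup.card_dvd_of_le hle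
            have h3 := Nat.le_of_dvd (by norm_num) h2
            have he : omegaCenterOf (S : Subgroup G) = omegaCenterOf J :=
              Subgroup.eq_of_le_of_card_ge hle (by
                rw [h4]
                interval_cases h6 : Nat.card ↥(omegaCenterOf (S : Subgroup G)) <;> simp_all)
            exact hne (mul_inv_eq_iff_eq_mul.2 (omegaCenterOf_le_centralizer _ (he ▸ hx.1) s hs))
          refine c.not_conj_fix hK hZ2 hz hz1 g⁻¹ ?_
          rw [show g⁻¹ * z * g⁻¹⁻¹ = g⁻¹ * z * g by group, ← e,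
            show g⁻¹ * (g * x * g⁻¹) * g = x by group]
          exact hx
        · exact e
      refine hgL ?_
      by_contra hgL'
      have hu : s⁻¹ * g ∉ L := fun h => hgL' (by simpa using mul_mem hsL h)
      refine hx1 (c.fix_disjoint hK hKM hL hKL (mul_mem (inv_mem (c.mem_normalizer_J hsN)) hg) hu hx ?_)
      rw [show s⁻¹ * g * x * (s⁻¹ * g)⁻¹ = s⁻¹ * (g * x * g⁻¹) * s by group, hgx, ← hsx,
        show s⁻¹ * (s * x * s⁻¹) * s = x by group]
      exact hx
    · obtain ⟨hc₂, -⟩ := c.card_center hK₂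
      have hX₂ : Nat.card ↥(fix J K₂) = 2 :=
        (Nat.eq_of_mul_eq_mul_left two_pos (hc₂.symm.trans hc)).trans hX
      obtain ⟨⟨x₂, hx₂⟩, hx₂1⟩ := Subgroup.ne_bot_iff_exists_ne_one.1
        (fun e : fix J K₂ = ⊥ => by rw [e, Subgroup.card_bot] at hX₂; omega)
      have hcent : ∀ u : G, u ∈ fix J K₂ → Subgroup.centralizer {u} ≤ L → False := fun u hu h =>
        hK₂L fun k hk => h (Subgroup.mem_centralizer_singleton_iff.2 (hu.2 k hk))
      rcases hall x₂ hx₂.1 with e | e | e | e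
      · exact hx₂1 (Subtype.ext e)
      · exact hcent x₂ hx₂ (e ▸ c.centralizer_fix_le hK hKM hL hKL hx hx1)
      · refine c.center_not_le_fix (isComp_of hK₂) (S := S) ?_
        intro u hu
        rcases hall u (c.center_le hLT hTS' hu) with f | f | f | f
        · rw [f]; exact one_mem _
        · exact absurd (mul_inv_eq_iff_eq_mul.2 (omegaCenterOf_le_centralizer _ hu s hs))
            (f.symm ▸ hne)
        · rw [f, ← e]; exact hx₂
        · exfalso
          have hux := mul_mem hu hz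
          have hzz : z * z = 1 := by
            have := (isElementaryAbelian_omegaCenterOf _).2 z hz; rwa [pow_two] at this
          rw [f, mul_assoc, hzz, mul_one] at hux
          exact hne (mul_inv_eq_iff_eq_mul.2 (omegaCenterOf_le_centralizer _ hux s hs))
      · refine hcent x₂ hx₂ ?_
        intro g hg
        have hg' : g * x₂ = x₂ * g := Subgroup.mem_centralizer_singleton_iff.1 hg
        rw [e, ← hsx] at hg'
        have h1 : s⁻¹ * g * s ∈ L :=
          c.centralizer_fix_le hK hKM hL hKL hx hx1 (Subgroup.mem_centralizer_singleton_iff.2 (by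
            calc s⁻¹ * g * s * x = s⁻¹ * (g * (s * x * s⁻¹)) * s := by group
              _ = _ := by rw [hg']; group))
        have := mul_mem (mul_mem hsL h1) (inv_mem hsL)
        simpa [mul_assoc] using this
  intro s hs u hu
  have ex : s * x = x * s := mul_inv_eq_iff_eq_mul.1 (hSx s hs)
  have ez : s * z = z * s := mul_inv_eq_iff_eq_mul.1 (hSz s hs)
  rcases hall u hu with rfl | rfl | rfl | rfl
  · simp
  · exact ex.symm
  · exact ez.symm
  · rw [← mul_assoc, ex, mul_assoc x s z, ez, mul_assoc]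

end Ctx

end CfsgLib.LocalEven.JComp
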