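import Cfsg.Agent.Lib.LocalEven.JCompUnique
import Cfsg.Agent.S2946

/-!
The centre of `J(T)` for a member `T` of the maximal straddling family has order at most four.
-/

set_option autoImplicit false
set_option linter.style.haveILetI false
set_option linter.unusedSectionVars false

namespace CfsgLib.LocalEven.JComp

open Cfsg CfsgLib.PLocal
open scoped commutatorElement

variable {G : Type*} [Group G] [Finite G]

theorem omegaCenterOf_ne_bot {T : Subgroup G} (hT : IsPGroup 2 T) (h1 : T ≠ ⊥) :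
    omegaCenterOf T ≠ ⊥ :=
  omegaOne_ne_bot (hT.to_le inf_le_left) fun e => by
    haveI : Nontrivial T := (Subgroup.nontrivial_iff_ne_bot T).2 h1
    obtain ⟨⟨z, hz⟩, hz1⟩ := Subgroup.ne_bot_iff_exists_ne_one.1
      ((Subgroup.nontrivial_iff_ne_bot _).1 hT.center_nontrivial)
    have hm : (z : G) ∈ T ⊓ Subgroup.centralizer (T : Set G) := ⟨z.2, fun t ht =>
      congrArg Subtype.val (Subgroup.mem_center_iff.1 hz ⟨t, ht⟩)⟩
    rw [e, Subgroup.mem_bot] at hm
    exact hz1 (Subtype.ext (Subtype.ext hm))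

theorem normalizer_maximalTwoLocal {L : Subgroup G} (hL : IsMaximalTwoLocal L) :
    Subgroup.normalizer (L : Set G) = L := by
  refine le_antisymm (fun g hg => ?_) Subgroup.le_normalizer
  obtain ⟨R, hR, hR1, hLR⟩ := hL.1
  have hO : pCoreOf 2 L ≠ ⊥ := fun e => hR1 (le_bot_iff.1 (e ▸ CfsgLib.LocalEven.le_pCoreOf
    (hLR ▸ Subgroup.le_normalizer) (hLR ▸ le_rfl) hR))
  rw [← hL.2 _ ⟨_, CfsgLib.LocalEven.isPGroup_pCoreOf L, hO, rfl⟩
    (CfsgLib.LocalEven.le_normalizer_pCoreOf 2 L)]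
  exact CfsgLib.LocalEven.mem_normalizer_pCoreOf hg

theorem map_normalizer_conj (g : G) (R : Subgroup G) :
    (Subgroup.normalizer (R : Set G)).map (MulAut.conj g).toMonoidHom =
      Subgroup.normalizer ((R.map (MulAut.conj g).toMonoidHom : Subgroup G) : Set G) :=
  Subgroup.map_equiv_normalizer_eq R (MulAut.conj g)

theorem isTwoLocal_conj (g : G) {L : Subgroup G} (hL : IsTwoLocal L) :
    IsTwoLocal (L.map (MulAut.conj g).toMonoidHom) := by
  obtain ⟨R, hR, hR1, rfl⟩ := hL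
  exact ⟨_, hR.map _, fun e => hR1 ((Subgroup.map_eq_bot_iff_of_injective _
    (MulAut.conj g).injective).1 e), map_normalizer_conj g R⟩

theorem isMaximalTwoLocal_conj (g : G) {L : Subgroup G} (hL : IsMaximalTwoLocal L) :
    IsMaximalTwoLocal (L.map (MulAut.conj g).toMonoidHom) := by
  refine ⟨isTwoLocal_conj g hL.1, fun N hN hle => ?_⟩
  have h : L ≤ N.map (MulAut.conj g⁻¹).toMonoidHom := fun x hx =>
    ⟨g * x * g⁻¹, hle ⟨x, hx, rfl⟩, by simp [mul_assoc]⟩
  rw [← hL.2 _ (isTwoLocal_conj g⁻¹ hN) h, conj_map_comp, mul_inv_cancel]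
  ext x
  simp

variable {J K : Subgroup G}

/-- A component and its group `J` do not normalize a common Sylow `2`-subgroup. -/
theorem IsComp.not_le_normalizer_sylow (hK : IsComp J K) (hJ : IsPGroup 2 J) {S : Sylow 2 G}
    (hKS : K ≤ Subgroup.normalizer ((S : Subgroup G) : Set G))
    (hJS : J ≤ Subgroup.normalizer ((S : Subgroup G) : Set G)) : False := by
  have hJS' : J ≤ (S : Subgroup G) := by
    have := S.is_maximal' (S.2.to_sup_of_normal_left' hJ hJS) le_sup_left
    exact this ▸ le_sup_right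
  have hKS' : K ≤ (S : Subgroup G) := by
    conv_lhs => rw [← hK.comm]
    exact (Subgroup.commutator_mono hKS hJS').trans
      (Subgroup.le_normalizer_iff_commutator_le_right.1 le_rfl)
  have h1 : K ≤ ⊥ := by
    conv_lhs => rw [← hK.gen, oddGen]
    refine (Subgroup.closure_le _).2 fun x hx => ?_
    exact mem_of_ppow (ppow_of_isPGroup S.2 ⊥) (hKS' hx.1) hx.2
  exact hK.wOf_ne_bot (by rw [le_bot_iff.1 h1, wOf, Subgroup.commutator_bot_right])

variable {M T : Subgroup G}

namespace Ctx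

variable (c : Ctx M T)
include c

/-- The centre of `J(T)` and the fixed points of a component on it. -/
theorem isJComponent {K : Subgroup G} (hK : IsComp (thompsonSubgroupOf 2 T) K) (hKM : ¬ K ≤ M)
    {L : Subgroup G} (hL2 : IsTwoLocal L) (hKL : K ⊔ thompsonSubgroupOf 2 T ≤ L) :
    IsJComponent T K := by
  refine ⟨hK.gen, hK.comm, hK.index, fun R hR hJR => ?_, hK.card_w, hK.sq⟩
  obtain ⟨T₀, hRT₀, hT₀⟩ := exists_isSylowTwoIn hR.2.1 (hR.1.trans hKL)
  obtain ⟨he, -⟩ := c.sylow_in hL2 (fun h => hKM ((le_sup_left.trans hKL).trans h)) hT₀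
    (hJR.trans hRT₀)
  exact (thompsonSubgroupOf_eq_of_le (he.le.trans hJR) hRT₀).trans he

end Ctx

/-- The fixed points of `K` on `Ω₁(Z(J))`. -/
abbrev fix (J K : Subgroup G) : Subgroup G := omegaCenterOf J ⊓ Subgroup.centralizer (K : Set G)

theorem Ctx.card_center (c : Ctx M T) {K : Subgroup G} (hK : IsJComponent T K) :
    Nat.card ↥(omegaCenterOf (thompsonSubgroupOf 2 T)) =
        2 * Nat.card ↥(fix (thompsonSubgroupOf 2 T) K) ∧
      Nat.card ↥(omegaCenterOf (thompsonSubgroupOf 2 T) ⊓ wOf K) = 2 := by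
  obtain ⟨h2, hsup⟩ := Cfsg.Agent.S2946.result c.char2 c.sol c.cent T c.isPGroup c.ne_bot K hK _ rfl
  refine ⟨?_, h2⟩
  set Z₀ := omegaCenterOf (thompsonSubgroupOf 2 T)
  set X := fix (thompsonSubgroupOf 2 T) K
  set Y := Z₀ ⊓ wOf K
  have he : X ⊔ Y = Z₀ := by
    refine le_antisymm (sup_le inf_le_left inf_le_left) (hsup.ge.trans (sup_le_sup_right ?_ _))
    rintro g ⟨hg, -, hg2⟩
    exact ⟨hg, fun k hk => hg2 k (Or.inl hk)⟩
  have hb : X ⊓ Y = ⊥ := eq_bot_iff.2 fun g hg =>
    (isComp_of hK).inf_centralizer_w ▸ (⟨hg.2.2, hg.1.2⟩ : g ∈ wOf K ⊓ Subgroup.centralizer (K : Set G))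
  have h1 := CfsgLib.Coprime.card_sup_mul_card_inf (H := X) (N := Y)
    (inf_le_left.trans (le_normalizer_of_abelian
      (isElementaryAbelian_omegaCenterOf _).1 inf_le_left))
  rw [he, hb, Subgroup.card_bot, mul_one] at h1
  rw [h1, h2, mul_comm]

theorem le_omegaCenter_thompson {T X : Subgroup G} (hXT : X ≤ T) (hX2 : ∀ x ∈ X, x ^ 2 = 1)
    (hX : T ≤ Subgroup.centralizer (X : Set G)) : X ≤ omegaCenterOf (thompsonSubgroupOf 2 T) := by
  intro x hx
  obtain ⟨A, hA⟩ := maxEAOf_nonempty 2 T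
  refine mem_omegaOne ⟨le_thompsonSubgroupOf hA (omegaOne_center_le hA (mem_omegaOne
    ⟨hXT hx, fun t ht => (hX ht x hx).symm⟩ (hX2 x hx))), fun j hj => ?_⟩ (hX2 x hx)
  exact (hX (thompsonSubgroupOf_le 2 T hj) x hx).symm

theorem omegaCenter_le {T : Subgroup G} :
    omegaCenterOf T ≤ omegaCenterOf (thompsonSubgroupOf 2 T) :=
  le_omegaCenter_thompson (omegaCenterOf_le T) (isElementaryAbelian_omegaCenterOf T).2
    (Subgroup.le_centralizer_iff.1 (omegaCenterOf_le_centralizer T))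

namespace Ctx

variable (c : Ctx M T)
include c

/-- The centralizer of a nontrivial fixed point lies in the maximal `2`-local of the component. -/
theorem centralizer_fix_le {K L : Subgroup G} (hK : IsComp (thompsonSubgroupOf 2 T) K)
    (hKM : ¬ K ≤ M) (hL : IsMaximalTwoLocal L) (hKL : K ⊔ thompsonSubgroupOf 2 T ≤ L) {x : G}
    (hx : x ∈ fix (thompsonSubgroupOf 2 T) K) (hx1 : x ≠ 1) :
    Subgroup.centralizer {x} ≤ L := by
  have hx2 : x ^ 2 = 1 := (isElementaryAbelian_omegaCenterOf _).2 x hx.1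
  have hR : IsPGroup 2 (Subgroup.zpowers x) :=
    IsPGroup.of_card (n := 1) (by rw [Nat.card_zpowers, orderOf_eq_prime hx2 hx1, pow_one])
  have hN : IsTwoLocal (Subgroup.normalizer (Subgroup.zpowers x : Set G)) :=
    ⟨_, hR, fun e => hx1 (by simpa [Subgroup.zpowers_eq_bot] using e), rfl⟩
  obtain ⟨L', hL', hNL'⟩ := exists_maximalTwoLocal hN
  have hCL' : Subgroup.centralizer {x} ≤ L' := by
    refine le_trans ?_ hNL'
    rw [← Subgroup.centralizer_closure, ← Subgroup.zpowers_eq_closure]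
    exact Subgroup.centralizer_le_normalizer _
  have hKJ : K ⊔ thompsonSubgroupOf 2 T ≤ L' := by
    refine sup_le (fun k hk => hCL' ?_) fun j hj => hCL' ?_
    · exact Subgroup.mem_centralizer_singleton_iff.2 (hx.2 k hk)
    · exact Subgroup.mem_centralizer_singleton_iff.2 (omegaCenterOf_le_centralizer _ hx.1 j hj)
  rwa [c.unique hL hL' hK hKM hKL hKJ]

/-- An element of `N(J(T))` outside `L` moves the fixed points to a disjoint subgroup. -/
theorem fix_disjoint {K L : Subgroup G} (hK : IsComp (thompsonSubgroupOf 2 T) K)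
    (hKM : ¬ K ≤ M) (hL : IsMaximalTwoLocal L) (hKL : K ⊔ thompsonSubgroupOf 2 T ≤ L) {g : G}
    (hg : g ∈ Subgroup.normalizer (thompsonSubgroupOf 2 T : Set G)) (hgL : g ∉ L) {x : G}
    (hx : x ∈ fix (thompsonSubgroupOf 2 T) K) (hxg : g * x * g⁻¹ ∈ fix (thompsonSubgroupOf 2 T) K) :
    x = 1 := by
  by_contra hx1
  apply hgL
  set J := thompsonSubgroupOf 2 T
  set γ := (MulAut.conj g).toMonoidHom
  have hgJ : J.map γ = J := Subgroup.mem_normalizer_iff_map_conj_eq.1 hg
  have hK' : IsComp J (K.map γ) := by have := hK.conj g; rwa [hgJ] at this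
  have hKM' : ¬ K.map γ ≤ M := fun h => hKM fun k hk => by
    have hgM := c.normalizer_J_le hg
    have := mul_mem (mul_mem (inv_mem hgM) (h ⟨k, hk, rfl⟩)) hgM
    simpa [γ, mul_assoc] using this
  have hLg : K.map γ ⊔ J ≤ L.map γ := by
    rw [← hgJ]; exact (Subgroup.map_sup K J γ).ge.trans (Subgroup.map_mono hKL)
  have hKg : K.map γ ⊔ J ≤ L := by
    refine sup_le ?_ (le_sup_right.trans hKL)
    refine le_trans ?_ (c.centralizer_fix_le hK hKM hL hKL hxg (fun e => hx1 (conj_eq_one_iff.1 e)))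
    rintro _ ⟨k, hk, rfl⟩
    refine Subgroup.mem_centralizer_singleton_iff.2 ?_
    show g * k * g⁻¹ * (g * x * g⁻¹) = g * x * g⁻¹ * (g * k * g⁻¹)
    rw [conj_mul, conj_mul, hx.2 k hk]
  rw [← normalizer_maximalTwoLocal hL, Subgroup.mem_normalizer_iff_map_conj_eq]
  exact c.unique (isMaximalTwoLocal_conj g hL) hL hK' hKM' hLg hKg

/-- Then there are at most two fixed points. -/
theorem card_fix_le {K L : Subgroup G} (hK : IsComp (thompsonSubgroupOf 2 T) K)
    (hKM : ¬ K ≤ M) (hL : IsMaximalTwoLocal L) (hKL : K ⊔ thompsonSubgroupOf 2 T ≤ L) {g : G}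
    (hg : g ∈ Subgroup.normalizer (thompsonSubgroupOf 2 T : Set G)) (hgL : g ∉ L) :
    Nat.card ↥(fix (thompsonSubgroupOf 2 T) K) ≤ 2 := by
  set J := thompsonSubgroupOf 2 T
  obtain ⟨hc, -⟩ := c.card_center (c.isJComponent hK hKM hL.1 hKL)
  set X := fix J K
  set X' := X.map (MulAut.conj g).toMonoidHom
  have hX'Z : X' ≤ omegaCenterOf J := by
    rintro _ ⟨x, hx, rfl⟩
    exact (Subgroup.mem_normalizer_iff.1 (normalizer_le_normalizer_omegaCenterOf J hg) x).1 hx.1
  have hdis : X' ⊓ X = ⊥ := eq_bot_iff.2 fun y hy => by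
    obtain ⟨⟨x, hx, rfl⟩, hy2⟩ := hy
    show g * x * g⁻¹ ∈ (⊥ : Subgroup G)
    rw [c.fix_disjoint hK hKM hL hKL hg hgL hx hy2, Subgroup.mem_bot]
    group
  have h1 := CfsgLib.Coprime.card_sup_mul_card_inf (H := X') (N := X)
    (hX'Z.trans (le_normalizer_of_abelian (isElementaryAbelian_omegaCenterOf J).1 inf_le_left))
  rw [hdis, Subgroup.card_bot, mul_one, Subgroup.card_map_of_injective (MulAut.conj g).injective] at h1
  have h2 := Subgroup.card_le_of_le (sup_le hX'Z inf_le_left : X' ⊔ X ≤ omegaCenterOf J)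
  rw [h1, hc] at h2
  exact Nat.le_of_mul_le_mul_right h2 Nat.card_pos

/-- A conjugate of a central involution of a Sylow subgroup is not a fixed point. -/
theorem not_conj_fix {K : Subgroup G} (hK : IsComp (thompsonSubgroupOf 2 T) K) {S : Sylow 2 G}
    (hS : Nat.card ↥(omegaCenterOf (S : Subgroup G)) = 2) {z : G}
    (hz : z ∈ omegaCenterOf (S : Subgroup G)) (hz1 : z ≠ 1) (n : G) :
    n * z * n⁻¹ ∉ fix (thompsonSubgroupOf 2 T) K := by
  intro hx
  have hgen : Subgroup.centralizer {z} ≤ Subgroup.normalizer ((S : Subgroup G) : Set G) := by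
    refine le_trans ?_ (c.cent S)
    intro g hg u hu
    obtain ⟨y, -, hy⟩ := (Nat.card_eq_two_iff' (1 : ↥(omegaCenterOf (S : Subgroup G)))).1 hS
    by_cases hu1 : u = 1
    · simp [hu1]
    · have e := (hy ⟨u, hu⟩ fun e => hu1 (congrArg Subtype.val e)).trans
        (hy ⟨z, hz⟩ fun e => hz1 (congrArg Subtype.val e)).symm
      rw [show u = z from congrArg Subtype.val e]
      exact (Subgroup.mem_centralizer_singleton_iff.1 hg).symm
  have key : ∀ y : G, y * (n * z * n⁻¹) = n * z * n⁻¹ * y →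
      y ∈ Subgroup.normalizer (((n • S : Sylow 2 G) : Subgroup G) : Set G) := by
    intro y hy
    have h1 : n⁻¹ * y * n ∈ Subgroup.centralizer {z} := by
      refine Subgroup.mem_centralizer_singleton_iff.2 ?_
      calc n⁻¹ * y * n * z = n⁻¹ * (y * (n * z * n⁻¹)) * n := by group
        _ = _ := by rw [hy]; group
    rw [Sylow.coe_subgroup_smul, ← CfsgLib.Base.map_conj_eq_smul, ← map_normalizer_conj]
    exact ⟨_, hgen h1, by simp [mul_assoc]⟩
  exact hK.not_le_normalizer_sylow c.isPGroup_J (S := n • S)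
    (fun k hk => key k (hx.2 k hk)) (fun j hj => key j (omegaCenterOf_le_centralizer _ hx.1 j hj))

/-- `Ω₁(Z(S))` is not fixed by a component. -/
theorem center_not_le_fix {K : Subgroup G} (hK : IsComp (thompsonSubgroupOf 2 T) K)
    {S : Sylow 2 G} : ¬ omegaCenterOf (S : Subgroup G) ≤ fix (thompsonSubgroupOf 2 T) K := fun h =>
  hK.not_le_normalizer_sylow c.isPGroup_J (S := S)
    (fun k hk => c.cent S fun z hz => ((h hz).2 k hk).symm)
    (fun j hj => c.cent S fun z hz => (omegaCenterOf_le_centralizer _ (h hz).1 j hj).symm)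

/-- `Ω₁(Z(S)) ≤ Ω₁(Z(J(T)))` for `T ≤ S`. -/
theorem center_le {L : Subgroup G} (hL : L ∈ jOvergroups T) {S : Sylow 2 G}
    (hTS : T ≤ (S : Subgroup G)) :
    omegaCenterOf (S : Subgroup G) ≤ omegaCenterOf (thompsonSubgroupOf 2 T) := by
  have hOT : pCoreOf 2 L ≤ T := by
    obtain ⟨T', hT', -, -⟩ := exists_setup c.sol c.cent c.ne_bot hL
    rw [← hT']
    exact Subgroup.map_mono (CfsgLib.LocalEven.pCore_le_sylow T')
  have hc := omegaCenterOf_le_centralizer (S : Subgroup G)
  refine le_omegaCenter_thompson ?_ (isElementaryAbelian_omegaCenterOf _).2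
    (Subgroup.le_centralizer_iff.1 (hc.trans (Subgroup.centralizer_le hTS)))
  exact ((hc.trans (Subgroup.centralizer_le (hOT.trans hTS))).trans hL.2.2).trans hOT

end Ctx

end CfsgLib.LocalEven.JComp
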