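import Cfsg.Agent.Lib.LocalEven.JCompBase
import Cfsg.Agent.Lib.PLocal.TwoSubnormal
import Mathlib

/-!
An inverted fixed-point-free element and an elementary abelian subgroup of largest order force a
module of order four.
-/

set_option autoImplicit false
set_option linter.style.haveILetI false
set_option linter.unusedSectionVars false

namespace CfsgLib.LocalEven.JComp

open Cfsg CfsgLib.PLocal
open scoped commutatorElement

variable {G : Type*} [Group G] [Finite G]

/-- An abelian group of operators on a finite abelian group with only two fixed points is smaller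
than the group. -/
theorem relIndex_lt_of_fixed_two {A F : Subgroup G} (hA : IsMulCommutative A)
    (hF : IsMulCommutative F) (hn : A ≤ Subgroup.normalizer (F : Set G))
    (hA2 : IsPGroup 2 A) (hF2 : IsPGroup 2 F)
    (hfix : Nat.card ↥(F ⊓ Subgroup.centralizer (A : Set G)) = 2) :
    (A ⊓ Subgroup.centralizer (F : Set G)).relIndex A < Nat.card F := by
  classical
  letI : CommGroup ↥F := { (inferInstance : Group ↥F) with mul_comm := hF.is_comm.comm }
  haveI : NeZero (Monoid.exponent ↥F : ℂ) := ⟨Nat.cast_ne_zero.mpr Monoid.exponent_ne_zero_of_finite⟩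
  obtain ⟨v, hv, hv1⟩ : ∃ v ∈ F ⊓ Subgroup.centralizer (A : Set G), v ≠ 1 := by
    by_contra hno; push Not at hno
    rw [show F ⊓ Subgroup.centralizer (A : Set G) = ⊥ from
      eq_bot_iff.2 fun x hx => Subgroup.mem_bot.2 (hno x hx), Subgroup.card_bot] at hfix
    omega
  obtain ⟨χ, hχ⟩ := CommGroup.exists_apply_ne_one_of_hasEnoughRootsOfUnity ↥F ℂ
    (a := ⟨v, hv.1⟩) (fun e => hv1 (congrArg Subtype.val e))
  let c : A → (↥F →* ↥F) := fun a => ((actHom A F hn a : ↥F ≃* ↥F) : ↥F →* ↥F)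
  have hc1 : ∀ (a : A) (u : ↥F), ((c a u : ↥F) : G) = (a : G) * u * (a : G)⁻¹ := fun _ _ => rfl
  let f : A → (↥F →* ℂˣ) := fun a => χ.comp (c a)
  haveI : Finite (↥F →* ℂˣ) := Nat.finite_of_card_ne_zero (by
    rw [CommGroup.card_monoidHom_of_hasEnoughRootsOfUnity ↥F ℂ]; exact Nat.card_pos.ne')
  -- equal values only inside one coset of the kernel
  have hker : ∀ a b : A, f a = f b →
      (a : G)⁻¹ * b ∈ A ⊓ Subgroup.centralizer (F : Set G) := by
    intro a b hab
    set d : G := (a : G)⁻¹ * b with hd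
    have hdA : d ∈ A := mul_mem (inv_mem a.2) b.2
    refine ⟨hdA, fun u hu => ?_⟩
    -- the commutators with `d` form a subgroup on which `χ` and all its translates are trivial
    set D := ((commHom hF (hn hdA)).range) with hD
    have hDF : D ≤ F := by
      rintro _ ⟨w, rfl⟩; exact comm_mem_of_mem_normalizer (hn hdA) w.2
    have hDA : A ≤ Subgroup.normalizer (D : Set G) := by
      intro g hg
      refine CfsgLib.LocalEven.mem_normalizer_of_conj (Subgroup.eq_of_le_of_card_ge ?_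
        (Nat.card_congr (Subgroup.equivMapOfInjective _ _ (MulAut.conj g).injective).toEquiv).le)
      rintro _ ⟨_, ⟨w, rfl⟩, rfl⟩
      refine ⟨⟨g * w * g⁻¹, (Subgroup.mem_normalizer_iff.1 (hn hg) w).1 w.2⟩, ?_⟩
      show ⁅g * (w : G) * g⁻¹, d⁆ = g * ⁅(w : G), d⁆ * g⁻¹
      have hgd : g * d = d * g := comm_of_mem hA hg hdA
      rw [show g * ⁅(w : G), d⁆ * g⁻¹ = ⁅g * (w : G) * g⁻¹, g * d * g⁻¹⁆ by
        simp only [commutatorElement_def]; group, hgd, mul_inv_cancel_right]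
    have hχD : ∀ w ∈ D, ∀ hw : w ∈ F, χ ⟨w, hw⟩ = 1 := by
      rintro _ ⟨w, rfl⟩ hw
      -- write `w` as an image under `a`
      let w' : ↥F := (actHom A F hn a).symm w
      have hw' : c a w' = w := (actHom A F hn a).apply_symm_apply w
      have e1 : χ (c a w') = χ (c b w') := congrArg (fun g : ↥F →* ℂˣ => g w') hab
      have hwG : (a : G) * (w' : G) * (a : G)⁻¹ = w := congrArg Subtype.val hw'
      have e2 : (⟨⁅(w : G), d⁆, hw⟩ : ↥F) = c a w' * (c b w')⁻¹ := Subtype.ext (by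
        show ⁅(w : G), d⁆ = (a : G) * w' * (a : G)⁻¹ * ((b : G) * w' * (b : G)⁻¹)⁻¹
        have hab' : (b : G) = d * a := by
          rw [hd, mul_assoc, comm_of_mem hA b.2 a.2, inv_mul_cancel_left]
        rw [hab', ← hwG]
        simp only [commutatorElement_def]; group)
      show χ ⟨⁅(w : G), d⁆, hw⟩ = 1
      rw [e2, map_mul, map_inv, e1, mul_inv_cancel]
    by_contra hne
    have hDne : D ≠ ⊥ := fun e => hne (by
      have h1 : ⁅u, d⁆ ∈ D := ⟨⟨u, hu⟩, rfl⟩
      rw [e, Subgroup.mem_bot] at h1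
      exact commutatorElement_eq_one_iff_mul_comm.1 h1)
    have hD2 : IsPGroup 2 D := hF2.to_le hDF
    set S := A ⊔ D
    have hS : IsPGroup 2 S := hA2.to_sup_of_normal_right' hD2 hDA
    haveI : (D.subgroupOf S).Normal :=
      Subgroup.normal_subgroupOf_of_le_normalizer (sup_le hDA Subgroup.le_normalizer)
    obtain ⟨⟨⟨z, hzS⟩, hzD, hzc⟩, hz1⟩ := Subgroup.ne_bot_iff_exists_ne_one.1
      (CfsgLib.PGroups.inf_center_ne_bot hS (N := D.subgroupOf S) (fun e => hDne (by
        rw [← Subgroup.map_subgroupOf_eq_of_le (le_sup_right : D ≤ S), e, Subgroup.map_bot])))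
    have hzA : z ∈ F ⊓ Subgroup.centralizer (A : Set G) := ⟨hDF hzD, fun g hg =>
      congrArg Subtype.val (Subgroup.mem_center_iff.1 hzc ⟨g, Subgroup.mem_sup_left hg⟩)⟩
    obtain ⟨y, -, hy⟩ :=
      (Nat.card_eq_two_iff' (1 : ↥(F ⊓ Subgroup.centralizer (A : Set G)))).1 hfix
    have e : (⟨z, hzA⟩ : ↥(F ⊓ Subgroup.centralizer (A : Set G))) = ⟨v, hv⟩ :=
      (hy _ fun e => hz1 (Subtype.ext (Subtype.ext
        (congrArg (fun t : ↥(F ⊓ Subgroup.centralizer (A : Set G)) => (t : G)) e)))).trans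
        (hy _ fun e => hv1 (congrArg Subtype.val e)).symm
    have ezv : z = v := congrArg Subtype.val e
    exact hχ (hχD v (ezv ▸ hzD) hv.1)
  have hne1 : ∀ a : A, f a ≠ 1 := fun a e => hχ (by
    have := congrArg (fun g : ↥F →* ℂˣ => g ⟨v, hv.1⟩) e
    simp only [MonoidHom.one_apply] at this
    have hfx : c a ⟨v, hv.1⟩ = ⟨v, hv.1⟩ := Subtype.ext (by
      show (a : G) * v * (a : G)⁻¹ = v
      rw [Subgroup.mem_centralizer_iff.1 hv.2 a a.2, mul_inv_cancel_right])
    rw [show f a ⟨v, hv.1⟩ = χ (c a ⟨v, hv.1⟩) from rfl, hfx] at this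
    exact this)
  set K := (A ⊓ Subgroup.centralizer (F : Set G)).subgroupOf A
  let g : A ⧸ K → (↥F →* ℂˣ) := fun x => f x.out
  have hg : Function.Injective g := fun x y hxy => by
    rw [← QuotientGroup.out_eq' x, ← QuotientGroup.out_eq' y]
    refine QuotientGroup.eq.2 (Subgroup.mem_subgroupOf.2 ?_)
    simpa using hker _ _ hxy
  have hlt : Nat.card (A ⧸ K) < Nat.card (↥F →* ℂˣ) := by
    refine lt_of_le_of_ne (Nat.card_le_card_of_injective g hg) fun e => ?_
    obtain ⟨x, hx⟩ := (((Nat.bijective_iff_injective_and_card g).2 ⟨hg, e⟩).2) 1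
    exact hne1 x.out hx
  rw [CommGroup.card_monoidHom_of_hasEnoughRootsOfUnity ↥F ℂ] at hlt
  exact hlt

/-- An involution inverting a fixed-point-free element of odd order halves the rank. -/
theorem inverted_split {U : Subgroup G} (hU : IsElementaryAbelian 2 U) {a y : G}
    (ha : a ∈ Subgroup.normalizer (U : Set G)) (hy : y ∈ Subgroup.normalizer (U : Set G))
    (ha2 : a * a = 1) (hyo : Odd (orderOf y))
    (hinv : ∀ u ∈ U, a * (y * (a⁻¹ * u * a) * y⁻¹) * a⁻¹ = y⁻¹ * u * y)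
    (hfree : ∀ u ∈ U, y * u = u * y → u = 1) :
    U ≤ (U ⊓ Subgroup.centralizer {a}) ⊔
        (U ⊓ Subgroup.centralizer {a}).map (MulAut.conj y).toMonoidHom ∧
      Nat.card U = Nat.card ↥(U ⊓ Subgroup.centralizer {a}) * Nat.card ↥(U ⊓ Subgroup.centralizer {a}) := by
  set F := U ⊓ Subgroup.centralizer {a} with hF
  set F' := F.map (MulAut.conj y).toMonoidHom
  have ha' : a⁻¹ = a := inv_eq_of_mul_eq_one_right ha2
  have hF'U : F' ≤ U := by
    rintro _ ⟨w, hw, rfl⟩
    exact (Subgroup.mem_normalizer_iff.1 hy w).1 hw.1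
  have hdis : F' ⊓ F = ⊥ := by
    rw [eq_bot_iff]
    rintro _ ⟨⟨w, hw, rfl⟩, hu⟩
    have hwa : a⁻¹ * w * a = w := by
      have := Subgroup.mem_centralizer_singleton_iff.1 hw.2
      rw [mul_assoc, this, inv_mul_cancel_left]
    have h1 : a * (y * w * y⁻¹) * a⁻¹ = y⁻¹ * w * y := by
      have := hinv w hw.1
      rwa [hwa] at this
    have h2 : a * (y * w * y⁻¹) = y * w * y⁻¹ * a :=
      (Subgroup.mem_centralizer_singleton_iff.1 hu.2).symm
    rw [h2, mul_inv_cancel_right] at h1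
    have h3 : Commute (y ^ 2) w := by
      show y ^ 2 * w = w * y ^ 2
      rw [pow_two]
      calc y * y * w = y * (y * w * y⁻¹) * y := by group
        _ = w * (y * y) := by rw [h1]; group
    obtain ⟨m, hm⟩ := exists_pow_eq_self_of_coprime (x := y) (n := 2) (Nat.coprime_two_left.2 hyo)
    have h4 : Commute y w := hm ▸ h3.pow_left m
    have h5 := hfree w hw.1 h4
    show y * w * y⁻¹ ∈ (⊥ : Subgroup G)
    rw [h5, Subgroup.mem_bot]; group
  have hle : F' ⊔ F ≤ U := sup_le hF'U inf_le_left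
  have h1 := CfsgLib.Coprime.card_sup_mul_card_inf
    (hF'U.trans (le_normalizer_of_abelian hU.1 inf_le_left) : F' ≤ Subgroup.normalizer (F : Set G))
  rw [hdis, Subgroup.card_bot, mul_one,
    show Nat.card F' = Nat.card F from Subgroup.card_map_of_injective (MulAut.conj y).injective] at h1
  -- the other inequality
  have h2 : Nat.card U ≤ Nat.card F * Nat.card F := by
    set φ := commHom hU.1 ha
    have hrange : φ.range ≤ F := by
      rintro _ ⟨v, rfl⟩
      refine ⟨comm_mem_of_mem_normalizer ha v.2, Subgroup.mem_centralizer_singleton_iff.2 ?_⟩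
      show ⁅(v : G), a⁆ * a = a * ⁅(v : G), a⁆
      have hv2 : (v : G)⁻¹ = v := inv_eq_of_mul_eq_one_right (by
        have := hU.2 v v.2; rwa [pow_two] at this)
      have hw : a * (v : G) * a ∈ U := by
        have := (Subgroup.mem_normalizer_iff.1 ha v).1 v.2; rwa [ha'] at this
      rw [commutatorElement_def, hv2, ha']
      have hc : (v : G) * (a * v * a) = a * v * a * v := comm_of_mem hU.1 v.2 hw
      calc (v : G) * a * v * a * a = v * a * v * (a * a) := by group
        _ = v * a * v := by rw [ha2, mul_one]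
        _ = (a * a) * (v * a * v) := by rw [ha2, one_mul]
        _ = a * (a * v * a * v) := by group
        _ = a * ((v : G) * (a * v * a)) := by rw [hc]
        _ = _ := by group
    have hker : Nat.card φ.ker ≤ Nat.card F := by
      refine Nat.card_le_card_of_injective
        (fun v => (⟨(v.1 : G), v.1.2, Subgroup.mem_centralizer_singleton_iff.2
          (commutatorElement_eq_one_iff_mul_comm.1 v.2)⟩ : ↥F)) fun v w h => ?_
      have h' : ((v.1 : U) : G) = (w.1 : U) := congrArg (fun x : ↥F => (x : G)) h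
      exact Subtype.ext (Subtype.ext h')
    rw [← φ.ker.card_mul_index, Subgroup.index_ker φ]
    exact Nat.mul_le_mul hker (Subgroup.card_le_of_le hrange)
  have he : F' ⊔ F = U := Subgroup.eq_of_le_of_card_ge hle (h1.symm ▸ h2)
  exact ⟨by rw [sup_comm]; exact he.ge, by rw [← he]; exact h1⟩

/-- The module `W_K` has order four. -/
theorem card_w_le_four {K A : Subgroup G} (hgen : oddGen K = K)
    (hA : IsElementaryAbelian 2 A) (hmax : ∀ B : Subgroup G, IsElementaryAbelian 2 B → Nat.card B ≤ Nat.card A)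
    (hAK : A ≤ Subgroup.normalizer (K : Set G)) {y a : G} (hy : y ∈ K) (hyo : Odd (orderOf y))
    (hKy : K ≤ Subgroup.zpowers y ⊔ pCoreOf 2 K) (ha : a ∈ A)
    (hay : a * y * a⁻¹ * y ∈ pCoreOf 2 K)
    {A2 : Subgroup G} (hA2 : A2 ≤ A) (hcard : Nat.card A ≤ 2 * Nat.card A2)
    (hcomm : ∀ g ∈ A2, g * y * g⁻¹ * y⁻¹ ∈ pCoreOf 2 K) (hne : wOf K ≠ ⊥) :
    Nat.card ↥(wOf K) = 4 := by
  classical
  set Q := pCoreOf 2 K with hQ
  set Z := omegaCenterOf Q
  set W := wOf K with hW
  have hZe : IsElementaryAbelian 2 Z := isElementaryAbelian_omegaCenterOf Q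
  have hWZ : W ≤ Z := wOf_le K
  have hWe : IsElementaryAbelian 2 W := isElementaryAbelian_of_le hZe hWZ
  have hKZ : K ≤ Subgroup.normalizer (Z : Set G) := le_normalizer_omega_pCore K
  have hAW : A ≤ Subgroup.normalizer (W : Set G) := hAK.trans (normalizer_le_normalizer_wOf K)
  have hKW : K ≤ Subgroup.normalizer (W : Set G) :=
    Subgroup.le_normalizer.trans (normalizer_le_normalizer_wOf K)
  have hQZ : ∀ q ∈ Q, ∀ v ∈ Z, q * v = v * q := fun q hq v hv =>
    omegaCenterOf_le_centralizer Q hv q hq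
  -- `[Z, K] = [Z, y]`
  have hWy : W ≤ ⁅Z, Subgroup.zpowers y⁆ := by
    rw [hW, wOf, Subgroup.commutator_le]
    intro v hv x hx
    obtain ⟨u, hu, q, hq, rfl⟩ := (CfsgLib.Coprime.mem_sup_iff_of_le_normalizer
      ((Subgroup.zpowers_le.2 hy).trans (CfsgLib.LocalEven.le_normalizer_pCoreOf 2 K))).1 (hKy hx)
    have h1 : ⁅v, q⁆ = 1 := commutatorElement_eq_one_iff_mul_comm.2 (hQZ q hq v hv).symm
    rw [show ⁅v, u * q⁆ = ⁅v, u⁆ * (u * ⁅v, q⁆ * u⁻¹) by simp only [commutatorElement_def]; group, h1,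
      mul_one, mul_inv_cancel, mul_one]
    exact Subgroup.commutator_mem_commutator hv hu
  have hfree : ∀ u ∈ W, y * u = u * y → u = 1 := by
    intro u hu hc
    have hyZ : Subgroup.zpowers y ≤ Subgroup.normalizer (Z : Set G) := Subgroup.zpowers_le.2 (hKZ hy)
    obtain ⟨n, hn⟩ := IsPGroup.iff_card.1 (isPGroup_of_isElementaryAbelian hZe)
    haveI := hZe.1
    have h0 := CfsgLib.Coprime.centralizer_inf_commutator_eq_bot hyZ (by
      rw [Nat.card_zpowers, hn]; exact Nat.Coprime.pow_right _ (Nat.coprime_two_right.2 hyo))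
    have hm : u ∈ (Z ⊓ Subgroup.centralizer ((Subgroup.zpowers y : Subgroup G) : Set G)) ⊓
        ⁅Z, Subgroup.zpowers y⁆ := ⟨⟨hWZ hu, mem_centralizer_zpowers.2 hc⟩, hWy hu⟩
    rw [h0, Subgroup.mem_bot] at hm
    exact hm
  have ha2 : a * a = 1 := by have := hA.2 a ha; rwa [pow_two] at this
  have hinv : ∀ u ∈ W, a * (y * (a⁻¹ * u * a) * y⁻¹) * a⁻¹ = y⁻¹ * u * y := by
    intro u hu
    have hyu : y⁻¹ * u * y ∈ W := by
      simpa using (Subgroup.mem_normalizer_iff.1 (hKW (inv_mem hy)) u).1 hu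
    calc a * (y * (a⁻¹ * u * a) * y⁻¹) * a⁻¹
        = (a * y * a⁻¹ * y) * (y⁻¹ * u * y) * (a * y * a⁻¹ * y)⁻¹ := by group
      _ = y⁻¹ * u * y := by rw [hQZ _ hay _ (hWZ hyu), mul_inv_cancel_right]
  obtain ⟨hsplit, hsq⟩ := inverted_split hWe (hAW ha) (hKW hy) ha2 hyo hinv hfree
  set F0 := W ⊓ Subgroup.centralizer {a}
  set Fx := W ⊓ Subgroup.centralizer (A2 : Set G) with hFx
  have hcy : ∀ g ∈ A2, ∀ u ∈ W, g * (y * u * y⁻¹) * g⁻¹ = y * (g * u * g⁻¹) * y⁻¹ := by
    intro g hg u hu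
    have hgu : y * (g * u * g⁻¹) * y⁻¹ ∈ W := (Subgroup.mem_normalizer_iff.1 (hKW hy) _).1
      ((Subgroup.mem_normalizer_iff.1 (hAW (hA2 hg)) u).1 hu)
    calc g * (y * u * y⁻¹) * g⁻¹
        = (g * y * g⁻¹ * y⁻¹) * (y * (g * u * g⁻¹) * y⁻¹) * (g * y * g⁻¹ * y⁻¹)⁻¹ := by group
      _ = _ := by rw [hQZ _ (hcomm g hg) _ (hWZ hgu), mul_inv_cancel_right]
  have hyFx : y ∈ Subgroup.normalizer (Fx : Set G) := by
    refine CfsgLib.LocalEven.mem_normalizer_of_conj (Subgroup.eq_of_le_of_card_ge ?_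
      (Nat.card_congr (Subgroup.equivMapOfInjective _ _ (MulAut.conj y).injective).toEquiv).le)
    rintro _ ⟨u, hu, rfl⟩
    refine ⟨(Subgroup.mem_normalizer_iff.1 (hKW hy) u).1 hu.1, fun g hg => ?_⟩
    have h2 : g * u * g⁻¹ = u := by rw [Subgroup.mem_centralizer_iff.1 hu.2 g hg, mul_inv_cancel_right]
    have := hcy g hg u hu.1
    rw [h2] at this
    exact mul_inv_eq_iff_eq_mul.1 this
  have haFx : a ∈ Subgroup.normalizer (Fx : Set G) :=
    normalizer_inf_le _ _ ⟨hAW ha, CfsgLib.LocalEven.normalizer_le_normalizer_centralizer _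
      (le_normalizer_of_abelian hA.1 hA2 ha)⟩
  obtain ⟨-, hsqx⟩ := inverted_split (isElementaryAbelian_of_le hWe inf_le_left) haFx hyFx ha2 hyo
    (fun u hu => hinv u hu.1) (fun u hu => hfree u hu.1)
  set f0 := Fx ⊓ Subgroup.centralizer {a}
  -- `f0` has order two
  have hA2p : IsPGroup 2 A2 := (isPGroup_of_isElementaryAbelian hA).to_le hA2
  have hFxne : Fx ≠ ⊥ := by
    set S := A2 ⊔ W
    have hA2W : A2 ≤ Subgroup.normalizer (W : Set G) := hA2.trans hAW
    have hS : IsPGroup 2 S :=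
      hA2p.to_sup_of_normal_right' (isPGroup_of_isElementaryAbelian hWe) hA2W
    haveI : (W.subgroupOf S).Normal :=
      Subgroup.normal_subgroupOf_of_le_normalizer (sup_le hA2W Subgroup.le_normalizer)
    obtain ⟨⟨⟨z, hzS⟩, hzW, hzc⟩, hz1⟩ := Subgroup.ne_bot_iff_exists_ne_one.1
      (CfsgLib.PGroups.inf_center_ne_bot hS (N := W.subgroupOf S) (fun e => hne (by
        show W = ⊥
        rw [← Subgroup.map_subgroupOf_eq_of_le (le_sup_right : W ≤ S), e, Subgroup.map_bot])))
    intro e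
    have hz : z ∈ Fx := ⟨hzW, fun g hg =>
      congrArg Subtype.val (Subgroup.mem_center_iff.1 hzc ⟨g, Subgroup.mem_sup_left hg⟩)⟩
    rw [e, Subgroup.mem_bot] at hz
    exact hz1 (Subtype.ext (Subtype.ext hz))
  have hbound : ∀ U : Subgroup G, IsElementaryAbelian 2 U → ∀ B ≤ A2,
      B ≤ Subgroup.centralizer (U : Set G) →
      Nat.card B * Nat.card U ≤ Nat.card A * Nat.card ↥(B ⊓ U) := by
    intro U hU B hB hBU
    have h1 := CfsgLib.Coprime.card_sup_mul_card_inf (hBU.trans (Subgroup.centralizer_le_normalizer _))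
    rw [← h1]
    exact Nat.mul_le_mul_right _ (hmax _ (isElementaryAbelian_sup
      (isElementaryAbelian_of_le hA (hB.trans hA2)) hU hBU))
  have hf0A : ∀ {B U : Subgroup G}, B ≤ A → U ≤ W → B ≤ A2 →
      B ⊓ U ≤ f0 := fun {B U} hB hU _ x hx =>
    ⟨⟨hU hx.2, fun g hg => comm_of_mem hA.1 (hA2 hg) (hB hx.1)⟩,
      Subgroup.mem_centralizer_singleton_iff.2 (comm_of_mem hA.1 (hB hx.1) ha)⟩
  have hf2 : Nat.card f0 = 2 := by
    have h1 := hbound Fx (isElementaryAbelian_of_le hWe inf_le_left) A2 le_rfl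
      (Subgroup.le_centralizer_iff.1 inf_le_right)
    rw [hsqx] at h1
    have h2 : Nat.card ↥(A2 ⊓ Fx) ≤ Nat.card f0 :=
      Subgroup.card_le_of_le (hf0A hA2 inf_le_left le_rfl)
    have hp : 1 < Nat.card f0 := by
      by_contra hle
      have h0 : Nat.card f0 = 1 := by have := Nat.card_pos (α := f0); omega
      have := (Subgroup.one_lt_card_iff_ne_bot Fx).2 hFxne
      rw [hsqx] at this
      have h0' : Nat.card ↥(Fx ⊓ Subgroup.centralizer {a}) = 1 := h0
      rw [h0'] at this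
      omega
    have h3 : Nat.card A2 * (Nat.card f0 * Nat.card f0) ≤ Nat.card A2 * (2 * Nat.card f0) :=
      calc _ ≤ Nat.card A * Nat.card ↥(A2 ⊓ Fx) := h1
        _ ≤ 2 * Nat.card A2 * Nat.card f0 := Nat.mul_le_mul hcard h2
        _ = _ := by ring
    have h4 := Nat.le_of_mul_le_mul_left h3 Nat.card_pos
    have h5 : Nat.card f0 ≤ 2 := Nat.le_of_mul_le_mul_right h4 Nat.card_pos
    omega
  -- the kernel on `W`
  have hAF0 : A2 ≤ Subgroup.normalizer (F0 : Set G) := fun g hg =>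
    normalizer_inf_le _ _ ⟨hAW (hA2 hg), CfsgLib.LocalEven.normalizer_le_normalizer_centralizer _
      (Subgroup.centralizer_le_normalizer _ (Subgroup.mem_centralizer_singleton_iff.2
        (comm_of_mem hA.1 (hA2 hg) ha)))⟩
  have hfixF0 : Nat.card ↥(F0 ⊓ Subgroup.centralizer (A2 : Set G)) = 2 := by
    rw [← hf2]
    show Nat.card ↥(W ⊓ Subgroup.centralizer {a} ⊓ Subgroup.centralizer (A2 : Set G)) = _
    rw [inf_right_comm]
  have hlt := relIndex_lt_of_fixed_two (isElementaryAbelian_of_le hA hA2).1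
    (isElementaryAbelian_of_le hWe inf_le_left).1 hAF0 hA2p
    (isPGroup_of_isElementaryAbelian (isElementaryAbelian_of_le hWe inf_le_left)) hfixF0
  set X := A2 ⊓ Subgroup.centralizer (F0 : Set G) with hX
  have hXW : X ≤ Subgroup.centralizer (W : Set G) := by
    intro g hg
    have hle : F0 ⊔ F0.map (MulAut.conj y).toMonoidHom ≤ Subgroup.centralizer {g} := by
      refine sup_le (fun u hu => Subgroup.mem_centralizer_singleton_iff.2 (hg.2 u hu)) ?_
      rintro _ ⟨u, hu, rfl⟩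
      refine Subgroup.mem_centralizer_singleton_iff.2 ?_
      show y * u * y⁻¹ * g = g * (y * u * y⁻¹)
      have h2 : g * u * g⁻¹ = u := by rw [← hg.2 u hu, mul_inv_cancel_right]
      have := hcy g hg.1 u hu.1
      rw [h2] at this
      exact (mul_inv_eq_iff_eq_mul.1 this).symm
    exact fun u hu => Subgroup.mem_centralizer_singleton_iff.1 (hle (hsplit hu))
  have h1 := hbound W hWe X inf_le_left hXW
  have h2 : Nat.card ↥(X ⊓ W) ≤ 2 := hf2 ▸ Subgroup.card_le_of_le
    (hf0A (inf_le_left.trans hA2) le_rfl inf_le_left)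
  have h3 : Nat.card X * X.relIndex A2 = Nat.card A2 := by
    have := Subgroup.relIndex_mul_relIndex ⊥ X A2 bot_le inf_le_left
    simpa only [Subgroup.relIndex_bot_left] using this
  have h4 : Nat.card X * Nat.card W ≤ Nat.card X * (4 * X.relIndex A2) := by
    calc _ ≤ Nat.card A * Nat.card ↥(X ⊓ W) := h1
      _ ≤ (2 * Nat.card A2) * 2 := Nat.mul_le_mul hcard h2
      _ = _ := by rw [← h3]; ring
  have h5 := Nat.le_of_mul_le_mul_left h4 Nat.card_pos
  obtain ⟨j, hj⟩ : ∃ j, Nat.card F0 = 2 ^ j :=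
    IsPGroup.iff_card.1 (isPGroup_of_isElementaryAbelian (isElementaryAbelian_of_le hWe inf_le_left))
  obtain ⟨i, hi⟩ : ∃ i, X.relIndex A2 = 2 ^ i := by
    obtain ⟨m, hm⟩ := IsPGroup.iff_card.1 hA2p
    obtain ⟨i, -, hi⟩ := (Nat.dvd_prime_pow Nat.prime_two).1
      (show X.relIndex A2 ∣ 2 ^ m from hm ▸ h3 ▸ dvd_mul_left _ _)
    exact ⟨i, hi⟩
  rw [hsq] at h5 ⊢
  rw [hj, hi] at hlt
  rw [hj, hi] at h5
  rw [hj]
  have hij : i < j := (Nat.pow_lt_pow_iff_right (by norm_num)).1 hlt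
  have h6 : 2 ^ (j + j) ≤ 2 ^ (2 + i) := by rw [pow_add, pow_add]; norm_num; linarith
  have := (Nat.pow_le_pow_iff_right (by norm_num)).1 h6
  have hj1 : j = 1 := by omega
  rw [hj1]; norm_num

end CfsgLib.LocalEven.JComp
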