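import Cfsg.Agent.Lib.LocalEven.JCompMain
import Cfsg.Agent.Lib.LocalEven.JCompModule

/-!
Every factor of the failure of factorization yields a `J`-component.
-/

set_option autoImplicit false
set_option linter.style.haveILetI false
set_option linter.unusedSectionVars false

namespace CfsgLib.LocalEven.JComp

open Cfsg CfsgLib.PLocal
open scoped commutatorElement

universe u

variable {L : Type u} [Group L] [Finite L] {T : Sylow 2 L}

theorem oddGen_oddGen (X : Subgroup L) : oddGen (oddGen X) = oddGen X :=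
  le_antisymm (oddGen_le _)
    ((Subgroup.closure_le _).2 fun _ hx => mem_oddGen (mem_oddGen hx.1 hx.2) hx.2)

theorem eq_or_inv_of_mem_zpowers {H : Type*} [Group H] {c x : H} (hc : c ^ 3 = 1) (hc1 : c ≠ 1)
    (hx : x ∈ Subgroup.zpowers c) : x = 1 ∨ x = c ∨ x = c⁻¹ :=
  eq_or_of_card_three (by rw [Nat.card_zpowers, orderOf_eq_prime hc hc1]) (Subgroup.mem_zpowers c) hc1 hx

namespace Setup

variable (s : Setup T)
include s

theorem isComp_oddGen {B : Subgroup (Hol (Om L))} {k a : L} (h : Lift T B k a) :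
    IsComp (thompsonSubgroupOf 2 (T : Subgroup L)) (oddGen (M1 k)) ∧
      factorCore 2 (Hm L) B ≤ (oddGen (M1 k)).map (toHol (Om L)) := by
  set P := pCore 2 L
  set q := QuotientGroup.mk' P
  set π := toHol (Om L)
  set J := thompsonSubgroupOf 2 (T : Subgroup L)
  set K := oddGen (M1 k) with hKdef
  have hP2 : IsPGroup 2 P := CfsgLib.Base.isPGroup_pCore 2 L
  have hJ2 : IsPGroup 2 J := T.2.to_le (thompsonSubgroupOf_le 2 _)
  have hPC := s.pCore_le_centralizer
  have hqP : ∀ x, q x = 1 ↔ x ∈ P := fun x => QuotientGroup.eq_one_iff x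
  have hk1 : q k ≠ 1 := fun e => h.k_ne (by
    rw [← MonoidHom.mem_ker, ker_toHol]; exact hPC ((hqP k).1 e))
  have hnorm := s.conj_lift h.min h.k_mem h.a_mem h.k_map h.k_ne h.a_map h.a_ne h.cube h.inv
  have hKn : thompsonSubgroup 2 L ≤ Subgroup.normalizer (K : Set L) := s.le_normalizer_oddGen_M1 h
  have hJD : J ≤ thompsonSubgroup 2 L := thompsonSubgroupOf_sylow_le T
  have hJK : J ≤ Subgroup.normalizer (K : Set L) := hJD.trans hKn
  have hgen : oddGen K = K := oddGen_oddGen _
  have hKM : K ≤ M1 k := oddGen_le _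
  have hMK : M1 k ≤ Subgroup.normalizer (K : Set L) :=
    Subgroup.le_normalizer.trans (normalizer_le_normalizer_oddGen _)
  have hPK : P ≤ Subgroup.normalizer (K : Set L) := (pCore_le_M1 k).trans hMK
  -- a generator of odd order
  obtain ⟨n, hn⟩ : ∃ n, (k ^ 3) ^ 2 ^ n = 1 := by
    obtain ⟨n, hn⟩ := hP2 ⟨k ^ 3, (hqP _).1 (by rw [map_pow, h.cube])⟩
    exact ⟨n, by simpa using congrArg Subtype.val hn⟩
  set y := k ^ 2 ^ n with hy
  have hy3 : y ^ 3 = 1 := by rw [hy, ← pow_mul, mul_comm, pow_mul, hn]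
  have hyo : Odd (orderOf y) := by
    have hd := orderOf_dvd_of_pow_eq_one hy3
    rcases (Nat.dvd_prime Nat.prime_three).1 hd with e | e <;> rw [e] <;> decide
  have hyM : y ∈ M1 k := Subgroup.pow_mem _ (Subgroup.mem_zpowers (q k)) _
  have hyK : y ∈ K := mem_oddGen hyM hyo
  have hqy : q y ≠ 1 := by
    rw [hy, map_pow]
    intro e
    have h1 : orderOf (q k) = 3 := orderOf_eq_prime h.cube hk1
    have h2 : 3 ∣ 2 ^ n := h1 ▸ orderOf_dvd_of_pow_eq_one e
    have := Nat.prime_three.dvd_of_dvd_pow h2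
    omega
  have hqy3 : q y ^ 3 = 1 := by rw [← map_pow, hy3, map_one]
  have hcyc : ∀ x ∈ M1 k, ∃ i : ℤ, x * (y ^ i)⁻¹ ∈ P := by
    intro x hx
    have hqk : q k ∈ Subgroup.zpowers (q y) := by
      rcases eq_or_inv_of_mem_zpowers h.cube hk1 (show q y ∈ Subgroup.zpowers (q k) from hyM)
        with e | e | e
      · exact absurd e hqy
      · rw [← e]; exact Subgroup.mem_zpowers _
      · rw [← inv_inv (q k), ← e]; exact inv_mem (Subgroup.mem_zpowers _)
    obtain ⟨i, hi⟩ := (Subgroup.zpowers_le.2 hqk) (show q x ∈ Subgroup.zpowers (q k) from hx)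
    refine ⟨i, (hqP _).1 ?_⟩
    rw [map_mul, map_inv, map_zpow, show q y ^ i = q x from hi, mul_inv_cancel]
  -- the core
  have hcore : pCoreOf 2 K = K ⊓ P := by
    refine le_antisymm (le_inf (CfsgLib.LocalEven.pCoreOf_le 2 K) fun x hx => (hqP x).1 ?_)
      (CfsgLib.LocalEven.le_pCoreOf inf_le_left
        ((le_inf Subgroup.le_normalizer (le_top.trans
          (Subgroup.normalizer_eq_top_iff.2 (inferInstance : P.Normal)).ge)).trans (normalizer_inf_le _ _))
        (hP2.to_le inf_le_right))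
    obtain ⟨m, hm⟩ := CfsgLib.LocalEven.isPGroup_pCoreOf (p := 2) K ⟨x, hx⟩
    have hm' : x ^ 2 ^ m = 1 := by simpa using congrArg Subtype.val hm
    have h3 : q x ^ 3 = 1 := by
      rcases eq_or_inv_of_mem_zpowers h.cube hk1
        (show q x ∈ Subgroup.zpowers (q k) from hKM (CfsgLib.LocalEven.pCoreOf_le 2 K hx))
        with e | e | e <;> rw [e]
      · exact one_pow _
      · exact h.cube
      · rw [inv_pow, h.cube, inv_one]
    rw [← orderOf_eq_one_iff]
    exact Nat.eq_one_of_dvd_coprimes (Nat.Coprime.pow_left m (by norm_num : Nat.Coprime 2 3))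
      (orderOf_dvd_of_pow_eq_one (by rw [← map_pow, hm', map_one])) (orderOf_dvd_of_pow_eq_one h3)
  have hKy : K ≤ Subgroup.zpowers y ⊔ pCoreOf 2 K := by
    intro x hx
    obtain ⟨i, hi⟩ := hcyc x (hKM hx)
    have hyi : y ^ i ∈ Subgroup.zpowers y := zpow_mem (Subgroup.mem_zpowers y) i
    have h2 : (y ^ i)⁻¹ * x ∈ pCoreOf 2 K := by
      rw [hcore]
      refine ⟨K.mul_mem (K.inv_mem (K.zpow_mem hyK i)) hx, ?_⟩
      have := (inferInstance : P.Normal).conj_mem _ hi (y ^ i)⁻¹
      show (y ^ i)⁻¹ * x ∈ P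
      rwa [show (y ^ i)⁻¹ * (x * (y ^ i)⁻¹) * (y ^ i)⁻¹⁻¹ = (y ^ i)⁻¹ * x by group] at this
    have := Subgroup.mul_mem_sup hyi h2
    rwa [mul_inv_cancel_left] at this
  have hindex : (pCoreOf 2 K).relIndex K = 3 := by
    rw [hcore, Subgroup.inf_relIndex_left, ← CfsgLib.PLocal.card_map_mk'_eq_relIndex P K]
    have e : K.map q = Subgroup.zpowers (q y) := by
      refine le_antisymm ?_ (Subgroup.zpowers_le.2 (Subgroup.mem_map_of_mem q hyK))
      rintro _ ⟨x, hx, rfl⟩
      obtain ⟨i, hi⟩ := hcyc x (hKM hx)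
      have h1 := (hqP _).2 hi
      rw [map_mul, map_inv, map_zpow, mul_inv_eq_one] at h1
      exact ⟨i, h1.symm⟩
    rw [show QuotientGroup.mk' P = q from rfl, e, Nat.card_zpowers, orderOf_eq_prime hqy3 hqy]
  -- the two possible actions
  have hact : ∀ g ∈ thompsonSubgroup 2 L, q g * q y * (q g)⁻¹ = q y ∨ q g * q y * (q g)⁻¹ = (q y)⁻¹ := by
    intro g hg
    have hm := (Subgroup.mem_normalizer_iff.1 (hnorm hg) y).1 hyM
    have hm' : q g * q y * (q g)⁻¹ ∈ Subgroup.zpowers (q k) := by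
      rw [← map_inv, ← map_mul, ← map_mul]; exact hm
    have e : Subgroup.zpowers (q k) = Subgroup.zpowers (q y) :=
      (Subgroup.eq_of_le_of_card_ge (Subgroup.zpowers_le.2 (show q y ∈ Subgroup.zpowers (q k) from hyM)) (by
        rw [Nat.card_zpowers, Nat.card_zpowers, orderOf_eq_prime h.cube hk1,
          orderOf_eq_prime hqy3 hqy])).symm
    rw [e] at hm'
    rcases eq_or_inv_of_mem_zpowers hqy3 hqy hm' with e | e | e
    · exact absurd (conj_eq_one_iff.1 e) hqy
    · exact Or.inl e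
    · exact Or.inr e
  -- an elementary abelian subgroup of largest order moving `y`
  obtain ⟨A, hA, hBA⟩ := h.min.2
  obtain ⟨b, hbA, hba⟩ := hBA h.a_map
  have hAD : A ≤ thompsonSubgroup 2 L := (le_thompsonSubgroupOf hA).trans hJD
  have hπy : π y ∈ factorCore 2 (Hm L) B ∧ π y ≠ 1 := by
    refine ⟨by rw [hy, map_pow]; exact pow_mem h.k_map _, fun e => ?_⟩
    have h1 : π k ^ 2 ^ n = 1 := by rw [← map_pow]; exact e
    have h3 : π k ^ 3 = 1 := by
      have := (pow_card_eq_one' : (⟨π k, h.k_map⟩ : factorCore 2 (Hm L) B) ^ Nat.card _ = 1)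
      rw [h.min.card_factorCore.1] at this
      simpa using congrArg Subtype.val this
    exact h.k_ne (orderOf_eq_one_iff.1 (Nat.eq_one_of_dvd_coprimes
      (Nat.Coprime.pow_left n (by norm_num : Nat.Coprime 2 3))
      (orderOf_dvd_of_pow_eq_one h1) (orderOf_dvd_of_pow_eq_one h3)))
  have hbinv : q b * q y * (q b)⁻¹ = (q y)⁻¹ := by
    rcases hact b (hAD hbA) with e | e
    · exfalso
      have hx : b * y * b⁻¹ * y⁻¹ ∈ P := (hqP _).1 (by
        rw [map_mul, map_mul, map_mul, map_inv, map_inv]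
        show q b * q y * (q b)⁻¹ * (q y)⁻¹ = 1
        rw [e, mul_inv_cancel])
      have h1 : π (b * y * b⁻¹ * y⁻¹) = 1 := by
        rw [← MonoidHom.mem_ker, ker_toHol]; exact hPC hx
      rw [map_mul, map_mul, map_mul, map_inv, map_inv, hba,
        h.min.inverts _ h.a_map h.a_ne _ hπy.1] at h1
      have h2 : π y * π y = 1 := by
        have := congrArg Inv.inv h1
        simpa using this
      have h3 : π y ^ 3 = 1 := by rw [← map_pow, hy3, map_one]
      rw [pow_succ, pow_two, h2, one_mul] at h3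
      exact hπy.2 h3
    · exact e
  have hby : b * y * b⁻¹ * y ∈ pCoreOf 2 K := by
    rw [hcore]
    refine ⟨mul_mem ((Subgroup.mem_normalizer_iff.1 (hKn (hAD hbA)) y).1 hyK) hyK, (hqP _).1 ?_⟩
    rw [map_mul, map_mul, map_mul, map_inv, hbinv, inv_mul_cancel]
  set A2 := A ⊓ (Subgroup.centralizer {q y}).comap q with hA2
  have hcard : Nat.card A ≤ 2 * Nat.card A2 := by
    classical
    have hsub : ∀ g ∈ A, g ∈ A2 ∨ b * g ∈ A2 := by
      intro g hg
      rcases hact g (hAD hg) with e | e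
      · exact Or.inl ⟨hg, Subgroup.mem_centralizer_singleton_iff.2
          (mul_inv_eq_iff_eq_mul.1 e)⟩
      · refine Or.inr ⟨mul_mem hbA hg, Subgroup.mem_centralizer_singleton_iff.2
          (mul_inv_eq_iff_eq_mul.1 ?_)⟩
        rw [map_mul]
        calc q b * q g * q y * (q b * q g)⁻¹ = q b * (q g * q y * (q g)⁻¹) * (q b)⁻¹ := by group
          _ = q y := by rw [e, ← conj_inv, hbinv, inv_inv]
    let f : A → A2 ⊕ A2 := fun g =>
      if hg : (g : L) ∈ A2 then Sum.inl ⟨g, hg⟩ else Sum.inr ⟨b * g, (hsub g g.2).resolve_left hg⟩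
    have hf : Function.Injective f := by
      intro g g' e
      simp only [f] at e
      split_ifs at e with h1 h2 h2
      · simp only [Sum.inl.injEq, Subtype.mk.injEq] at e
        exact Subtype.ext e
      · simp only [Sum.inr.injEq, Subtype.mk.injEq] at e
        exact Subtype.ext (mul_left_cancel e)
    have := Nat.card_le_card_of_injective f hf
    rw [Nat.card_sum] at this
    omega
  have hcomm : ∀ g ∈ A2, g * y * g⁻¹ * y⁻¹ ∈ pCoreOf 2 K := by
    intro g hg
    rw [hcore]
    refine ⟨K.mul_mem ((Subgroup.mem_normalizer_iff.1 (hKn (hAD hg.1)) y).1 hyK) (K.inv_mem hyK),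
      (hqP _).1 ?_⟩
    rw [map_mul, map_mul, map_mul, map_inv, map_inv,
      show q g * q y = q y * q g from Subgroup.mem_centralizer_singleton_iff.1 hg.2,
      mul_inv_cancel_right, mul_inv_cancel]
  -- the module
  have hU : ⁅Om L, K⁆ ≠ ⊥ := by
    intro e
    rw [Subgroup.commutator_eq_bot_iff_le_centralizer, Subgroup.le_centralizer_iff] at e
    refine hπy.2 ?_
    rw [← MonoidHom.mem_ker, ker_toHol]
    exact e hyK
  have hUQ : ⁅Om L, K⁆ ≤ omegaCenterOf (pCoreOf 2 K) := by
    have h1 : ⁅Om L, K⁆ ≤ Om L := Subgroup.commutator_le_left _ _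
    have h2 : ⁅Om L, K⁆ ≤ K := by
      refine Subgroup.le_normalizer_iff_commutator_le_right.1 ?_
      exact (omegaCenterOf_le _).trans hPK
    intro u hu
    have huP : u ∈ P := omegaCenterOf_le _ (h1 hu)
    refine mem_omegaOne ⟨hcore ▸ ⟨h2 hu, huP⟩, fun x hx => ?_⟩
      ((isElementaryAbelian_omegaCenterOf _).2 u (h1 hu))
    exact omegaCenterOf_le_centralizer _ (h1 hu) x (hcore.le hx).2
  have hne : wOf K ≠ ⊥ := fun e => hU (le_bot_iff.1 (e ▸
    (commutator_commutator_eq hgen (isElementaryAbelian_omegaCenterOf _)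
      Subgroup.le_normalizer_of_normal).ge.trans (Subgroup.commutator_mono hUQ le_rfl)))
  have hw4 := card_w_le_four hgen hA.2.1 (mem_max_of_mem_maxEAOf_sylow T hA).2 (hAD.trans hKn)
    hyK hyo hKy hbA hby (A2 := A2) inf_le_left hcard hcomm hne
  -- `[K, J] = K`
  have hcomm' : ⁅K, J⁆ = K := by
    set X := ⁅K, J⁆
    have hXK : X ≤ K := Subgroup.le_normalizer_iff_commutator_le_left.1 hJK
    refine le_antisymm hXK ?_
    have hXn : K ≤ Subgroup.normalizer (X : Set L) := Subgroup.normalizer_commutator_ge_left _ _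
    have hgenK : K ≤ pCoreOf 2 K ⊔ X := by
      refine hKy.trans (sup_le (Subgroup.zpowers_le.2 ?_) le_sup_left)
      have hc : ⁅y, b⁆ ∈ X :=
        Subgroup.commutator_mem_commutator hyK (le_thompsonSubgroupOf hA hbA)
      -- `⁅y, b⁆` is `y ^ 2` modulo the core
      have hz : y * y * ⁅y, b⁆⁻¹ ∈ pCoreOf 2 K := by
        rw [hcore]
        refine ⟨K.mul_mem (K.mul_mem hyK hyK) (K.inv_mem (hXK hc)), (hqP _).1 ?_⟩
        rw [map_mul, map_inv, map_mul, map_commutatorElement, commutatorElement_def, mul_inv_eq_one]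
        calc q y * q y = q y * (q b * q y * (q b)⁻¹)⁻¹ := by rw [hbinv, inv_inv]
          _ = _ := by group
      have h2 : y * y ∈ pCoreOf 2 K ⊔ X := by
        have := Subgroup.mul_mem_sup hz hc
        rwa [inv_mul_cancel_right] at this
      have h4 : y = (y * y) * (y * y) := by
        calc y = y ^ 3 * y := by rw [hy3, one_mul]
          _ = _ := by simp only [pow_succ, pow_zero, one_mul]; group
      rw [h4]
      exact mul_mem h2 h2
    conv_lhs => rw [← hgen]
    exact (oddGen_mono hgenK).trans (oddGen_le_of_sup (CfsgLib.LocalEven.isPGroup_pCoreOf K)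
      ((CfsgLib.LocalEven.pCoreOf_le 2 K).trans hXn))
  refine ⟨⟨⟨hgen, hindex, hw4, fun w hw => ?_⟩, hcomm'⟩, ?_⟩
  · have := (isElementaryAbelian_omegaCenterOf _).2 w (wOf_le K hw)
    rwa [pow_two] at this
  · intro z hz
    rcases eq_or_of_card_three h.min.card_factorCore.1 hπy.1 hπy.2 hz with e | e | e <;> rw [e]
    · exact one_mem _
    · exact Subgroup.mem_map_of_mem π hyK
    · exact inv_mem (Subgroup.mem_map_of_mem π hyK)

/-- If all components lie in a subgroup containing `N(J(T))`, that subgroup is everything. -/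
theorem exists_comp_not_le {M : Subgroup L}
    (hNJ : Subgroup.normalizer (thompsonSubgroupOf 2 (T : Subgroup L) : Set L) ≤ M) (hM : M ≠ ⊤) :
    ∃ K, IsComp (thompsonSubgroupOf 2 (T : Subgroup L)) K ∧ ¬ K ≤ M := by
  by_contra hno
  push Not at hno
  apply hM
  have hC : Subgroup.centralizer (Om L : Set L) ≤ M :=
    s.cent.trans ((CfsgLib.Transfer.normalizer_le_normalizer_thompsonSubgroupOf _).trans hNJ)
  have hH : Hm L ≤ M.map (toHol (Om L)) := by
    refine s.Hm_le (Subgroup.map_mono (Subgroup.le_normalizer.trans hNJ)) fun B hB => ?_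
    obtain ⟨k, a, hl⟩ := s.lift hB
    obtain ⟨hc, hle⟩ := s.isComp_oddGen hl
    exact hle.trans (Subgroup.map_mono (hno _ hc))
  rw [eq_top_iff]
  intro g _
  obtain ⟨d, hd, n, hn, rfl⟩ := exists_mul_normalizer T g
  refine mul_mem ?_ (hNJ hn)
  obtain ⟨m, hm, e⟩ := hH (Subgroup.mem_map_of_mem _ hd)
  have : d * m⁻¹ ∈ Subgroup.centralizer (Om L : Set L) := by
    rw [← ker_toHol, MonoidHom.mem_ker, map_mul, map_inv, e, mul_inv_cancel]
  have h2 := mul_mem (hC this) hm
  rwa [inv_mul_cancel_right] at h2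

end Setup

end CfsgLib.LocalEven.JComp
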