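import Cfsg.Agent.Lib.LocalEven.JCompBase
import Cfsg.Agent.Lib.PLocal.OffenderStructure
import Cfsg.Agent.Lib.PLocal.OffenderGlobal
import Cfsg.Agent.Lib.Transfer.ThompsonComplement

/-!
`J`-components of a solvable group in which a Sylow `2`-subgroup is normalized by the centralizer
of `Ω₁(Z(O₂))`: they correspond to the factors of the failure of factorization and are normal in
the subgroup generated by all elementary abelian subgroups of largest order.
-/

set_option autoImplicit false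
set_option linter.style.haveILetI false
set_option linter.unusedSectionVars false

namespace CfsgLib.LocalEven.JComp

open Cfsg CfsgLib.PLocal
open scoped commutatorElement

universe u

variable {L : Type u} [Group L]

section Sylow

variable [Finite L]

/-- A Sylow subgroup containing `J(T)` has the same Thompson subgroup. -/
theorem thompson_eq_of_le_sylow {p : ℕ} [Fact p.Prime] (T S : Sylow p L)
    (h : thompsonSubgroupOf p (T : Subgroup L) ≤ S) :
    thompsonSubgroupOf p (S : Subgroup L) = thompsonSubgroupOf p (T : Subgroup L) := by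
  obtain ⟨g, hg⟩ := MulAction.exists_smul_eq L T S
  have hgT : ((T : Subgroup L).map (MulAut.conj g).toMonoidHom) = (S : Subgroup L) := by
    rw [CfsgLib.Base.map_conj_eq_smul, ← hg, Sylow.coe_subgroup_smul]
  refine (Subgroup.eq_of_le_of_card_ge ?_ ?_).symm
  · rw [thompsonSubgroupOf_eq_sSup p (T : Subgroup L)]
    refine sSup_le fun A hA => le_thompsonSubgroupOf ⟨?_, hA.2.1, fun C _ hCe =>
      (mem_max_of_mem_maxEAOf_sylow T hA).2 C hCe⟩
    exact (le_thompsonSubgroupOf hA).trans h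
  · rw [← hgT, ← map_thompsonSubgroupOf (MulAut.conj g).injective]
    exact (Nat.card_congr (Subgroup.equivMapOfInjective _ _ (MulAut.conj g).injective).toEquiv).ge

/-- Frattini argument with the Thompson subgroup. -/
theorem exists_mul_normalizer {p : ℕ} [Fact p.Prime] (T : Sylow p L) (g : L) :
    ∃ d ∈ thompsonSubgroup p L, ∃ n ∈ Subgroup.normalizer (thompsonSubgroupOf p (T : Subgroup L) : Set L),
      g = d * n := by
  haveI := thompsonSubgroup_characteristic p L
  set D := thompsonSubgroup p L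
  obtain ⟨R, hR⟩ := (T.2.to_le (inf_le_left : (T : Subgroup L) ⊓ D ≤ T)).comap_subtype.exists_le_sylow (G := D)
  have hJD : thompsonSubgroupOf p (T : Subgroup L) ≤ D := thompsonSubgroupOf_sylow_le T
  have hJR : thompsonSubgroupOf p (T : Subgroup L) ≤ (R : Subgroup D).map D.subtype := fun x hx =>
    ⟨⟨x, hJD hx⟩, hR ⟨thompsonSubgroupOf_le p _ hx, hJD hx⟩, rfl⟩
  obtain ⟨S, hS⟩ := (R.2.map D.subtype).exists_le_sylow
  have he : thompsonSubgroupOf p ((R : Subgroup D).map D.subtype) =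
      thompsonSubgroupOf p (T : Subgroup L) := by
    have e0 := thompson_eq_of_le_sylow T S (hJR.trans hS)
    rw [← e0]
    exact thompsonSubgroupOf_eq_of_le (e0.le.trans hJR) hS
  have h := R.normalizer_sup_eq_top
  have hg : g ∈ D ⊔ Subgroup.normalizer ((R : Subgroup D).map D.subtype : Set L) := by
    rw [sup_comm, h]; exact Subgroup.mem_top g
  obtain ⟨d, hd, n, hn, rfl⟩ := Subgroup.mem_sup_of_normal_left.1 hg
  exact ⟨d, hd, n, he ▸ CfsgLib.Transfer.normalizer_le_normalizer_thompsonSubgroupOf _ hn, rfl⟩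

end Sylow

/-- `Ω₁(Z(O₂(L)))`. -/
abbrev Om (L : Type u) [Group L] : Subgroup L := omegaCenterOf (pCore 2 L)

instance : (Om L).Normal :=
  Subgroup.normalizer_eq_top_iff.1 (top_le_iff.1
    ((Subgroup.normalizer_eq_top_iff.2 (inferInstance : (pCore 2 L).Normal)).ge.trans
      (normalizer_le_normalizer_omegaCenterOf _)))

instance : (Subgroup.centralizer (Om L : Set L)).Normal := by
  rw [← ker_toHol]; infer_instance

/-- The standing hypotheses. -/
structure Setup [Finite L] (T : Sylow 2 L) : Prop where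
  sol : Group.IsSolvable L
  cent : Subgroup.centralizer (Om L : Set L) ≤ Subgroup.normalizer ((T : Subgroup L) : Set L)
  notle : ¬ thompsonSubgroupOf 2 (T : Subgroup L) ≤ pCore 2 L

/-- The image of `⟨J(S) : S⟩` in the holomorph. -/
abbrev Hm (L : Type u) [Group L] : Subgroup (Hol (Om L)) := (thompsonSubgroup 2 L).map (toHol (Om L))

/-- A minimal offender inside the image of an elementary abelian subgroup of largest order. -/
def Min [Finite L] (T : Sylow 2 L) (B : Subgroup (Hol (Om L))) : Prop :=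
  FFMin 2 (holBase (Om L)) (Hm L) B ∧
    ∃ A ∈ maxEAOf 2 (T : Subgroup L), B ≤ A.map (toHol (Om L))

variable [Finite L] {T : Sylow 2 L}

namespace Setup

variable (s : Setup T)
include s

theorem mem_pCore {c : L} (hc : c ∈ Subgroup.centralizer (Om L : Set L)) {n : ℕ}
    (hn : c ^ 2 ^ n = 1) : c ∈ pCore 2 L := by
  have hT : ∀ x ∈ Subgroup.centralizer (Om L : Set L), ∀ m : ℕ, x ^ 2 ^ m = 1 →
      x ∈ (T : Subgroup L) := by
    intro x hx m hm
    have hz : IsPGroup 2 (Subgroup.zpowers x) := by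
      obtain ⟨j, -, hj⟩ := (Nat.dvd_prime_pow Nat.prime_two).1 (orderOf_dvd_of_pow_eq_one hm)
      exact IsPGroup.of_card (n := j) (by rw [Nat.card_zpowers, hj])
    have hle := T.is_maximal'
      (T.2.to_sup_of_normal_left' hz (Subgroup.zpowers_le.2 (s.cent hx))) le_sup_left
    exact hle ▸ Subgroup.mem_sup_right (Subgroup.mem_zpowers x)
  let N := (T : Subgroup L) ⊓ Subgroup.centralizer (Om L : Set L)
  have hN : N.Normal := ⟨fun x hx g => by
    have hx2 := (inferInstance : (Subgroup.centralizer (Om L : Set L)).Normal).conj_mem x hx.2 g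
    obtain ⟨m, hm⟩ := T.2 ⟨x, hx.1⟩
    refine ⟨hT _ hx2 m ?_, hx2⟩
    have : x ^ 2 ^ m = 1 := by simpa using congrArg Subtype.val hm
    rw [conj_pow, this]; group⟩
  exact CfsgLib.LocalEven.le_pCore hN (T.2.to_le inf_le_left) ⟨hT c hc n hn, hc⟩

theorem commutator_le_pCore :
    ⁅Subgroup.centralizer (Om L : Set L), thompsonSubgroup 2 L⁆ ≤ pCore 2 L := by
  set C := Subgroup.centralizer (Om L : Set L)
  set P := pCore 2 L
  set q := QuotientGroup.mk' P
  have hTC : ∀ c ∈ C, ∀ t ∈ (T : Subgroup L), ⁅c, t⁆ ∈ P := by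
    intro c hc t ht
    have h1 : ⁅c, t⁆ ∈ (T : Subgroup L) := by
      rw [commutatorElement_def]
      exact mul_mem ((Subgroup.mem_normalizer_iff.1 (s.cent hc) t).1 ht) (inv_mem ht)
    have h2 : ⁅c, t⁆ ∈ C := by
      rw [commutatorElement_def, mul_assoc, mul_assoc]
      refine mul_mem hc ?_
      rw [← mul_assoc]
      exact (inferInstance : C.Normal).conj_mem _ (inv_mem hc) t
    obtain ⟨m, hm⟩ := T.2 ⟨_, h1⟩
    exact s.mem_pCore h2 (n := m) (by simpa using congrArg Subtype.val hm)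
  suffices h : thompsonSubgroup 2 L ≤
      (Subgroup.centralizer ((C.map q : Subgroup (L ⧸ P)) : Set (L ⧸ P))).comap q by
    refine Subgroup.commutator_le.2 fun c hc d hd => (QuotientGroup.eq_one_iff _).1 ?_
    have h1 := Subgroup.mem_centralizer_iff.1 (h hd) _ (Subgroup.mem_map_of_mem q hc)
    rw [← QuotientGroup.mk'_apply, map_commutatorElement]
    exact commutatorElement_eq_one_iff_mul_comm.2 h1
  rw [thompsonSubgroup_eq_iSup]
  refine iSup_le fun S => ?_
  obtain ⟨g, rfl⟩ := MulAction.exists_smul_eq L T S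
  intro x hx
  have hx' : x ∈ ((T : Subgroup L).map (MulAut.conj g).toMonoidHom) := by
    rw [CfsgLib.Base.map_conj_eq_smul, ← Sylow.coe_subgroup_smul]
    exact thompsonSubgroupOf_le 2 _ hx
  obtain ⟨t, ht, rfl⟩ := hx'
  refine Subgroup.mem_comap.2 (Subgroup.mem_centralizer_iff.2 ?_)
  rintro _ ⟨c, hc, rfl⟩
  rw [← commutatorElement_eq_one_iff_mul_comm, ← map_commutatorElement, QuotientGroup.mk'_apply,
    QuotientGroup.eq_one_iff]
  show ⁅c, g * t * g⁻¹⁆ ∈ P
  have := (inferInstance : P.Normal).conj_mem _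
    (hTC (g⁻¹ * c * g) (by simpa using (inferInstance : C.Normal).conj_mem c hc g⁻¹) t ht) g
  convert this using 1
  simp only [commutatorElement_def]; group

/-- In `L / O₂(L)` the centralizer of `Ω₁(Z(O₂(L)))` is central with respect to `⟨J(S) : S⟩`. -/
theorem comm_quot {c d : L} (hc : c ∈ Subgroup.centralizer (Om L : Set L))
    (hd : d ∈ thompsonSubgroup 2 L) :
    Commute (QuotientGroup.mk' (pCore 2 L) c) (QuotientGroup.mk' (pCore 2 L) d) := by
  refine commutatorElement_eq_one_iff_mul_comm.1 ?_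
  rw [← map_commutatorElement, QuotientGroup.mk'_apply, QuotientGroup.eq_one_iff]
  exact s.commutator_le_pCore (Subgroup.commutator_mem_commutator hc hd)

theorem pCore_quot : pCore 2 (L ⧸ Subgroup.centralizer (Om L : Set L)) = ⊥ := by
  set C := Subgroup.centralizer (Om L : Set L)
  set q := QuotientGroup.mk' C
  set N := (pCore 2 (L ⧸ C)).comap q
  haveI hN : N.Normal := Subgroup.Normal.comap inferInstance _
  have hCN : C ≤ N := fun c hc => by
    show (c : L ⧸ C) ∈ pCore 2 (L ⧸ C)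
    rw [(QuotientGroup.eq_one_iff c).2 hc]; exact one_mem _
  -- `T ∩ N` is normal in `N`
  obtain ⟨R, hR⟩ := (T.2.to_le (inf_le_left : (T : Subgroup L) ⊓ N ≤ T)).comap_subtype.exists_le_sylow (G := N)
  have hgen : ∀ n ∈ N, n ∈ Subgroup.normalizer (((R : Subgroup N).map N.subtype) : Set L) := by
    have hRT : (R : Subgroup N).map N.subtype = (T : Subgroup L) ⊓ N := by
      refine le_antisymm ?_ fun x hx => ⟨⟨x, hx.2⟩, hR hx, rfl⟩
      refine le_inf ?_ (Subgroup.map_subtype_le _)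
      obtain ⟨S, hS⟩ := (R.2.map N.subtype).exists_le_sylow
      obtain ⟨g, hg⟩ := MulAction.exists_smul_eq L S T
      have h1 : ((R : Subgroup N).map N.subtype).map (MulAut.conj g).toMonoidHom ≤ (T : Subgroup L) ⊓ N := by
        refine le_inf ?_ ?_
        · rw [← hg, Sylow.coe_subgroup_smul, ← CfsgLib.Base.map_conj_eq_smul]
          exact Subgroup.map_mono hS
        · rintro _ ⟨x, hx, rfl⟩
          exact hN.conj_mem x (Subgroup.map_subtype_le _ hx) g
      have h2 : (T : Subgroup L) ⊓ N ≤ (R : Subgroup N).map N.subtype :=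
        fun x hx => ⟨⟨x, hx.2⟩, hR hx, rfl⟩
      refine (Subgroup.eq_of_le_of_card_ge h2 ?_).ge.trans inf_le_left
      exact (Nat.card_congr (Subgroup.equivMapOfInjective _ _ (MulAut.conj g).injective).toEquiv).le.trans
        (Subgroup.card_le_of_le h1)
    intro n hn
    rw [hRT]
    have hp : IsPGroup 2 (pCore 2 (L ⧸ C)) := CfsgLib.Base.isPGroup_pCore 2 _
    -- `N = C (T ∩ N)`
    have hsup : N ≤ C ⊔ ((T : Subgroup L) ⊓ N) := by
      intro x hx
      set X := C ⊔ ((T : Subgroup L) ⊓ N)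
      have hXN : X ≤ N := sup_le hCN inf_le_right
      have h1 : X.relIndex N ∣ C.relIndex N := by
        rw [← Subgroup.relIndex_mul_relIndex C X N le_sup_left hXN]; exact dvd_mul_left _ _
      have h2 : ∃ k, C.relIndex N = 2 ^ k := by
        obtain ⟨k, hk⟩ := IsPGroup.iff_card.1 hp
        refine ⟨k, ?_⟩
        rw [← hk, ← CfsgLib.Base.map_mk'_comap C (pCore 2 (L ⧸ C))]
        exact (CfsgLib.PLocal.card_map_mk'_eq_relIndex C N).symm
      have h3 : X.relIndex N ∣ ((R : Subgroup N).map N.subtype).relIndex N := by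
        rw [hRT, ← Subgroup.relIndex_mul_relIndex _ X N le_sup_right hXN]
        exact dvd_mul_left _ _
      have h4 : ((R : Subgroup N).map N.subtype).relIndex N = (R : Subgroup N).index := by
        rw [Subgroup.relIndex, Subgroup.subgroupOf,
          Subgroup.comap_map_eq_self_of_injective N.subtype_injective]
      obtain ⟨k, hk⟩ := h2
      have hco : Nat.Coprime ((R : Subgroup N).index) (2 ^ k) := Nat.Coprime.pow_right _
        (Nat.Coprime.symm ((Nat.Prime.coprime_iff_not_dvd Nat.prime_two).2 R.not_dvd_index))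
      exact Subgroup.relIndex_eq_one.1
        (Nat.eq_one_of_dvd_coprimes hco (h4 ▸ h3) (hk ▸ h1)) hx
    have hC : C ≤ Subgroup.normalizer (((T : Subgroup L) ⊓ N : Subgroup L) : Set L) :=
      (le_inf s.cent ((Subgroup.normalizer_eq_top_iff.2 hN).ge.trans' le_top)).trans
        (normalizer_inf_le _ _)
    exact sup_le hC Subgroup.le_normalizer (hsup hn)
  have hRn : (R : Subgroup N).Normal := by
    refine ⟨fun x hx g => ?_⟩
    have := (Subgroup.mem_normalizer_iff.1 (hgen g g.2) x).1 ⟨x, hx, rfl⟩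
    obtain ⟨y, hy, e⟩ := this
    exact (Subtype.ext e : y = g * x * g⁻¹) ▸ hy
  haveI := R.characteristic_of_normal hRn
  haveI hRL : ((R : Subgroup N).map N.subtype).Normal := CfsgLib.Base.normal_map_subtype (R : Subgroup N)
  have hRP : (R : Subgroup N).map N.subtype ≤ pCore 2 L :=
    CfsgLib.LocalEven.le_pCore hRL (R.2.map _)
  have hPC : pCore 2 L ≤ C := Subgroup.le_centralizer_iff.1 (omegaCenterOf_le_centralizer _)
  rw [eq_bot_iff]
  intro x hx
  obtain ⟨n, rfl⟩ := QuotientGroup.mk'_surjective C x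
  rw [Subgroup.mem_bot, QuotientGroup.mk'_apply, QuotientGroup.eq_one_iff]
  obtain ⟨k, hk⟩ := CfsgLib.Base.isPGroup_pCore 2 (L ⧸ C) ⟨_, hx⟩
  have hnk : n ^ 2 ^ k ∈ C := by
    rw [← QuotientGroup.eq_one_iff (N := C), QuotientGroup.mk_pow]
    exact congrArg Subtype.val hk
  -- the odd part of the index
  have hodd : ¬ 2 ∣ (R : Subgroup N).index := R.not_dvd_index
  haveI := hRn
  have h3 : (⟨n, hx⟩ : N) ^ (R : Subgroup N).index ∈ (R : Subgroup N) := Subgroup.pow_index_mem _ _
  have h3' : n ^ (R : Subgroup N).index ∈ C := hPC (hRP ⟨_, h3, by simp⟩)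
  have hco : Nat.gcd (2 ^ k) (R : Subgroup N).index = 1 :=
    Nat.Coprime.pow_left _ ((Nat.Prime.coprime_iff_not_dvd Nat.prime_two).2 hodd)
  rw [← pow_one n, ← hco, ← zpow_natCast n (Nat.gcd _ _), Nat.gcd_eq_gcd_ab, zpow_add, zpow_mul, zpow_mul,
    zpow_natCast, zpow_natCast]
  exact mul_mem (zpow_mem hnk _) (zpow_mem h3' _)

theorem not_le_centralizer :
    ¬ thompsonSubgroupOf 2 (T : Subgroup L) ≤ Subgroup.centralizer (Om L : Set L) := fun h =>
  s.notle fun x hx => by
    obtain ⟨m, hm⟩ := T.2 ⟨x, thompsonSubgroupOf_le 2 _ hx⟩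
    exact s.mem_pCore (h hx) (n := m) (by simpa using congrArg Subtype.val hm)

theorem ff : FFGroup 2 (holBase (Om L)) (Hm L) ∧
    Hm L = ⨆ B : {B : Subgroup (Hol (Om L)) // B ≤ Hm L ∧ IsBestOffenderOn 2 (holBase (Om L)) B},
      (B : Subgroup (Hol (Om L))) :=
  haveI := s.sol
  ffGroup_top isPSolvable_of_isSolvable (isElementaryAbelian_omegaCenterOf _) s.pCore_quot

theorem map_J_le {M : Subgroup (Hol (Om L))} (h : ∀ B, Min T B → B ≤ M) :
    (thompsonSubgroupOf 2 (T : Subgroup L)).map (toHol (Om L)) ≤ M := by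
  rw [thompsonSubgroupOf_eq_sSup, Subgroup.map_le_iff_le_comap]
  refine sSup_le fun A hA => ?_
  rw [← Subgroup.map_le_iff_le_comap]
  have hAm : A ∈ maxElementaryAbelianSubgroups 2 L := mem_max_of_mem_maxEAOf_sylow T hA
  have hAH : A.map (toHol (Om L)) ≤ Hm L := Subgroup.map_mono (le_thompsonSubgroup hAm)
  obtain ⟨k, F, hF, -, hsup⟩ := s.ff.1.decomposition hAH
    (isBestOffenderOn_map (isBestOffenderOn_of_max (isElementaryAbelian_omegaCenterOf _) le_top hAm))
  rw [← hsup]
  refine iSup_le fun i => h _ ⟨?_, A, hA, (hF i).2.1⟩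
  obtain ⟨hc, hle, ho⟩ := hF i
  exact ⟨s.ff.1, hle.trans hAH,
    IsTransvectionGroup.of_isOff ((hle.trans hAH).trans s.ff.1.le_norm) hc ho⟩

end Setup

/-! ### One factor -/

theorem Min.card_factorCore {B : Subgroup (Hol (Om L))} (hB : Min T B) :
    Nat.card (factorCore 2 (Hm L) B) = 3 ∧ factor 2 (Hm L) B ⊓ coreIn 2 (Hm L) = factorCore 2 (Hm L) B := by
  set Y := coreIn 2 (Hm L)
  set FC := factorCore 2 (Hm L) B
  have hBY : B ⊓ Y = ⊥ :=
    CfsgLib.Base.inf_eq_bot_of_isPGroup_of_coprime hB.1.isPGroup hB.1.grp.data.coprime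
  have hBF : B ⊓ FC = ⊥ := eq_bot_iff.2 ((inf_le_inf_left _ hB.1.factorCore_le).trans hBY.le)
  constructor
  · have h1 := CfsgLib.Coprime.card_sup_mul_card_inf hB.1.le_normalizer_factorCore.1
    rw [hBF, Subgroup.card_bot, mul_one, hB.1.trans.card_eq, sup_comm] at h1
    rcases hB.1.isPlane_factor.card_eq_or with ⟨-, h6⟩ | ⟨h, -⟩
    · have : Nat.card ↥(FC ⊔ B) = 6 := h6
      have h1' : Nat.card ↥(FC ⊔ B) = 2 * Nat.card FC := h1
      have hh : Nat.card FC = 3 := by omega
      exact hh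
    · omega
  · refine le_antisymm ?_ (le_inf le_sup_left hB.1.factorCore_le)
    rintro x ⟨hx, hxY⟩
    obtain ⟨b, hb, f, hf, rfl⟩ := (CfsgLib.Coprime.mem_sup_iff_of_le_normalizer
      hB.1.le_normalizer_factorCore.1).1 (show x ∈ B ⊔ FC by rw [sup_comm]; exact hx)
    have h9 : b * f * f⁻¹ ∈ Y := Y.mul_mem hxY (Y.inv_mem (hB.1.factorCore_le hf))
    rw [mul_inv_cancel_right] at h9
    have : b ∈ B ⊓ Y := ⟨hb, h9⟩
    rw [hBY, Subgroup.mem_bot] at this
    rw [this, one_mul]; exact hf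

theorem eq_or_of_card_three {G : Type*} [Group G] {X : Subgroup G} (hX : Nat.card X = 3) {x y : G}
    (hx : x ∈ X) (hx1 : x ≠ 1) (hy : y ∈ X) : y = 1 ∨ y = x ∨ y = x⁻¹ := by
  haveI : Finite X := Nat.finite_of_card_ne_zero (by omega)
  have h3 : x ^ 3 = 1 := by
    have := (pow_card_eq_one' : (⟨x, hx⟩ : X) ^ Nat.card X = 1)
    rw [hX] at this
    simpa using congrArg Subtype.val this
  have ho : orderOf x = 3 := orderOf_eq_prime h3 hx1
  have e : Subgroup.zpowers x = X := Subgroup.eq_of_le_of_card_ge (Subgroup.zpowers_le.2 hx)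
    (by rw [Nat.card_zpowers, ho, hX])
  rw [← e] at hy
  obtain ⟨i, rfl⟩ := hy
  have hi : x ^ i = x ^ (i % 3) := by
    conv_lhs => rw [← zpow_mod_orderOf, ho]
    rfl
  rcases (by omega : i % 3 = 0 ∨ i % 3 = 1 ∨ i % 3 = 2) with h | h | h <;> simp only [hi, h]
  · left; simp
  · right; left; simp
  · right; right
    rw [eq_inv_iff_mul_eq_one, ← zpow_add_one]
    exact_mod_cast h3

/-- The minimal offender inverts its factor. -/
theorem Min.inverts {B : Subgroup (Hol (Om L))} (hB : Min T B) :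
    ∀ b ∈ B, b ≠ 1 → ∀ k ∈ factorCore 2 (Hm L) B, b * k * b⁻¹ = k⁻¹ := by
  intro b hb hb1 k hk
  by_cases hk1 : k = 1
  · simp [hk1]
  set FC := factorCore 2 (Hm L) B
  obtain ⟨h3, -⟩ := hB.card_factorCore
  have hmem : b * k * b⁻¹ ∈ FC :=
    (Subgroup.mem_normalizer_iff.1 (hB.1.le_normalizer_factorCore.1 hb) k).1 hk
  rcases eq_or_of_card_three h3 hk hk1 hmem with h | h | h
  · exact absurd (conj_eq_one_iff.1 h) hk1
  · exfalso
    -- then `B` centralizes its factor
    have hBz : B ≤ Subgroup.centralizer (FC : Set (Hol (Om L))) := by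
      intro b' hb' x hx
      haveI : Fact (Nat.card B).Prime := ⟨by rw [hB.1.trans.card_eq]; exact Nat.prime_two⟩
      have hgen : B = Subgroup.zpowers b := by
        refine (Subgroup.eq_of_le_of_card_ge (Subgroup.zpowers_le.2 hb) ?_).symm
        rw [hB.1.trans.card_eq, Nat.card_zpowers]
        have h1 : orderOf b ≠ 1 := fun e => hb1 (orderOf_eq_one_iff.1 e)
        have := orderOf_pos b
        omega
      have hbk : b * k = k * b := mul_inv_eq_iff_eq_mul.1 h
      have hbx : Commute b x := by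
        rcases eq_or_of_card_three h3 hk hk1 hx with e | e | e <;> subst e
        · exact Commute.one_right b
        · exact hbk
        · exact Commute.inv_right hbk
      rw [hgen] at hb'
      obtain ⟨i, rfl⟩ := hb'
      exact (hbx.zpow_left i).symm.eq
    have hz : ⁅FC, B⁆ = ⊥ := Subgroup.commutator_eq_bot_iff_le_centralizer.2
      (Subgroup.le_centralizer_iff.1 hBz)
    have hcop : (Nat.card B).Coprime (Nat.card ↥(coreIn 2 (Hm L))) := hB.1.coprime
    have h2 := CfsgLib.Coprime.commutator_commutator_eq (K := coreIn 2 (Hm L)) (A := B)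
      (hB.1.le.trans hB.1.grp.le_normalizer_core) hcop
      (Or.inl (Group.isSolvable_of_comm fun a c => Subtype.ext
        (comm_of_mem hB.1.isMulCommutative a.2 c.2)))
    have : FC = ⊥ := h2.symm.trans hz
    have h3' : Nat.card FC = 3 := h3
    rw [this, Subgroup.card_bot] at h3'
    omega
  · exact h

namespace Setup

variable (s : Setup T)
include s

theorem le_normalizer_factorCore {B : Subgroup (Hol (Om L))} (hB : Min T B) :
    Hm L ≤ Subgroup.normalizer (factorCore 2 (Hm L) B : Set (Hol (Om L))) := by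
  intro h hh
  rw [Subgroup.mem_normalizer_iff_map_conj_eq]
  refine Subgroup.eq_of_le_of_card_ge ?_
    (Nat.card_congr (Subgroup.equivMapOfInjective _ _ (MulAut.conj h).injective).toEquiv).le
  rw [← hB.card_factorCore.2]
  refine le_inf ?_ ?_
  · calc _ ≤ (factor 2 (Hm L) B).map (MulAut.conj h).toMonoidHom := Subgroup.map_mono inf_le_left
      _ = factor 2 (Hm L) B := Subgroup.mem_normalizer_iff_map_conj_eq.1
        (hB.1.le_normalizer_factor_H s.ff.2 hh)
  · calc _ ≤ (coreIn 2 (Hm L)).map (MulAut.conj h).toMonoidHom := Subgroup.map_mono inf_le_right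
      _ = coreIn 2 (Hm L) := Subgroup.mem_normalizer_iff_map_conj_eq.1
        (hB.1.grp.le_normalizer_core hh)

/-- The image is covered by `J` and the factors. -/
theorem Hm_le {M : Subgroup (Hol (Om L))}
    (hJ : (thompsonSubgroupOf 2 (T : Subgroup L)).map (toHol (Om L)) ≤ M)
    (hF : ∀ B, Min T B → factorCore 2 (Hm L) B ≤ M) : Hm L ≤ M := by
  rw [Subgroup.map_le_iff_le_comap, thompsonSubgroup_eq_iSup]
  refine iSup_le fun S => ?_
  obtain ⟨g, rfl⟩ := MulAction.exists_smul_eq L T S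
  rw [← Subgroup.map_le_iff_le_comap]
  obtain ⟨d, hd, n, hn, rfl⟩ := exists_mul_normalizer T g
  have e : thompsonSubgroupOf 2 (((d * n) • T : Sylow 2 L) : Subgroup L) =
      (thompsonSubgroupOf 2 (T : Subgroup L)).map (MulAut.conj d).toMonoidHom := by
    rw [Sylow.coe_subgroup_smul, ← CfsgLib.Base.map_conj_eq_smul,
      ← map_thompsonSubgroupOf (MulAut.conj (d * n)).injective]
    conv_rhs => rw [← Subgroup.mem_normalizer_iff_map_conj_eq.1 hn, Subgroup.map_map]
    congr 1
    ext x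
    simp [mul_assoc]
  rw [e, Subgroup.map_map]
  intro y hy
  obtain ⟨j, hj, rfl⟩ := hy
  have key : (thompsonSubgroupOf 2 (T : Subgroup L)).map (toHol (Om L)) ≤
      M.comap (MulAut.conj (toHol (Om L) d)).toMonoidHom := by
    refine s.map_J_le fun B hB => ?_
    intro b hb
    show toHol (Om L) d * b * (toHol (Om L) d)⁻¹ ∈ M
    have hdH : toHol (Om L) d ∈ Hm L := Subgroup.mem_map_of_mem _ hd
    have h1 : toHol (Om L) d * b * (toHol (Om L) d)⁻¹ ∈ factor 2 (Hm L) B :=
      (Subgroup.mem_normalizer_iff.1 (hB.1.le_normalizer_factor_H s.ff.2 hdH) b).1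
        (Subgroup.mem_sup_right hb)
    refine (sup_le (hF B hB) ?_ : factor 2 (Hm L) B ≤ M) h1
    obtain ⟨A, hA, hBA⟩ := hB.2
    exact hBA.trans ((Subgroup.map_mono (le_thompsonSubgroupOf hA)).trans hJ)
  have := key (Subgroup.mem_map_of_mem _ hj)
  simpa [mul_assoc] using this

/-- Elements of odd order of `⟨J(S) : S⟩` map into `O_{2'}`. -/
theorem map_mem_core {x : L} (hx : x ∈ thompsonSubgroup 2 L) (ho : Odd (orderOf x)) :
    toHol (Om L) x ∈ coreIn 2 (Hm L) := by
  set Y := coreIn 2 (Hm L)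
  set J' := (thompsonSubgroupOf 2 (T : Subgroup L)).map (toHol (Om L))
  have hJH : J' ≤ Hm L := Subgroup.map_mono (thompsonSubgroupOf_sylow_le T)
  have h1 : Hm L ≤ J' ⊔ Y := s.Hm_le le_sup_left fun B hB => hB.1.factorCore_le.trans le_sup_right
  refine mem_of_odd_sup (P := J') ((T.2.to_le (thompsonSubgroupOf_le 2 _)).map _)
    (hJH.trans s.ff.1.le_normalizer_core) (h1 (Subgroup.mem_map_of_mem _ hx)) ?_
  exact ho.of_dvd_nat (orderOf_map_dvd _ x)

/-- A lift of a generator of a factor which is inverted by an involution of `J(T)`. -/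
theorem exists_lift {B : Subgroup (Hol (Om L))} (hB : Min T B) :
    ∃ k ∈ thompsonSubgroup 2 L, ∃ a ∈ thompsonSubgroupOf 2 (T : Subgroup L),
      toHol (Om L) k ∈ factorCore 2 (Hm L) B ∧ toHol (Om L) k ≠ 1 ∧
      toHol (Om L) a ∈ B ∧ toHol (Om L) a ≠ 1 ∧ a * a = 1 ∧
      QuotientGroup.mk' (pCore 2 L) k ^ 3 = 1 ∧
      QuotientGroup.mk' (pCore 2 L) (a * k * a⁻¹) = (QuotientGroup.mk' (pCore 2 L) k)⁻¹ := by
  obtain ⟨A, hA, hBA⟩ := hB.2
  obtain ⟨b, hb, hb1⟩ : ∃ b ∈ B, b ≠ 1 := by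
    by_contra hno; push Not at hno
    exact hB.1.ne_bot (eq_bot_iff.2 fun b hb => Subgroup.mem_bot.2 (hno b hb))
  obtain ⟨a, ha, rfl⟩ := hBA hb
  have ha2 : a * a = 1 := by have := hA.2.1.2 a ha; rwa [pow_two] at this
  have ha' : a⁻¹ = a := inv_eq_of_mul_eq_one_right ha2
  obtain ⟨h3, -⟩ := hB.card_factorCore
  have hne : factorCore 2 (Hm L) B ≠ ⊥ := fun e => by rw [e, Subgroup.card_bot] at h3; omega
  obtain ⟨y, hy, hy1⟩ : ∃ y ∈ factorCore 2 (Hm L) B, y ≠ 1 := by
    by_contra hno; push Not at hno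
    exact hne (eq_bot_iff.2 fun y hy => Subgroup.mem_bot.2 (hno y hy))
  have hy3 : y ^ 3 = 1 := by
    have := (pow_card_eq_one' : (⟨y, hy⟩ : factorCore 2 (Hm L) B) ^ Nat.card _ = 1)
    rw [h3] at this
    simpa using congrArg Subtype.val this
  obtain ⟨k0, hk0, hk0y⟩ := Subgroup.map_subtype_le _ (hB.1.factorCore_le hy)
  have haJ : a ∈ thompsonSubgroupOf 2 (T : Subgroup L) := le_thompsonSubgroupOf hA ha
  have haD : a ∈ thompsonSubgroup 2 L := thompsonSubgroupOf_sylow_le T haJ
  set k1 := a * k0 * a * k0⁻¹ with hk1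
  have hk1D : k1 ∈ thompsonSubgroup 2 L := mul_mem (mul_mem (mul_mem haD hk0) haD) (inv_mem hk0)
  have hk1y : toHol (Om L) k1 = y := by
    have hinv := hB.inverts _ hb hb1 y hy
    rw [← map_inv, ha'] at hinv
    rw [hk1, map_mul, map_mul, map_mul, map_inv, hk0y, hinv]
    calc y⁻¹ * y⁻¹ = y ^ 3 * (y⁻¹ * y⁻¹) := by rw [hy3, one_mul]
      _ = y := by group
  have hk1a : a * k1 * a⁻¹ = k1⁻¹ := by
    rw [hk1, ha']
    simp only [mul_inv_rev, ha', inv_inv]
    calc a * (a * k0 * a * k0⁻¹) * a = (a * a) * (k0 * a * k0⁻¹ * a) := by group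
      _ = k0 * a * k0⁻¹ * a := by rw [ha2, one_mul]
      _ = _ := by group
  set q := QuotientGroup.mk' (pCore 2 L)
  have hc : k1 ^ 3 ∈ Subgroup.centralizer (Om L : Set L) := by
    rw [← ker_toHol, MonoidHom.mem_ker, map_pow, hk1y, hy3]
  have h6 : q k1 ^ 6 = 1 := by
    have h1 : q (a * k1 ^ 3 * a⁻¹) = (q (k1 ^ 3))⁻¹ := by
      rw [← map_inv, ← inv_pow, ← hk1a, conj_pow]
    have h2 : q (a * k1 ^ 3 * a⁻¹) = q (k1 ^ 3) := by
      rw [map_mul, map_mul, map_inv, ← (s.comm_quot hc haD).eq, mul_inv_cancel_right]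
    rw [h2, eq_inv_iff_mul_eq_one, map_pow, ← pow_add] at h1
    exact h1
  refine ⟨k1 ^ 4, pow_mem hk1D 4, a, haJ, ?_, ?_, hb, hb1, ha2, ?_, ?_⟩
  · rw [map_pow, hk1y, pow_succ, hy3, one_mul]; exact hy
  · rw [map_pow, hk1y, pow_succ, hy3, one_mul]; exact hy1
  · show q (k1 ^ 4) ^ 3 = 1
    rw [map_pow, ← pow_mul, show 4 * 3 = 6 * 2 by norm_num, pow_mul, h6, one_pow]
  · show q (a * k1 ^ 4 * a⁻¹) = (q (k1 ^ 4))⁻¹
    rw [← map_inv, ← inv_pow, ← hk1a, conj_pow]

theorem core_commute {B : Subgroup (Hol (Om L))} (hB : Min T B) {y k : Hol (Om L)}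
    (hy : y ∈ coreIn 2 (Hm L)) (hk : k ∈ factorCore 2 (Hm L) B) : Commute y k := by
  by_cases hk1 : k = 1
  · subst hk1; exact Commute.one_right y
  obtain ⟨h3, -⟩ := hB.card_factorCore
  have hm := (Subgroup.mem_normalizer_iff.1
    (s.le_normalizer_factorCore hB (Subgroup.map_subtype_le _ hy)) k).1 hk
  rcases eq_or_of_card_three h3 hk hk1 hm with h | h | h
  · exact absurd (conj_eq_one_iff.1 h) hk1
  · exact mul_inv_eq_iff_eq_mul.1 h
  · exfalso
    -- `y` has odd order, so it cannot invert `k`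
    have h2 : (y ^ 2) * k * (y ^ 2)⁻¹ = k := by
      have h' : y * k⁻¹ * y⁻¹ = k := by rw [← conj_inv, h, inv_inv]
      rw [pow_two, mul_inv_rev]
      calc y * y * k * (y⁻¹ * y⁻¹) = y * (y * k * y⁻¹) * y⁻¹ := by group
        _ = k := by rw [h, h']
    have hco : Nat.Coprime 2 (orderOf y) := by
      refine Nat.Coprime.coprime_dvd_right ?_ (Nat.Coprime.symm s.ff.1.data.coprime)
      have := orderOf_dvd_natCard (⟨y, hy⟩ : coreIn 2 (Hm L))
      rwa [Subgroup.orderOf_mk] at this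
    obtain ⟨m, hm'⟩ := exists_pow_eq_self_of_coprime hco
    have hc2 : Commute (y ^ 2) k := mul_inv_eq_iff_eq_mul.1 h2
    have hc : Commute y k := hm' ▸ hc2.pow_left m
    rw [hc.eq, mul_inv_cancel_right] at h
    have hsq : k * k = 1 := eq_inv_iff_mul_eq_one.1 h
    have h3' : k ^ 3 = 1 := by
      have := (pow_card_eq_one' : (⟨k, hk⟩ : factorCore 2 (Hm L) B) ^ Nat.card _ = 1)
      rw [h3] at this
      simpa using congrArg Subtype.val this
    rw [pow_succ, pow_two, hsq, one_mul] at h3'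
    exact hk1 h3'

/-- Conjugation by `⟨J(S) : S⟩` fixes or inverts the lift modulo `O₂(L)`. -/
theorem conj_lift {B : Subgroup (Hol (Om L))} (hB : Min T B) {k a : L}
    (hk : k ∈ thompsonSubgroup 2 L) (ha : a ∈ thompsonSubgroupOf 2 (T : Subgroup L))
    (hkF : toHol (Om L) k ∈ factorCore 2 (Hm L) B) (hk1 : toHol (Om L) k ≠ 1)
    (haB : toHol (Om L) a ∈ B) (ha1 : toHol (Om L) a ≠ 1)
    (hq3 : QuotientGroup.mk' (pCore 2 L) k ^ 3 = 1)
    (hqa : QuotientGroup.mk' (pCore 2 L) (a * k * a⁻¹) = (QuotientGroup.mk' (pCore 2 L) k)⁻¹) :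
    thompsonSubgroup 2 L ≤ Subgroup.normalizer
      ((Subgroup.zpowers (QuotientGroup.mk' (pCore 2 L) k)).comap (QuotientGroup.mk' (pCore 2 L)) : Set L) := by
  set q := QuotientGroup.mk' (pCore 2 L) with hq
  set π := toHol (Om L) with hπ
  set C := Subgroup.centralizer (Om L : Set L) with hC
  set M1 := (Subgroup.zpowers (q k)).comap q with hM1
  have hN : ∀ g : L, (q g * q k * (q g)⁻¹ = q k ∨ q g * q k * (q g)⁻¹ = (q k)⁻¹) →
      g ∈ Subgroup.normalizer (M1 : Set L) := by
    intro g hg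
    refine CfsgLib.LocalEven.mem_normalizer_of_conj (Subgroup.eq_of_le_of_card_ge ?_
      (Nat.card_congr (Subgroup.equivMapOfInjective _ _ (MulAut.conj g).injective).toEquiv).le)
    rintro _ ⟨x, hx, rfl⟩
    obtain ⟨i, hi⟩ := hx
    show q (g * x * g⁻¹) ∈ Subgroup.zpowers (q k)
    rw [map_mul, map_mul, map_inv, ← show q k ^ i = q x from hi, ← conj_zpow]
    rcases hg with h | h <;> rw [h]
    · exact zpow_mem (Subgroup.mem_zpowers _) _
    · exact zpow_mem (inv_mem (Subgroup.mem_zpowers _)) _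
  obtain ⟨hcard, -⟩ := hB.card_factorCore
  have haD : a ∈ thompsonSubgroup 2 L := thompsonSubgroupOf_sylow_le T ha
  -- elements over `O_{2'}`
  have hY : ∀ x ∈ thompsonSubgroup 2 L, π x ∈ coreIn 2 (Hm L) → Commute (q x) (q k) := by
    intro x hx hxY
    have hv : (π x)⁻¹ * (π a * π x * (π a)⁻¹) ∈ factorCore 2 (Hm L) B := by
      have h1 : ⁅(π x)⁻¹, π a⁆ ∈ factorCore 2 (Hm L) B :=
        Subgroup.commutator_mem_commutator (inv_mem hxY) haB
      have e : (π x)⁻¹ * (π a * π x * (π a)⁻¹) = ⁅(π x)⁻¹, π a⁆ := by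
        simp only [commutatorElement_def]; group
      rwa [e]
    have hk3 : π k ^ 3 = 1 := by
      have := (pow_card_eq_one' : (⟨π k, hkF⟩ : factorCore 2 (Hm L) B) ^ Nat.card _ = 1)
      rw [hcard] at this
      simpa using congrArg Subtype.val this
    obtain ⟨i, hi⟩ : ∃ i : ℕ, (π x)⁻¹ * (π a * π x * (π a)⁻¹) = π k ^ i := by
      rcases eq_or_of_card_three hcard hkF hk1 hv with h | h | h
      · exact ⟨0, by rw [h, pow_zero]⟩
      · exact ⟨1, by rw [h, pow_one]⟩
      · exact ⟨2, by rw [h, inv_eq_iff_mul_eq_one, ← pow_succ', hk3]⟩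
    set g := x * k ^ (2 * i) with hg
    have hga : π a * π g * (π a)⁻¹ = π g := by
      have e1 : π a * π x * (π a)⁻¹ = π x * π k ^ i := by rw [← hi, mul_inv_cancel_left]
      rw [hg, map_mul, map_pow, ← conj_mul, e1, ← conj_pow, hB.inverts _ haB ha1 _ hkF, mul_assoc]
      congr 1
      rw [inv_pow, mul_inv_eq_iff_eq_mul, ← pow_add,
        show 2 * i + 2 * i = i + 3 * i by ring, pow_add _ i, pow_mul, hk3, one_pow, mul_one]
    have hgD : g ∈ thompsonSubgroup 2 L := mul_mem hx (pow_mem hk _)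
    set c := g⁻¹ * (a * g * a⁻¹) with hc
    have hcC : c ∈ C := by
      rw [hC, ← ker_toHol, MonoidHom.mem_ker]
      show π (g⁻¹ * (a * g * a⁻¹)) = 1
      rw [map_mul π g⁻¹, map_inv π g, map_mul π (a * g), map_mul π a, map_inv π a, hga, inv_mul_cancel]
    have hgY : π g ∈ coreIn 2 (Hm L) := by
      rw [hg, map_mul, map_pow]; exact mul_mem hxY (pow_mem (hB.1.factorCore_le hkF) _)
    set Z := ⁅q k, q g⁆ with hZ
    have hzC : ⁅k, g⁆ ∈ C := by
      rw [hC, ← ker_toHol, MonoidHom.mem_ker, map_commutatorElement,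
        commutatorElement_eq_one_iff_mul_comm]
      exact (s.core_commute hB hgY hkF).symm.eq
    have hcent : ∀ d ∈ thompsonSubgroup 2 L, Commute Z (q d) := fun d hd => by
      rw [hZ, ← map_commutatorElement]; exact s.comm_quot hzC hd
    have ek : Commute Z (q k) := hcent k hk
    have eC : Commute (q c) (q k) := s.comm_quot hcC hk
    have h1 : q a * Z * (q a)⁻¹ = Z⁻¹ := by
      have e1 : q a * Z * (q a)⁻¹ = ⁅(q k)⁻¹, q g * q c⁆ := by
        have h2 : q a * q k * (q a)⁻¹ = (q k)⁻¹ := by rw [← map_inv, ← map_mul, ← map_mul, hqa]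
        have h4 : q a * q g * (q a)⁻¹ = q g * q c := by
          rw [hc, ← map_inv, ← map_mul, ← map_mul, ← map_mul, mul_inv_cancel_left]
        rw [← h2, ← h4, hZ]; simp only [commutatorElement_def]; group
      have e2 : ⁅(q k)⁻¹, q g * q c⁆ = ⁅(q k)⁻¹, q g⁆ := by
        simp only [commutatorElement_def, inv_inv, mul_inv_rev]
        have h := (eC : q c * q k = q k * q c)
        calc (q k)⁻¹ * (q g * q c) * q k * ((q c)⁻¹ * (q g)⁻¹)
            = (q k)⁻¹ * q g * (q c * q k) * (q c)⁻¹ * (q g)⁻¹ := by group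
          _ = (q k)⁻¹ * q g * q k * (q g)⁻¹ := by rw [h]; group
      have e3 : ⁅(q k)⁻¹, q g⁆ = (q k)⁻¹ * Z⁻¹ * q k := by
        rw [hZ]; simp only [commutatorElement_def]; group
      rw [e1, e2, e3, mul_assoc, (ek.inv_left).eq, inv_mul_cancel_left]
    have h2 : q a * Z * (q a)⁻¹ = Z := by
      rw [← (hcent a haD).eq, mul_inv_cancel_right]
    have hsq : Z * Z = 1 := by
      rw [h2] at h1; exact eq_inv_iff_mul_eq_one.1 h1
    have hcube : Z ^ 3 = 1 := by
      have hh : (q k) ^ 3 * q g * ((q k) ^ 3)⁻¹ = Z ^ 3 * q g :=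
        CfsgLib.LocalEven.conj_pow_of_commute (by rw [hZ, commutatorElement_def]; group) ek.symm.eq 3
      rw [hq3, one_mul, inv_one, mul_one, eq_comm, mul_eq_right] at hh
      exact hh
    have hZ1 : Z = 1 := by rwa [pow_succ, pow_two, hsq, one_mul] at hcube
    have hgk : Commute (q g) (q k) := (commutatorElement_eq_one_iff_mul_comm.1 hZ1).symm
    have : q x = q g * ((q k) ^ (2 * i))⁻¹ := by rw [hg, map_mul, map_pow, mul_inv_cancel_right]
    rw [this]
    exact hgk.mul_left ((Commute.refl (q k)).pow_left _).inv_left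
  -- elements of `J`
  have hfix : ∀ j ∈ thompsonSubgroupOf 2 (T : Subgroup L), π j * π k * (π j)⁻¹ = π k →
      q j * q k * (q j)⁻¹ = q k := by
    intro j hj hjk
    have hjD := thompsonSubgroupOf_sylow_le T hj
    set c := j * k * j⁻¹ * k⁻¹ with hc
    have hcC : c ∈ C := by
      rw [hC, ← ker_toHol, MonoidHom.mem_ker, hc, map_mul, map_mul, map_mul, map_inv, map_inv]
      show π j * π k * (π j)⁻¹ * (π k)⁻¹ = 1
      rw [hjk, mul_inv_cancel]
    have hjc : q j * q c = q c * q j := (s.comm_quot hcC hjD).symm.eq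
    have he : q j * q k * (q j)⁻¹ = q c * q k := by
      rw [hc, ← map_inv, ← map_mul, ← map_mul, ← map_mul, inv_mul_cancel_right]
    obtain ⟨n, hn⟩ := T.2 ⟨j, thompsonSubgroupOf_le 2 _ hj⟩
    have hjn : j ^ 2 ^ n = 1 := by simpa using congrArg Subtype.val hn
    have h2 := CfsgLib.LocalEven.conj_pow_of_commute he hjc (2 ^ n)
    rw [← map_pow, hjn, map_one, one_mul, inv_one, mul_one, eq_comm, mul_eq_right] at h2
    have hck : Commute (q c) (q k) := s.comm_quot hcC hk
    have h3 : q c ^ 3 = 1 := by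
      have h4 : (q c * q k) ^ 3 = 1 := by rw [← he, conj_pow, hq3, mul_one, mul_inv_cancel]
      rwa [hck.mul_pow, hq3, mul_one] at h4
    have hc1 : q c = 1 := by
      rw [← orderOf_eq_one_iff]
      exact Nat.eq_one_of_dvd_coprimes (Nat.Coprime.pow_left n (by norm_num : Nat.Coprime 2 3))
        (orderOf_dvd_of_pow_eq_one h2) (orderOf_dvd_of_pow_eq_one h3)
    rw [he, hc1, one_mul]
  have hJ : ∀ j ∈ thompsonSubgroupOf 2 (T : Subgroup L),
      q j * q k * (q j)⁻¹ = q k ∨ q j * q k * (q j)⁻¹ = (q k)⁻¹ := by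
    intro j hj
    have hjH : π j ∈ Hm L := Subgroup.mem_map_of_mem _ (thompsonSubgroupOf_sylow_le T hj)
    have hm := (Subgroup.mem_normalizer_iff.1 (s.le_normalizer_factorCore hB hjH) (π k)).1 hkF
    rcases eq_or_of_card_three hcard hkF hk1 hm with h | h | h
    · exact absurd (conj_eq_one_iff.1 h) hk1
    · exact Or.inl (hfix j hj h)
    · right
      have h1 : π (a * j) * π k * (π (a * j))⁻¹ = π k := by
        rw [map_mul]
        calc π a * π j * π k * (π a * π j)⁻¹ = π a * (π j * π k * (π j)⁻¹) * (π a)⁻¹ := by group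
          _ = _ := by rw [h, ← conj_inv, hB.inverts _ haB ha1 _ hkF, inv_inv]
      have h2 := hfix _ (mul_mem ha hj) h1
      have h3 : q a * q k * (q a)⁻¹ = (q k)⁻¹ := by rw [← map_inv, ← map_mul, ← map_mul, hqa]
      have h4 : q a * (q j * q k * (q j)⁻¹) * (q a)⁻¹ = q k := by
        rw [map_mul] at h2
        exact Eq.trans (by group) h2
      have h5 : q a * (q k)⁻¹ * (q a)⁻¹ = q k := by rw [← conj_inv, h3, inv_inv]
      exact mul_left_cancel (mul_right_cancel (h4.trans h5.symm))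
  -- assemble
  have hle : thompsonSubgroup 2 L ≤ thompsonSubgroupOf 2 (T : Subgroup L) ⊔
      (thompsonSubgroup 2 L ⊓ (coreIn 2 (Hm L)).comap π) := by
    intro d hd
    set J' := (thompsonSubgroupOf 2 (T : Subgroup L)).map π
    have h1 : Hm L ≤ J' ⊔ coreIn 2 (Hm L) :=
      s.Hm_le le_sup_left fun B hB => hB.1.factorCore_le.trans le_sup_right
    obtain ⟨y, ⟨j, hj, rfl⟩, z, hz, e⟩ := (CfsgLib.Coprime.mem_sup_iff_of_le_normalizer
      ((Subgroup.map_mono (thompsonSubgroupOf_sylow_le T)).trans s.ff.1.le_normalizer_core)).1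
        (h1 (Subgroup.mem_map_of_mem π hd))
    have h2 : π (j⁻¹ * d) = z := by rw [map_mul, map_inv, ← e, inv_mul_cancel_left]
    rw [show d = j * (j⁻¹ * d) by group]
    exact Subgroup.mul_mem_sup hj ⟨Subgroup.mul_mem _ (Subgroup.inv_mem _ (thompsonSubgroupOf_sylow_le T hj)) hd,
      show π (j⁻¹ * d) ∈ coreIn 2 (Hm L) from h2 ▸ hz⟩
  refine hle.trans (sup_le (fun j hj => hN j (hJ j hj)) fun x hx => hN x (Or.inl ?_))
  rw [(hY x hx.1 hx.2).eq, mul_inv_cancel_right]

end Setup

end CfsgLib.LocalEven.JComp
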