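import Cfsg.Agent.Lib.LocalEven.JCompLocal

/-!
Properties of `J`-components inside a solvable group: each comes from one factor, is normal in
`⟨J(S) : S⟩`, and is determined by its four-group.
-/

set_option autoImplicit false
set_option linter.style.haveILetI false
set_option linter.unusedSectionVars false

namespace CfsgLib.LocalEven.JComp

open Cfsg CfsgLib.PLocal
open scoped commutatorElement

universe u

variable {L : Type u} [Group L] [Finite L] {T : Sylow 2 L}

/-- The data produced by `Setup.exists_lift`. -/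
structure Lift (T : Sylow 2 L) (B : Subgroup (Hol (Om L))) (k a : L) : Prop where
  min : Min T B
  k_mem : k ∈ thompsonSubgroup 2 L
  a_mem : a ∈ thompsonSubgroupOf 2 (T : Subgroup L)
  k_map : toHol (Om L) k ∈ factorCore 2 (Hm L) B
  k_ne : toHol (Om L) k ≠ 1
  a_map : toHol (Om L) a ∈ B
  a_ne : toHol (Om L) a ≠ 1
  a_sq : a * a = 1
  cube : QuotientGroup.mk' (pCore 2 L) k ^ 3 = 1
  inv : QuotientGroup.mk' (pCore 2 L) (a * k * a⁻¹) = (QuotientGroup.mk' (pCore 2 L) k)⁻¹

/-- The preimage of `⟨k⟩` modulo `O₂(L)`. -/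
abbrev M1 (k : L) : Subgroup L :=
  (Subgroup.zpowers (QuotientGroup.mk' (pCore 2 L) k)).comap (QuotientGroup.mk' (pCore 2 L))

theorem pCore_le_M1 (k : L) : pCore 2 L ≤ M1 k := fun x hx => by
  show QuotientGroup.mk' (pCore 2 L) x ∈ Subgroup.zpowers (QuotientGroup.mk' (pCore 2 L) k)
  rw [show QuotientGroup.mk' (pCore 2 L) x = 1 from (QuotientGroup.eq_one_iff x).2 hx]; exact one_mem _

theorem oddGen_mono {X Y : Subgroup L} (h : X ≤ Y) : oddGen X ≤ oddGen Y :=
  Subgroup.closure_mono fun _ hx => ⟨h hx.1, hx.2⟩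

theorem normalizer_le_normalizer_oddGen (X : Subgroup L) :
    Subgroup.normalizer (X : Set L) ≤ Subgroup.normalizer (oddGen X : Set L) := fun g hg => by
  rw [Subgroup.mem_normalizer_iff_map_conj_eq] at hg ⊢
  rw [map_oddGen (MulAut.conj g).injective, hg]

namespace Setup

variable (s : Setup T)
include s

theorem lift {B : Subgroup (Hol (Om L))} (hB : Min T B) : ∃ k a, Lift T B k a := by
  obtain ⟨k, h1, a, h2, h3, h4, h5, h6, h7, h8, h9⟩ := s.exists_lift hB
  exact ⟨k, a, hB, h1, h2, h3, h4, h5, h6, h7, h8, h9⟩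

theorem le_normalizer_oddGen_M1 {B : Subgroup (Hol (Om L))} {k a : L} (h : Lift T B k a) :
    thompsonSubgroup 2 L ≤ Subgroup.normalizer (oddGen (M1 k) : Set L) :=
  (s.conj_lift h.min h.k_mem h.a_mem h.k_map h.k_ne h.a_map h.a_ne h.cube h.inv).trans
    (normalizer_le_normalizer_oddGen _)

theorem pCore_le_centralizer : pCore 2 L ≤ Subgroup.centralizer (Om L : Set L) :=
  Subgroup.le_centralizer_iff.1 (omegaCenterOf_le_centralizer _)

theorem comp_le {K : Subgroup L} (hK : IsComp (thompsonSubgroupOf 2 (T : Subgroup L)) K) :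
    K ≤ thompsonSubgroup 2 L := by
  haveI := thompsonSubgroup_characteristic 2 L
  conv_lhs => rw [← hK.comm]
  exact (Subgroup.commutator_mono le_top (thompsonSubgroupOf_sylow_le T)).trans
    (Subgroup.commutator_le_right _ _)

theorem comp_pCore_le {K : Subgroup L} (hK : IsComp (thompsonSubgroupOf 2 (T : Subgroup L)) K) :
    pCoreOf 2 K ≤ pCore 2 L ∧ K.map (toHol (Om L)) ≤ coreIn 2 (Hm L) ∧
      pCore 2 L ≤ Subgroup.normalizer (K : Set L) := by
  set π := toHol (Om L)
  have h1 : K.map π ≤ coreIn 2 (Hm L) := by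
    conv_lhs => rw [← hK.gen, oddGen]
    rw [Subgroup.map_le_iff_le_comap, Subgroup.closure_le]
    rintro x ⟨hx, ho⟩
    exact s.map_mem_core (s.comp_le hK hx) ho
  refine ⟨fun x hx => ?_, h1, ?_⟩
  · obtain ⟨n, hn⟩ := CfsgLib.LocalEven.isPGroup_pCoreOf (p := 2) K ⟨x, hx⟩
    have hn' : x ^ 2 ^ n = 1 := by simpa using congrArg Subtype.val hn
    refine s.mem_pCore ?_ hn'
    rw [← ker_toHol, MonoidHom.mem_ker]
    have hmem : π x ∈ coreIn 2 (Hm L) :=
      h1 (Subgroup.mem_map_of_mem π (CfsgLib.LocalEven.pCoreOf_le 2 K hx))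
    rw [← orderOf_eq_one_iff]
    refine Nat.eq_one_of_dvd_coprimes (Nat.Coprime.pow_left n s.ff.1.data.coprime.symm) ?_ ?_
    · exact orderOf_dvd_of_pow_eq_one (by rw [← map_pow, hn', map_one])
    · have := orderOf_dvd_natCard (⟨π x, hmem⟩ : coreIn 2 (Hm L))
      rwa [Subgroup.orderOf_mk] at this
  · refine hK.le_normalizer_of (T.2.to_le (thompsonSubgroupOf_le 2 _)) ?_ ?_
    · rw [Subgroup.normalizer_eq_top_iff.2 (inferInstance : (pCore 2 L).Normal)]; exact le_top
    · exact (CfsgLib.LocalEven.pCore_le_sylow T).trans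
        (Subgroup.le_normalizer.trans (CfsgLib.Transfer.normalizer_le_normalizer_thompsonSubgroupOf _))

/-- The four-group of a component lies in `Ω₁(Z(O₂(L)))`. -/
theorem comp_w {K : Subgroup L} (hK : IsComp (thompsonSubgroupOf 2 (T : Subgroup L)) K) :
    wOf K ≤ Om L ⊓ pCoreOf 2 K ∧ ¬ K ≤ Subgroup.centralizer (Om L : Set L) := by
  obtain ⟨hQP, -, hPK⟩ := s.comp_pCore_le hK
  have hWQ : wOf K ≤ pCoreOf 2 K := (wOf_le K).trans (omegaCenterOf_le _)
  have hP2 : IsPGroup 2 (pCore 2 L) := CfsgLib.Base.isPGroup_pCore 2 L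
  have hc : ⁅pCore 2 L, K⁆ ≤ Subgroup.centralizer (wOf K : Set L) := by
    refine le_trans ?_ (Subgroup.le_centralizer_iff.1
      ((wOf_le K).trans (omegaCenterOf_le_centralizer _)))
    refine CfsgLib.LocalEven.le_pCoreOf ?_ (Subgroup.normalizer_commutator_ge_right _ _)
      (hP2.to_le (Subgroup.commutator_le_left _ _))
    exact Subgroup.le_normalizer_iff_commutator_le_right.1 hPK
  have hW : wOf K ≤ Om L := fun w hw => CfsgLib.PLocal.mem_omegaOne
    ⟨hQP (hWQ hw), fun x hx => ((hK.le_centralizer_w hP2 hPK hc hx) w hw).symm⟩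
    (by rw [pow_two]; exact hK.sq w hw)
  refine ⟨le_inf hW hWQ, fun h => hK.wOf_ne_bot ?_⟩
  rw [← hK.inf_centralizer_w, eq_comm, inf_eq_left]
  exact hW.trans (Subgroup.le_centralizer_iff.1 h)

/-- A component is the odd part of the preimage of its factor. -/
theorem comp_eq {K : Subgroup L} (hK : IsComp (thompsonSubgroupOf 2 (T : Subgroup L)) K) :
    ∃ B k a, Lift T B k a ∧ K = oddGen (M1 k) ∧ K.map (toHol (Om L)) = factorCore 2 (Hm L) B := by
  set π := toHol (Om L)
  set q := QuotientGroup.mk' (pCore 2 L)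
  set Q := pCoreOf 2 K with hQdef
  obtain ⟨hQP, hKY, hPK⟩ := s.comp_pCore_le hK
  obtain ⟨-, hKC⟩ := s.comp_w hK
  set J := thompsonSubgroupOf 2 (T : Subgroup L)
  -- a minimal offender moving the image
  have hK1 : K.map π ≠ ⊥ := fun e => hKC (by rwa [Subgroup.map_eq_bot_iff, ker_toHol] at e)
  obtain ⟨B, hB, hBK⟩ : ∃ B, Min T B ∧ ¬ B ≤ Subgroup.centralizer (K.map π : Set _) := by
    by_contra hno
    push Not at hno
    apply hK1
    rw [← hK.comm, Subgroup.map_commutator, Subgroup.commutator_eq_bot_iff_le_centralizer,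
      Subgroup.le_centralizer_iff]
    exact s.map_J_le hno
  obtain ⟨k, a, hl⟩ := s.lift hB
  obtain ⟨hcard, -⟩ := hB.card_factorCore
  -- the image of `K` is cyclic of order three
  have hint : ∃ y ∈ K.map π, y ∈ factorCore 2 (Hm L) B ∧ y ≠ 1 := by
    obtain ⟨b, hb, hbn⟩ := SetLike.not_le_iff_exists.1 hBK
    obtain ⟨x, hx, hxb⟩ : ∃ x ∈ K.map π, ⁅x, b⁆ ≠ 1 := by
      by_contra hno
      push Not at hno
      exact hbn fun x hx => commutatorElement_eq_one_iff_mul_comm.1 (hno x hx)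
    refine ⟨⁅x, b⁆, ?_, Subgroup.commutator_mem_commutator (hKY hx) hb, hxb⟩
    obtain ⟨A, hA, hBA⟩ := hB.2
    obtain ⟨j, hj, rfl⟩ := hBA hb
    obtain ⟨x', hx', rfl⟩ := hx
    rw [← map_commutatorElement]
    exact Subgroup.mem_map_of_mem π
      (hK.comm.le (Subgroup.commutator_mem_commutator hx' (le_thompsonSubgroupOf hA hj)))
  obtain ⟨_, ⟨x0, hx0, rfl⟩, hyF, hy1⟩ := hint
  have hQker : ∀ x ∈ Q, π x = 1 := fun x hx => by
    rw [← MonoidHom.mem_ker, ker_toHol]; exact s.pCore_le_centralizer (hQP hx)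
  have hx0Q : x0 ∉ Q := fun h => hy1 (hQker x0 h)
  have hgen : K ≤ Subgroup.zpowers x0 ⊔ Q := by
    have hle : Subgroup.zpowers x0 ⊔ Q ≤ K :=
      sup_le (Subgroup.zpowers_le.2 hx0) (CfsgLib.LocalEven.pCoreOf_le 2 K)
    have h3 : Q.relIndex (Subgroup.zpowers x0 ⊔ Q) * (Subgroup.zpowers x0 ⊔ Q).relIndex K = 3 := by
      rw [Subgroup.relIndex_mul_relIndex _ _ _ le_sup_right hle]; exact hK.index
    rcases Nat.Prime.eq_one_or_self_of_dvd Nat.prime_three _ ⟨_, h3.symm⟩ with e | e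
    · exact absurd (Subgroup.relIndex_eq_one.1 e (Subgroup.mem_sup_left (Subgroup.mem_zpowers x0))) hx0Q
    · rw [e] at h3
      exact Subgroup.relIndex_eq_one.1 (by omega)
  have hmap : K.map π = factorCore 2 (Hm L) B := by
    refine le_antisymm ?_ fun z hz => ?_
    · rw [Subgroup.map_le_iff_le_comap]
      refine hgen.trans (sup_le (Subgroup.zpowers_le.2 hyF) fun x hx => ?_)
      show π x ∈ factorCore 2 (Hm L) B
      rw [hQker x hx]; exact one_mem _
    · rcases eq_or_of_card_three hcard hyF hy1 hz with e | e | e <;> rw [e]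
      · exact one_mem _
      · exact Subgroup.mem_map_of_mem π hx0
      · exact inv_mem (Subgroup.mem_map_of_mem π hx0)
  refine ⟨B, k, a, hl, ?_, hmap⟩
  -- `K ≤ M1 k`
  have hkD := hl.k_mem
  have hnorm := s.conj_lift hB hkD hl.a_mem hl.k_map hl.k_ne hl.a_map hl.a_ne hl.cube hl.inv
  have hKM : K ≤ M1 k := by
    conv_lhs => rw [← hK.comm]
    rw [Subgroup.commutator_le]
    intro x hx j hj
    obtain ⟨i, hi⟩ : ∃ i : ℤ, π x = π k ^ i := by
      rcases eq_or_of_card_three hcard hl.k_map hl.k_ne (hmap.le (Subgroup.mem_map_of_mem π hx))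
        with e | e | e
      · exact ⟨0, by simpa using e⟩
      · exact ⟨1, by simpa using e⟩
      · exact ⟨-1, by simpa using e⟩
    have hc : x * (k ^ i)⁻¹ ∈ Subgroup.centralizer (Om L : Set L) := by
      rw [← ker_toHol, MonoidHom.mem_ker, map_mul, map_inv, map_zpow]
      show π x * (π k ^ i)⁻¹ = 1
      rw [hi, mul_inv_cancel]
    have hjD := thompsonSubgroupOf_sylow_le T hj
    have e1 : q ⁅x, j⁆ = q ⁅k ^ i, j⁆ := by
      have hcomm : Commute (q (x * (k ^ i)⁻¹)) (q (k ^ i * j * (k ^ i)⁻¹)) :=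
        s.comm_quot hc (mul_mem (mul_mem (zpow_mem hkD i) hjD) (inv_mem (zpow_mem hkD i)))
      have e2 : q (x * j * x⁻¹) =
          q (x * (k ^ i)⁻¹) * q (k ^ i * j * (k ^ i)⁻¹) * (q (x * (k ^ i)⁻¹))⁻¹ := by
        rw [← map_inv, ← map_mul, ← map_mul]; congr 1; group
      rw [commutatorElement_def, commutatorElement_def, map_mul, e2, hcomm.eq, mul_inv_cancel_right,
        ← map_mul]
    show q ⁅x, j⁆ ∈ Subgroup.zpowers (q k)
    rw [e1]
    have hkM : k ^ i ∈ M1 k := zpow_mem (show q k ∈ _ from Subgroup.mem_zpowers _) i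
    have h3 : ⁅k ^ i, j⁆ ∈ M1 k := by
      rw [commutatorElement_def, mul_assoc, mul_assoc]
      refine mul_mem hkM ?_
      rw [← mul_assoc]
      exact (Subgroup.mem_normalizer_iff.1 (hnorm hjD) _).1 (inv_mem hkM)
    exact h3
  refine le_antisymm ?_ ?_
  · conv_lhs => rw [← hK.gen]
    exact oddGen_mono hKM
  · have hle : M1 k ≤ pCore 2 L ⊔ K := by
      intro x hx
      obtain ⟨i, hi⟩ := hx
      -- a generator of `⟨q k⟩` comes from `K`
      obtain ⟨m, hm⟩ : ∃ m : ℤ, q x0 = q k ^ m := ⟨_, (Classical.choose_spec (hKM hx0)).symm⟩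
      have hm3 : ¬ (3 : ℤ) ∣ m := by
        rintro ⟨l, rfl⟩
        apply hx0Q
        have : q x0 = 1 := by
          rw [hm, zpow_mul, show (3 : ℤ) = ((3 : ℕ) : ℤ) from rfl, zpow_natCast, hl.cube, one_zpow]
        have hxP : x0 ∈ pCore 2 L := by rwa [QuotientGroup.mk'_apply, QuotientGroup.eq_one_iff] at this
        exact absurd (by
          rw [← MonoidHom.mem_ker, ker_toHol]; exact s.pCore_le_centralizer hxP) hy1
      obtain ⟨u, v, huv⟩ : IsCoprime m (3 : ℤ) :=
        (Int.prime_three.coprime_iff_not_dvd.2 hm3).symm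
      have hk' : q (x0 ^ u) = q k := by
        rw [map_zpow, hm, ← zpow_mul]
        have e : m * u = 1 + 3 * (-v) := by linarith [huv, mul_comm m u, mul_comm v 3]
        rw [e, zpow_add, zpow_one, zpow_mul, show (3 : ℤ) = ((3 : ℕ) : ℤ) from rfl, zpow_natCast,
          hl.cube, one_zpow, mul_one]
      have hx' : x * ((x0 ^ u) ^ i)⁻¹ ∈ pCore 2 L := by
        rw [← QuotientGroup.eq_one_iff (N := pCore 2 L), ← QuotientGroup.mk'_apply, map_mul, map_inv,
          map_zpow, hk', ← show q k ^ i = q x from hi]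
        exact mul_inv_cancel _
      have := Subgroup.mul_mem_sup hx' (zpow_mem (zpow_mem hx0 u) i)
      rwa [inv_mul_cancel_right] at this
    exact (oddGen_mono hle).trans
      (oddGen_le_of_sup (CfsgLib.Base.isPGroup_pCore 2 L) hPK)

theorem comp_normal {K : Subgroup L} (hK : IsComp (thompsonSubgroupOf 2 (T : Subgroup L)) K) :
    thompsonSubgroup 2 L ≤ Subgroup.normalizer (K : Set L) := by
  obtain ⟨B, k, a, hl, e, -⟩ := s.comp_eq hK
  rw [e]; exact s.le_normalizer_oddGen_M1 hl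

/-- Components whose four-groups meet are equal. -/
theorem comp_unique {K K' : Subgroup L} (hK : IsComp (thompsonSubgroupOf 2 (T : Subgroup L)) K)
    (hK' : IsComp (thompsonSubgroupOf 2 (T : Subgroup L)) K') (h : wOf K ⊓ wOf K' ≠ ⊥) : K = K' := by
  obtain ⟨B, k, a, hl, eK, hmK⟩ := s.comp_eq hK
  obtain ⟨B', k', a', hl', eK', hmK'⟩ := s.comp_eq hK'
  obtain ⟨hWK, -⟩ := s.comp_w hK
  obtain ⟨hWK', -⟩ := s.comp_w hK'
  set π := toHol (Om L)
  have hinW : ∀ (X : Subgroup L) (D : Subgroup (Hol (Om L))), wOf X ≤ Om L → X.map π = D →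
      ⁅wOf X, X⁆ = wOf X → ∀ w (hw : w ∈ wOf X) (hw' : w ∈ Om L),
        (SemidirectProduct.inl ⟨w, hw'⟩ : Hol (Om L)) ∈ ⁅holBase (Om L), D⁆ := by
    intro X D hX hD hcomm w hw hw'
    rw [← hD, commutator_holBase]
    exact Subgroup.mem_map_of_mem _ ((Subgroup.commutator_mono hX le_rfl) (hcomm.ge hw))
  obtain ⟨⟨w, hw1, hw2⟩, hw⟩ := Subgroup.ne_bot_iff_exists_ne_one.1 h
  have hwO : w ∈ Om L := (hWK.trans inf_le_left) hw1
  have m1 := hinW K _ (hWK.trans inf_le_left) hmK hK.wOf_comm w hw1 hwO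
  have m2 := hinW K' _ (hWK'.trans inf_le_left) hmK' hK'.wOf_comm w hw2 hwO
  have eFC : factorCore 2 (Hm L) B = factorCore 2 (Hm L) B' := by
    rcases hl.min.1.dichotomy hl'.min.1 with e | ⟨hd, -⟩
    · rw [← hl.min.card_factorCore.2, ← hl'.min.card_factorCore.2, e]
    · exfalso
      have h1 : (SemidirectProduct.inl ⟨w, hwO⟩ : Hol (Om L)) ∈
          ⁅holBase (Om L), factor 2 (Hm L) B⁆ ⊓ ⁅holBase (Om L), factor 2 (Hm L) B'⁆ :=
        ⟨Subgroup.commutator_mono le_rfl le_sup_left m1, Subgroup.commutator_mono le_rfl le_sup_left m2⟩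
      rw [hd, Subgroup.mem_bot] at h1
      have := congrArg SemidirectProduct.left h1
      simp only [SemidirectProduct.left_inl, SemidirectProduct.one_left] at this
      have h2 : w = 1 := by simpa using congrArg Subtype.val this
      exact hw (Subtype.ext h2)
  -- both are the odd part of the same preimage
  obtain ⟨B₂, k₂, a₂, hl₂, -, -⟩ := s.comp_eq hK
  have key : ∀ {X X' : Subgroup L}, IsComp (thompsonSubgroupOf 2 (T : Subgroup L)) X →
      IsComp (thompsonSubgroupOf 2 (T : Subgroup L)) X' → X.map π = X'.map π → X ≤ X' := by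
    intro X X' hX hX' e
    have hPX' := (s.comp_pCore_le hX').2.2
    have hXJ : X ≤ pCore 2 L ⊔ X' := by
      conv_lhs => rw [← hX.comm]
      rw [Subgroup.commutator_le]
      intro x hx j hj
      obtain ⟨x', hx', hxx'⟩ := e.le (Subgroup.mem_map_of_mem π hx)
      have hc : x * x'⁻¹ ∈ Subgroup.centralizer (Om L : Set L) := by
        rw [← ker_toHol, MonoidHom.mem_ker, map_mul, map_inv]
        show π x * (π x')⁻¹ = 1
        rw [hxx', mul_inv_cancel]
      have hjD := thompsonSubgroupOf_sylow_le T hj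
      have hj' : x' * j * x'⁻¹ ∈ thompsonSubgroup 2 L :=
        mul_mem (mul_mem (s.comp_le hX' hx') hjD) (inv_mem (s.comp_le hX' hx'))
      have h1 : ⁅x * x'⁻¹, x' * j * x'⁻¹⁆ ∈ pCore 2 L :=
        s.commutator_le_pCore (Subgroup.commutator_mem_commutator hc hj')
      have h2 : ⁅x', j⁆ ∈ X' := hX'.comm.le (Subgroup.commutator_mem_commutator hx' hj)
      rw [show ⁅x, j⁆ = ⁅x * x'⁻¹, x' * j * x'⁻¹⁆ * ⁅x', j⁆ by
        simp only [commutatorElement_def]; group]
      exact Subgroup.mul_mem_sup h1 h2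
    conv_lhs => rw [← hX.gen]
    exact (oddGen_mono hXJ).trans
      (oddGen_le_of_sup (CfsgLib.Base.isPGroup_pCore 2 L) hPX')
  have e : K.map π = K'.map π := by rw [hmK, hmK', eFC]
  exact le_antisymm (key hK hK' e) (key hK' hK e.symm)

/-- The normalizer of the four-group normalizes the component. -/
theorem normalizer_w_le {K : Subgroup L} (hK : IsComp (thompsonSubgroupOf 2 (T : Subgroup L)) K) :
    Subgroup.normalizer (wOf K : Set L) ≤ Subgroup.normalizer (K : Set L) := by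
  intro g hg
  obtain ⟨d, hd, n, hn, rfl⟩ := exists_mul_normalizer T g
  have hdK := s.comp_normal hK hd
  have hnW : n ∈ Subgroup.normalizer (wOf K : Set L) := by
    have := mul_mem (inv_mem (normalizer_le_normalizer_wOf K hdK)) hg
    rwa [inv_mul_cancel_left] at this
  refine mul_mem hdK (Subgroup.mem_normalizer_iff_map_conj_eq.2 ?_)
  have hK' : IsComp (thompsonSubgroupOf 2 (T : Subgroup L)) (K.map (MulAut.conj n).toMonoidHom) := by
    have := hK.conj n
    rwa [show (thompsonSubgroupOf 2 (T : Subgroup L)).map (MulAut.conj n).toMonoidHom =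
      thompsonSubgroupOf 2 (T : Subgroup L) from Subgroup.mem_normalizer_iff_map_conj_eq.1 hn] at this
  refine (s.comp_unique hK hK' ?_).symm
  rw [← map_wOf (MulAut.conj n).injective,
    show (wOf K).map (MulAut.conj n).toMonoidHom = wOf K from
      Subgroup.mem_normalizer_iff_map_conj_eq.1 hnW, inf_idem]
  exact hK.wOf_ne_bot

theorem normalizer_J_le_normalizer {K : Subgroup L}
    (hK : IsComp (thompsonSubgroupOf 2 (T : Subgroup L)) K) {n : L}
    (hn : n ∈ Subgroup.normalizer (thompsonSubgroupOf 2 (T : Subgroup L) : Set L)) {z : L}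
    (hz : z ∈ wOf K) (hz1 : z ≠ 1) (hzn : n * z * n⁻¹ ∈ wOf K) :
    n ∈ Subgroup.normalizer (K : Set L) := by
  have hK' : IsComp (thompsonSubgroupOf 2 (T : Subgroup L)) (K.map (MulAut.conj n).toMonoidHom) := by
    have := hK.conj n
    rwa [show (thompsonSubgroupOf 2 (T : Subgroup L)).map (MulAut.conj n).toMonoidHom =
      thompsonSubgroupOf 2 (T : Subgroup L) from Subgroup.mem_normalizer_iff_map_conj_eq.1 hn] at this
  refine Subgroup.mem_normalizer_iff_map_conj_eq.2 (s.comp_unique hK hK' fun e => ?_).symm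
  rw [← map_wOf (MulAut.conj n).injective] at e
  have hm : n * z * n⁻¹ ∈ wOf K ⊓ (wOf K).map (MulAut.conj n).toMonoidHom := ⟨hzn, ⟨z, hz, rfl⟩⟩
  rw [e, Subgroup.mem_bot, conj_eq_one_iff] at hm
  exact hz1 hm

end Setup

end CfsgLib.LocalEven.JComp
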