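import Cfsg.Agent.Lib.LocalEven.OffenderAmalgam

/-!
Two subgroups with a common Sylow `2`-subgroup and quotient `S₃`, both with offenders: the two
four-groups do not centralize each other and the two cores are elementary abelian.
-/

set_option autoImplicit false
set_option linter.style.haveILetI false
set_option linter.unusedSectionVars false

namespace CfsgLib.LocalEven.OffAmalgam

open Cfsg CfsgLib.PLocal
open scoped commutatorElement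

variable {G : Type*} [Group G] [Finite G]

theorem cj_le_normalizer {g : G} {X Y : Subgroup G} (h : X ≤ Subgroup.normalizer (Y : Set G)) :
    cj g X ≤ Subgroup.normalizer (cj g Y : Set G) := by
  rintro _ ⟨x, hx, rfl⟩
  refine mem_normalizer_of_cj_eq ?_
  rw [cj_cj, show (MulAut.conj g).toMonoidHom x * g = g * x by simp, ← cj_cj, cj_eq (h hx)]

theorem sq_mono {X Y : Subgroup G} (h : X ≤ Y) : sq X ≤ sq Y :=
  Subgroup.closure_mono fun _ ⟨x, hx, e⟩ => ⟨x, h hx, e⟩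

theorem cj_cancel (g : G) (X : Subgroup G) : cj g (cj g⁻¹ X) = X := by
  rw [cj_cj, mul_inv_cancel, cj_one]

theorem cj_cancel' (g : G) (X : Subgroup G) : cj g⁻¹ (cj g X) = X := by
  rw [cj_cj, inv_mul_cancel, cj_one]

namespace Side

variable {T Q W : Subgroup G} {z y : G} (s : Side T Q W z y)
include s

theorem q_normal : T ≤ Subgroup.normalizer (Q : Set G) := by
  have key : ∀ t ∈ T, ∀ q ∈ Q, t * q * t⁻¹ ∈ Q := by
    intro t ht q hq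
    by_cases htQ : t ∈ Q
    · exact Q.mul_mem (Q.mul_mem htQ hq) (Q.inv_mem htQ)
    refine s.index _ (mul_mem ht (s.le hq)) _ (inv_mem ht) (fun h => htQ ?_)
      (fun h => htQ (inv_mem_iff.1 h))
    simpa using Q.mul_mem h (Q.inv_mem hq)
  intro t ht
  rw [Subgroup.mem_normalizer_iff]
  exact fun q => ⟨key t ht q, fun h => by simpa [mul_assoc] using key t⁻¹ (inv_mem ht) _ h⟩

theorem q_cent : Q ≤ Subgroup.centralizer (W : Set G) := s.cent.ge.trans inf_le_right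

theorem mem_q {x : G} (hx : x ∈ T) (hC : x ∈ Subgroup.centralizer (W : Set G)) : x ∈ Q :=
  s.cent.le ⟨hx, hC⟩

theorem z_conj {t : G} (ht : t ∈ T) : t * z * t⁻¹ = z := mul_inv_eq_iff_eq_mul.2 (s.z_fix t ht)

theorem card_le {A : Subgroup G} (hA : A ≤ T) : Nat.card A ≤ 2 * Nat.card ↥(A ⊓ Q) := by
  by_cases h : A ≤ Q
  · rw [inf_eq_left.2 h]; omega
  obtain ⟨a, ha, haQ⟩ := SetLike.not_le_iff_exists.1 h
  have h2 : (A ⊓ Q).relIndex A = 2 := by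
    rw [Subgroup.relIndex, Subgroup.index_eq_two_iff]
    refine ⟨⟨a, ha⟩, fun b => ?_⟩
    simp only [Subgroup.mem_subgroupOf, Subgroup.mem_inf, Subgroup.coe_mul]
    by_cases hb : (b : G) ∈ Q
    · exact Or.inr ⟨⟨b.2, hb⟩, fun h' => haQ (by simpa using Q.mul_mem (Q.inv_mem hb) h'.2)⟩
    · exact Or.inl ⟨⟨mul_mem b.2 ha, s.index _ (hA b.2) _ (hA ha) hb haQ⟩, fun h' => hb h'.2⟩
  have := Subgroup.relIndex_mul_relIndex ⊥ (A ⊓ Q) A bot_le inf_le_left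
  simp only [Subgroup.relIndex_bot_left, h2] at this
  omega

theorem fix_only {a : G} (ha : a ∈ T) (haQ : a ∉ Q) {v : G} (hv : v ∈ W) (h : a * v = v * a) :
    v = 1 ∨ v = z := by
  obtain ⟨w0, -, -, -, hfix, -⟩ := JComp.four_action s.hT s.card_w s.w2 s.wT
  have haC : a ∉ Subgroup.centralizer (W : Set G) := fun hC => haQ (s.mem_q ha hC)
  obtain rfl : z = w0 := (hfix a ha haC z s.z_mem (s.z_fix a ha)).resolve_left s.z_ne
  exact hfix a ha haC v hv h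

theorem w_moved {a : G} (ha : a ∈ T) (haQ : a ∉ Q) : ∃ w ∈ W, a * w * a⁻¹ = w * z := by
  by_contra hno
  push Not at hno
  refine haQ (s.mem_q ha fun w hw => ?_)
  exact ((mul_inv_eq_iff_eq_mul.1 ((four_values s.card_w s.w2 s.z_mem s.z_ne (s.wT ha)
    (s.z_fix a ha) hw).resolve_right (hno w hw)))).symm

theorem yi_Q : y⁻¹ ∈ Subgroup.normalizer (Q : Set G) := inv_mem s.yQ

theorem fix_cj {g x : G} (hg : g ∈ Subgroup.normalizer (Q : Set G)) (hx : ∀ q ∈ Q, q * x = x * q)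
    {q : G} (hq : q ∈ Q) : q * (g * x * g⁻¹) = g * x * g⁻¹ * q := by
  have h : g⁻¹ * q * g ∈ Q := by
    simpa using (Subgroup.mem_normalizer_iff.1 (inv_mem hg) q).1 hq
  calc q * (g * x * g⁻¹) = g * ((g⁻¹ * q * g) * x) * g⁻¹ := by group
    _ = _ := by rw [hx _ h]; group

theorem norm_cj {g : G} {X : Subgroup G} (hg : g ∈ Subgroup.normalizer (Q : Set G))
    (hX : Q ≤ Subgroup.normalizer (X : Set G)) : Q ≤ Subgroup.normalizer (cj g X : Set G) :=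
  (cj_eq hg).ge.trans (cj_le_normalizer hX)

theorem cent_cj {g : G} {X : Subgroup G} (hg : g ∈ Subgroup.normalizer (Q : Set G))
    (hX : Q ≤ Subgroup.centralizer (X : Set G)) : Q ≤ Subgroup.centralizer (cj g X : Set G) :=
  (cj_eq hg).ge.trans (cj_le_centralizer hX)

theorem y_y {X : Subgroup G} (hX : Q ≤ Subgroup.normalizer (X : Set G)) :
    cj y (cj y X) = cj y⁻¹ X := by
  rw [cj_cj, show y * y = y⁻¹ * y ^ 3 by simp [pow_succ, mul_assoc], ← cj_cj, cj_eq (hX s.y3)]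

theorem yi_yi {X : Subgroup G} (hX : Q ≤ Subgroup.normalizer (X : Set G)) :
    cj y⁻¹ (cj y⁻¹ X) = cj y X := by
  rw [cj_cj, show y⁻¹ * y⁻¹ = y * (y ^ 3)⁻¹ by group, ← cj_cj, cj_eq (inv_mem (hX s.y3))]

theorem norm_of_eq {X : Subgroup G} (hX : Q ≤ Subgroup.normalizer (X : Set G))
    (h : cj y X = cj y⁻¹ X) : y ∈ Subgroup.normalizer (X : Set G) := by
  have e := s.y_y hX
  rw [h, cj_cancel] at e
  exact mem_normalizer_of_cj_eq (h.trans e.symm)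

theorem a_cj {a : G} (ha : a ∈ T) (haQ : a ∉ Q) {X : Subgroup G}
    (hX : Q ≤ Subgroup.normalizer (cj a X : Set G)) : cj a (cj y X) = cj y⁻¹ (cj a X) := by
  have hq : y * (a * y * a⁻¹ * y) * y⁻¹ ∈ Q :=
    (Subgroup.mem_normalizer_iff.1 s.yQ _).1 (s.inv a ha haQ)
  rw [cj_cj, show a * y = y⁻¹ * (y * (a * y * a⁻¹ * y) * y⁻¹ * a) by group, ← cj_cj, ← cj_cj,
    cj_eq (hX hq)]

theorem a_cj_inv {a : G} (ha : a ∈ T) (haQ : a ∉ Q) {X : Subgroup G}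
    (hX : Q ≤ Subgroup.normalizer (cj a X : Set G)) : cj a (cj y⁻¹ X) = cj y (cj a X) := by
  rw [cj_cj, show a * y⁻¹ = y * ((a * y * a⁻¹ * y)⁻¹ * a) by group, ← cj_cj, ← cj_cj,
    cj_eq (hX (inv_mem (s.inv a ha haQ)))]

theorem a_conj {a x : G} (ha : a ∈ T) (haQ : a ∉ Q) (hx : ∀ q ∈ Q, q * x = x * q)
    (hax : a * x = x * a) : a * (y * x * y⁻¹) * a⁻¹ = y⁻¹ * x * y := by
  have hq : y * (a * y * a⁻¹ * y) * y⁻¹ ∈ Q :=
    (Subgroup.mem_normalizer_iff.1 s.yQ _).1 (s.inv a ha haQ)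
  calc a * (y * x * y⁻¹) * a⁻¹ = y⁻¹ * ((y * (a * y * a⁻¹ * y) * y⁻¹) * (a * x * a⁻¹) *
      (y * (a * y * a⁻¹ * y) * y⁻¹)⁻¹) * y := by group
    _ = _ := by rw [mul_inv_eq_iff_eq_mul.2 hax, mul_inv_eq_iff_eq_mul.2 (hx _ hq)]

theorem moved {x : G} (hx : ∀ q ∈ Q, q * x = x * q) (hy : y * x * y⁻¹ ≠ x) :
    y⁻¹ * x * y ≠ y * x * y⁻¹ := fun e => hy <| by
  calc y * x * y⁻¹ = y * (y * (y⁻¹ * x * y) * y⁻¹) * y⁻¹ := by group
    _ = y * (y * (y * x * y⁻¹) * y⁻¹) * y⁻¹ := by rw [e]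
    _ = y ^ 3 * x * (y ^ 3)⁻¹ := by simp [pow_succ, mul_assoc]
    _ = x := mul_inv_eq_iff_eq_mul.2 (hx _ s.y3)

end Side

/-- The hypotheses on the two subgroups. -/
structure Pair (T Q₁ W₁ : Subgroup G) (z₁ y₁ : G) (Q₂ W₂ : Subgroup G) (z₂ y₂ : G) : Prop where
  s₁ : Side T Q₁ W₁ z₁ y₁
  s₂ : Side T Q₂ W₂ z₂ y₂
  core : ∀ N : Subgroup G, N ≤ T → T ≤ Subgroup.normalizer (N : Set G) →
    y₁ ∈ Subgroup.normalizer (N : Set G) → y₂ ∈ Subgroup.normalizer (N : Set G) → N = ⊥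
  off₁ : ∃ A ∈ maxEAOf 2 T, ¬ A ≤ Q₁
  off₂ : ∃ A ∈ maxEAOf 2 T, ¬ A ≤ Q₂

namespace Pair

variable {T Q₁ W₁ : Subgroup G} {z₁ y₁ : G} {Q₂ W₂ : Subgroup G} {z₂ y₂ : G}
  (h : Pair T Q₁ W₁ z₁ y₁ Q₂ W₂ z₂ y₂)
include h

theorem symm : Pair T Q₂ W₂ z₂ y₂ Q₁ W₁ z₁ y₁ :=
  ⟨h.s₂, h.s₁, fun N a b c d => h.core N a b d c, h.off₂, h.off₁⟩

theorem not_le_Q : ¬ Q₁ ≤ Q₂ := by
  intro hle
  have h1 := h.s₁.card_le (le_refl T)
  rw [inf_eq_right.2 h.s₁.le] at h1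
  have h2 := two_mul_le_of_lt (lt_of_le_of_ne h.s₂.le fun e => h.s₂.lt e.ge)
  have e : Q₁ = Q₂ := Subgroup.eq_of_le_of_card_ge hle (by omega)
  have hb := h.core Q₁ h.s₁.le h.s₁.q_normal h.s₁.yQ (e ▸ h.s₂.yQ)
  have hc := Subgroup.card_le_of_le h.s₁.wq
  rw [h.s₁.card_w, hb, Subgroup.card_bot] at hc
  omega

theorem le_of_le (h' : W₂ ≤ Q₁) : W₁ ≤ Q₂ := fun _ hw =>
  h.s₂.mem_q (h.s₁.le (h.s₁.wq hw))
    (Subgroup.le_centralizer_iff.1 (h'.trans h.s₁.q_cent) hw)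

theorem inf_eq : Q₁ ⊓ Q₂ = Q₁ ⊓ Subgroup.centralizer (W₂ : Set G) :=
  le_antisymm (inf_le_inf_left _ h.s₂.q_cent) fun _ hx => ⟨hx.1, h.s₂.mem_q (h.s₁.le hx.1) hx.2⟩

theorem inf_normal : T ≤ Subgroup.normalizer ((Q₁ ⊓ Q₂ : Subgroup G) : Set G) := fun t ht =>
  mem_normalizer_of_cj_eq (by rw [cj_inf, cj_eq (h.s₁.q_normal ht), cj_eq (h.s₂.q_normal ht)])

/-- The conjugate of `Q₁ ⊓ Q₂` is the centralizer of the conjugate four-group. -/
theorem cj_D {g : G} (hg : g ∈ Subgroup.normalizer (Q₁ : Set G)) :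
    cj g (Q₁ ⊓ Q₂) = Q₁ ⊓ Subgroup.centralizer (cj g W₂ : Set G) := by
  rw [h.inf_eq, cj_inf, cj_eq hg, cj_centralizer]

theorem q_norm_w : Q₁ ≤ Subgroup.normalizer (W₂ : Set G) := h.s₁.le.trans h.s₂.wT

/-- The involution `z₂` is fixed by `y₁`. -/
theorem fixed (hle : W₂ ≤ Q₁) : y₁ * z₂ * y₁⁻¹ = z₂ := by
  by_contra hy
  have s := h.s₁
  obtain ⟨A, hA, hAQ⟩ := h.off₁
  obtain ⟨a, ha, haQ⟩ := SetLike.not_le_iff_exists.1 hAQ
  have haT := hA.1 ha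
  have hxQ : ∀ q ∈ Q₁, q * z₂ = z₂ * q := fun q hq => h.s₂.z_fix q (s.le hq)
  set X := cj y₁ W₂
  have hX : IsElementaryAbelian 2 X := cj_ea h.s₂.w2
  have hX4 : Nat.card X = 4 := (card_cj _ _).trans h.s₂.card_w
  have hRX : Q₁ ≤ Subgroup.normalizer (X : Set G) := s.norm_cj s.yQ h.q_norm_w
  have hc : y₁ * z₂ * y₁⁻¹ ∈ X := ⟨z₂, h.s₂.z_mem, rfl⟩
  obtain ⟨q, hq, x, hx, hqx⟩ : ∃ q ∈ Q₁, ∃ x ∈ X, q * x * q⁻¹ ≠ x := by
    by_contra hno
    push Not at hno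
    refine h.not_le_Q fun q hq => h.s₂.mem_q (s.le hq) ?_
    have : Q₁ ≤ Subgroup.centralizer (X : Set G) := fun q hq x hx =>
      (mul_inv_eq_iff_eq_mul.1 (hno q hq x hx)).symm
    have := s.cent_cj s.yi_Q this
    rw [cj_cancel'] at this
    exact this hq
  obtain ⟨w, hw, hwa⟩ := s.w_moved haT haQ
  refine count (T := T) (V₀ := W₁) (X := X) (R := Q₁) (S₀ := Subgroup.zpowers z₁) (C₀ := A ⊓ Q₁)
    (k := 2) hA ha (s.wq.trans s.le) s.w2 (s.wT haT) s.q_cent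
    (fun r hr => (Subgroup.mem_normalizer_iff.1 (s.q_normal haT) r).1 hr)
    ((cj_mono hle).trans (cj_eq s.yQ).le) s.le hX hX4 hRX
    (fun r hr u hu => four_values hX4 hX hc (fun e => h.s₂.z_ne (conj_eq_one_iff.1 e)) (hRX hr)
      (s.fix_cj s.yQ hxQ hr) hu)
    hc (fun e => h.s₂.z_ne (conj_eq_one_iff.1 e))
    (by rw [s.a_conj haT haQ hxQ (h.s₂.z_fix a haT)]; exact s.moved hxQ hy) hq hx hqx
    (fun r hr => ?_) ?_ inf_le_left inf_le_right (s.card_le hA.1) ?_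
  · rw [Subgroup.zpowers_eq_closure, Subgroup.centralizer_closure,
      Subgroup.mem_centralizer_singleton_iff]
    exact s.z_fix r (s.le hr)
  · intro u hu
    have : Subgroup.zpowers z₁ ≤ (commHom s.w2.1 (s.wT haT)).range :=
      Subgroup.zpowers_le.2 ⟨⟨w, hw⟩, by
        show ⁅w, a⁆ = z₁
        have hww : w * w = 1 := by have := s.w2.2 w hw; rwa [pow_two] at this
        calc ⁅w, a⁆ = w * (a * w * a⁻¹)⁻¹⁻¹⁻¹ := by rw [commutatorElement_def]; group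
          _ = z₁ := by
            rw [hwa, inv_inv, mul_inv_rev, inv_eq_of_mul_eq_one_right hww,
              inv_eq_of_mul_eq_one_right (by have := s.w2.2 z₁ s.z_mem; rwa [pow_two] at this),
              comm_of_mem s.w2.1 s.z_mem hw, ← mul_assoc, hww, one_mul]⟩
    obtain ⟨v, e⟩ := this hu
    exact ⟨v, v.2, e⟩
  · have : Nat.card (Subgroup.zpowers z₁) = 2 := by
      rw [Nat.card_zpowers, orderOf_eq_prime (s.w2.2 z₁ s.z_mem) s.z_ne]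
    omega

theorem sq_eq_of_noncomm (hle : W₂ ≤ Q₁) (hnc : ¬ cj y₁ W₂ ≤ Subgroup.centralizer (W₂ : Set G)) :
    y₁ ∈ Subgroup.normalizer (sq (Q₁ ⊓ Q₂) : Set G) := by
  set U := cj y₁ W₂
  set D := Q₁ ⊓ Q₂
  have hD' : cj y₁ D = Q₁ ⊓ Subgroup.centralizer (U : Set G) := h.cj_D h.s₁.yQ
  have hUQ : U ≤ Q₁ := (cj_mono hle).trans (cj_eq h.s₁.yQ).le
  have hUnorm : Q₁ ≤ Subgroup.normalizer (U : Set G) := h.s₁.norm_cj h.s₁.yQ h.q_norm_w
  have hQ : IsPGroup 2 Q₁ := h.s₁.hT.to_le h.s₁.le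
  obtain ⟨-, -, -, -, -, hmulU⟩ :=
    JComp.four_action hQ ((card_cj _ _).trans h.s₂.card_w) (cj_ea h.s₂.w2) hUnorm
  obtain ⟨-, -, -, -, -, hmulW⟩ :=
    JComp.four_action hQ h.s₂.card_w h.s₂.w2 h.q_norm_w
  obtain ⟨u, hu, huC⟩ := SetLike.not_le_iff_exists.1
    (fun e => hnc (Subgroup.le_centralizer_iff.1 e) : ¬ W₂ ≤ Subgroup.centralizer (U : Set G))
  obtain ⟨u', hu', hu'C⟩ := SetLike.not_le_iff_exists.1 hnc
  have h2 : ∀ {X : Subgroup G}, IsElementaryAbelian 2 X → ∀ {v x : G}, v ∈ X →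
      x ∈ Subgroup.centralizer (X : Set G) → x * v * (x * v) = x * x := by
    intro X hX v x hv hx
    have hvv : v * v = 1 := by have := hX.2 v hv; rwa [pow_two] at this
    calc x * v * (x * v) = x * (v * x) * v := by group
      _ = x * (x * v) * v := by rw [hx v hv]
      _ = _ := by rw [mul_assoc, mul_assoc x v v, hvv, mul_one]
  have e₁ : sq D = sq (D ⊓ cj y₁ D) := by
    refine le_antisymm ((Subgroup.closure_le _).2 ?_) (sq_mono inf_le_left)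
    rintro _ ⟨d, hd, rfl⟩
    by_cases hdC : d ∈ Subgroup.centralizer (U : Set G)
    · exact Subgroup.subset_closure ⟨d, ⟨hd, hD'.ge ⟨hd.1, hdC⟩⟩, rfl⟩
    refine Subgroup.subset_closure ⟨d * u, ⟨mul_mem hd ⟨hle hu, h.s₂.wq hu⟩,
      hD'.ge ⟨mul_mem hd.1 (hle hu), hmulU d hd.1 u (hle hu) hdC huC⟩⟩, ?_⟩
    exact h2 h.s₂.w2 hu (h.s₂.q_cent hd.2)
  have e₂ : sq (cj y₁ D) = sq (D ⊓ cj y₁ D) := by
    refine le_antisymm ((Subgroup.closure_le _).2 ?_) (sq_mono inf_le_right)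
    rintro _ ⟨d, hd, rfl⟩
    obtain ⟨hdQ, hdU⟩ := hD'.le hd
    by_cases hdC : d ∈ Subgroup.centralizer (W₂ : Set G)
    · exact Subgroup.subset_closure ⟨d, ⟨h.inf_eq.ge ⟨hdQ, hdC⟩, hd⟩, rfl⟩
    refine Subgroup.subset_closure ⟨d * u',
      ⟨h.inf_eq.ge ⟨mul_mem hdQ (hUQ hu'), hmulW d hdQ u' (hUQ hu') hdC hu'C⟩,
        mul_mem hd (hD'.ge ⟨hUQ hu', fun v hv => comm_of_mem (cj_ea h.s₂.w2).1 hv hu'⟩)⟩, ?_⟩
    exact h2 (cj_ea h.s₂.w2) hu' hdU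
  exact mem_normalizer_of_cj_eq (by rw [cj_sq, e₂, ← e₁])

/-- If one side is not commutative and the other is, the other normalizes `Q₁ ⊓ Q₂`. -/
theorem norm_of_noncomm (hle : W₂ ≤ Q₁) (hnc : ¬ cj y₁ W₂ ≤ Subgroup.centralizer (W₂ : Set G))
    (hc : cj y₂ W₁ ≤ Subgroup.centralizer (W₁ : Set G)) :
    y₂ ∈ Subgroup.normalizer ((Q₁ ⊓ Q₂ : Subgroup G) : Set G) := by
  have s := h.s₂
  have hz : y₁ * z₂ * y₁⁻¹ = z₂ := h.fixed hle
  set U := cj y₁ W₂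
  have hUQ : U ≤ Q₁ := (cj_mono hle).trans (cj_eq h.s₁.yQ).le
  obtain ⟨w, hw, hwC⟩ := SetLike.not_le_iff_exists.1 hnc
  have hwT : w ∈ T := h.s₁.le (hUQ hw)
  have hwQ : w ∉ Q₂ := fun e => hwC (s.q_cent e)
  set W₃ := cj y₂ W₁
  have hW₁n : Q₂ ≤ Subgroup.normalizer (W₁ : Set G) := h.symm.q_norm_w
  have hW₃Q₁ : W₃ ≤ Q₁ := fun v hv =>
    h.s₁.mem_q (s.le ((cj_eq s.yQ).le (cj_mono (h.le_of_le hle) hv))) (hc hv)
  have hswap : cj w W₃ = cj y₂⁻¹ W₁ := by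
    have e : cj w W₁ = W₁ := cj_eq (h.s₁.wT hwT)
    rw [s.a_cj hwT hwQ (by rw [e]; exact hW₁n), e]
  have hUn : Q₁ ≤ Subgroup.normalizer (U : Set G) := h.s₁.norm_cj h.s₁.yQ h.q_norm_w
  have hsub : cj y₂⁻¹ W₁ ≤ W₃ ⊔ Subgroup.zpowers z₂ := by
    rw [← hswap]
    rintro _ ⟨v, hv, rfl⟩
    show w * v * w⁻¹ ∈ _
    have hz₂ : z₂ ∈ U := ⟨z₂, s.z_mem, hz⟩
    have hww : w * w = 1 := by have := (cj_ea (g := y₁) s.w2).2 w hw; rwa [pow_two] at this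
    rcases four_values ((card_cj _ _).trans s.card_w) (cj_ea s.w2) hz₂ s.z_ne (hUn (hW₃Q₁ hv))
      (s.z_fix v (h.s₁.le (hW₃Q₁ hv))) hw with e | e
    · rw [← mul_inv_eq_iff_eq_mul.1 e, mul_inv_cancel_right]
      exact Subgroup.mem_sup_left hv
    · have e' : w * v * w⁻¹ = z₂ * v := by
        calc w * v * w⁻¹ = w * (v * w * v⁻¹) * v := by
              rw [inv_eq_of_mul_eq_one_right hww]; group
          _ = w * w * z₂ * v := by rw [e]; group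
          _ = z₂ * v := by rw [hww, one_mul]
      rw [e']
      exact mul_mem (Subgroup.mem_sup_right (Subgroup.mem_zpowers _)) (Subgroup.mem_sup_left hv)
  have hle' : cj y₂ (Q₁ ⊓ Q₂) ≤ cj y₂⁻¹ (Q₁ ⊓ Q₂) := by
    rw [inf_comm, h.symm.cj_D s.yQ, h.symm.cj_D s.yi_Q]
    intro x hx
    refine ⟨hx.1, ?_⟩
    have : W₃ ⊔ Subgroup.zpowers z₂ ≤ Subgroup.centralizer {x} := sup_le
      (fun v hv => Subgroup.mem_centralizer_singleton_iff.2 (hx.2 v hv))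
      (Subgroup.zpowers_le.2
        (Subgroup.mem_centralizer_singleton_iff.2 (s.z_fix x (s.le hx.1)).symm))
    exact fun v hv => Subgroup.mem_centralizer_singleton_iff.1 (this (hsub hv))
  refine s.norm_of_eq (s.le.trans h.inf_normal) (Subgroup.eq_of_le_of_card_ge hle' ?_)
  rw [card_cj, card_cj]

/-- The conjugates of `W₂` centralize `W₂`. -/
theorem comm (hle : W₂ ≤ Q₁) : cj y₁ W₂ ≤ Subgroup.centralizer (W₂ : Set G) := by
  by_contra hnc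
  have s := h.s₁
  have hle' := h.le_of_le hle
  set D := Q₁ ⊓ Q₂
  have hDT : D ≤ T := inf_le_left.trans s.le
  have hTn : T ≤ Subgroup.normalizer (sq D : Set G) := fun t ht =>
    mem_normalizer_of_cj_eq (by rw [cj_sq, cj_eq (h.inf_normal ht)])
  have hy₂ : y₂ ∈ Subgroup.normalizer (sq D : Set G) := by
    by_cases hc : cj y₂ W₁ ≤ Subgroup.centralizer (W₁ : Set G)
    · exact mem_normalizer_of_cj_eq (by rw [cj_sq, cj_eq (h.norm_of_noncomm hle hnc hc)])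
    · have := h.symm.sq_eq_of_noncomm hle' hc
      rwa [inf_comm] at this
  have hsq := h.core _ (sq_le.trans hDT) hTn (h.sq_eq_of_noncomm hle hnc) hy₂
  have hDe : IsElementaryAbelian 2 D := ea_of_sq hsq
  set U := cj y₁ W₂
  set U' := cj y₁⁻¹ W₂
  have hUQ : U ≤ Q₁ := (cj_mono hle).trans (cj_eq s.yQ).le
  have hU'Q : U' ≤ Q₁ := (cj_mono hle).trans (cj_eq s.yi_Q).le
  have hQ : IsPGroup 2 Q₁ := s.hT.to_le s.le
  have hUn : Q₁ ≤ Subgroup.normalizer (U : Set G) := s.norm_cj s.yQ h.q_norm_w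
  obtain ⟨w₀, -, -, -, hfix, -⟩ :=
    JComp.four_action hQ ((card_cj _ _).trans h.s₂.card_w) (cj_ea h.s₂.w2) hUn
  obtain ⟨-, -, -, -, -, hmulW⟩ :=
    JComp.four_action hQ h.s₂.card_w h.s₂.w2 h.q_norm_w
  obtain ⟨u, hu, huC⟩ := SetLike.not_le_iff_exists.1 hnc
  have hz : z₂ ∈ U := ⟨z₂, h.s₂.z_mem, h.fixed hle⟩
  have hzC : z₂ ∈ Subgroup.centralizer (W₂ : Set G) := fun v hv =>
    comm_of_mem h.s₂.w2.1 hv h.s₂.z_mem
  have hU'C : ¬ U' ≤ Subgroup.centralizer (W₂ : Set G) := fun e => hnc (by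
    have := cj_le_centralizer (g := y₁) e
    rw [cj_cancel] at this
    exact Subgroup.le_centralizer_iff.1 this)
  have key : ∀ w ∈ U', w ∉ Subgroup.centralizer (W₂ : Set G) →
      w ∈ Subgroup.centralizer (U : Set G) := by
    intro w hw hwC
    have hv : w * u ∈ D :=
      h.inf_eq.ge ⟨mul_mem (hU'Q hw) (hUQ hu), hmulW w (hU'Q hw) u (hUQ hu) hwC huC⟩
    have huu : u * u = 1 := by have := (cj_ea (g := y₁) h.s₂.w2).2 u hu; rwa [pow_two] at this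
    have hww : w * w = 1 := by have := (cj_ea (g := y₁⁻¹) h.s₂.w2).2 w hw; rwa [pow_two] at this
    have hvv : w * u * (w * u) = 1 := by have := hDe.2 _ hv; rwa [pow_two] at this
    have hc : w * u * u = u * (w * u) := by
      calc w * u * u = w := by rw [mul_assoc, huu, mul_one]
        _ = w * (w * u * (w * u)) := by rw [hvv, mul_one]
        _ = w * w * (u * (w * u)) := by group
        _ = _ := by rw [hww, one_mul]
    have hvC : w * u ∈ Subgroup.centralizer (U : Set G) := by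
      by_contra hvC
      rcases hfix _ hv.1 hvC u hu hc with e | e
      · exact huC (e ▸ one_mem _)
      · rcases hfix _ hv.1 hvC z₂ hz (h.s₂.z_fix _ (hDT hv)) with f | f
        · exact h.s₂.z_ne f
        · exact huC (e.trans f.symm ▸ hzC)
    have := mul_mem hvC
      ((fun v hv => comm_of_mem (cj_ea h.s₂.w2).1 hv hu) : u ∈ Subgroup.centralizer (U : Set G))
    rwa [mul_assoc, huu, mul_one] at this
  obtain ⟨w, hw, hwC⟩ := SetLike.not_le_iff_exists.1 hU'C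
  have hall : U' ≤ Subgroup.centralizer (U : Set G) := by
    intro v hv
    by_cases hvC : v ∈ Subgroup.centralizer (W₂ : Set G)
    · have h1 := key _ (mul_mem hv hw) fun e => hwC (by
        simpa using mul_mem (inv_mem hvC) e)
      simpa using mul_mem h1 (inv_mem (key w hw hwC))
    · exact key v hv hvC
  have h1 := cj_le_centralizer (g := y₁) hall
  rw [cj_cancel, s.y_y h.q_norm_w] at h1
  have h2 := cj_le_centralizer (g := y₁) h1
  rw [cj_cancel] at h2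
  exact hnc h2

theorem w₃_le (hle : W₂ ≤ Q₁) :
    cj y₂ W₁ ≤ Q₁ ⊓ Q₂ ⊓ cj y₁ (Q₁ ⊓ Q₂) ⊓ cj y₁⁻¹ (Q₁ ⊓ Q₂) := by
  have hle' := h.le_of_le hle
  set W₃ := cj y₂ W₁
  have hQ₂ : W₃ ≤ Q₂ := (cj_mono hle').trans (cj_eq h.s₂.yQ).le
  have hQ₁ : W₃ ≤ Q₁ := fun v hv => h.s₁.mem_q (h.s₂.le (hQ₂ hv)) (h.symm.comm hle' hv)
  have hzne : z₁ ≠ z₂ := fun e => h.s₁.yz (e ▸ h.fixed hle)
  have hz₁ : z₁ ∈ W₃ := ⟨z₁, h.s₁.z_mem, h.symm.fixed hle'⟩
  have hn : Q₂ ≤ Subgroup.normalizer (W₃ : Set G) := h.s₂.norm_cj h.s₂.yQ h.symm.q_norm_w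
  have key : ∀ g : G, g ∈ Subgroup.normalizer (Q₁ : Set G) → g * z₂ * g⁻¹ = z₂ →
      cj g W₂ ≤ Subgroup.centralizer (W₂ : Set G) →
      W₃ ≤ cj g (Q₁ ⊓ Q₂) := by
    intro g hg hgz hgc
    rw [h.cj_D hg]
    refine le_inf hQ₁ ?_
    set U := cj g W₂
    have hUQ : U ≤ Q₁ := (cj_mono hle).trans (cj_eq hg).le
    have hUQ₂ : U ≤ Q₂ := fun v hv => h.s₂.mem_q (h.s₁.le (hUQ hv)) (hgc hv)
    have hUn : Q₁ ≤ Subgroup.normalizer (U : Set G) := h.s₁.norm_cj hg h.q_norm_w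
    have hz₂ : z₂ ∈ U := ⟨z₂, h.s₂.z_mem, hgz⟩
    refine comm_of_actions (cj_ea h.s₁.w2) (cj_ea h.s₂.w2) hz₁ hz₂ hzne
      (fun v hv u hu => four_values ((card_cj _ _).trans h.s₁.card_w) (cj_ea h.s₁.w2) hz₁
        h.s₁.z_ne (hn (hUQ₂ hv)) (h.s₁.z_fix v (h.s₂.le (hUQ₂ hv))) hu)
      (fun u hu v hv => four_values ((card_cj _ _).trans h.s₂.card_w) (cj_ea h.s₂.w2) hz₂
        h.s₂.z_ne (hUn (hQ₁ hu)) (h.s₂.z_fix u (h.s₁.le (hQ₁ hu))) hv)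
  refine le_inf (le_inf (le_inf hQ₁ hQ₂) (key _ h.s₁.yQ (h.fixed hle) (h.comm hle)))
    (key _ h.s₁.yi_Q ?_ ?_)
  · calc y₁⁻¹ * z₂ * y₁⁻¹⁻¹ = y₁⁻¹ * (y₁ * z₂ * y₁⁻¹) * y₁⁻¹⁻¹ := by rw [h.fixed hle]
      _ = z₂ := by group
  · have := cj_le_centralizer (g := y₁⁻¹) (h.comm hle)
    rw [cj_cancel'] at this
    exact Subgroup.le_centralizer_iff.1 this

/-- Some elementary abelian subgroup of largest order lies in `Q₂`. -/
theorem exists_max_le : ∃ A ∈ maxEAOf 2 T, A ≤ Q₂ := by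
  obtain ⟨A, hA, hAQ⟩ := h.off₂
  obtain ⟨a, ha, haQ⟩ := SetLike.not_le_iff_exists.1 hAQ
  have s := h.s₂
  set B := A ⊓ Q₂
  have hBC : B ≤ Subgroup.centralizer (W₂ : Set G) := inf_le_right.trans s.q_cent
  have he : IsElementaryAbelian 2 (B ⊔ W₂ : Subgroup G) :=
    isElementaryAbelian_sup (isElementaryAbelian_of_le hA.2.1 inf_le_left) s.w2 hBC
  have h1 := CfsgLib.Coprime.card_sup_mul_card_inf (H := B) (N := W₂)
    (hBC.trans (Subgroup.centralizer_le_normalizer _))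
  have h2 : Nat.card ↥(B ⊓ W₂) ≤ 2 := by
    have : B ⊓ W₂ ≤ Subgroup.zpowers z₂ := fun v hv => by
      rcases s.fix_only (hA.1 ha) haQ hv.2 (comm_of_mem hA.2.1.1 ha hv.1.1) with e | e <;> rw [e]
      · exact one_mem _
      · exact Subgroup.mem_zpowers _
    refine (Subgroup.card_le_of_le this).trans ?_
    rw [Nat.card_zpowers, orderOf_eq_prime (s.w2.2 z₂ s.z_mem) s.z_ne]
  have hBW : B ⊔ W₂ ≤ Q₂ := sup_le inf_le_right s.wq
  refine ⟨B ⊔ W₂, ⟨hBW.trans s.le, he, fun E hE hEe => ?_⟩, hBW⟩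
  have h3 := hA.2.2 E hE hEe
  have h4 : Nat.card A ≤ 2 * Nat.card B := s.card_le hA.1
  rw [s.card_w] at h1
  have h5 : Nat.card B * 4 ≤ Nat.card ↥(B ⊔ W₂) * 2 := h1 ▸ Nat.mul_le_mul_left _ h2
  omega

/-- With `y₁` normalizing `Q₁ ⊓ Q₂`. -/
theorem false_of_norm (hle : W₂ ≤ Q₁)
    (hy₂ : y₂ ∉ Subgroup.normalizer ((Q₁ ⊓ Q₂ : Subgroup G) : Set G))
    (hy₁ : y₁ ∈ Subgroup.normalizer ((Q₁ ⊓ Q₂ : Subgroup G) : Set G)) : False := by
  have s := h.s₁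
  set D := Q₁ ⊓ Q₂
  obtain ⟨A₀, hA₀, hA₀Q⟩ := h.exists_max_le
  obtain ⟨A, hA, hAQ₂, hAQ⟩ : ∃ A ∈ maxEAOf 2 T, A ≤ Q₂ ∧ ¬ A ≤ Q₁ := by
    by_contra hno
    push Not at hno
    set J : Subgroup G := sSup {A | A ∈ maxEAOf 2 T ∧ A ≤ Q₂}
    have hcl : ∀ g : G, (∀ A ∈ maxEAOf 2 T, A ≤ Q₂ → cj g A ≤ Q₂) →
        g ∈ Subgroup.normalizer (J : Set G) := by
      intro g hg
      refine mem_normalizer_of_cj_eq (Subgroup.eq_of_le_of_card_ge ?_ (card_cj _ _).ge)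
      rw [cj, Subgroup.map_le_iff_le_comap]
      refine sSup_le fun A hA => Subgroup.map_le_iff_le_comap.1 ?_
      refine le_sSup (⟨⟨(hg A hA.1 hA.2).trans h.s₂.le, cj_ea hA.1.2.1, fun E hE hEe => ?_⟩,
        hg A hA.1 hA.2⟩ : cj g A ∈ {A | A ∈ maxEAOf 2 T ∧ A ≤ Q₂})
      rw [card_cj]
      exact hA.1.2.2 E hE hEe
    have hJ := h.core J (sSup_le fun A hA => hA.1.1)
      (fun t ht => hcl t fun A _ hA => (cj_mono hA).trans (cj_eq (h.s₂.q_normal ht)).le)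
      (hcl y₁ fun A hA hA2 => ((cj_mono (le_inf (hno A hA hA2) hA2)).trans
        (cj_eq hy₁).le).trans inf_le_right)
      (hcl y₂ fun A _ hA => (cj_mono hA).trans (cj_eq h.s₂.yQ).le)
    have hA₁ : A₀ ≤ ⊥ := hJ ▸ le_sSup ⟨hA₀, hA₀Q⟩
    have hc := hA₀.2.2 W₁ (s.wq.trans s.le) s.w2
    rw [le_bot_iff.1 hA₁, Subgroup.card_bot, s.card_w] at hc
    omega
  obtain ⟨a, ha, haQ⟩ := SetLike.not_le_iff_exists.1 hAQ
  have haT := hA.1 ha
  set W₃ := cj y₂ W₁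
  set X := cj y₁ W₃
  have hW₃ := h.w₃_le hle
  have hXD : X ≤ D := (cj_mono (hW₃.trans (inf_le_left.trans inf_le_left))).trans (cj_eq hy₁).le
  have hX : IsElementaryAbelian 2 X := cj_ea (cj_ea s.w2)
  have hX4 : Nat.card X = 4 := ((card_cj _ _).trans (card_cj _ _)).trans s.card_w
  have hW₃n : D ≤ Subgroup.normalizer (W₃ : Set G) :=
    inf_le_right.trans (h.s₂.norm_cj h.s₂.yQ h.symm.q_norm_w)
  have hDX : D ≤ Subgroup.normalizer (X : Set G) := (cj_eq hy₁).ge.trans (cj_le_normalizer hW₃n)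
  have hz : z₁ ∈ W₃ := ⟨z₁, s.z_mem, h.symm.fixed (h.le_of_le hle)⟩
  have hc : y₁ * z₁ * y₁⁻¹ ∈ X := ⟨z₁, hz, rfl⟩
  have hzQ : ∀ q ∈ Q₁, q * z₁ = z₁ * q := fun q hq => s.z_fix q (s.le hq)
  have hc1 : y₁ * z₁ * y₁⁻¹ ≠ 1 := fun e => s.z_ne (conj_eq_one_iff.1 e)
  obtain ⟨q, hq, x, hx, hqx⟩ : ∃ q ∈ D, ∃ x ∈ X, q * x * q⁻¹ ≠ x := by
    by_contra hno
    push Not at hno
    refine hy₂ ?_
    have hDC : D ≤ Subgroup.centralizer (X : Set G) := fun q hq x hx =>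
      (mul_inv_eq_iff_eq_mul.1 (hno q hq x hx)).symm
    have h1 : D ≤ cj y₂ D := by
      intro d hd
      rw [show D = Q₂ ⊓ Q₁ from inf_comm _ _, h.symm.cj_D h.s₂.yQ]
      refine ⟨hd.2, ?_⟩
      have := cj_le_centralizer (g := y₁⁻¹) hDC
      rw [cj_cancel'] at this
      exact this (by rwa [cj_eq (inv_mem hy₁)])
    exact mem_normalizer_of_cj_eq (Subgroup.eq_of_le_of_card_ge h1 (card_cj _ _).le).symm
  obtain ⟨w, hw, hwa⟩ := s.w_moved haT haQ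
  refine count (T := T) (V₀ := W₁) (X := X) (R := D) (S₀ := Subgroup.zpowers z₁) (C₀ := A ⊓ Q₁)
    (k := 2) hA ha (s.wq.trans s.le) s.w2 (s.wT haT) (inf_le_left.trans s.q_cent)
    (fun r hr => (Subgroup.mem_normalizer_iff.1 (h.inf_normal haT) r).1 hr)
    hXD (inf_le_left.trans s.le) hX hX4 hDX
    (fun r hr u hu => four_values hX4 hX hc hc1 (hDX hr) (s.fix_cj s.yQ hzQ hr.1) hu)
    hc hc1 (by rw [s.a_conj haT haQ hzQ (s.z_fix a haT)]; exact s.moved hzQ s.yz) hq hx hqx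
    (fun r hr => ?_) ?_ inf_le_left (le_inf inf_le_right (inf_le_left.trans hAQ₂))
    (s.card_le hA.1) ?_
  · rw [Subgroup.zpowers_eq_closure, Subgroup.centralizer_closure,
      Subgroup.mem_centralizer_singleton_iff]
    exact s.z_fix r (s.le hr.1)
  · intro u hu
    have : Subgroup.zpowers z₁ ≤ (commHom s.w2.1 (s.wT haT)).range :=
      Subgroup.zpowers_le.2 ⟨⟨w, hw⟩, by
        show ⁅w, a⁆ = z₁
        have hww : w * w = 1 := by have := s.w2.2 w hw; rwa [pow_two] at this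
        calc ⁅w, a⁆ = w * (a * w * a⁻¹)⁻¹⁻¹⁻¹ := by rw [commutatorElement_def]; group
          _ = z₁ := by
            rw [hwa, inv_inv, mul_inv_rev, inv_eq_of_mul_eq_one_right hww,
              inv_eq_of_mul_eq_one_right (by have := s.w2.2 z₁ s.z_mem; rwa [pow_two] at this),
              comm_of_mem s.w2.1 s.z_mem hw, ← mul_assoc, hww, one_mul]⟩
    obtain ⟨v, e⟩ := this hu
    exact ⟨v, v.2, e⟩
  · have : Nat.card (Subgroup.zpowers z₁) = 2 := by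
      rw [Nat.card_zpowers, orderOf_eq_prime (s.w2.2 z₁ s.z_mem) s.z_ne]
    omega

/-- With `y₁` not normalizing `Q₁ ⊓ Q₂`. -/
theorem false_of_not_norm (hle : W₂ ≤ Q₁)
    (hy₂ : y₂ ∉ Subgroup.normalizer ((Q₁ ⊓ Q₂ : Subgroup G) : Set G))
    (hy₁ : y₁ ∉ Subgroup.normalizer ((Q₁ ⊓ Q₂ : Subgroup G) : Set G)) : False := by
  have s := h.s₁
  have hle' := h.le_of_le hle
  set D := Q₁ ⊓ Q₂
  set D' := cj y₁ D
  set D'' := cj y₁⁻¹ D
  set U := cj y₁ W₂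
  set U' := cj y₁⁻¹ W₂
  set W₃ := cj y₂ W₁
  set X := cj y₁ W₃
  set F := D' ⊓ D''
  have hQD : Q₁ ≤ Subgroup.normalizer (D : Set G) := s.le.trans h.inf_normal
  have hD' : D' = Q₁ ⊓ Subgroup.centralizer (U : Set G) := h.cj_D s.yQ
  have hD'' : D'' = Q₁ ⊓ Subgroup.centralizer (U' : Set G) := h.cj_D s.yi_Q
  have hne : D' ≠ D'' := fun e => hy₁ (s.norm_of_eq hQD e)
  have hQ : IsPGroup 2 Q₁ := s.hT.to_le s.le
  have hUn : Q₁ ≤ Subgroup.normalizer (U : Set G) := s.norm_cj s.yQ h.q_norm_w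
  have hFQ : F ≤ Q₁ := inf_le_left.trans (hD'.le.trans inf_le_left)
  have hcomm : U ≤ Subgroup.centralizer (U' : Set G) := by
    have := cj_le_centralizer (g := y₁) (Subgroup.le_centralizer_iff.1 (h.comm hle))
    rwa [s.y_y h.q_norm_w] at this
  have hW₃ := h.w₃_le hle
  have hW₃D : W₃ ≤ D := hW₃.trans (inf_le_left.trans inf_le_left)
  -- a subgroup of index two moves `X`
  obtain ⟨q, hq, x, hx, hqx⟩ : ∃ q ∈ F, ∃ x ∈ X, q * x * q⁻¹ ≠ x := by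
    by_contra hno
    push Not at hno
    have hFC : F ≤ Subgroup.centralizer (X : Set G) := fun q hq x hx =>
      (mul_inv_eq_iff_eq_mul.1 (hno q hq x hx)).symm
    set G₁ := D ⊓ D'
    have hG₁C : G₁ ≤ Subgroup.centralizer (W₃ : Set G) := by
      have := cj_le_centralizer (g := y₁⁻¹) hFC
      rwa [cj_cancel', cj_inf, cj_cancel', s.yi_yi hQD] at this
    obtain ⟨q₀, hq₀, hq₀2⟩ := SetLike.not_le_iff_exists.1 h.not_le_Q
    have eW : cj q₀ W₁ = W₁ := cj_eq (s.wT (s.le hq₀))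
    have hswap : cj q₀ W₃ = cj y₂⁻¹ W₁ := by
      rw [h.s₂.a_cj (s.le hq₀) hq₀2 (by rw [eW]; exact h.symm.q_norm_w), eW]
    have hG₁C' : G₁ ≤ Subgroup.centralizer (cj y₂⁻¹ W₁ : Set G) := by
      have := cj_le_centralizer (g := q₀) hG₁C
      rwa [hswap, cj_inf, cj_eq (hQD hq₀), cj_eq (s.norm_cj s.yQ hQD hq₀)] at this
    have hG₁le : Nat.card D ≤ 2 * Nat.card G₁ := by
      refine (JComp.card_le_two_mul hQ ((card_cj _ _).trans h.s₂.card_w) (cj_ea h.s₂.w2) hUn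
        inf_le_left).trans (Nat.mul_le_mul_left _ (Subgroup.card_le_of_le ?_))
      exact fun v hv => ⟨hv.1, hD'.ge ⟨hv.1.1, hv.2⟩⟩
    have hG₁eq : ∀ g : G, g ∈ Subgroup.normalizer (Q₂ : Set G) →
        g ∉ Subgroup.normalizer (D : Set G) →
        G₁ ≤ Subgroup.centralizer (cj g W₁ : Set G) → G₁ = D ⊓ cj g D := by
      intro g hg hgD hgC
      have e : cj g D = Q₂ ⊓ Subgroup.centralizer (cj g W₁ : Set G) := by
        rw [show D = Q₂ ⊓ Q₁ from inf_comm _ _, h.symm.cj_D hg]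
      refine Subgroup.eq_of_le_of_card_ge (fun v hv => ⟨hv.1, e.ge ⟨hv.1.2, hgC hv⟩⟩) ?_
      have hlt : D ⊓ cj g D < D := lt_of_le_of_ne inf_le_left fun f => hgD <|
        mem_normalizer_of_cj_eq (Subgroup.eq_of_le_of_card_ge (inf_eq_left.1 f) (card_cj _ _).le).symm
      have := two_mul_le_of_lt hlt
      omega
    have hQ₂D : Q₂ ≤ Subgroup.normalizer (D : Set G) := h.s₂.le.trans h.inf_normal
    have e₁ := hG₁eq y₂ h.s₂.yQ hy₂ hG₁C
    have e₂ := hG₁eq y₂⁻¹ h.s₂.yi_Q (fun e => hy₂ (inv_mem_iff.1 e)) hG₁C'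
    have e₃ : G₁ = D ⊓ cj y₂ D ⊓ cj y₂⁻¹ D :=
      le_antisymm (le_inf e₁.le (e₂.le.trans inf_le_right)) (inf_le_left.trans e₁.ge)
    have hy₂G : y₂ ∈ Subgroup.normalizer (G₁ : Set G) := by
      refine mem_normalizer_of_cj_eq ?_
      rw [e₃, cj_inf, cj_inf, cj_cancel, h.s₂.y_y hQ₂D]
      ac_rfl
    have hTG : T ≤ Subgroup.normalizer (G₁ : Set G) := by
      intro t ht
      refine mem_normalizer_of_cj_eq ?_
      have hn : ∀ g : G, g ∈ Subgroup.normalizer (Q₂ : Set G) → t ∈ Q₂ →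
          cj t (cj g D) = cj g D := fun g hg htQ => cj_eq (h.s₂.norm_cj hg hQ₂D htQ)
      rw [e₃, cj_inf, cj_inf, cj_eq (h.inf_normal ht)]
      by_cases htQ : t ∈ Q₂
      · rw [hn _ h.s₂.yQ htQ, hn _ h.s₂.yi_Q htQ]
      · have ht' : Q₂ ≤ Subgroup.normalizer (cj t D : Set G) := by
          rwa [cj_eq (h.inf_normal ht)]
        rw [h.s₂.a_cj ht htQ ht', h.s₂.a_cj_inv ht htQ ht', cj_eq (h.inf_normal ht),
          inf_assoc, inf_comm (cj y₂⁻¹ D), ← inf_assoc]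
    obtain ⟨a, haT, haQ⟩ := SetLike.not_le_iff_exists.1 s.lt
    have hDa : Q₁ ≤ Subgroup.normalizer (cj a D : Set G) := by rwa [cj_eq (h.inf_normal haT)]
    have hG₁'' : G₁ ≤ D'' := by
      conv_lhs => rw [← cj_eq (hTG haT)]
      rw [cj_inf, s.a_cj haT haQ hDa, cj_eq (h.inf_normal haT)]
      exact inf_le_right
    have hy₁G : y₁ ∈ Subgroup.normalizer (G₁ : Set G) := by
      refine mem_normalizer_of_cj_eq ?_
      have e : G₁ = D ⊓ D' ⊓ D'' := (inf_eq_left.2 hG₁'').symm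
      rw [e, cj_inf, cj_inf, cj_cancel, s.y_y hQD]
      ac_rfl
    have hb := h.core G₁ (inf_le_left.trans (inf_le_left.trans s.le)) hTG hy₁G hy₂G
    have hW : W₁ ≤ G₁ := le_inf (le_inf s.wq hle') ((cj_eq s.yW).ge.trans (cj_mono (le_inf s.wq hle')))
    have hc := Subgroup.card_le_of_le hW
    rw [hb, Subgroup.card_bot, s.card_w] at hc
    omega
  obtain ⟨A, hA, hAQ⟩ := h.off₁
  obtain ⟨a, ha, haQ⟩ := SetLike.not_le_iff_exists.1 hAQ
  have haT := hA.1 ha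
  have eW : cj a W₂ = W₂ := cj_eq (h.s₂.wT haT)
  have haU : cj a U = U' := by rw [s.a_cj haT haQ (by rw [eW]; exact h.q_norm_w), eW]
  have haU' : cj a U' = U := by rw [s.a_cj_inv haT haQ (by rw [eW]; exact h.q_norm_w), eW]
  have hDa : Q₁ ≤ Subgroup.normalizer (cj a D : Set G) := by rwa [cj_eq (h.inf_normal haT)]
  have haD' : cj a D' = D'' := by rw [s.a_cj haT haQ hDa, cj_eq (h.inf_normal haT)]
  have haD'' : cj a D'' = D' := by rw [s.a_cj_inv haT haQ hDa, cj_eq (h.inf_normal haT)]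
  set V₀ := W₁ ⊔ U ⊔ U'
  have hUQ : U ≤ Q₁ := (cj_mono hle).trans (cj_eq s.yQ).le
  have hU'Q : U' ≤ Q₁ := (cj_mono hle).trans (cj_eq s.yi_Q).le
  have hV₀ : IsElementaryAbelian 2 V₀ := isElementaryAbelian_sup
    (isElementaryAbelian_sup s.w2 (cj_ea h.s₂.w2) (Subgroup.le_centralizer_iff.1 (hUQ.trans s.q_cent)))
    (cj_ea h.s₂.w2) (sup_le (Subgroup.le_centralizer_iff.1 (hU'Q.trans s.q_cent)) hcomm)
  have hV₀T : V₀ ≤ T := sup_le (sup_le (s.wq.trans s.le) (hUQ.trans s.le)) (hU'Q.trans s.le)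
  have haV₀ : a ∈ Subgroup.normalizer (V₀ : Set G) := by
    refine mem_normalizer_of_cj_eq ?_
    show (W₁ ⊔ U ⊔ U').map _ = W₁ ⊔ U ⊔ U'
    rw [Subgroup.map_sup, Subgroup.map_sup]
    show cj a W₁ ⊔ cj a U ⊔ cj a U' = _
    rw [cj_eq (s.wT haT), haU, haU', sup_right_comm]
  have hFV : F ≤ Subgroup.centralizer (V₀ : Set G) := by
    rw [Subgroup.le_centralizer_iff]
    refine sup_le (sup_le (Subgroup.le_centralizer_iff.1 (hFQ.trans s.q_cent))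
      (Subgroup.le_centralizer_iff.1 ?_)) (Subgroup.le_centralizer_iff.1 ?_)
    · exact inf_le_left.trans (hD'.le.trans inf_le_right)
    · exact inf_le_right.trans (hD''.le.trans inf_le_right)
  have haF : ∀ r ∈ F, a * r * a⁻¹ ∈ F := fun r hr =>
    ⟨haD''.le ⟨r, hr.2, rfl⟩, haD'.le ⟨r, hr.1, rfl⟩⟩
  have hXF : X ≤ F := by
    refine le_inf (cj_mono hW₃D) ?_
    have h2 : W₃ ≤ D' := hW₃.trans (inf_le_left.trans inf_le_right)
    exact (cj_mono h2).trans (s.y_y hQD).le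
  have hX : IsElementaryAbelian 2 X := cj_ea (cj_ea s.w2)
  have hX4 : Nat.card X = 4 := ((card_cj _ _).trans (card_cj _ _)).trans s.card_w
  have hFX : F ≤ Subgroup.normalizer (X : Set G) := inf_le_left.trans
    (cj_le_normalizer (inf_le_right.trans (h.s₂.norm_cj h.s₂.yQ h.symm.q_norm_w)))
  have hz : z₁ ∈ W₃ := ⟨z₁, s.z_mem, h.symm.fixed hle'⟩
  have hc : y₁ * z₁ * y₁⁻¹ ∈ X := ⟨z₁, hz, rfl⟩
  have hzQ : ∀ q ∈ Q₁, q * z₁ = z₁ * q := fun q hq => s.z_fix q (s.le hq)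
  have hc1 : y₁ * z₁ * y₁⁻¹ ≠ 1 := fun e => s.z_ne (conj_eq_one_iff.1 e)
  -- a second commutator
  obtain ⟨v, hv, hvC⟩ : ∃ v ∈ U, ¬ (v = 1 ∨ v = z₂) := by
    by_contra hno
    push Not at hno
    have h1 : U ≤ Subgroup.zpowers z₂ := fun v hv => by
      rcases hno v hv with e | e <;> rw [e]
      · exact one_mem _
      · exact Subgroup.mem_zpowers _
    have := Subgroup.card_le_of_le h1
    rw [card_cj, h.s₂.card_w, Nat.card_zpowers,
      orderOf_eq_prime (h.s₂.w2.2 _ h.s₂.z_mem) h.s₂.z_ne] at this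
    omega
  obtain ⟨q₂, hq₂, hq₂'⟩ : ∃ q ∈ D'', q ∉ D' := by
    by_contra hno
    push Not at hno
    exact hne (Subgroup.eq_of_le_of_card_ge hno (by rw [card_cj, card_cj])).symm
  have hz₂U : z₂ ∈ U := ⟨z₂, h.s₂.z_mem, h.fixed hle⟩
  have hq₂v : q₂ * v * q₂⁻¹ = v * z₂ := by
    refine (four_values ((card_cj _ _).trans h.s₂.card_w) (cj_ea h.s₂.w2) hz₂U h.s₂.z_ne
      (hUn (hD''.le hq₂).1) (h.s₂.z_fix q₂ (s.le (hD''.le hq₂).1)) hv).resolve_left fun e => ?_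
    obtain ⟨w₀, -, -, -, hfix, -⟩ :=
      JComp.four_action hQ ((card_cj _ _).trans h.s₂.card_w) (cj_ea h.s₂.w2) hUn
    have hq₂C : q₂ ∉ Subgroup.centralizer (U : Set G) := fun hC =>
      hq₂' (hD'.ge ⟨(hD''.le hq₂).1, hC⟩)
    have f := (hfix q₂ (hD''.le hq₂).1 hq₂C z₂ hz₂U
      (h.s₂.z_fix q₂ (s.le (hD''.le hq₂).1))).resolve_left h.s₂.z_ne
    rcases hfix q₂ (hD''.le hq₂).1 hq₂C v hv (mul_inv_eq_iff_eq_mul.1 e) with g | g
    · exact hvC (Or.inl g)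
    · exact hvC (Or.inr (g.trans f.symm))
  have hvU' : a * v * a⁻¹ ∈ U' := haU.le ⟨v, hv, rfl⟩
  have hτ : ⁅v, a⁆ = v * (a * v * a⁻¹) := by
    have : v⁻¹ = v := inv_eq_of_mul_eq_one_right (by
      have := (cj_ea (g := y₁) h.s₂.w2).2 v hv; rwa [pow_two] at this)
    rw [commutatorElement_def, this]; group
  have hτne : ⁅v, a⁆ ∉ Subgroup.zpowers z₁ := by
    intro hmem
    have e : q₂ * ⁅v, a⁆ * q₂⁻¹ = ⁅v, a⁆ := by
      obtain ⟨i, hi⟩ := hmem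
      have : q₂ * z₁ * q₂⁻¹ = z₁ := s.z_conj (s.le (hD''.le hq₂).1)
      rw [← hi]
      show q₂ * z₁ ^ i * q₂⁻¹ = z₁ ^ i
      rw [← conj_zpow, this]
    have e2 : q₂ * (a * v * a⁻¹) * q₂⁻¹ = a * v * a⁻¹ :=
      mul_inv_eq_iff_eq_mul.2 ((hD''.le hq₂).2 _ hvU').symm
    rw [hτ, ← conj_mul, hq₂v, e2, mul_assoc] at e
    exact h.s₂.z_ne (mul_eq_right.1 (mul_left_cancel e))
  set S₀ := Subgroup.zpowers z₁ ⊔ Subgroup.zpowers ⁅v, a⁆
  obtain ⟨w, hw, hwa⟩ := s.w_moved haT haQ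
  have hWV : W₁ ≤ V₀ := le_sup_of_le_left le_sup_left
  have hUV : U ≤ V₀ := le_sup_of_le_left le_sup_right
  have hrange : S₀ ≤ (commHom hV₀.1 haV₀).range := by
    refine sup_le (Subgroup.zpowers_le.2 ⟨⟨w, hWV hw⟩, ?_⟩)
      (Subgroup.zpowers_le.2 ⟨⟨v, hUV hv⟩, rfl⟩)
    show ⁅w, a⁆ = z₁
    have hww : w * w = 1 := by have := s.w2.2 w hw; rwa [pow_two] at this
    calc ⁅w, a⁆ = w * (a * w * a⁻¹)⁻¹⁻¹⁻¹ := by rw [commutatorElement_def]; group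
      _ = z₁ := by
        rw [hwa, inv_inv, mul_inv_rev, inv_eq_of_mul_eq_one_right hww,
          inv_eq_of_mul_eq_one_right (by have := s.w2.2 z₁ s.z_mem; rwa [pow_two] at this),
          comm_of_mem s.w2.1 s.z_mem hw, ← mul_assoc, hww, one_mul]
  refine count (T := T) (V₀ := V₀) (X := X) (R := F) (S₀ := S₀)
    (C₀ := A ⊓ Q₁ ⊓ Subgroup.centralizer (U : Set G))
    (k := 4) hA ha hV₀T hV₀ haV₀ hFV haF hXF (hFQ.trans s.le) hX hX4 hFX
    (fun r hr u hu => four_values hX4 hX hc hc1 (hFX hr) (s.fix_cj s.yQ hzQ (hFQ hr)) hu)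
    hc hc1 (by rw [s.a_conj haT haQ hzQ (s.z_fix a haT)]; exact s.moved hzQ s.yz) hq hx hqx
    ?_ ?_ (inf_le_left.trans inf_le_left) ?_ ?_ ?_
  · rw [Subgroup.le_centralizer_iff]
    refine sup_le (Subgroup.zpowers_le.2 fun r hr => s.z_fix r (s.le (hFQ hr))) ?_
    refine Subgroup.zpowers_le.2 fun r hr => ((hFV hr) _ ?_).symm
    rw [hτ]
    exact mul_mem (hUV hv) (Subgroup.mem_sup_right hvU')
  · intro u hu
    obtain ⟨v, e⟩ := hrange hu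
    exact ⟨v, v.2, e⟩
  · intro g hg
    refine ⟨hD'.ge ⟨hg.1.2, hg.2⟩, hD''.ge ⟨hg.1.2, ?_⟩⟩
    rw [← haU]
    rintro _ ⟨u, hu, rfl⟩
    show a * u * a⁻¹ * g = g * (a * u * a⁻¹)
    have hga : g * a = a * g := comm_of_mem hA.2.1.1 hg.1.1 ha
    calc a * u * a⁻¹ * g = a * u * (g⁻¹ * a)⁻¹ := by group
      _ = a * u * (a * g⁻¹)⁻¹ := by
          rw [show g⁻¹ * a = a * g⁻¹ from (Commute.inv_left hga).eq]
      _ = a * (u * g) * a⁻¹ := by group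
      _ = a * (g * u) * a⁻¹ := by rw [hg.2 u hu]
      _ = a * g * (u * a⁻¹) := by group
      _ = _ := by rw [← hga]; group
  · calc Nat.card A ≤ 2 * Nat.card ↥(A ⊓ Q₁) := s.card_le hA.1
      _ ≤ _ := by
        have : Nat.card ↥(A ⊓ Q₁) ≤ 2 * Nat.card ↥(A ⊓ Q₁ ⊓ Subgroup.centralizer (U : Set G)) :=
          JComp.card_le_two_mul hQ ((card_cj _ _).trans h.s₂.card_w) (cj_ea h.s₂.w2) hUn
            (inf_le_right : A ⊓ Q₁ ≤ Q₁)
        omega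
  · have h1 : Nat.card (Subgroup.zpowers z₁) = 2 := by
      rw [Nat.card_zpowers, orderOf_eq_prime (s.w2.2 z₁ s.z_mem) s.z_ne]
    have h2 := two_mul_le_of_lt (lt_of_le_of_ne le_sup_left fun e => hτne
      (e.ge (Subgroup.mem_sup_right (Subgroup.mem_zpowers _))) : Subgroup.zpowers z₁ < S₀)
    omega

/-- The two four-groups do not centralize each other. -/
theorem not_le : ¬ W₂ ≤ Q₁ := by
  intro hle
  by_cases h₂ : y₂ ∈ Subgroup.normalizer ((Q₁ ⊓ Q₂ : Subgroup G) : Set G)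
  · by_cases h₁ : y₁ ∈ Subgroup.normalizer ((Q₁ ⊓ Q₂ : Subgroup G) : Set G)
    · have hb := h.core _ (inf_le_left.trans h.s₁.le) h.inf_normal h₁ h₂
      have hc := Subgroup.card_le_of_le (le_inf h.s₁.wq (h.le_of_le hle) : W₁ ≤ Q₁ ⊓ Q₂)
      rw [hb, Subgroup.card_bot, h.s₁.card_w] at hc
      omega
    · rw [inf_comm] at h₁ h₂
      exact h.symm.false_of_norm (h.le_of_le hle) h₁ h₂
  · by_cases h₁ : y₁ ∈ Subgroup.normalizer ((Q₁ ⊓ Q₂ : Subgroup G) : Set G)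
    · exact h.false_of_norm hle h₂ h₁
    · exact h.false_of_not_norm hle h₂ h₁

theorem not_le' : ¬ W₁ ≤ Q₂ := h.symm.not_le

theorem sq_eq : sq Q₁ = sq (Q₁ ⊓ Q₂) := by
  refine le_antisymm ((Subgroup.closure_le _).2 ?_) (sq_mono inf_le_left)
  rintro _ ⟨g, hg, rfl⟩
  by_cases hg₂ : g ∈ Q₂
  · exact Subgroup.subset_closure ⟨g, ⟨hg, hg₂⟩, rfl⟩
  obtain ⟨w, hw, hw₂⟩ := SetLike.not_le_iff_exists.1 h.not_le'
  refine Subgroup.subset_closure ⟨g * w, ⟨mul_mem hg (h.s₁.wq hw),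
    h.s₂.index g (h.s₁.le hg) w (h.s₁.le (h.s₁.wq hw)) hg₂ hw₂⟩, ?_⟩
  have hww : w * w = 1 := by have := h.s₁.w2.2 w hw; rwa [pow_two] at this
  calc g * w * (g * w) = g * (w * g) * w := by group
    _ = g * (g * w) * w := by rw [h.s₁.q_cent hg w hw]
    _ = g * g := by rw [mul_assoc, mul_assoc g w w, hww, mul_one]

/-- The cores are elementary abelian and their intersection is central. -/
theorem structure_thm : IsElementaryAbelian 2 Q₁ ∧ IsElementaryAbelian 2 Q₂ ∧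
    T ≤ Subgroup.centralizer ((Q₁ ⊓ Q₂ : Subgroup G) : Set G) := by
  have hT : T ≤ Subgroup.normalizer (sq (Q₁ ⊓ Q₂) : Set G) := fun t ht =>
    mem_normalizer_of_cj_eq (by rw [cj_sq, cj_eq (h.inf_normal ht)])
  have h1 : y₁ ∈ Subgroup.normalizer (sq (Q₁ ⊓ Q₂) : Set G) := by
    rw [← h.sq_eq]; exact mem_normalizer_of_cj_eq (by rw [cj_sq, cj_eq h.s₁.yQ])
  have h2 : y₂ ∈ Subgroup.normalizer (sq (Q₁ ⊓ Q₂) : Set G) := by
    rw [inf_comm, ← h.symm.sq_eq]; exact mem_normalizer_of_cj_eq (by rw [cj_sq, cj_eq h.s₂.yQ])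
  have hb := h.core _ (sq_le.trans (inf_le_left.trans h.s₁.le)) hT h1 h2
  have e₁ : IsElementaryAbelian 2 Q₁ := ea_of_sq (h.sq_eq.trans hb)
  have e₂ : IsElementaryAbelian 2 Q₂ := ea_of_sq (h.symm.sq_eq.trans (by rw [inf_comm]; exact hb))
  refine ⟨e₁, e₂, fun t ht d hd => ?_⟩
  by_cases ht₁ : t ∈ Q₁
  · exact comm_of_mem e₁.1 hd.1 ht₁
  by_cases ht₂ : t ∈ Q₂
  · exact comm_of_mem e₂.1 hd.2 ht₂
  obtain ⟨b, hb₂, hb₁⟩ := SetLike.not_le_iff_exists.1 h.symm.not_le_Q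
  have hq : t * b ∈ Q₁ := h.s₁.index t ht b (h.s₂.le hb₂) ht₁ hb₁
  have c₁ : d * (t * b) = t * b * d := comm_of_mem e₁.1 hd.1 hq
  have c₂ : d * b = b * d := comm_of_mem e₂.1 hd.2 hb₂
  refine mul_right_cancel (b := b) ?_
  rw [mul_assoc, c₁, mul_assoc, ← c₂, ← mul_assoc]

end Pair

end CfsgLib.LocalEven.OffAmalgam
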