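import Cfsg.Agent.Lib.LocalEven.JCompCases
import Cfsg.Agent.Lib.LocalEven.OffenderPair

/-!
A component with a Sylow subgroup `T` normalizing it: the group `KT` and two of them together.
-/

set_option autoImplicit false
set_option linter.style.haveILetI false
set_option linter.unusedSectionVars false

namespace CfsgLib.LocalEven.JComp

open Cfsg CfsgLib.PLocal
open scoped commutatorElement

variable {G : Type*} [Group G] [Finite G]

theorem mem_normalizer_of_forall {g : G} {X : Subgroup G} (h : ∀ x ∈ X, g * x * g⁻¹ ∈ X) :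
    g ∈ Subgroup.normalizer (X : Set G) :=
  OffAmalgam.mem_normalizer_of_cj_eq (Subgroup.eq_of_le_of_card_ge
    (by rintro _ ⟨x, hx, rfl⟩; exact h x hx) (OffAmalgam.card_cj _ _).ge)

/-- The three cosets of a normal subgroup of index three. -/
theorem index_three_cases {Q K : Subgroup G} (hQK : Q ≤ K) (h3 : Q.relIndex K = 3)
    (hn : K ≤ Subgroup.normalizer (Q : Set G)) {y x : G} (hy : y ∈ K) (hyQ : y ∉ Q) (hx : x ∈ K) :
    x ∈ Q ∨ x * y ∈ Q ∨ x * y⁻¹ ∈ Q := by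
  haveI : (Q.subgroupOf K).Normal := Subgroup.normal_subgroupOf_of_le_normalizer hn
  have hc : Nat.card (⊤ : Subgroup (↥K ⧸ Q.subgroupOf K)) = 3 := by
    rw [Subgroup.card_top]; exact h3
  set π := QuotientGroup.mk' (Q.subgroupOf K)
  have hmem : ∀ u : ↥K, π u = 1 ↔ (u : G) ∈ Q := fun u =>
    (QuotientGroup.eq_one_iff u).trans Subgroup.mem_subgroupOf
  rcases eq_or_of_card_three hc (Subgroup.mem_top (π ⟨y, hy⟩)) (fun e => hyQ ((hmem _).1 e))
    (Subgroup.mem_top (π ⟨x, hx⟩)) with e | e | e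
  · exact Or.inl ((hmem _).1 e)
  · refine Or.inr (Or.inr ((hmem (⟨x, hx⟩ * ⟨y, hy⟩⁻¹)).1 ?_))
    rw [map_mul, map_inv, e, mul_inv_cancel]
  · refine Or.inr (Or.inl ((hmem (⟨x, hx⟩ * ⟨y, hy⟩)).1 ?_))
    rw [map_mul, e, inv_mul_cancel]

/-- A component, the maximal `2`-local subgroup over it, and `T` fixing `Ω₁(Z(J(T)))`. -/
structure Dat (M T K L : Subgroup G) : Prop where
  c : Ctx M T
  hK : IsComp (thompsonSubgroupOf 2 T) K
  hKM : ¬ K ≤ M
  hL : IsMaximalTwoLocal L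
  hKL : K ⊔ thompsonSubgroupOf 2 T ≤ L
  hTL : T ≤ L
  hTZ : T ≤ Subgroup.centralizer (omegaCenterOf (thompsonSubgroupOf 2 T) : Set G)

theorem mem_core_of_centralizer {K : Subgroup G} (hK : IsPre K) {x : G} (hx : x ∈ K)
    (hxC : x ∈ Subgroup.centralizer (wOf K : Set G)) : x ∈ pCoreOf 2 K := by
  set W := wOf K
  set Q := pCoreOf 2 K
  have hQK : Q ≤ K := CfsgLib.LocalEven.pCoreOf_le 2 K
  have hQW : Q ≤ Subgroup.centralizer (W : Set G) := Subgroup.le_centralizer_iff.1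
    ((wOf_le K).trans (omegaCenterOf_le_centralizer _))
  have hle : Q ≤ K ⊓ Subgroup.centralizer (W : Set G) := le_inf hQK hQW
  have h3 : Q.relIndex (K ⊓ Subgroup.centralizer (W : Set G)) *
      (K ⊓ Subgroup.centralizer (W : Set G)).relIndex K = 3 := by
    rw [Subgroup.relIndex_mul_relIndex _ _ _ hle inf_le_left]; exact hK.index
  rcases (Nat.Prime.eq_one_or_self_of_dvd Nat.prime_three _ ⟨_, h3.symm⟩) with e | e
  · exact Subgroup.relIndex_eq_one.1 e ⟨hx, hxC⟩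
  · rw [e] at h3
    have hKW := Subgroup.relIndex_eq_one.1
      (by omega : (K ⊓ Subgroup.centralizer (W : Set G)).relIndex K = 1)
    exact absurd (by
      rw [← hK.inf_centralizer_w]
      exact (inf_eq_left.2 (Subgroup.le_centralizer_iff.1 (hKW.trans inf_le_right))).symm) hK.wOf_ne_bot

namespace Dat

variable {M T K L : Subgroup G} (d : Dat M T K L)
include d

theorem not_L_le : ¬ L ≤ M := fun h => d.hKM ((le_sup_left.trans d.hKL).trans h)

theorem over' : L ∈ jOvergroups T := d.c.overgroup d.hL.1 d.not_L_le d.hTL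

theorem sylow : IsSylowTwoIn T L := d.over'.1

theorem K_le : K ≤ L := le_sup_left.trans d.hKL

theorem isJ : IsJComponent T K := d.c.isJComponent d.hK d.hKM d.hL.1 d.hKL

theorem exists_z : ∃ z ∈ omegaCenterOf (thompsonSubgroupOf 2 T), z ∈ wOf K ∧ z ≠ 1 := by
  obtain ⟨-, h2⟩ := d.c.card_center d.isJ
  obtain ⟨⟨z, hz⟩, hz1⟩ := Subgroup.ne_bot_iff_exists_ne_one.1
    (fun e : omegaCenterOf (thompsonSubgroupOf 2 T) ⊓ wOf K = ⊥ => by
      rw [e, Subgroup.card_bot] at h2; omega)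
  exact ⟨z, hz.1, hz.2, fun e => hz1 (Subtype.ext e)⟩

theorem w_le_K : wOf K ≤ K :=
  (wOf_le K).trans ((omegaCenterOf_le _).trans (CfsgLib.LocalEven.pCoreOf_le 2 K))

theorem T_norm : T ≤ Subgroup.normalizer (K : Set G) := by
  obtain ⟨z, hzZ, hzW, hz1⟩ := d.exists_z
  obtain ⟨T', hT', hs, hJ'⟩ := exists_setup d.c.sol d.c.cent d.c.ne_bot d.over'
  have hK' := isComp_subgroupOf hJ' d.K_le d.hK
  intro t ht
  obtain ⟨t', ht', rfl⟩ : t ∈ (T' : Subgroup L).map L.subtype := hT'.symm ▸ ht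
  have hn : t' ∈ Subgroup.normalizer (thompsonSubgroupOf 2 (T' : Subgroup L) : Set L) :=
    CfsgLib.Transfer.normalizer_le_normalizer_thompsonSubgroupOf _ (Subgroup.le_normalizer ht')
  obtain ⟨z', hz', rfl⟩ : z ∈ (wOf (K.subgroupOf L)).map L.subtype := by
    rw [map_wOf_subgroupOf d.K_le]; exact hzW
  have hfix : t' * z' * t'⁻¹ = z' := Subtype.ext
    (mul_inv_eq_iff_eq_mul.2 (d.hTZ ht _ hzZ).symm : (t' : G) * z' * (t' : G)⁻¹ = z')
  have h := hs.normalizer_J_le_normalizer hK' hn hz' (fun e => hz1 (by simp [e])) (by rw [hfix]; exact hz')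
  refine mem_normalizer_of_forall fun x hx => ?_
  exact (Subgroup.mem_normalizer_iff.1 h ⟨x, d.K_le hx⟩).1 hx

theorem P_le : K ⊔ T ≤ L := sup_le d.K_le d.hTL

theorem sylow_P : IsSylowTwoIn T (K ⊔ T) := by
  refine ⟨le_sup_right, d.c.isPGroup, Odd.of_dvd_nat d.sylow.2.2 ?_⟩
  exact ⟨_, (Subgroup.relIndex_mul_relIndex T (K ⊔ T) L le_sup_right d.P_le).symm⟩

theorem two_group_le {X : Subgroup G} (hX : IsPGroup 2 X) (hXL : X ≤ L)
    (hn : T ≤ Subgroup.normalizer (X : Set G)) : X ≤ T := by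
  have hU : IsPGroup 2 (T ⊔ X : Subgroup G) := d.c.isPGroup.to_sup_of_normal_right' hX hn
  have hd : T.relIndex (T ⊔ X) ∣ T.relIndex L :=
    ⟨_, (Subgroup.relIndex_mul_relIndex T (T ⊔ X) L le_sup_left (sup_le d.hTL hXL)).symm⟩
  obtain ⟨n, hn'⟩ := IsPGroup.iff_card.1 hU
  have h2 : T.relIndex (T ⊔ X) ∣ 2 ^ n := hn' ▸ (T.subgroupOf (T ⊔ X)).index_dvd_card
  have h1 : T.relIndex (T ⊔ X) = 1 := Nat.eq_one_of_dvd_coprimes
    (Nat.Coprime.pow_left n (Nat.coprime_two_left.2 d.sylow.2.2)) h2 hd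
  exact le_sup_right.trans (Subgroup.relIndex_eq_one.1 h1)

theorem pCoreK_le : pCoreOf 2 K ≤ T :=
  d.two_group_le (CfsgLib.LocalEven.isPGroup_pCoreOf K)
    ((CfsgLib.LocalEven.pCoreOf_le 2 K).trans d.K_le)
    (d.T_norm.trans fun _ hx => CfsgLib.LocalEven.mem_normalizer_pCoreOf hx)

theorem w_le_T : wOf K ≤ T :=
  ((wOf_le K).trans (omegaCenterOf_le _)).trans d.pCoreK_le

theorem T_norm_w : T ≤ Subgroup.normalizer (wOf K : Set G) :=
  d.T_norm.trans (normalizer_le_normalizer_wOf K)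

/-- The candidate for `O₂(KT)`. -/
theorem Q_norm : K ⊔ T ≤
    Subgroup.normalizer ((T ⊓ Subgroup.centralizer (wOf K : Set G) : Subgroup G) : Set G) := by
  refine sup_le (fun k hk => mem_normalizer_of_forall fun q hq => ?_) ?_
  · have hkW := d.hK.le_normalizer_w hk
    have hC : k * q * k⁻¹ ∈ Subgroup.centralizer (wOf K : Set G) :=
      (Subgroup.mem_normalizer_iff.1
        (CfsgLib.LocalEven.normalizer_le_normalizer_centralizer _ hkW) q).1 hq.2
    have hc : k * q * k⁻¹ * q⁻¹ ∈ K := by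
      rw [show k * q * k⁻¹ * q⁻¹ = k * (q * k⁻¹ * q⁻¹) by group]
      exact mul_mem hk ((Subgroup.mem_normalizer_iff.1 (d.T_norm hq.1) _).1 (inv_mem hk))
    have h0 := d.pCoreK_le (mem_core_of_centralizer d.hK.toIsPre hc
      ((Subgroup.centralizer (wOf K : Set G)).mul_mem hC
        ((Subgroup.centralizer (wOf K : Set G)).inv_mem hq.2)))
    exact ⟨by simpa using mul_mem h0 hq.1, hC⟩
  · exact (le_inf Subgroup.le_normalizer
      (d.T_norm_w.trans (CfsgLib.LocalEven.normalizer_le_normalizer_centralizer _))).trans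
      (CfsgLib.PLocal.normalizer_inf_le _ _)

theorem J_not_le : ¬ thompsonSubgroupOf 2 T ≤ Subgroup.centralizer (wOf K : Set G) := by
  intro h
  have hKC : K ≤ Subgroup.centralizer (wOf K : Set G) := by
    conv_lhs => rw [← d.hK.comm]
    refine le_trans (Subgroup.commutator_mono le_rfl h) ?_
    exact Subgroup.le_normalizer_iff_commutator_le_right.1
      (d.hK.le_normalizer_w.trans (CfsgLib.LocalEven.normalizer_le_normalizer_centralizer _))
  apply d.hK.wOf_ne_bot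
  rw [← d.hK.inf_centralizer_w]
  exact (inf_eq_left.2 (Subgroup.le_centralizer_iff.1 hKC)).symm

theorem exists_side : ∃ z y : G, z ∈ omegaCenterOf (thompsonSubgroupOf 2 T) ∧ y ∈ K ∧
    y ∉ pCoreOf 2 K ∧ z ∈ omegaCenterOf T ∧ y * z ≠ z * y ∧
    OffAmalgam.Side T (T ⊓ Subgroup.centralizer (wOf K : Set G)) (wOf K) z y := by
  obtain ⟨z, hzZ, hzW, hz1⟩ := d.exists_z
  set W := wOf K
  set Q := T ⊓ Subgroup.centralizer (W : Set G)
  have hzfix : ∀ t ∈ T, t * z = z * t := fun t ht => (d.hTZ ht z hzZ).symm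
  obtain ⟨y, hy, hyz⟩ : ∃ y ∈ K, y * z ≠ z * y := by
    by_contra hno
    push Not at hno
    have : z ∈ W ⊓ Subgroup.centralizer (K : Set G) := ⟨hzW, fun k hk => hno k hk⟩
    rw [d.hK.inf_centralizer_w, Subgroup.mem_bot] at this
    exact hz1 this
  have hQ0W : pCoreOf 2 K ≤ Subgroup.centralizer (W : Set G) := Subgroup.le_centralizer_iff.1
    ((wOf_le K).trans (omegaCenterOf_le_centralizer _))
  have hy0 : y ∉ pCoreOf 2 K := fun h => hyz ((hQ0W h) z hzW).symm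
  have hWe : IsElementaryAbelian 2 W :=
    isElementaryAbelian_of_le (isElementaryAbelian_omegaCenterOf _) (wOf_le K)
  have hKn : K ≤ Subgroup.normalizer (pCoreOf 2 K : Set G) :=
    CfsgLib.LocalEven.le_normalizer_pCoreOf 2 K
  have hy3 : y ^ 3 ∈ pCoreOf 2 K := by
    haveI : ((pCoreOf 2 K).subgroupOf K).Normal := Subgroup.normal_subgroupOf_of_le_normalizer hKn
    have := ((pCoreOf 2 K).subgroupOf K).pow_index_mem ⟨y, hy⟩
    rw [show ((pCoreOf 2 K).subgroupOf K).index = 3 from d.hK.index] at this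
    simpa [Subgroup.mem_subgroupOf] using this
  obtain ⟨w0, hw0, -, -, hfix, hmul⟩ := four_action d.c.isPGroup d.hK.card_w hWe d.T_norm_w
  have hyW : y ∈ Subgroup.normalizer (W : Set G) := d.hK.le_normalizer_w hy
  refine ⟨z, y, hzZ, hy, hy0, mem_omegaOne ⟨d.w_le_T hzW, fun t ht => hzfix t ht⟩
    (hWe.2 z hzW), hyz,
    { hT := d.c.isPGroup
      le := inf_le_left
      lt := fun h => d.J_not_le (((thompsonSubgroupOf_le 2 T).trans h).trans inf_le_right)
      index := fun s hs t ht hsQ htQ => ⟨mul_mem hs ht, hmul s hs t ht (fun h => hsQ ⟨hs, h⟩)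
        (fun h => htQ ⟨ht, h⟩)⟩
      wq := le_inf d.w_le_T fun w hw v hv => comm_of_mem hWe.1 hv hw
      card_w := d.hK.card_w
      w2 := hWe
      cent := rfl
      wT := d.T_norm_w
      z_mem := hzW
      z_ne := hz1
      z_fix := hzfix
      yQ := d.Q_norm (Subgroup.mem_sup_left hy)
      yW := hyW
      y3 := ⟨d.pCoreK_le hy3, hQ0W hy3⟩
      yz := fun e => hyz (mul_inv_eq_iff_eq_mul.1 e)
      inv := fun a ha haQ => ?_ }⟩
  have haC : a ∉ Subgroup.centralizer (W : Set G) := fun h => haQ ⟨ha, h⟩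
  have hx : a * y * a⁻¹ ∈ K := (Subgroup.mem_normalizer_iff.1 (d.T_norm ha) y).1 hy
  rcases index_three_cases (CfsgLib.LocalEven.pCoreOf_le 2 K) d.hK.index hKn hy hy0 hx
    with e | e | e
  · refine absurd ?_ hy0
    have := (Subgroup.mem_normalizer_iff.1
      (CfsgLib.LocalEven.mem_normalizer_pCoreOf (d.T_norm ha)) y).2 e
    exact this
  · exact ⟨d.pCoreK_le e, hQ0W e⟩
  · exfalso
    have hz' : y * z * y⁻¹ ∈ W := (Subgroup.mem_normalizer_iff.1 hyW z).1 hzW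
    have hc : a * (y * z * y⁻¹) = y * z * y⁻¹ * a := by
      refine mul_inv_eq_iff_eq_mul.1 ?_
      calc a * (y * z * y⁻¹) * a⁻¹ =
            (a * y * a⁻¹ * y⁻¹) * (y * (a * z * a⁻¹) * y⁻¹) * (a * y * a⁻¹ * y⁻¹)⁻¹ := by group
        _ = (a * y * a⁻¹ * y⁻¹) * (y * z * y⁻¹) * (a * y * a⁻¹ * y⁻¹)⁻¹ := by
            rw [mul_inv_eq_iff_eq_mul.2 (hzfix a ha)]
        _ = y * z * y⁻¹ := mul_inv_eq_iff_eq_mul.2 ((hQ0W e) _ hz').symm
    rcases hfix a ha haC _ hz' hc with f | f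
    · exact hz1 (conj_eq_one_iff.1 f)
    · rcases hfix a ha haC z hzW (hzfix a ha) with g | g
      · exact hz1 g
      · exact hyz (mul_inv_eq_iff_eq_mul.1 (f.trans g.symm))

theorem exists_off : ∃ A ∈ maxEAOf 2 T, ¬ A ≤ T ⊓ Subgroup.centralizer (wOf K : Set G) := by
  by_contra hno
  push Not at hno
  refine d.J_not_le ?_
  rw [thompsonSubgroupOf_eq_sSup]
  exact sSup_le fun A hA => (hno A hA).trans inf_le_right

theorem inf_T : K ⊓ T = pCoreOf 2 K := by
  refine le_antisymm ?_ (le_inf (CfsgLib.LocalEven.pCoreOf_le 2 K) d.pCoreK_le)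
  have hle : pCoreOf 2 K ≤ K ⊓ T := le_inf (CfsgLib.LocalEven.pCoreOf_le 2 K) d.pCoreK_le
  have h3 : (pCoreOf 2 K).relIndex (K ⊓ T) ∣ 3 := by
    refine ⟨(K ⊓ T).relIndex K, ?_⟩
    rw [Subgroup.relIndex_mul_relIndex _ _ _ hle inf_le_left]; exact d.hK.index.symm
  obtain ⟨n, hn⟩ := IsPGroup.iff_card.1 (d.c.isPGroup.to_le (inf_le_right : K ⊓ T ≤ T))
  have h2 : (pCoreOf 2 K).relIndex (K ⊓ T) ∣ 2 ^ n :=
    hn ▸ ((pCoreOf 2 K).subgroupOf (K ⊓ T)).index_dvd_card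
  exact Subgroup.relIndex_eq_one.1 (Nat.eq_one_of_dvd_coprimes
    (Nat.Coprime.pow_left n (by norm_num)) h2 h3)

theorem card_sup : Nat.card ↥(K ⊔ T) = 3 * Nat.card T := by
  have h1 := CfsgLib.Coprime.card_sup_mul_card_inf d.T_norm
  have h2 := Subgroup.relIndex_mul_relIndex ⊥ (pCoreOf 2 K) K bot_le
    (CfsgLib.LocalEven.pCoreOf_le 2 K)
  simp only [Subgroup.relIndex_bot_left, d.hK.index] at h2
  rw [inf_comm, d.inf_T, sup_comm, ← h2] at h1
  refine Nat.eq_of_mul_eq_mul_right (Nat.card_pos (α := ↥(pCoreOf 2 K))) (h1.trans ?_)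
  ring

theorem not_T_normal {y : G} (hy : y ∈ K) (hy0 : y ∉ pCoreOf 2 K) :
    y ∉ Subgroup.normalizer (T : Set G) := by
  intro hyT
  obtain ⟨a, ha, haQ⟩ := SetLike.not_le_iff_exists.1
    (fun h : T ≤ T ⊓ Subgroup.centralizer (wOf K : Set G) =>
      d.J_not_le (((thompsonSubgroupOf_le 2 T).trans h).trans inf_le_right))
  obtain ⟨z, y', hzZ, hy', hy'0, -, hyz, s⟩ := d.exists_side
  have hKn : K ≤ Subgroup.normalizer (pCoreOf 2 K : Set G) :=
    CfsgLib.LocalEven.le_normalizer_pCoreOf 2 K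
  have hy'T : y' ∈ Subgroup.normalizer (T : Set G) := by
    have hQn : pCoreOf 2 K ≤ Subgroup.normalizer (T : Set G) :=
      d.pCoreK_le.trans Subgroup.le_normalizer
    rcases index_three_cases (CfsgLib.LocalEven.pCoreOf_le 2 K) d.hK.index hKn hy hy0 hy'
      with e | e | e
    · exact hQn e
    · have := mul_mem (hQn e) (inv_mem hyT); simpa using this
    · have := mul_mem (hQn e) hyT; simpa using this
  have h1 : a * y' * a⁻¹ * y'⁻¹ ∈ K ⊓ T := by
    refine ⟨K.mul_mem ((Subgroup.mem_normalizer_iff.1 (d.T_norm ha) y').1 hy') (K.inv_mem hy'), ?_⟩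
    rw [show a * y' * a⁻¹ * y'⁻¹ = a * (y' * a⁻¹ * y'⁻¹) by group]
    exact T.mul_mem ha ((Subgroup.mem_normalizer_iff.1 hy'T _).1 (inv_mem ha))
  rw [d.inf_T] at h1
  have hz' : y' * z * y'⁻¹ ∈ wOf K := (Subgroup.mem_normalizer_iff.1 s.yW z).1 s.z_mem
  have hc : (a * y' * a⁻¹ * y'⁻¹) * (y' * z * y'⁻¹) = (y' * z * y'⁻¹) * (a * y' * a⁻¹ * y'⁻¹) :=
    ((Subgroup.le_centralizer_iff.1 ((wOf_le K).trans (omegaCenterOf_le_centralizer _))) h1 _ hz').symm
  have hza : a * z * a⁻¹ = z := s.z_conj ha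
  have : a * (y' * z * y'⁻¹) * a⁻¹ = y' * z * y'⁻¹ := by
    calc a * (y' * z * y'⁻¹) * a⁻¹ =
          (a * y' * a⁻¹ * y'⁻¹) * (y' * (a * z * a⁻¹) * y'⁻¹) * (a * y' * a⁻¹ * y'⁻¹)⁻¹ := by group
      _ = y' * z * y'⁻¹ := by rw [hza, hc, mul_inv_cancel_right]
  rcases s.fix_only ha haQ hz' (mul_inv_eq_iff_eq_mul.1 this) with f | f
  · exact s.z_ne (conj_eq_one_iff.1 f)
  · exact s.yz f

theorem pCore_sup : pCoreOf 2 (K ⊔ T) = T ⊓ Subgroup.centralizer (wOf K : Set G) := by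
  refine le_antisymm ?_ (CfsgLib.LocalEven.le_pCoreOf (inf_le_left.trans le_sup_right) d.Q_norm
    (d.c.isPGroup.to_le inf_le_left))
  set R := pCoreOf 2 (K ⊔ T)
  set Q := T ⊓ Subgroup.centralizer (wOf K : Set G)
  obtain ⟨z, y, -, hy, hy0, -, -, s⟩ := d.exists_side
  have hRn : K ⊔ T ≤ Subgroup.normalizer (R : Set G) :=
    CfsgLib.LocalEven.le_normalizer_pCoreOf 2 _
  have hRT : R ≤ T := d.two_group_le (CfsgLib.LocalEven.isPGroup_pCoreOf _)
    ((CfsgLib.LocalEven.pCoreOf_le 2 _).trans d.P_le) (le_sup_right.trans hRn)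
  intro r hr
  by_contra hrQ
  refine d.not_T_normal hy hy0 ?_
  have e : R ⊔ Q = T := by
    refine le_antisymm (sup_le hRT inf_le_left) fun t ht => ?_
    by_cases htQ : t ∈ Q
    · exact Subgroup.mem_sup_right htQ
    · have := s.index t ht r (hRT hr) htQ hrQ
      simpa using mul_mem (Subgroup.mem_sup_right this : t * r ∈ R ⊔ Q)
        (Subgroup.mem_sup_left (inv_mem hr))
  rw [← e]
  refine OffAmalgam.mem_normalizer_of_cj_eq ?_
  show (R ⊔ Q).map _ = R ⊔ Q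
  rw [Subgroup.map_sup]
  show OffAmalgam.cj y R ⊔ OffAmalgam.cj y Q = R ⊔ Q
  rw [OffAmalgam.cj_eq (hRn (Subgroup.mem_sup_left hy)), OffAmalgam.cj_eq s.yQ]

theorem relIndex_six : (pCoreOf 2 (K ⊔ T)).relIndex (K ⊔ T) = 6 := by
  rw [d.pCore_sup]
  set Q := T ⊓ Subgroup.centralizer (wOf K : Set G)
  obtain ⟨z, y, -, -, -, -, -, s⟩ := d.exists_side
  have hlt : 2 * Nat.card Q ≤ Nat.card T :=
    OffAmalgam.two_mul_le_of_lt (lt_of_le_of_ne (inf_le_left : Q ≤ T) fun e => s.lt e.ge)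
  have hge : Nat.card T ≤ 2 * Nat.card Q := (s.card_le (le_refl T)).trans
    (Nat.mul_le_mul_left _ (Subgroup.card_le_of_le inf_le_right))
  have h := Subgroup.relIndex_mul_relIndex ⊥ Q (K ⊔ T) bot_le (inf_le_left.trans le_sup_right)
  simp only [Subgroup.relIndex_bot_left, d.card_sup] at h
  refine Nat.eq_of_mul_eq_mul_left (Nat.card_pos (α := Q)) (h.trans ?_)
  omega

theorem centralizer_core : Subgroup.centralizer (pCoreOf 2 (K ⊔ T) : Set G) ≤ pCoreOf 2 (K ⊔ T) := by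
  have hn : L ≤ Subgroup.normalizer (pCoreOf 2 L : Set G) := CfsgLib.LocalEven.le_normalizer_pCoreOf 2 L
  have hLT : pCoreOf 2 L ≤ T := d.two_group_le (CfsgLib.LocalEven.isPGroup_pCoreOf L)
    (CfsgLib.LocalEven.pCoreOf_le 2 L) (d.hTL.trans hn)
  have h1 : pCoreOf 2 L ≤ pCoreOf 2 (K ⊔ T) := CfsgLib.LocalEven.le_pCoreOf (hLT.trans le_sup_right)
    (d.P_le.trans hn) (CfsgLib.LocalEven.isPGroup_pCoreOf L)
  exact ((Subgroup.centralizer_le h1).trans d.over'.2.2).trans h1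

theorem not_commutator_le : ¬ ⁅K ⊔ T, K ⊔ T⁆ ≤ pCoreOf 2 (K ⊔ T) := by
  intro h
  obtain ⟨z, y, -, hy, hy0, -, -, -⟩ := d.exists_side
  have : y ∈ T ⊓ Subgroup.centralizer (wOf K : Set G) := by
    rw [← d.pCore_sup]
    refine h (Subgroup.commutator_mono le_sup_left ((thompsonSubgroupOf_le 2 T).trans le_sup_right) ?_)
    rw [d.hK.comm]; exact hy
  exact hy0 (d.inf_T.le ⟨hy, this.1⟩)

theorem omega_noncentral : ⁅omegaCenterOf T, K ⊔ T⁆ ≠ ⊥ := by
  intro h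
  obtain ⟨z, y, -, hy, -, hz, hyz, -⟩ := d.exists_side
  exact hyz (commutatorElement_eq_one_iff_mul_comm.1 (Subgroup.mem_bot.1
    (h ▸ Subgroup.commutator_mem_commutator hz (Subgroup.mem_sup_left hy) : ⁅z, y⁆ ∈ (⊥ : Subgroup G)))).symm

theorem K_le_normalizer {N : Subgroup G} (hT : T ≤ Subgroup.normalizer (N : Set G)) {y : G}
    (hy : y ∈ K) (hy0 : y ∉ pCoreOf 2 K) (hyN : y ∈ Subgroup.normalizer (N : Set G)) :
    K ⊔ T ≤ Subgroup.normalizer (N : Set G) := by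
  refine sup_le (fun k hk => ?_) hT
  have hQ : pCoreOf 2 K ≤ Subgroup.normalizer (N : Set G) := d.pCoreK_le.trans hT
  rcases index_three_cases (CfsgLib.LocalEven.pCoreOf_le 2 K) d.hK.index
    (CfsgLib.LocalEven.le_normalizer_pCoreOf 2 K) hy hy0 hk with e | e | e
  · exact hQ e
  · simpa using mul_mem (hQ e) (inv_mem hyN)
  · simpa using mul_mem (hQ e) hyN

theorem eq_of_le {L' : Subgroup G} (hL' : IsMaximalTwoLocal L') (h : K ⊔ T ≤ L') : L' = L :=
  d.c.unique hL' d.hL d.hK d.hKM ((sup_le_sup_left (thompsonSubgroupOf_le 2 T) K).trans h) d.hKL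

theorem conj {g : G} (hg : g ∈ Subgroup.normalizer (T : Set G)) :
    Dat M T (K.map (MulAut.conj g).toMonoidHom) (L.map (MulAut.conj g).toMonoidHom) := by
  have hgJ := d.c.mem_normalizer_J hg
  have eJ : OffAmalgam.cj g (thompsonSubgroupOf 2 T) = thompsonSubgroupOf 2 T := OffAmalgam.cj_eq hgJ
  have eT : OffAmalgam.cj g T = T := OffAmalgam.cj_eq hg
  refine ⟨d.c, ?_, fun h => d.hKM fun k hk => ?_, isMaximalTwoLocal_conj g d.hL, ?_, ?_, d.hTZ⟩
  · have := d.hK.conj g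
    change IsComp (OffAmalgam.cj g (thompsonSubgroupOf 2 T)) _ at this
    rwa [eJ] at this
  · have hgM := d.c.normalizer_J_le hgJ
    have := mul_mem (mul_mem (inv_mem hgM) (h ⟨k, hk, rfl⟩)) hgM
    simpa [mul_assoc] using this
  · conv_lhs => rw [← eJ]
    exact (Subgroup.map_sup K _ _).ge.trans (Subgroup.map_mono d.hKL)
  · conv_lhs => rw [← eT]
    exact Subgroup.map_mono d.hTL

theorem conj_ne {g : G} (hgL : g ∉ L) : L ≠ L.map (MulAut.conj g).toMonoidHom := fun e => hgL <| by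
  rw [← normalizer_maximalTwoLocal d.hL]
  exact Subgroup.mem_normalizer_iff_map_conj_eq.2 e.symm

end Dat

section Two

variable {M₁ M₂ T K₁ L₁ K₂ L₂ : Subgroup G} (d₁ : Dat M₁ T K₁ L₁) (d₂ : Dat M₂ T K₂ L₂)
include d₁ d₂

theorem Dat.no_common (hne : L₁ ≠ L₂) {N : Subgroup G} (hN : IsPGroup 2 N)
    (h₁ : K₁ ⊔ T ≤ Subgroup.normalizer (N : Set G)) (h₂ : K₂ ⊔ T ≤ Subgroup.normalizer (N : Set G)) :
    N = ⊥ := by
  by_contra h0
  obtain ⟨L', hL', hle⟩ := exists_maximalTwoLocal (N := Subgroup.normalizer (N : Set G)) ⟨N, hN, h0, rfl⟩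
  exact hne ((d₁.eq_of_le hL' (h₁.trans hle)).symm.trans (d₂.eq_of_le hL' (h₂.trans hle)))

theorem Dat.core_bot (hne : L₁ ≠ L₂) : pCoreOf 2 ((K₁ ⊔ T) ⊔ (K₂ ⊔ T)) = ⊥ :=
  d₁.no_common d₂ hne (CfsgLib.LocalEven.isPGroup_pCoreOf _)
    (le_sup_left.trans (CfsgLib.LocalEven.le_normalizer_pCoreOf 2 _))
    (le_sup_right.trans (CfsgLib.LocalEven.le_normalizer_pCoreOf 2 _))

theorem Dat.exists_pair (hne : L₁ ≠ L₂) : ∃ z₁ y₁ z₂ y₂ : G,
    y₁ ∈ K₁ ∧ y₁ ∉ pCoreOf 2 K₁ ∧ y₂ ∈ K₂ ∧ y₂ ∉ pCoreOf 2 K₂ ∧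
    OffAmalgam.Pair T (T ⊓ Subgroup.centralizer (wOf K₁ : Set G)) (wOf K₁) z₁ y₁
      (T ⊓ Subgroup.centralizer (wOf K₂ : Set G)) (wOf K₂) z₂ y₂ := by
  obtain ⟨z₁, y₁, -, hy₁, hy₁0, -, -, s₁⟩ := d₁.exists_side
  obtain ⟨z₂, y₂, -, hy₂, hy₂0, -, -, s₂⟩ := d₂.exists_side
  refine ⟨z₁, y₁, z₂, y₂, hy₁, hy₁0, hy₂, hy₂0, s₁, s₂, fun N hNT hT h1 h2 => ?_,
    d₁.exists_off, d₂.exists_off⟩
  exact d₁.no_common d₂ hne (d₁.c.isPGroup.to_le hNT) (d₁.K_le_normalizer hT hy₁ hy₁0 h1)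
    (d₂.K_le_normalizer hT hy₂ hy₂0 h2)

/-- The cores are elementary abelian, and their intersection is the centre. -/
theorem Dat.small (hne : L₁ ≠ L₂) :
    IsElementaryAbelian 2 (T ⊓ Subgroup.centralizer (wOf K₁ : Set G) : Subgroup G) ∧
      Nat.card ↥(T ⊓ Subgroup.centralizer (wOf K₁ : Set G)) ≤
        2 * Nat.card ↥(omegaCenterOf T) := by
  obtain ⟨z₁, y₁, z₂, y₂, -, -, -, -, h⟩ := d₁.exists_pair d₂ hne
  obtain ⟨e₁, -, hc⟩ := h.structure_thm
  refine ⟨e₁, (h.s₂.card_le h.s₁.le).trans (Nat.mul_le_mul_left _ (Subgroup.card_le_of_le ?_))⟩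
  intro x hx
  exact mem_omegaOne ⟨h.s₁.le hx.1, fun t ht => (hc ht x hx).symm⟩ (e₁.2 x hx.1)

end Two

/-- A maximal `2`-local subgroup with elementary abelian core of order at most eight. -/
theorem Dat.eq_sup {M T K L : Subgroup G} (d : Dat M T K L)
    (he : IsElementaryAbelian 2 (T ⊓ Subgroup.centralizer (wOf K : Set G) : Subgroup G))
    (h8 : Nat.card ↥(T ⊓ Subgroup.centralizer (wOf K : Set G)) ≤ 8) :
    L = K ⊔ T ∧ pCoreOf 2 L = T ⊓ Subgroup.centralizer (wOf K : Set G) := by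
  classical
  set W := wOf K
  set Q := T ⊓ Subgroup.centralizer (W : Set G)
  obtain ⟨z, y, -, -, -, -, -, s⟩ := d.exists_side
  have hn : L ≤ Subgroup.normalizer (pCoreOf 2 L : Set G) := CfsgLib.LocalEven.le_normalizer_pCoreOf 2 L
  have hLT : pCoreOf 2 L ≤ T := d.two_group_le (CfsgLib.LocalEven.isPGroup_pCoreOf L)
    (CfsgLib.LocalEven.pCoreOf_le 2 L) (d.hTL.trans hn)
  have hOQ : pCoreOf 2 L ≤ Q := by
    show pCoreOf 2 L ≤ T ⊓ Subgroup.centralizer (wOf K : Set G)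
    rw [← d.pCore_sup]
    exact CfsgLib.LocalEven.le_pCoreOf (hLT.trans le_sup_right) (d.P_le.trans hn)
      (CfsgLib.LocalEven.isPGroup_pCoreOf L)
  have hQc : Q ≤ Subgroup.centralizer (pCoreOf 2 L : Set G) := fun q hq v hv =>
    comm_of_mem he.1 (hOQ hv) hq
  have eO : pCoreOf 2 L = Q := le_antisymm hOQ (hQc.trans d.over'.2.2)
  obtain ⟨T', hT', hs, hJ'⟩ := exists_setup d.c.sol d.c.cent d.c.ne_bot d.over'
  have hW : ∀ X : Subgroup G, IsComp (thompsonSubgroupOf 2 T) X → X ≤ L → wOf X ≤ Q := by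
    intro X hX hXL
    rw [← eO, ← map_wOf_subgroupOf hXL]
    exact Subgroup.map_mono (((hs.comp_w (isComp_subgroupOf hJ' hXL hX)).1.trans inf_le_left).trans
      (omegaCenterOf_le _))
  have hsingle : compsJoin (thompsonSubgroupOf 2 T) L = K := by
    refine le_antisymm (sSup_le fun X hX => ?_) (le_sSup ⟨d.hK, d.K_le⟩)
    have hW2 : IsElementaryAbelian 2 W := isElementaryAbelian_of_le he s.wq
    have hne : W ⊓ wOf X ≠ ⊥ := by
      intro e
      have hXQ := hW X hX.1 hX.2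
      have h1 := CfsgLib.Coprime.card_sup_mul_card_inf (H := W) (N := wOf X)
        (s.wq.trans (le_normalizer_of_abelian he.1 hXQ))
      rw [e, Subgroup.card_bot, mul_one, s.card_w, hX.1.card_w] at h1
      have h2 := Subgroup.card_le_of_le (sup_le s.wq hXQ : W ⊔ wOf X ≤ Q)
      omega
    have := hs.comp_unique (isComp_subgroupOf hJ' d.K_le d.hK) (isComp_subgroupOf hJ' hX.2 hX.1) (by
      intro e
      refine hne ?_
      rw [show W = _ from (map_wOf_subgroupOf d.K_le).symm, ← map_wOf_subgroupOf hX.2,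
        ← Subgroup.map_inf _ _ _ L.subtype_injective, e, Subgroup.map_bot])
    rw [Subgroup.subgroupOf_inj, inf_eq_left.2 d.K_le, inf_eq_left.2 hX.2] at this
    exact this.ge
  have hLK : L ≤ Subgroup.normalizer (K : Set G) := by
    have := d.c.le_normalizer_compsJoin d.hL.1 d.not_L_le (le_sup_right.trans d.hKL)
    rwa [hsingle] at this
  have hLW : L ≤ Subgroup.normalizer (W : Set G) := hLK.trans (normalizer_le_normalizer_wOf K)
  have hLQ : L ≤ Subgroup.normalizer (Q : Set G) := eO ▸ hn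
  set C := L ⊓ Subgroup.centralizer (W : Set G)
  have hQL : Q ≤ L := inf_le_left.trans d.hTL
  have hC2 : IsPGroup 2 C := by
    refine CfsgLib.LocalEven.isPGroup_of_pow_mem (d.c.isPGroup.to_le (inf_le_left : Q ≤ T))
      fun g hg => ⟨1, ?_⟩
    show g ^ 2 ^ 1 ∈ Q
    rw [pow_one, pow_two, ← eO]
    refine d.over'.2.2 fun q hq => ?_
    rw [eO] at hq
    have hfix : g * (g * q * g⁻¹) * g⁻¹ = q := by
      by_cases hqW : q ∈ W
      · rw [mul_inv_eq_iff_eq_mul.2 (hg.2 q hqW).symm, mul_inv_eq_iff_eq_mul.2 (hg.2 q hqW).symm]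
      have hgq : g * q * g⁻¹ ∈ Q := (Subgroup.mem_normalizer_iff.1 (hLQ hg.1) q).1 hq
      have hgqW : g * q * g⁻¹ ∉ W := fun h => hqW ((Subgroup.mem_normalizer_iff.1 (hLW hg.1) q).2 h)
      have hWlt : W < Q := lt_of_le_of_ne s.wq fun e => hqW (e ▸ hq)
      have h2 := OffAmalgam.two_mul_le_of_lt hWlt
      have hQ8 : Nat.card Q = 2 * Nat.card W := by rw [s.card_w] at h2 ⊢; omega
      have hm := mul_mem_of_half s.wq hQ8 hgq hgqW hq hqW
      have hqq : q * q = 1 := by have := he.2 q hq; rwa [pow_two] at this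
      have hgg : g * q * g⁻¹ * (g * q * g⁻¹) = 1 := by
        rw [conj_mul, hqq]; group
      have e1 : g * (g * q * g⁻¹ * q) * g⁻¹ = g * q * g⁻¹ * q :=
        mul_inv_eq_iff_eq_mul.2 (hg.2 _ hm).symm
      calc g * (g * q * g⁻¹) * g⁻¹ = g * (g * q * g⁻¹ * q) * g⁻¹ * (g * q * g⁻¹) := by
            rw [show g * (g * q * g⁻¹ * q) * g⁻¹ * (g * q * g⁻¹) =
              g * (g * q * g⁻¹) * g⁻¹ * (g * (q * q) * g⁻¹) by group, hqq]; group
        _ = g * q * g⁻¹ * (q * (g * q * g⁻¹)) := by rw [e1, mul_assoc]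
        _ = q := by rw [comm_of_mem he.1 hq hgq, ← mul_assoc, hgg, one_mul]
    calc q * (g * g) = g * (g * q * g⁻¹) * g⁻¹ * (g * g) := by rw [hfix]
      _ = g * g * q := by group
  have hCQ : C ≤ Q := by
    rw [← eO]
    refine CfsgLib.LocalEven.le_pCoreOf inf_le_left ?_ hC2
    exact (le_inf Subgroup.le_normalizer
      (hLW.trans (CfsgLib.LocalEven.normalizer_le_normalizer_centralizer _))).trans
      (CfsgLib.PLocal.normalizer_inf_le _ _)
  -- `L/Q` permutes the three involutions of `W`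
  haveI := Fintype.ofFinite W
  obtain ⟨v, hv, hv1⟩ : ∃ v ∈ W, v ≠ 1 ∧ v ≠ z := by
    by_contra hno
    push Not at hno
    have hsub : W ≤ Subgroup.zpowers z := fun v hv => by
      by_cases h1 : v = 1
      · rw [h1]; exact one_mem _
      · rw [hno v hv h1]; exact Subgroup.mem_zpowers z
    have := Subgroup.card_le_of_le hsub
    rw [s.card_w, Nat.card_zpowers, orderOf_eq_prime (s.w2.2 z s.z_mem) s.z_ne] at this
    omega
  let f : ↥L → {p : ↥W × ↥W // p.1 ≠ 1 ∧ p.2 ≠ 1 ∧ p.1 ≠ p.2} := fun g =>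
    ⟨(⟨g * z * (g : G)⁻¹, (Subgroup.mem_normalizer_iff.1 (hLW g.2) z).1 s.z_mem⟩,
      ⟨g * v * (g : G)⁻¹, (Subgroup.mem_normalizer_iff.1 (hLW g.2) v).1 hv⟩),
      fun e => s.z_ne (conj_eq_one_iff.1 (congrArg Subtype.val e)),
      fun e => hv1.1 (conj_eq_one_iff.1 (congrArg Subtype.val e)),
      fun e => hv1.2 (mul_left_cancel (mul_right_cancel (congrArg Subtype.val e))).symm⟩
  have hker : ∀ g g' : ↥L, f g = f g' → (g⁻¹ * g' : ↥L) ∈ C.subgroupOf L := by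
    intro g g' e
    refine Subgroup.mem_subgroupOf.2 ⟨(g⁻¹ * g').2, ?_⟩
    simp only [f, Subtype.mk.injEq, Prod.mk.injEq] at e
    have hfix : ∀ u, (g : G) * u * (g : G)⁻¹ = g' * u * (g' : G)⁻¹ →
        ((g : G)⁻¹ * g') * u = u * ((g : G)⁻¹ * g') := fun u hu => by
      calc ((g : G)⁻¹ * g') * u = (g : G)⁻¹ * ((g' : G) * u * (g' : G)⁻¹) * g' := by group
        _ = _ := by rw [← hu]; group
    have hgen : W ≤ W ⊓ Subgroup.centralizer {(g : G)⁻¹ * g'} := by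
      refine (Subgroup.eq_of_le_of_card_ge inf_le_left ?_).ge
      rw [s.card_w]
      have hsub : ({1, z, v} : Set G) ⊆ (W ⊓ Subgroup.centralizer {(g : G)⁻¹ * g'} : Subgroup G) := by
        rintro x (rfl | rfl | rfl)
        · exact one_mem _
        · exact ⟨s.z_mem, Subgroup.mem_centralizer_singleton_iff.2 (hfix _ e.1).symm⟩
        · exact ⟨hv, Subgroup.mem_centralizer_singleton_iff.2 (hfix _ e.2).symm⟩
      have h3 : ({1, z, v} : Set G).ncard = 3 :=
        Set.ncard_eq_three.2 ⟨1, z, v, s.z_ne.symm, hv1.1.symm, hv1.2.symm, rfl⟩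
      have h4 := Nat.card_mono (Set.toFinite _) hsub
      rw [Nat.card_coe_set_eq, h3] at h4
      have h5 : Nat.card ↥(W ⊓ Subgroup.centralizer {(g : G)⁻¹ * g'}) ∣ 4 :=
        s.card_w ▸ Subgroup.card_dvd_of_le inf_le_left
      have h6 := Nat.le_of_dvd (by norm_num) h5
      by_contra hlt
      have : Nat.card ↥(W ⊓ Subgroup.centralizer {(g : G)⁻¹ * g'}) = 3 := by
        change 3 ≤ Nat.card ↥(W ⊓ Subgroup.centralizer {(g : G)⁻¹ * g'}) at h4
        omega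
      rw [this] at h5
      norm_num at h5
    exact fun x hx => Subgroup.mem_centralizer_singleton_iff.1 (hgen hx).2
  have h6 : Nat.card (↥L ⧸ C.subgroupOf L) ≤ 6 := by
    refine (Nat.card_le_card_of_injective (fun q => f q.out) fun q q' e => ?_).trans ?_
    · rw [← q.out_eq, ← q'.out_eq]
      exact QuotientGroup.eq.2 (hker _ _ e)
    · rw [Nat.card_eq_fintype_card]
      have hW4 : Fintype.card W = 4 := by rw [← Nat.card_eq_fintype_card]; exact s.card_w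
      let e := Fintype.equivFinOfCardEq hW4
      calc Fintype.card {p : ↥W × ↥W // p.1 ≠ 1 ∧ p.2 ≠ 1 ∧ p.1 ≠ p.2}
          = Fintype.card {p : Fin 4 × Fin 4 // p.1 ≠ e 1 ∧ p.2 ≠ e 1 ∧ p.1 ≠ p.2} :=
            Fintype.card_congr ((e.prodCongr e).subtypeEquiv fun p => by simp)
        _ ≤ 6 := by generalize e 1 = i; revert i; decide
  refine ⟨(Subgroup.eq_of_le_of_card_ge d.P_le ?_).symm, eO⟩
  rw [d.card_sup]
  have h := (C.subgroupOf L).card_eq_card_quotient_mul_card_subgroup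
  rw [CfsgLib.Base.card_subgroupOf inf_le_left] at h
  have h7 := Subgroup.card_le_of_le hCQ
  have h8' := OffAmalgam.two_mul_le_of_lt (lt_of_le_of_ne (inf_le_left : Q ≤ T) fun e => s.lt e.ge)
  calc Nat.card L = Nat.card (↥L ⧸ C.subgroupOf L) * Nat.card C := h
    _ ≤ 6 * Nat.card Q := Nat.mul_le_mul h6 h7
    _ ≤ _ := by
      have h8'' : 2 * Nat.card Q ≤ Nat.card T := h8'
      omega

end CfsgLib.LocalEven.JComp
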