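import Cfsg.Agent.Lib.LocalEven.JCompPair
import Cfsg.Agent.S2947

/-!
A second component: the maximal straddling family of the maximal `2`-local of the first one.
-/

set_option autoImplicit false
set_option linter.style.haveILetI false
set_option linter.unusedSectionVars false

namespace CfsgLib.LocalEven.JComp

open Cfsg CfsgLib.PLocal
open scoped commutatorElement

variable {G : Type*} [Group G] [Finite G]

theorem exists_maxStraddling {M : Subgroup G} (h : (straddlingTwoSubgroups M).Nonempty) :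
    ∃ T, T ∈ maxStraddlingTwoSubgroups M := by
  classical
  set Sd := straddlingTwoSubgroups M
  obtain ⟨T₁, h₁, e₁⟩ := Set.exists_max_image Sd (fun T => maxElemAbelianOrder T) (Set.toFinite _) h
  obtain ⟨T₂, h₂, e₂⟩ := Set.exists_max_image {T | T ∈ Sd ∧ maxElemAbelianOrder T = maxElemAbelianOrder T₁}
    (fun T => Nat.card ↥(thompsonSubgroupOf 2 T)) (Set.toFinite _) ⟨T₁, h₁, rfl⟩
  obtain ⟨T₃, h₃, e₃⟩ := Set.exists_max_image
    {T | T ∈ Sd ∧ maxElemAbelianOrder T = maxElemAbelianOrder T₁ ∧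
      Nat.card ↥(thompsonSubgroupOf 2 T) = Nat.card ↥(thompsonSubgroupOf 2 T₂)}
    (fun T => Nat.card T) (Set.toFinite _) ⟨T₂, h₂.1, h₂.2, rfl⟩
  refine ⟨T₃, h₃.1, fun T hT => ⟨(e₁ T hT).trans h₃.2.1.ge, fun ha => ⟨?_, fun hJ => ?_⟩⟩⟩
  · exact (e₂ T ⟨hT, ha.trans h₃.2.1⟩).trans h₃.2.2.ge
  · exact e₃ T ⟨hT, ha.trans h₃.2.1, hJ.trans h₃.2.2⟩

theorem isSylowTwoIn_map {H : Type*} [Group H] {f : G →* H} (hf : Function.Injective f)
    {S X : Subgroup G} (h : IsSylowTwoIn S X) : IsSylowTwoIn (S.map f) (X.map f) :=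
  ⟨Subgroup.map_mono h.1, h.2.1.map _, by
    rw [Subgroup.relIndex_map_map_of_injective _ _ hf]; exact h.2.2⟩

theorem isJComponent_conj {T K : Subgroup G} (h : IsJComponent T K) (g : G) :
    IsJComponent (OffAmalgam.cj g T) (OffAmalgam.cj g K) := by
  have eJ : thompsonSubgroupOf 2 (OffAmalgam.cj g T) = OffAmalgam.cj g (thompsonSubgroupOf 2 T) :=
    (map_thompsonSubgroupOf (MulAut.conj g).injective T).symm
  have hc : IsComp (thompsonSubgroupOf 2 (OffAmalgam.cj g T)) (OffAmalgam.cj g K) := by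
    rw [eJ]; exact (isComp_of h).conj g
  refine ⟨hc.gen, hc.comm, hc.index, fun U hU hJU => ?_, hc.card_w, hc.sq⟩
  rw [eJ] at hU hJU ⊢
  have h1 : IsSylowTwoIn (OffAmalgam.cj g⁻¹ U) (K ⊔ thompsonSubgroupOf 2 T) := by
    have := isSylowTwoIn_map (f := (MulAut.conj g⁻¹).toMonoidHom) (MulAut.conj g⁻¹).injective hU
    rwa [Subgroup.map_sup, show (OffAmalgam.cj g K).map _ = K from OffAmalgam.cj_cancel' g K,
      show (OffAmalgam.cj g (thompsonSubgroupOf 2 T)).map _ = _ from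
        OffAmalgam.cj_cancel' g (thompsonSubgroupOf 2 T)] at this
  have h2 := h.2.2.2.1 _ h1 (by
    have := OffAmalgam.cj_mono (g := g⁻¹) hJU
    rwa [OffAmalgam.cj_cancel'] at this)
  conv_rhs => rw [← h2]
  rw [show thompsonSubgroupOf 2 (OffAmalgam.cj g⁻¹ U) = OffAmalgam.cj g⁻¹ (thompsonSubgroupOf 2 U) from
    (map_thompsonSubgroupOf (MulAut.conj g⁻¹).injective U).symm, OffAmalgam.cj_cancel]

theorem le_or_le_of_forall {X A B : Subgroup G} (h : ∀ x ∈ X, x ∈ A ∨ x ∈ B) : X ≤ A ∨ X ≤ B := by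
  by_contra hno
  push Not at hno
  obtain ⟨a, ha, haA⟩ := SetLike.not_le_iff_exists.1 hno.1
  obtain ⟨b, hb, hbB⟩ := SetLike.not_le_iff_exists.1 hno.2
  rcases h _ (mul_mem ha hb) with e | e
  · exact haA (by simpa using mul_mem e (inv_mem ((h b hb).resolve_right hbB)))
  · exact hbB (by simpa using mul_mem (inv_mem ((h a ha).resolve_left haA)) e)

end CfsgLib.LocalEven.JComp

namespace CfsgLib.LocalEven.OffAmalgam

open Cfsg CfsgLib.PLocal

variable {G : Type*} [Group G] [Finite G] {T Q₁ W₁ : Subgroup G} {z₁ y₁ : G}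
  {Q₂ W₂ : Subgroup G} {z₂ y₂ : G}

theorem Pair.invol_mem (h : Pair T Q₁ W₁ z₁ y₁ Q₂ W₂ z₂ y₂) {t : G} (ht : t ∈ T) (ht2 : t * t = 1) :
    t ∈ Q₁ ∨ t ∈ Q₂ := by
  by_contra hno
  push Not at hno
  obtain ⟨w₁, hw₁, hw₁'⟩ := SetLike.not_le_iff_exists.1 h.not_le'
  obtain ⟨w₂, hw₂, hw₂'⟩ := SetLike.not_le_iff_exists.1 h.not_le
  have hw₂T : w₂ ∈ T := h.s₂.le (h.s₂.wq hw₂)
  have hw₁T : w₁ ∈ T := h.s₁.le (h.s₁.wq hw₁)
  have hu : t * w₂ ∈ Q₁ := h.s₁.index t ht w₂ hw₂T hno.1 hw₂'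
  have hu' : t * w₂ ∉ Q₂ := fun e => hno.2 (by simpa using mul_mem e (inv_mem (h.s₂.wq hw₂)))
  have hd : t * w₂ * w₁ ∈ Q₁ ⊓ Q₂ := ⟨mul_mem hu (h.s₁.wq hw₁),
    h.s₂.index _ (mul_mem ht hw₂T) w₁ hw₁T hu' hw₁'⟩
  set d := t * w₂ * w₁
  obtain ⟨e₁, -, hc⟩ := h.structure_thm
  have hd2 : d * d = 1 := by have := e₁.2 d hd.1; rwa [pow_two] at this
  have h11 : w₁ * w₁ = 1 := by have := h.s₁.w2.2 w₁ hw₁; rwa [pow_two] at this
  have h22 : w₂ * w₂ = 1 := by have := h.s₂.w2.2 w₂ hw₂; rwa [pow_two] at this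
  have hdc : ∀ x ∈ T, d * x = x * d := fun x hx => hc hx d hd
  have et : t = d * (w₁ * w₂) := by
    calc t = t * (w₂ * (w₁ * w₁) * w₂) := by rw [h11, mul_one, h22, mul_one]
      _ = d * (w₁ * w₂) := by simp only [d]; group
  have e2 : w₁ * w₂ * (w₁ * w₂) = 1 := by
    rw [et] at ht2
    calc w₁ * w₂ * (w₁ * w₂) = d * d * (w₁ * w₂ * (w₁ * w₂)) := by rw [hd2, one_mul]
      _ = d * (d * (w₁ * w₂)) * (w₁ * w₂) := by group
      _ = d * ((w₁ * w₂) * d) * (w₁ * w₂) := by rw [hdc _ (mul_mem hw₁T hw₂T)]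
      _ = _ := by rw [← ht2]; group
  have hcomm : w₂ * w₁ = w₁ * w₂ := by
    calc w₂ * w₁ = w₁ * w₁ * (w₂ * w₁) * (w₂ * w₂) := by rw [h11, h22, one_mul, mul_one]
      _ = w₁ * (w₁ * w₂ * (w₁ * w₂)) * w₂ := by group
      _ = w₁ * w₂ := by rw [e2, mul_one]
  rcases h.s₁.fix_only hw₂T hw₂' hw₁ hcomm with e | e
  · exact hw₁' (e ▸ one_mem _)
  · refine hw₁' (h.s₂.mem_q hw₁T fun v hv => ?_)
    rw [e]
    exact h.s₁.z_fix v (h.s₂.le (h.s₂.wq hv))

theorem Pair.omega_le (h : Pair T Q₁ W₁ z₁ y₁ Q₂ W₂ z₂ y₂) : omegaCenterOf T ≤ Q₁ ⊓ Q₂ := by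
  intro x hx
  have hxT := JComp.omegaCenterOf_le T hx
  have hc := JComp.omegaCenterOf_le_centralizer T hx
  exact ⟨h.s₁.mem_q hxT fun v hv => hc v (h.s₁.le (h.s₁.wq hv)),
    h.s₂.mem_q hxT fun v hv => hc v (h.s₂.le (h.s₂.wq hv))⟩

theorem Pair.inf_le_omega (h : Pair T Q₁ W₁ z₁ y₁ Q₂ W₂ z₂ y₂) : Q₁ ⊓ Q₂ ≤ omegaCenterOf T := by
  obtain ⟨e₁, -, hc⟩ := h.structure_thm
  exact fun x hx => mem_omegaOne ⟨h.s₁.le hx.1, fun t ht => (hc ht x hx).symm⟩ (e₁.2 x hx.1)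

end CfsgLib.LocalEven.OffAmalgam

namespace CfsgLib.LocalEven.JComp

open Cfsg CfsgLib.PLocal
open scoped commutatorElement

variable {G : Type*} [Group G] [Finite G]

namespace Ctx

variable {M T : Subgroup G} (c : Ctx M T)
include c

theorem exists_comp : ∃ K L, IsComp (thompsonSubgroupOf 2 T) K ∧ ¬ K ≤ M ∧ IsMaximalTwoLocal L ∧
    K ⊔ thompsonSubgroupOf 2 T ≤ L ∧ T ≤ L := by
  obtain ⟨-, -, -, L₁, hL₁, hTL₁, hn⟩ := c.max.1
  obtain ⟨K, hK, hKL, hKM⟩ := exists_jComponent_not_le c.sol c.cent c.ne_bot c.normalizer_J_le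
    (c.overgroup hL₁ hn hTL₁) hn
  obtain ⟨L, hL, hle⟩ := exists_maximalTwoLocal hL₁
  exact ⟨K, L, isComp_of hK, hKM, hL,
    sup_le (hKL.trans hle) (((thompsonSubgroupOf_le 2 T).trans hTL₁).trans hle), hTL₁.trans hle⟩

theorem w_le_om {K L : Subgroup G} (hK : IsComp (thompsonSubgroupOf 2 T) K) (hLT : L ∈ jOvergroups T)
    (hKL : K ≤ L) : wOf K ≤ omegaCenterOf (pCoreOf 2 L) := by
  obtain ⟨T', hT', hs, hJ'⟩ := exists_setup c.sol c.cent c.ne_bot hLT
  rw [← map_wOf_subgroupOf hKL, pCoreOf, ← map_omegaCenterOf L.subtype_injective]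
  exact Subgroup.map_mono ((hs.comp_w (isComp_subgroupOf hJ' hKL hK)).1.trans inf_le_left)

theorem fix_center_proper {K L : Subgroup G} (hK : IsComp (thompsonSubgroupOf 2 T) K)
    (hKM : ¬ K ≤ M) (hL : IsMaximalTwoLocal L) (hKL : K ⊔ thompsonSubgroupOf 2 T ≤ L)
    (hTL : T ≤ L) {S : Sylow 2 G} (hTS : T ≤ (S : Subgroup G)) (hne : T ≠ S) :
    T ≤ Subgroup.centralizer (omegaCenterOf (thompsonSubgroupOf 2 T) : Set G) ∧
      omegaCenterOf T = omegaCenterOf (thompsonSubgroupOf 2 T) ∧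
      Nat.card ↥(omegaCenterOf T) ≤ 4 := by
  have key : omegaCenterOf T = omegaCenterOf (thompsonSubgroupOf 2 T) ∧
      Nat.card ↥(omegaCenterOf T) ≤ 4 := by
    rcases c.proper_case hK hKM hL hKL hTL hTS hne with ⟨-, h2⟩ | ⟨e, h4, -⟩
    · have e : omegaCenterOf T = omegaCenterOf (thompsonSubgroupOf 2 T) := by
        refine Subgroup.eq_of_le_of_card_ge omegaCenter_le ?_
        rw [h2]
        exact (Subgroup.one_lt_card_iff_ne_bot _).2 (omegaCenterOf_ne_bot c.isPGroup c.ne_bot)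
      exact ⟨e, by rw [e, h2]; norm_num⟩
    · exact ⟨e, by rw [e, h4]⟩
  refine ⟨?_, key⟩
  rw [← key.1]
  exact Subgroup.le_centralizer_iff.1 (omegaCenterOf_le_centralizer T)

/-- The case of a Sylow subgroup: something leaves `L`. -/
theorem sep {K L : Subgroup G} (hK : IsComp (thompsonSubgroupOf 2 T) K) (hKM : ¬ K ≤ M)
    (hL : IsMaximalTwoLocal L) (hKL : K ⊔ thompsonSubgroupOf 2 T ≤ L) (hTL : T ≤ L)
    {S : Sylow 2 G} (hTS : T = S) :
    (∃ g ∈ Subgroup.normalizer (thompsonSubgroupOf 2 T : Set G), g ∉ L) ∨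
      T ∈ maxStraddlingTwoSubgroups L := by
  by_contra hno
  push Not at hno
  obtain ⟨hNJ, hmax⟩ := hno
  have hLM : ¬ L ≤ M := fun h => hKM ((le_sup_left.trans hKL).trans h)
  have hover := c.overgroup hL.1 hLM hTL
  have hKle : K ≤ L := le_sup_left.trans hKL
  have hSL : (S : Subgroup G) ≤ L := hTS ▸ hTL
  have hJL : Subgroup.normalizer (thompsonSubgroupOf 2 (S : Subgroup G) : Set G) ≤ L := by
    rw [← hTS]; exact hNJ
  have hW := c.w_le_om hK hover hKle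
  by_cases hne : straddlingTwoSubgroups L = ∅
  · have hSE := (Cfsg.Agent.S2947.result c.char2 c.sol c.cent c.core S L hL.1 hJL).2 hne
    obtain ⟨⟨w, hw⟩, hw1⟩ := Subgroup.ne_bot_iff_exists_ne_one.1 hK.wOf_ne_bot
    have hw1' : w ≠ 1 := fun e => hw1 (Subtype.ext e)
    have hwo : orderOf w = 2 := orderOf_eq_prime (by rw [pow_two]; exact hK.sq w hw) hw1'
    have hwO : w ∈ pCoreOf 2 L := omegaCenterOf_le _ (hW hw)
    obtain ⟨A, hA, hAO⟩ : ∃ A ∈ maxEAOf 2 T, ¬ A ≤ pCoreOf 2 L := by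
      by_contra hno'
      push Not at hno'
      apply hover.2.1
      rw [thompsonSubgroupOf_eq_sSup]
      exact sSup_le hno'
    obtain ⟨a, ha, haO⟩ := SetLike.not_le_iff_exists.1 hAO
    have hao : orderOf a = 2 := orderOf_eq_prime (hA.2.1.2 a ha) fun e => haO (e ▸ one_mem _)
    obtain ⟨g, hg⟩ := isConj_iff.1 (CfsgLib.Involutions.SE.isConj hSE hwo hao)
    have hwL : w ∈ L := CfsgLib.LocalEven.pCoreOf_le 2 L hwO
    have hgL : g ∈ L := CfsgLib.Involutions.SE.mem_of_conj hSE hwo hwL (hg ▸ hTL (hA.1 ha))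
    refine haO (hg ▸ ?_)
    exact (Subgroup.mem_normalizer_iff.1 (CfsgLib.LocalEven.le_normalizer_pCoreOf 2 L hgL) w).1 hwO
  obtain ⟨T', hT'⟩ := exists_maxStraddling (Set.nonempty_iff_ne_empty.2 hne)
  have c' : Ctx L T' := ⟨c.char2, c.sol, c.cent, c.core, hL.1, ⟨S, hJL⟩, hT'⟩
  have hT'L : T' ≤ L := c'.le_M
  haveI : Fact (Nat.Prime 2) := ⟨Nat.prime_two⟩
  obtain ⟨l, hlL, hl⟩ : ∃ l ∈ L, T' ≤ OffAmalgam.cj l S := by
    obtain ⟨P, hP⟩ := (c'.isPGroup.comap_subtype (K := L)).exists_le_sylow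
    obtain ⟨⟨l, hl⟩, e⟩ := MulAction.exists_smul_eq L (S.subtype hSL) P
    refine ⟨l, hl, fun x hx => ?_⟩
    have hxP : (⟨x, hT'L hx⟩ : L) ∈ (P : Subgroup L) := hP hx
    rw [← e, Sylow.coe_subgroup_smul, ← CfsgLib.Base.map_conj_eq_smul] at hxP
    obtain ⟨u, hu, hux⟩ := hxP
    refine ⟨(u : G), ?_, congrArg Subtype.val hux⟩
    exact hu
  set S' : Sylow 2 G := l • S
  have hS' : (S' : Subgroup G) = OffAmalgam.cj l S := by
    rw [Sylow.coe_subgroup_smul, ← CfsgLib.Base.map_conj_eq_smul]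
  have hT'S : T' ≤ (S' : Subgroup G) := hS' ▸ hl
  have hS'L : (S' : Subgroup G) ≤ L := by
    rw [hS']
    exact (OffAmalgam.cj_mono hSL).trans (OffAmalgam.cj_eq (Subgroup.le_normalizer hlL)).le
  obtain ⟨K', L', hK', hK'L, hL', hKL', hT'L'⟩ := c'.exists_comp
  have hK'j := c'.isJComponent hK' hK'L hL'.1 hKL'
  by_cases hTT : T' = S'
  · apply hmax
    have eT : T = OffAmalgam.cj l⁻¹ T' := by rw [hTT, hS', OffAmalgam.cj_cancel', hTS]
    have hLl : OffAmalgam.cj l⁻¹ L = L := OffAmalgam.cj_eq (Subgroup.le_normalizer (inv_mem hlL))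
    have hnot : ¬ OffAmalgam.cj l⁻¹ L' ≤ L := fun hle => hK'L fun k hk => by
      have h1 : l⁻¹ * k * l⁻¹⁻¹ ∈ L := hle ⟨k, le_sup_left.trans hKL' hk, rfl⟩
      have := mul_mem (mul_mem hlL h1) (inv_mem hlL)
      simpa [mul_assoc] using this
    refine ⟨⟨c.isPGroup, c.ne_bot, hTL, _, isTwoLocal_conj l⁻¹ hL'.1,
      eT ▸ OffAmalgam.cj_mono hT'L', hnot⟩, fun U hU => ?_⟩
    have ea : maxElemAbelianOrder T = maxElemAbelianOrder T' := by
      obtain ⟨A, hA⟩ := maxEAOf_nonempty 2 T'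
      have hA' : OffAmalgam.cj l⁻¹ A ∈ maxEAOf 2 T := by
        refine ⟨eT ▸ OffAmalgam.cj_mono hA.1, OffAmalgam.cj_ea hA.2.1, fun E hE hEe => ?_⟩
        rw [OffAmalgam.card_cj, ← OffAmalgam.card_cj l E]
        refine hA.2.2 _ ((OffAmalgam.cj_mono hE).trans ?_) (OffAmalgam.cj_ea hEe)
        rw [eT, OffAmalgam.cj_cancel]
      rw [maxElemAbelianOrder_eq hA', maxElemAbelianOrder_eq hA, OffAmalgam.card_cj]
    have eJ : Nat.card ↥(thompsonSubgroupOf 2 T) = Nat.card ↥(thompsonSubgroupOf 2 T') := by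
      rw [eT, show thompsonSubgroupOf 2 (OffAmalgam.cj l⁻¹ T') = _ from
        (map_thompsonSubgroupOf (MulAut.conj l⁻¹).injective T').symm]
      exact OffAmalgam.card_cj _ _
    have eC : Nat.card T = Nat.card T' := by rw [eT, OffAmalgam.card_cj]
    rw [ea, eJ, eC]
    exact hT'.2 U hU
  obtain ⟨hTZ, eZ, hZ4⟩ := c'.fix_center_proper hK' hK'L hL' hKL' hT'L' hT'S hTT
  have d : Dat L T' K' L' := ⟨c', hK', hK'L, hL', hKL', hT'L', hTZ⟩
  obtain ⟨g, hgN, hgS, hgL⟩ := c'.exists_normalizer_not_mem d.sylow hT'S hTT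
  have hne' := d.conj_ne hgL
  obtain ⟨z₁, y₁, z₂, y₂, -, -, -, -, h⟩ := d.exists_pair (d.conj hgN) hne'
  set E := T' ⊓ Subgroup.centralizer (wOf K' : Set G)
  set E' := T' ⊓ Subgroup.centralizer (wOf (K'.map (MulAut.conj g).toMonoidHom) : Set G)
  have hgE : OffAmalgam.cj g E = E' := by
    rw [OffAmalgam.cj_inf, OffAmalgam.cj_eq hgN, OffAmalgam.cj_centralizer,
      show OffAmalgam.cj g (wOf K') = _ from map_wOf (MulAut.conj g).injective K']
  have hE8 : Nat.card E ≤ 8 := by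
    have h1 : Nat.card E ≤ 2 * Nat.card ↥(omegaCenterOf T') := (d.small (d.conj hgN) hne').2
    omega
  obtain ⟨hE, hE', -⟩ := h.structure_thm
  obtain ⟨eL', eO'⟩ := d.eq_sup hE hE8
  have hEne : E ≠ ⊥ := fun e => hK'.wOf_ne_bot (le_bot_iff.1 (e ▸ h.s₁.wq))
  have hNE : Subgroup.normalizer (E : Set G) ≤ L' := by
    refine (hL'.2 _ ⟨E, c'.isPGroup.to_le inf_le_left, hEne, rfl⟩ ?_).le
    show L' ≤ Subgroup.normalizer ((T' ⊓ Subgroup.centralizer (wOf K' : Set G) : Subgroup G) : Set G)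
    rw [← eO']
    exact CfsgLib.LocalEven.le_normalizer_pCoreOf 2 L'
  have hSL' : (S' : Subgroup G) ⊓ L' ≤ T' := by
    intro x hx
    set U := (S' : Subgroup G) ⊓ L'
    have hd : T'.relIndex U ∣ T'.relIndex L' :=
      ⟨_, (Subgroup.relIndex_mul_relIndex T' U L' (le_inf hT'S hT'L') inf_le_right).symm⟩
    obtain ⟨n, hn⟩ := IsPGroup.iff_card.1 (S'.2.to_le (inf_le_left : U ≤ (S' : Subgroup G)))
    have h2 : T'.relIndex U ∣ 2 ^ n := hn ▸ (T'.subgroupOf U).index_dvd_card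
    exact Subgroup.relIndex_eq_one.1 (Nat.eq_one_of_dvd_coprimes
      (Nat.Coprime.pow_left n (Nat.coprime_two_left.2 d.sylow.2.2)) h2 hd) hx
  have hswap : ∀ v : G, v ∈ Subgroup.normalizer (T' : Set G) →
      OffAmalgam.cj v E = E ∨ OffAmalgam.cj v E = E' := by
    intro v hv
    have hcard : Nat.card E' = Nat.card E := by rw [← hgE, OffAmalgam.card_cj]
    have hle : OffAmalgam.cj v E ≤ T' :=
      (OffAmalgam.cj_mono inf_le_left).trans (OffAmalgam.cj_eq hv).le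
    have he := OffAmalgam.cj_ea (g := v) hE
    rcases le_or_le_of_forall (X := OffAmalgam.cj v E) (A := E) (B := E') (fun x hx =>
      h.invol_mem (hle hx) (by have := he.2 x hx; rwa [pow_two] at this)) with e | e
    · exact Or.inl (Subgroup.eq_of_le_of_card_ge e (OffAmalgam.card_cj _ _).ge)
    · exact Or.inr (Subgroup.eq_of_le_of_card_ge e (by rw [OffAmalgam.card_cj, hcard]))
  set V := omegaCenterOf (pCoreOf 2 L)
  have hVe : IsElementaryAbelian 2 V := isElementaryAbelian_omegaCenterOf _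
  have hLV : L ≤ Subgroup.normalizer (V : Set G) :=
    (CfsgLib.LocalEven.le_normalizer_pCoreOf 2 L).trans (normalizer_le_normalizer_omegaCenterOf _)
  have hOS' : pCoreOf 2 L ≤ (S' : Subgroup G) := by
    have := S'.is_maximal' (S'.2.to_sup_of_normal_right' (CfsgLib.LocalEven.isPGroup_pCoreOf L)
      (hS'L.trans (CfsgLib.LocalEven.le_normalizer_pCoreOf 2 L))) le_sup_left
    exact this ▸ le_sup_right
  have hVS' : V ≤ (S' : Subgroup G) := (omegaCenterOf_le _).trans hOS'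
  have hVT : V ≤ T' := by
    by_contra hVT
    set U := T' ⊔ V
    have hTV : T' ≤ Subgroup.normalizer (V : Set G) := hT'L.trans hLV
    have hUS : U ≤ (S' : Subgroup G) := sup_le hT'S hVS'
    have hlt : T'.subgroupOf U < ⊤ := lt_top_iff_ne_top.2 fun e =>
      hVT (le_sup_right.trans (Subgroup.subgroupOf_eq_top.1 e))
    obtain ⟨⟨u, huU⟩, hu, huT⟩ :=
      SetLike.exists_of_lt (CfsgLib.PGroups.lt_normalizer (S'.2.to_le hUS) hlt)
    rw [← Subgroup.subgroupOf_normalizer_eq le_sup_left] at hu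
    have huU' : u ∈ ((T' ⊔ V : Subgroup G) : Set G) := huU
    rw [Subgroup.coe_mul_of_left_le_normalizer_right _ _ hTV] at huU'
    obtain ⟨t, ht, v, hv, rfl⟩ := huU'
    have hvN : v ∈ Subgroup.normalizer (T' : Set G) := by
      simpa using mul_mem (inv_mem (Subgroup.le_normalizer ht)) (show t * v ∈ _ from hu)
    have hvT : v ∉ T' := fun e => huT (mul_mem ht e)
    have hvE : v ∉ Subgroup.normalizer (E : Set G) := fun e => hvT (hSL' ⟨hVS' hv, hNE e⟩)
    have hvswap : OffAmalgam.cj v E = E' :=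
      (hswap v hvN).resolve_left fun e => hvE (OffAmalgam.mem_normalizer_of_cj_eq e)
    have hvv : v * v = 1 := by have := hVe.2 v hv; rwa [pow_two] at this
    have hvswap' : OffAmalgam.cj v E' = E := by
      rw [← hvswap, OffAmalgam.cj_cj, hvv, OffAmalgam.cj_one]
    refine hvE (mem_normalizer_of_forall fun e he => ?_)
    have heT : e ∈ T' := he.1
    have hcT : v * e * v⁻¹ * e⁻¹ ∈ T' :=
      T'.mul_mem ((Subgroup.mem_normalizer_iff.1 hvN e).1 heT) (T'.inv_mem heT)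
    have hcV : v * e * v⁻¹ * e⁻¹ ∈ V := by
      rw [show v * e * v⁻¹ * e⁻¹ = v * (e * v⁻¹ * e⁻¹) by group]
      exact V.mul_mem hv ((Subgroup.mem_normalizer_iff.1 (hTV heT) _).1 (V.inv_mem hv))
    set u := v * e * v⁻¹ * e⁻¹
    have huE : u ∈ E := by
      rcases h.invol_mem hcT (by have := hVe.2 u hcV; rwa [pow_two] at this) with f | f
      · exact f
      · refine hvswap'.le ⟨u, f, ?_⟩
        show v * u * v⁻¹ = u
        rw [comm_of_mem hVe.1 hv hcV, mul_inv_cancel_right]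
    simpa [u] using mul_mem huE he
  obtain ⟨hVE, hVE'⟩ : V ≤ E ∧ V ≤ E' := by
    have hgV : OffAmalgam.cj g V = V := OffAmalgam.cj_eq (hLV (hS'L hgS))
    rcases le_or_le_of_forall (X := V) (A := E) (B := E') (fun x hx =>
      h.invol_mem (hVT hx) (by have := hVe.2 x hx; rwa [pow_two] at this)) with e | e
    · exact ⟨e, hgV.ge.trans ((OffAmalgam.cj_mono e).trans hgE.le)⟩
    · refine ⟨fun x hx => ?_, e⟩
      obtain ⟨y, hy, hyx⟩ := hgE.ge (e (hgV.le ⟨x, hx, rfl⟩))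
      rw [← (MulAut.conj g).injective hyx]; exact hy
  have hWV : wOf K ≤ V := hW
  have hVZ : V ≤ omegaCenterOf T' := (le_inf hVE hVE').trans h.inf_le_omega
  have hV4 : Nat.card V = 4 := by
    refine le_antisymm ((Subgroup.card_le_of_le hVZ).trans hZ4) ?_
    rw [← hK.card_w]; exact Subgroup.card_le_of_le hWV
  have eV : V = omegaCenterOf T' := Subgroup.eq_of_le_of_card_ge hVZ (hZ4.trans hV4.ge)
  -- `T'` is the centralizer of `V` in `S'`
  have hCV : (S' : Subgroup G) ⊓ Subgroup.centralizer (V : Set G) ≤ T' := by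
    obtain ⟨hc, -⟩ := c'.card_center hK'j
    rw [← eZ, ← eV, hV4] at hc
    obtain ⟨⟨x, hx⟩, hx1⟩ := Subgroup.ne_bot_iff_exists_ne_one.1
      (fun e : fix (thompsonSubgroupOf 2 T') K' = ⊥ => by rw [e, Subgroup.card_bot] at hc; omega)
    intro s hs
    refine hSL' ⟨hs.1, c'.centralizer_fix_le hK' hK'L hL' hKL' hx (fun e => hx1 (Subtype.ext e))
      (Subgroup.mem_centralizer_singleton_iff.2 ?_)⟩
    exact (hs.2 x (eV.ge (eZ.ge hx.1))).symm
  have hOT : pCoreOf 2 L ≤ T' := (le_inf hOS'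
    (Subgroup.le_centralizer_iff.1 (omegaCenterOf_le_centralizer _))).trans hCV
  have hTO : T' ≤ pCoreOf 2 L := by
    obtain ⟨T'', -, hs, -⟩ := exists_setup c.sol c.cent c.ne_bot hover
    intro t ht
    obtain ⟨n, hn⟩ := c'.isPGroup ⟨t, ht⟩
    have hn' : (⟨t, hT'L ht⟩ : L) ^ 2 ^ n = 1 := Subtype.ext (by simpa using congrArg Subtype.val hn)
    refine ⟨⟨t, hT'L ht⟩, hs.mem_pCore (fun v hv => Subtype.ext ?_) hn', rfl⟩
    have hvV : (v : G) ∈ V := by
      show (v : G) ∈ omegaCenterOf ((pCore 2 L).map L.subtype)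
      rw [← map_omegaCenterOf L.subtype_injective]
      exact ⟨v, hv, rfl⟩
    exact (omegaCenterOf_le_centralizer T' (eV.le hvV) t ht).symm
  have hLn : L ≤ Subgroup.normalizer (T' : Set G) := by
    rw [le_antisymm hTO hOT]; exact CfsgLib.LocalEven.le_normalizer_pCoreOf 2 L
  -- elements of odd order of `L` normalize `E`
  have hodd : ∀ k ∈ L, Odd (orderOf k) → k ∈ L' := by
    intro k hk ho
    apply hNE
    have h2 : OffAmalgam.cj (k * k) E = E := by
      rw [← OffAmalgam.cj_cj]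
      rcases hswap k (hLn hk) with e | e
      · rw [e, e]
      · rw [e]
        have hle : OffAmalgam.cj k E' ≤ T' :=
          (OffAmalgam.cj_mono inf_le_left).trans (OffAmalgam.cj_eq (hLn hk)).le
        have he := OffAmalgam.cj_ea (g := k) hE'
        have hcard : Nat.card E' = Nat.card E := by rw [← hgE, OffAmalgam.card_cj]
        rcases le_or_le_of_forall (X := OffAmalgam.cj k E') (A := E) (B := E') (fun x hx =>
          h.invol_mem (hle hx) (by have := he.2 x hx; rwa [pow_two] at this)) with f | f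
        · exact Subgroup.eq_of_le_of_card_ge f (by rw [OffAmalgam.card_cj, hcard])
        · have f' := Subgroup.eq_of_le_of_card_ge f (OffAmalgam.card_cj _ _).ge
          have : E = E' := by
            have := congrArg (OffAmalgam.cj k⁻¹) (e.trans f'.symm)
            rwa [OffAmalgam.cj_cancel', OffAmalgam.cj_cancel'] at this
          rw [f', this]
    obtain ⟨m, hm⟩ := ho
    have e : k = (k * k) ^ (m + 1) := by
      calc k = k * k ^ orderOf k := by rw [pow_orderOf_eq_one, mul_one]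
        _ = (k * k) ^ (m + 1) := by rw [hm, ← pow_two, ← pow_mul, ← pow_succ']; ring_nf
    rw [e]
    exact pow_mem (OffAmalgam.mem_normalizer_of_cj_eq h2) _
  have hKT : K ≤ T' := by
    conv_lhs => rw [← hK.gen, oddGen]
    rw [Subgroup.closure_le]
    intro k hk
    have hk' : k ∈ ((T' ⊔ K' : Subgroup G) : Set G) := by
      rw [sup_comm, ← eL']; exact hodd k (hKle hk.1) hk.2
    rw [Subgroup.coe_mul_of_left_le_normalizer_right _ _ d.T_norm] at hk'
    obtain ⟨t, ht, k', hk'', rfl⟩ := hk'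
    refine mul_mem ht ?_
    by_contra hkT
    refine d.not_T_normal hk'' (fun e => hkT (d.pCoreK_le e)) ?_
    simpa using mul_mem (inv_mem (Subgroup.le_normalizer ht)) (hLn (hKle hk.1))
  have h1 : K ≤ ⊥ := by
    conv_lhs => rw [← hK.gen, oddGen]
    refine (Subgroup.closure_le _).2 fun x hx => ?_
    exact mem_of_ppow (ppow_of_isPGroup c'.isPGroup ⊥) (hKT hx.1) hx.2
  exact hK.wOf_ne_bot (by rw [le_bot_iff.1 h1, wOf, Subgroup.commutator_bot_right])

/-- In the Sylow case a normalizing element or a component lies outside `L`. -/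
theorem top_sep {K L : Subgroup G} (hK : IsComp (thompsonSubgroupOf 2 T) K) (hKM : ¬ K ≤ M)
    (hL : IsMaximalTwoLocal L) (hKL : K ⊔ thompsonSubgroupOf 2 T ≤ L) (hTL : T ≤ L)
    {S : Sylow 2 G} (hTS : T = S) :
    (∃ g ∈ Subgroup.normalizer (thompsonSubgroupOf 2 T : Set G), g ∉ L) ∨
      ∃ K₂, IsJComponent T K₂ ∧ ¬ K₂ ≤ L := by
  by_cases hg : ∃ g ∈ Subgroup.normalizer (thompsonSubgroupOf 2 T : Set G), g ∉ L
  · exact Or.inl hg
  have hmax := (c.sep hK hKM hL hKL hTL hTS).resolve_left hg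
  push Not at hg
  have c₂ : Ctx L T := ⟨c.char2, c.sol, c.cent, c.core, hL.1, ⟨S, hTS ▸ hg⟩, hmax⟩
  obtain ⟨K₂, L₂, hK₂, hK₂L, hL₂, hKL₂, -⟩ := c₂.exists_comp
  exact Or.inr ⟨K₂, c₂.isJComponent hK₂ hK₂L hL₂.1 hKL₂, hK₂L⟩

/-- `T` fixes `Ω₁(Z(J(T)))`. -/
theorem fix_center {K L : Subgroup G} (hK : IsComp (thompsonSubgroupOf 2 T) K)
    (hKM : ¬ K ≤ M) (hL : IsMaximalTwoLocal L) (hKL : K ⊔ thompsonSubgroupOf 2 T ≤ L)
    (hTL : T ≤ L) : T ≤ Subgroup.centralizer (omegaCenterOf (thompsonSubgroupOf 2 T) : Set G) ∧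
      Nat.card ↥(omegaCenterOf T) ≤ 4 := by
  obtain ⟨S, hTS⟩ := c.isPGroup.exists_le_sylow
  by_cases hne : T = S
  · obtain ⟨e, hc⟩ := c.top_case hK hKM hL hKL hTL hne (c.top_sep hK hKM hL hKL hTL hne)
    rw [← hne] at e
    refine ⟨?_, by rw [e]; rcases hc with h | h <;> rw [h]; norm_num⟩
    rw [← e]
    exact Subgroup.le_centralizer_iff.1 (omegaCenterOf_le_centralizer T)
  · exact ⟨(c.fix_center_proper hK hKM hL hKL hTL hTS hne).1,
      (c.fix_center_proper hK hKM hL hKL hTL hTS hne).2.2⟩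

theorem dat {K L : Subgroup G} (hK : IsComp (thompsonSubgroupOf 2 T) K)
    (hKM : ¬ K ≤ M) (hL : IsMaximalTwoLocal L) (hKL : K ⊔ thompsonSubgroupOf 2 T ≤ L)
    (hTL : T ≤ L) : Dat M T K L :=
  ⟨c, hK, hKM, hL, hKL, hTL, (c.fix_center hK hKM hL hKL hTL).1⟩

end Ctx

/-- A second maximal `2`-local subgroup over a component and `T`. -/
theorem Dat.exists_second {M T K L : Subgroup G} (d : Dat M T K L) :
    ∃ M₂ K₂ L₂, Dat M₂ T K₂ L₂ ∧ L ≠ L₂ := by
  obtain ⟨S, hTS⟩ := d.c.isPGroup.exists_le_sylow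
  by_cases hne : T = S
  swap
  · obtain ⟨g, hgN, -, hgL⟩ := d.c.exists_normalizer_not_mem d.sylow hTS hne
    exact ⟨M, _, _, d.conj hgN, d.conj_ne hgL⟩
  have hsep := d.c.top_sep d.hK d.hKM d.hL d.hKL d.hTL hne
  by_cases hg : ∃ g ∈ Subgroup.normalizer (thompsonSubgroupOf 2 T : Set G), g ∉ L
  · obtain ⟨g, hgJ, hgL⟩ := hg
    refine ⟨M, _, _, d.conj (g := g) ?_, d.conj_ne hgL⟩
    obtain ⟨e, -⟩ := d.c.top_case d.hK d.hKM d.hL d.hKL d.hTL hne hsep
    have hgZ : g ∈ Subgroup.normalizer (omegaCenterOf (S : Subgroup G) : Set G) :=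
      e ▸ normalizer_le_normalizer_omegaCenterOf _ hgJ
    have h1 : (S : Subgroup G) ≤ Subgroup.centralizer (omegaCenterOf (S : Subgroup G) : Set G) :=
      Subgroup.le_centralizer_iff.1 (omegaCenterOf_le_centralizer _)
    have h2 : OffAmalgam.cj g S ≤ Subgroup.normalizer ((S : Subgroup G) : Set G) := by
      refine (OffAmalgam.cj_le_centralizer h1).trans ?_
      rw [OffAmalgam.cj_eq hgZ]
      exact d.c.cent S
    rw [hne]
    refine OffAmalgam.mem_normalizer_of_cj_eq ?_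
    have hp : IsPGroup 2 (OffAmalgam.cj g (S : Subgroup G)) := S.2.map (MulAut.conj g).toMonoidHom
    have hsup : IsPGroup 2 ((S : Subgroup G) ⊔ OffAmalgam.cj g (S : Subgroup G) : Subgroup G) :=
      S.2.to_sup_of_normal_left' hp h2
    have h3 : (S : Subgroup G) ⊔ OffAmalgam.cj g (S : Subgroup G) = (S : Subgroup G) :=
      S.is_maximal' hsup le_sup_left
    exact Subgroup.eq_of_le_of_card_ge (sup_eq_left.1 h3) (OffAmalgam.card_cj _ _).ge
  · have hmax := (d.c.sep d.hK d.hKM d.hL d.hKL d.hTL hne).resolve_left hg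
    push Not at hg
    have c₂ : Ctx L T :=
      ⟨d.c.char2, d.c.sol, d.c.cent, d.c.core, d.hL.1, ⟨S, hne ▸ hg⟩, hmax⟩
    obtain ⟨K₂, L₂, hK₂, hK₂L, hL₂, hKL₂, hTL₂⟩ := c₂.exists_comp
    exact ⟨L, K₂, L₂, c₂.dat hK₂ hK₂L hL₂ hKL₂ hTL₂,
      fun e => hK₂L (e ▸ le_sup_left.trans hKL₂)⟩

end CfsgLib.LocalEven.JComp
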