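import Cfsg.Agent.Lib.LocalEven.JCompPair
import Cfsg.Agent.Lib.Small.DihedralRecog

/-!
A maximal `2`-local subgroup with elementary abelian core of order four or eight.
-/

set_option autoImplicit false
set_option linter.style.haveILetI false
set_option linter.unusedSectionVars false

namespace CfsgLib.LocalEven.JComp

open Cfsg CfsgLib.PLocal
open scoped commutatorElement

variable {G : Type*} [Group G] [Finite G]

theorem equiv_four_of_centralizer {H W : Subgroup G} (h24 : Nat.card H = 24) (hW : Nat.card W = 4)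
    (hWe : IsElementaryAbelian 2 W) (hWH : W ≤ H) (hn : H ≤ Subgroup.normalizer (W : Set G))
    (hC : H ⊓ Subgroup.centralizer (W : Set G) ≤ W) : Nonempty (↥H ≃* Equiv.Perm (Fin 4)) := by
  haveI : (W.subgroupOf H).Normal := Subgroup.normal_subgroupOf_of_le_normalizer hn
  refine CfsgLib.Small.equiv_perm_four h24 (W.subgroupOf H)
    ((CfsgLib.Base.card_subgroupOf hWH).trans hW) ?_ ?_
  · rintro ⟨w, hwH⟩ hw ⟨g, hgH⟩ hg3 hgw
    by_contra hw1
    have hgw' : g * w = w * g := congrArg Subtype.val hgw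
    have hg : g ^ 3 = 1 := congrArg Subtype.val (hg3 ▸ pow_orderOf_eq_one (⟨g, hgH⟩ : H) :
      (⟨g, hgH⟩ : H) ^ 3 = 1)
    have hw1' : w ≠ 1 := fun e => hw1 (Subtype.ext e)
    have hw' : w ∈ W := hw
    have hww : w * w = 1 := by have := hWe.2 w hw'; rwa [pow_two] at this
    have hgC : g ∈ Subgroup.centralizer (W : Set G) := by
      intro v hv
      rcases OffAmalgam.four_values hW hWe hw' hw1' (hn hgH) hgw' hv with e | e
      · exact (mul_inv_eq_iff_eq_mul.1 e).symm
      have e2 : g * (g * v * g⁻¹) * g⁻¹ = v := by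
        rw [e, ← conj_mul, e, mul_inv_eq_iff_eq_mul.2 hgw', mul_assoc, hww, mul_one]
      have e3 : g * v * g⁻¹ = v := by
        calc g * v * g⁻¹ = g * (g ^ 3 * v * (g ^ 3)⁻¹) * g⁻¹ := by rw [hg]; group
          _ = g * (g * (g * (g * v * g⁻¹) * g⁻¹) * g⁻¹) * 1 * g⁻¹ := by simp [pow_succ, mul_assoc]
          _ = g * (g * (g * (g * v * g⁻¹) * g⁻¹) * g⁻¹) * g⁻¹ := by rw [mul_one]
          _ = v := by rw [e2, e2]
      exact (mul_inv_eq_iff_eq_mul.1 e3).symm
    have hgW := hC ⟨hgH, hgC⟩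
    have hgg : g * g = 1 := by have := hWe.2 g hgW; rwa [pow_two] at this
    have hg1 : g = 1 := by rw [pow_succ, pow_two, hgg, one_mul] at hg; exact hg
    rw [show (⟨g, hgH⟩ : H) = 1 from Subtype.ext hg1, orderOf_one] at hg3
    omega
  · intro g hg
    exact Subgroup.mem_subgroupOf.2 (hC ⟨g.2, fun v hv =>
      congrArg Subtype.val (hg ⟨v, hWH hv⟩ hv)⟩)

theorem Dat.shape {M T K L : Subgroup G} (d : Dat M T K L)
    (he : IsElementaryAbelian 2 (T ⊓ Subgroup.centralizer (wOf K : Set G) : Subgroup G))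
    (hle : Nat.card ↥(T ⊓ Subgroup.centralizer (wOf K : Set G)) ≤ 2 * Nat.card ↥(omegaCenterOf T))
    (h4 : Nat.card ↥(omegaCenterOf T) ≤ 4) :
    (Nat.card T = 8 ∧ Nonempty (↥L ≃* Equiv.Perm (Fin 4))) ∨
      (Nat.card T = 16 ∧ Nonempty (↥L ≃* Equiv.Perm (Fin 4) × Multiplicative (ZMod 2))) := by
  classical
  haveI : Fact (Nat.Prime 3) := ⟨Nat.prime_three⟩
  set W := wOf K
  set Q := T ⊓ Subgroup.centralizer (W : Set G)
  obtain ⟨z, y₀, -, -, -, -, -, s⟩ := d.exists_side
  have h8 : Nat.card Q ≤ 8 := by omega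
  obtain ⟨eL, -⟩ := d.eq_sup he h8
  have hTQ : Nat.card T = 2 * Nat.card Q := by
    refine le_antisymm ((s.card_le (le_refl T)).trans
      (Nat.mul_le_mul_left _ (Subgroup.card_le_of_le inf_le_right))) ?_
    exact OffAmalgam.two_mul_le_of_lt (lt_of_le_of_ne (inf_le_left : Q ≤ T) fun e => s.lt e.ge)
  have hQ4 : Nat.card Q = 4 ∨ Nat.card Q = 8 := by
    obtain ⟨n, hn⟩ := IsPGroup.iff_card.1 (d.c.isPGroup.to_le (inf_le_left : Q ≤ T))
    have h1 : 4 ≤ Nat.card Q := s.card_w ▸ Subgroup.card_le_of_le s.wq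
    rw [hn] at h1 h8 ⊢
    rcases Nat.lt_or_ge n 4 with h | h
    · interval_cases n <;> simp_all
    · have : 2 ^ 4 ≤ 2 ^ n := Nat.pow_le_pow_right two_pos h
      omega
  have hL : Nat.card L = 3 * Nat.card T := by rw [eL, d.card_sup]
  rcases hQ4 with hQ | hQ
  · refine Or.inl ⟨by omega, equiv_four_of_centralizer (by omega) s.card_w s.w2
      (d.w_le_K.trans d.K_le) ?_ ?_⟩
    · rw [eL]; exact sup_le d.hK.le_normalizer_w d.T_norm_w
    · have eW : W = Q := Subgroup.eq_of_le_of_card_ge s.wq (by rw [hQ, s.card_w])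
      intro g hg
      have hg' := d.centralizer_core
      rw [d.pCore_sup] at hg'
      show g ∈ W
      rw [eW]
      exact hg' (Subgroup.centralizer_le (fun v hv => eW.ge hv) hg.2)
  refine Or.inr ⟨by omega, ?_⟩
  set Q₀ := pCoreOf 2 K
  have hQ₀K : Q₀ ≤ K := CfsgLib.LocalEven.pCoreOf_le 2 K
  have hQ₀W : Q₀ ≤ Subgroup.centralizer (W : Set G) := Subgroup.le_centralizer_iff.1
    ((wOf_le K).trans (omegaCenterOf_le_centralizer _))
  have hWQ₀ : W ≤ Q₀ := (wOf_le K).trans (omegaCenterOf_le _)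
  have hKn : K ≤ Subgroup.normalizer (Q₀ : Set G) := CfsgLib.LocalEven.le_normalizer_pCoreOf 2 K
  have hQ3 : Q₀.relIndex K = 3 := d.hK.index
  have hK3 : 3 ∣ Nat.card K := by
    have := Subgroup.relIndex_mul_relIndex ⊥ Q₀ K bot_le hQ₀K
    simp only [Subgroup.relIndex_bot_left, hQ3] at this
    exact ⟨Nat.card Q₀, this.symm.trans (mul_comm _ _)⟩
  obtain ⟨⟨y, hy⟩, hy3⟩ := exists_prime_orderOf_dvd_card' (G := K) 3 hK3
  have hyo : orderOf y = 3 := by rw [← hy3, Subgroup.orderOf_mk]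
  have hy0 : y ∉ Q₀ := fun h => by
    obtain ⟨n, hn⟩ := CfsgLib.LocalEven.isPGroup_pCoreOf (p := 2) K ⟨y, h⟩
    have : orderOf y ∣ 2 ^ n := orderOf_dvd_of_pow_eq_one (congrArg Subtype.val hn)
    rw [hyo] at this
    exact absurd (Nat.prime_three.dvd_of_dvd_pow this) (by norm_num)
  set R := Subgroup.zpowers y
  have hyW : y ∈ Subgroup.normalizer (W : Set G) := d.hK.le_normalizer_w hy
  have hyQ : y ∈ Subgroup.normalizer (Q : Set G) := d.Q_norm (Subgroup.mem_sup_left hy)
  have hQ₀Q : Q₀ ≤ Q := le_inf d.pCoreK_le hQ₀W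
  have hRW : R ≤ Subgroup.normalizer (W : Set G) := Subgroup.zpowers_le.2 hyW
  have hH₀ : Q₀ ≤ Subgroup.normalizer ((W ⊔ R : Subgroup G) : Set G) := by
    intro q hq
    have hqW : W ≤ (W ⊔ R).comap (MulAut.conj q).toMonoidHom := fun w hw => by
      show q * w * q⁻¹ ∈ W ⊔ R
      rw [mul_inv_eq_iff_eq_mul.2 ((hQ₀W hq) w hw).symm]
      exact Subgroup.mem_sup_left hw
    have hm : q * (y * q * y⁻¹) ∈ W := by
      have hqq : q * q = 1 := by have := he.2 q (hQ₀Q hq); rwa [pow_two] at this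
      have hyq : y * q * y⁻¹ ∈ Q := (Subgroup.mem_normalizer_iff.1 hyQ q).1 (hQ₀Q hq)
      by_cases hqW' : q ∈ W
      · exact mul_mem hqW' ((Subgroup.mem_normalizer_iff.1 hyW q).1 hqW')
      · exact mul_mem_of_half s.wq (by rw [hQ, s.card_w]) (hQ₀Q hq) hqW' hyq
          fun h => hqW' ((Subgroup.mem_normalizer_iff.1 hyW q).2 h)
    have hqR : R ≤ (W ⊔ R).comap (MulAut.conj q).toMonoidHom := Subgroup.zpowers_le.2 (by
      show q * y * q⁻¹ ∈ W ⊔ R
      have hqinv : q⁻¹ = q := inv_eq_of_mul_eq_one_right (by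
        have := he.2 q (hQ₀Q hq); rwa [pow_two] at this)
      rw [show q * y * q⁻¹ = q * (y * q * y⁻¹) * y by rw [hqinv]; group]
      exact mul_mem (Subgroup.mem_sup_left hm) (Subgroup.mem_sup_right (Subgroup.mem_zpowers y)))
    exact mem_normalizer_of_forall fun x hx => sup_le hqW hqR hx
  have hKle : K ≤ W ⊔ R := by
    have hsub : K ≤ Q₀ ⊔ (W ⊔ R) := fun k hk => by
      have hyR : y ∈ Q₀ ⊔ (W ⊔ R) :=
        Subgroup.mem_sup_right (Subgroup.mem_sup_right (Subgroup.mem_zpowers y))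
      rcases index_three_cases hQ₀K d.hK.index hKn hy hy0 hk with e | e | e
      · exact Subgroup.mem_sup_left e
      · simpa using mul_mem (Subgroup.mem_sup_left e : k * y ∈ Q₀ ⊔ (W ⊔ R)) (inv_mem hyR)
      · simpa using mul_mem (Subgroup.mem_sup_left e : k * y⁻¹ ∈ Q₀ ⊔ (W ⊔ R)) hyR
    conv_lhs => rw [← d.hK.gen, oddGen]
    exact (Subgroup.closure_le _).2 fun x hx =>
      mem_of_odd_sup (CfsgLib.LocalEven.isPGroup_pCoreOf K) hH₀ (hsub hx.1) hx.2
  have hR : Nat.card R = 3 := by rw [Nat.card_zpowers, hyo]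
  have hKcard : Nat.card K ≤ 12 := by
    have h1 := CfsgLib.Coprime.card_sup_mul_card_inf (H := R) (N := W) hRW
    rw [s.card_w, hR, sup_comm] at h1
    refine (Subgroup.card_le_of_le hKle).trans ((Nat.le_mul_of_pos_right _ Nat.card_pos).trans h1.le)
  have eQ₀ : Q₀ = W := by
    refine (Subgroup.eq_of_le_of_card_ge hWQ₀ ?_).symm
    have := Subgroup.relIndex_mul_relIndex ⊥ Q₀ K bot_le hQ₀K
    simp only [Subgroup.relIndex_bot_left, hQ3] at this
    rw [s.card_w]
    omega
  have hK12 : Nat.card K = 12 := by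
    have := Subgroup.relIndex_mul_relIndex ⊥ Q₀ K bot_le hQ₀K
    simp only [Subgroup.relIndex_bot_left, hQ3] at this
    rw [eQ₀, s.card_w] at this
    omega
  have hKT : K ⊓ T = W := d.inf_T.trans eQ₀
  obtain ⟨A, hA, hAQ⟩ := d.exists_off
  obtain ⟨a, ha, haQ⟩ := SetLike.not_le_iff_exists.1 hAQ
  have haT : a ∈ T := hA.1 ha
  have haa : a * a = 1 := by have := hA.2.1.2 a ha; rwa [pow_two] at this
  have haC : a ∉ Subgroup.centralizer (W : Set G) := fun h => haQ ⟨haT, h⟩
  have haK : a ∉ K := fun h => haQ (s.wq (hKT.le ⟨h, haT⟩))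
  set A₁ := Subgroup.zpowers a
  have hA₁ : ∀ b ∈ A₁, b = 1 ∨ b = a := by
    rintro b ⟨i, rfl⟩
    rcases Int.even_or_odd i with ⟨m, rfl⟩ | ⟨m, rfl⟩
    · left
      show a ^ (m + m) = 1
      rw [← two_mul, zpow_mul, zpow_two, haa, one_zpow]
    · right
      show a ^ (2 * m + 1) = a
      rw [zpow_add_one, zpow_mul, zpow_two, haa, one_zpow, one_mul]
  have hA₁n : A₁ ≤ Subgroup.normalizer (K : Set G) := Subgroup.zpowers_le.2 (d.T_norm haT)
  set H := A₁ ⊔ K
  have hHmem : ∀ g ∈ H, ∃ k ∈ K, g = k ∨ g = a * k := by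
    intro g hg
    have hg' : g ∈ ((A₁ ⊔ K : Subgroup G) : Set G) := hg
    rw [Subgroup.coe_mul_of_left_le_normalizer_right _ _ hA₁n] at hg'
    obtain ⟨b, hb, k, hk, rfl⟩ := hg'
    rcases hA₁ b hb with rfl | rfl
    · exact ⟨k, hk, Or.inl (one_mul k)⟩
    · exact ⟨k, hk, Or.inr rfl⟩
  have hH24 : Nat.card H = 24 := by
    have h1 := CfsgLib.Coprime.card_sup_mul_card_inf (H := A₁) (N := K) hA₁n
    have hi : A₁ ⊓ K = ⊥ := eq_bot_iff.2 fun b hb => by
      rcases hA₁ b hb.1 with rfl | rfl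
      · exact one_mem _
      · exact absurd hb.2 haK
    rw [hi, Subgroup.card_bot, mul_one, Nat.card_zpowers, hK12,
      orderOf_eq_prime (by rw [pow_two, haa]) (fun e => haK (by rw [e]; exact one_mem _))] at h1
    exact h1
  have hHL : H ≤ L := sup_le (Subgroup.zpowers_le.2 (d.hTL haT)) d.K_le
  have hHn : H ≤ Subgroup.normalizer (W : Set G) :=
    sup_le (Subgroup.zpowers_le.2 (s.wT haT)) d.hK.le_normalizer_w
  have hHC : H ⊓ Subgroup.centralizer (W : Set G) ≤ W := by
    rintro g ⟨hg, hgC⟩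
    obtain ⟨k, hk, e | e⟩ := hHmem g hg
    · rw [e] at hgC ⊢
      exact eQ₀.le (mem_core_of_centralizer d.hK.toIsPre hk hgC)
    exfalso
    rw [e] at hgC
    have hkz : k * z = z * k := by
      calc k * z = a⁻¹ * (a * k * z) := by group
        _ = a⁻¹ * (z * (a * k)) := by rw [← hgC z s.z_mem]
        _ = a⁻¹ * (a * z) * k := by rw [s.z_fix a haT]; group
        _ = z * k := by group
    have hkW : k ∈ W := by
      rw [← eQ₀]
      rcases index_three_cases hQ₀K d.hK.index hKn hy hy0 hk with f | f | f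
      · exact f
      all_goals
        exfalso
        have hyC : y ∈ Subgroup.centralizer {z} := by
          have hk' : k ∈ Subgroup.centralizer {z} := Subgroup.mem_centralizer_singleton_iff.2 hkz
          have hq : _ ∈ Subgroup.centralizer {z} :=
            Subgroup.mem_centralizer_singleton_iff.2 ((hQ₀W f) z s.z_mem).symm
          first
          | simpa using mul_mem (inv_mem hk') hq
          | simpa using mul_mem (inv_mem hq) hk'
        have hKz : K ≤ Subgroup.centralizer {z} := fun g hg => by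
          have hQz : ∀ q ∈ Q₀, q ∈ Subgroup.centralizer {z} := fun q hq =>
            Subgroup.mem_centralizer_singleton_iff.2 ((hQ₀W hq) z s.z_mem).symm
          rcases index_three_cases hQ₀K d.hK.index hKn hy hy0 hg with u | u | u
          · exact hQz _ u
          · simpa using mul_mem (hQz _ u) (inv_mem hyC)
          · simpa using mul_mem (hQz _ u) hyC
        exact s.z_ne (Subgroup.mem_bot.1 (d.hK.inf_centralizer_w ▸
          (⟨s.z_mem, fun g hg => Subgroup.mem_centralizer_singleton_iff.1 (hKz hg)⟩ :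
            z ∈ W ⊓ Subgroup.centralizer (K : Set G))))
    have hcW : k ∈ Subgroup.centralizer (W : Set G) := fun v hv => comm_of_mem s.w2.1 hv hkW
    refine haC ?_
    have := mul_mem hgC ((Subgroup.centralizer (W : Set G)).inv_mem hcW)
    simpa using this
  obtain ⟨e⟩ := equiv_four_of_centralizer hH24 s.card_w s.w2 (d.w_le_K.trans le_sup_right) hHn hHC
  obtain ⟨hc, -⟩ := d.c.card_center d.isJ
  obtain ⟨⟨x, hx⟩, hx1⟩ := Subgroup.ne_bot_iff_exists_ne_one.1
    (fun e : fix (thompsonSubgroupOf 2 T) K = ⊥ => by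
      rw [e, Subgroup.card_bot] at hc
      have := Subgroup.card_le_of_le (omegaCenter_le (T := T))
      omega)
  have hxK : ∀ k ∈ K, k * x = x * k := hx.2
  have hxT : x ∈ T := thompsonSubgroupOf_le 2 T (omegaCenterOf_le _ hx.1)
  have hxW : x ∈ Subgroup.centralizer (W : Set G) := fun v hv => hxK v (d.w_le_K hv)
  have hxH : x ∉ H := by
    intro h
    obtain ⟨k, hk, e | e⟩ := hHmem x h
    · have hxW' : x ∈ W := hKT.le ⟨e ▸ hk, hxT⟩
      exact hx1 (Subtype.ext (Subgroup.mem_bot.1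
        (d.hK.inf_centralizer_w ▸ (⟨hxW', hx.2⟩ : x ∈ W ⊓ Subgroup.centralizer (K : Set G)))))
    · have hkT : k ∈ T := by
        have : k = a⁻¹ * x := by rw [e]; group
        rw [this]; exact mul_mem (inv_mem haT) hxT
      refine haC ?_
      have hkC : k ∈ Subgroup.centralizer (W : Set G) :=
        fun v hv => comm_of_mem s.w2.1 hv (hKT.le ⟨hk, hkT⟩)
      have := mul_mem hxW ((Subgroup.centralizer (W : Set G)).inv_mem hkC)
      rw [e] at this
      simpa using this
  have hxx : x ^ 2 = 1 := (isElementaryAbelian_omegaCenterOf _).2 x hx.1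
  have hxL : Subgroup.zpowers x ≤ L := Subgroup.zpowers_le.2 (d.hTL hxT)
  have hxc : ∀ g ∈ L, g * x = x * g := by
    have : L ≤ Subgroup.centralizer {x} := by
      rw [eL]
      exact sup_le (fun k hk => Subgroup.mem_centralizer_singleton_iff.2 (hxK k hk))
        (fun t ht => Subgroup.mem_centralizer_singleton_iff.2 ((d.hTZ ht) x hx.1).symm)
    exact fun g hg => Subgroup.mem_centralizer_singleton_iff.1 (this hg)
  let f : ↥H × ↥(Subgroup.zpowers x) →* ↥L :=
    MonoidHom.noncommCoprod (Subgroup.inclusion hHL) (Subgroup.inclusion hxL) fun g u => by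
      obtain ⟨u, i, rfl⟩ := u
      exact Subtype.ext ((Commute.zpow_right (hxc g (hHL g.2)) i).eq)
  have hx2 : Nat.card (Subgroup.zpowers x) = 2 := by
    rw [Nat.card_zpowers, orderOf_eq_prime hxx fun e => hx1 (Subtype.ext e)]
  have hf : Function.Injective f := by
    rw [injective_iff_map_eq_one]
    rintro ⟨g, u⟩ h
    have h' : (g : G) * u = 1 := congrArg Subtype.val h
    have hu : (u : G) = 1 := by
      by_contra hu
      have : (u : G) = x := eq_of_card_eq_two hx2 u.2 hu (Subgroup.mem_zpowers x)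
        fun e => hx1 (Subtype.ext e)
      rw [this] at h'
      exact hxH ((eq_inv_of_mul_eq_one_right h').symm ▸ H.inv_mem g.2)
    rw [hu, mul_one] at h'
    exact Prod.ext (Subtype.ext h') (Subtype.ext hu)
  have hbij : Function.Bijective f := hf.bijective_of_nat_card_le (by
    rw [Nat.card_prod, hH24, hx2]; omega)
  have e₂ : ↥(Subgroup.zpowers x) ≃* Multiplicative (ZMod 2) :=
    mulEquivOfCyclicCardEq (by rw [hx2]; simp)
  exact ⟨(MulEquiv.ofBijective f hbij).symm.trans (MulEquiv.prodCongr e e₂)⟩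

end CfsgLib.LocalEven.JComp
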