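import Cfsg.Agent.Lib.LocalEven.JCompLocal
import Cfsg.Agent.Lib.LocalEven.SubnormalSylow

/-!
A subnormal component has its four-group normalized by the Thompson subgroup.
-/

set_option autoImplicit false
set_option linter.style.haveILetI false
set_option linter.unusedSectionVars false

namespace CfsgLib.LocalEven.JComp

open Cfsg CfsgLib.PLocal
open scoped commutatorElement

universe u

variable {X : Type u} [Group X] [Finite X]

/-- A subnormal subgroup generated by elements of odd order is normalized by `O₂`. -/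
theorem le_normalizer_of_subnormal {K P : Subgroup X} (hK : K.IsSubnormal) (hgen : oddGen K = K)
    [P.Normal] (hP : IsPGroup 2 P) : P ≤ Subgroup.normalizer (K : Set X) := by
  set Y := P ⊔ K
  have hKY : K ≤ Y := le_sup_right
  have hidx : ∃ k, (K.subgroupOf Y).index = 2 ^ k := by
    obtain ⟨n, hn⟩ := IsPGroup.iff_card.1 hP
    have h1 := CfsgLib.Coprime.card_sup_mul_card_inf (H := K) (N := P) Subgroup.le_normalizer_of_normal
    rw [sup_comm K P] at h1
    have h2 := Subgroup.relIndex_mul_relIndex ⊥ K Y bot_le hKY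
    simp only [Subgroup.relIndex_bot_left] at h2
    rw [← h2, mul_assoc] at h1
    have h3 := Nat.eq_of_mul_eq_mul_left Nat.card_pos h1
    have hd : K.relIndex Y ∣ 2 ^ n := hn ▸ h3 ▸ dvd_mul_right _ _
    obtain ⟨j, -, hj⟩ := (Nat.dvd_prime_pow Nat.prime_two).1 hd
    exact ⟨j, hj⟩
  have hodd : oddGen Y ≤ K := (Subgroup.closure_le _).2 fun x hx =>
    SubSyl.mem_of_subnormal_of_index (p := 2) (hK.subgroupOf (K := Y)) hidx (g := ⟨x, hx.1⟩)
      (by rw [Subgroup.orderOf_mk]; exact Nat.coprime_two_right.2 hx.2)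
  have e : oddGen Y = K := le_antisymm hodd (hgen.ge.trans (Subgroup.closure_mono
    fun x hx => ⟨hKY hx.1, hx.2⟩))
  intro p hp
  have hpY : p ∈ Subgroup.normalizer (Y : Set X) := Subgroup.le_normalizer (Subgroup.mem_sup_left hp)
  rw [Subgroup.mem_normalizer_iff_map_conj_eq] at hpY ⊢
  rw [← e, map_oddGen (MulAut.conj p).injective, hpY]

/-- The normal closure of the four-group of a subnormal component. -/
theorem w_closure_le {K : Subgroup X} (hK : IsPre K) (hsn : K.IsSubnormal) :
    wOf K ≤ Om X ∧ ⁅Om X, K⁆ = wOf K ∧ pCoreOf 2 K ≤ pCore 2 X := by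
  set P := pCore 2 X
  have hP2 : IsPGroup 2 P := CfsgLib.Base.isPGroup_pCore 2 X
  have hPK : P ≤ Subgroup.normalizer (K : Set X) := le_normalizer_of_subnormal hsn hK.gen hP2
  have hQP : pCoreOf 2 K ≤ P := CfsgLib.Base.map_pCore_le_of_isSubnormal hsn
  have hPKQ : ⁅P, K⁆ ≤ pCoreOf 2 K :=
    CfsgLib.LocalEven.le_pCoreOf (Subgroup.le_normalizer_iff_commutator_le_right.1 hPK)
      (Subgroup.normalizer_commutator_ge_right _ _) (hP2.to_le (Subgroup.commutator_le_left _ _))
  have hc : ⁅P, K⁆ ≤ Subgroup.centralizer (wOf K : Set X) :=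
    hPKQ.trans (Subgroup.le_centralizer_iff.1 ((wOf_le K).trans (omegaCenterOf_le_centralizer _)))
  have hW : wOf K ≤ Om X := fun w hw => mem_omegaOne
    ⟨hQP ((wOf_le K).trans (omegaCenterOf_le _) hw),
      fun x hx => ((hK.le_centralizer_w hP2 hPK hc hx) w hw).symm⟩
    (by rw [pow_two]; exact hK.sq w hw)
  refine ⟨hW, le_antisymm ?_ ?_, hQP⟩
  · rw [← commutator_commutator_eq hK.gen (isElementaryAbelian_omegaCenterOf _)
      Subgroup.le_normalizer_of_normal]
    refine Subgroup.commutator_mono ?_ le_rfl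
    intro v hv
    have hvQ : v ∈ pCoreOf 2 K := hPKQ ((Subgroup.commutator_mono (omegaCenterOf_le _) le_rfl) hv)
    have hvO : v ∈ Om X := Subgroup.le_normalizer_iff_commutator_le_left.1 Subgroup.le_normalizer_of_normal hv
    exact mem_omegaOne ⟨hvQ, fun x hx => omegaCenterOf_le_centralizer _ hvO x (hQP hx)⟩
      ((isElementaryAbelian_omegaCenterOf _).2 v hvO)
  · exact hK.wOf_comm.ge.trans (Subgroup.commutator_mono hW le_rfl)

/-- `J(T)` normalizes the four-group of a subnormal component. -/
theorem thompson_le_normalizer_w [Group.IsSolvable X] (T : Sylow 2 X) {K : Subgroup X}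
    (hK : IsPre K) (hsn : K.IsSubnormal) :
    thompsonSubgroupOf 2 (T : Subgroup X) ≤ Subgroup.normalizer (wOf K : Set X) := by
  classical
  obtain ⟨hWO, hWc, hQP⟩ := w_closure_le hK hsn
  set W := wOf K with hWdef
  set V := Subgroup.normalClosure (W : Set X)
  have hWV : W ≤ V := Subgroup.le_normalClosure
  have hVO : V ≤ Om X := Subgroup.normalClosure_le_normal hWO
  have hVe : IsElementaryAbelian 2 V :=
    isElementaryAbelian_of_le (isElementaryAbelian_omegaCenterOf _) hVO
  have hVK : ⁅V, K⁆ = W := le_antisymm (hWc ▸ Subgroup.commutator_mono hVO le_rfl)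
    (hK.wOf_comm.ge.trans (Subgroup.commutator_mono hWV le_rfl))
  set π := toHol V with hπ
  set C := Subgroup.centralizer (V : Set X) with hC
  haveI hCn : C.Normal := by rw [hC, ← ker_toHol]; infer_instance
  -- the image of `K`
  have hKQ : ∀ x ∈ pCoreOf 2 K, x ∈ C := fun x hx =>
    Subgroup.le_centralizer_iff.1 (hVO.trans (omegaCenterOf_le_centralizer _)) (hQP hx)
  have hK3 : ∀ x ∈ K, x ^ 3 ∈ C := by
    intro x hx
    apply hKQ
    haveI : ((pCoreOf 2 K).subgroupOf K).Normal :=
      Subgroup.normal_subgroupOf_of_le_normalizer (CfsgLib.LocalEven.le_normalizer_pCoreOf 2 K)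
    have h3 : (⟨x, hx⟩ : K) ^ ((pCoreOf 2 K).subgroupOf K).index ∈ (pCoreOf 2 K).subgroupOf K :=
      Subgroup.pow_index_mem _ _
    rw [show ((pCoreOf 2 K).subgroupOf K).index = 3 from hK.index] at h3
    exact h3
  set R := π.range with hR
  set KR := (K.map π).subgroupOf R with hKR
  have hKsnR : KR.IsSubnormal := by
    have e : KR = K.map π.rangeRestrict := by
      ext y
      constructor
      · rintro ⟨x, hx, hxy⟩
        exact ⟨x, hx, Subtype.ext hxy⟩
      · rintro ⟨x, hx, rfl⟩
        exact ⟨x, hx, rfl⟩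
    rw [e]
    exact hsn.map π.rangeRestrict_surjective
  have hK3R : IsPGroup 3 (K.map π) := by
    rintro ⟨_, x, hx, rfl⟩
    refine ⟨1, Subtype.ext ?_⟩
    have := hK3 x hx
    rw [hC, ← ker_toHol, MonoidHom.mem_ker] at this
    simpa [← map_pow] using this
  -- the kernel has trivial `O₂`
  have hO : pCore 2 (X ⧸ C) = ⊥ := by
    set N := (pCore 2 (X ⧸ C)).comap (QuotientGroup.mk' C)
    haveI hN : N.Normal := Subgroup.Normal.comap inferInstance _
    suffices hNC : N ≤ C by
      rw [← CfsgLib.Base.map_mk'_comap C (pCore 2 (X ⧸ C))]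
      exact CfsgLib.Base.map_mk'_eq_bot_iff.2 hNC
    have hN2 : IsPGroup 2 (N.map π) := by
      rintro ⟨_, n, hn, rfl⟩
      obtain ⟨k, hk⟩ := CfsgLib.Base.isPGroup_pCore 2 (X ⧸ C) ⟨_, hn⟩
      refine ⟨k, Subtype.ext ?_⟩
      have h2 : n ^ 2 ^ k ∈ C := by
        rw [← QuotientGroup.eq_one_iff (N := C), QuotientGroup.mk_pow]
        exact congrArg Subtype.val hk
      rw [hC, ← ker_toHol, MonoidHom.mem_ker] at h2
      simpa [← map_pow] using h2
    have hgenR : oddGen KR = KR := by
      refine le_antisymm (oddGen_le _) ?_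
      intro y hy
      obtain ⟨x, hx, hxy⟩ := hy
      rcases (Nat.dvd_prime Nat.prime_three).1 (orderOf_dvd_of_pow_eq_one (show y ^ 3 = 1 from
        Subtype.ext (by
          have := hK3 x hx
          rw [hC, ← ker_toHol, MonoidHom.mem_ker, map_pow] at this
          rw [SubmonoidClass.coe_pow, ← show π x = (y : Hol V) from hxy]
          simpa using this))) with h | h
      · rw [orderOf_eq_one_iff.1 h]; exact one_mem _
      · exact mem_oddGen ⟨x, hx, hxy⟩ (by rw [h]; decide)
    haveI : ((N.map π).subgroupOf R).Normal := Subgroup.normal_subgroupOf_of_le_normalizer (by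
      rw [hR, MonoidHom.range_eq_map]
      exact (Subgroup.map_mono (Subgroup.le_normalizer_of_normal (H := N))).trans
        (Subgroup.le_normalizer_map _))
    have hnK := le_normalizer_of_subnormal (P := (N.map π).subgroupOf R) hKsnR hgenR hN2.comap_subtype
    have hcomm : ⁅N, K⁆ ≤ C := by
      rw [Subgroup.commutator_le]
      intro n hn x hx
      rw [hC, ← ker_toHol, MonoidHom.mem_ker, map_commutatorElement]
      have hm1 : ⁅π n, π x⁆ ∈ K.map π := by
        rw [commutatorElement_def]
        refine mul_mem ?_ (inv_mem (Subgroup.mem_map_of_mem π hx))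
        exact (Subgroup.mem_normalizer_iff.1 (hnK (show (⟨π n, n, rfl⟩ : R) ∈ _ from
          Subgroup.mem_map_of_mem π hn)) ⟨π x, x, rfl⟩).1 (Subgroup.mem_map_of_mem π hx)
      have hm2 : ⁅π n, π x⁆ ∈ N.map π := by
        rw [← map_commutatorElement]
        refine Subgroup.mem_map_of_mem π ?_
        rw [commutatorElement_def, mul_assoc, mul_assoc]
        refine mul_mem hn ?_
        rw [← mul_assoc]
        exact hN.conj_mem _ (inv_mem hn) x
      have hbot : K.map π ⊓ N.map π = ⊥ := IsPGroup.disjoint_of_ne 3 2 (by norm_num) _ _ hK3R hN2 |>.eq_bot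
      have := hbot.le ⟨hm1, hm2⟩
      rwa [Subgroup.mem_bot] at this
    -- `N` centralizes `W`
    have hNW : N ≤ Subgroup.normalizer (W : Set X) := by
      intro n hn
      refine Subgroup.mem_normalizer_iff_map_conj_eq.2 (Subgroup.eq_of_le_of_card_ge ?_
        (Nat.card_congr (Subgroup.equivMapOfInjective _ _ (MulAut.conj n).injective).toEquiv).le)
      rw [← hVK, Subgroup.map_commutator]
      rw [Subgroup.commutator_le]
      rintro _ ⟨v, hv, rfl⟩ _ ⟨x, hx, rfl⟩
      show ⁅n * v * n⁻¹, n * x * n⁻¹⁆ ∈ ⁅V, K⁆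
      have hv' : n * v * n⁻¹ ∈ V := (inferInstance : V.Normal).conj_mem v hv n
      have hc : ⁅n, x⁆ ∈ C := hcomm (Subgroup.commutator_mem_commutator hn hx)
      rw [show n * x * n⁻¹ = ⁅n, x⁆ * x by simp only [commutatorElement_def]; group]
      set u := n * v * n⁻¹
      have h1 : ⁅u, ⁅n, x⁆⁆ = 1 := commutatorElement_eq_one_iff_mul_comm.2 (hc u hv')
      have hxu : ⁅u, x⁆ ∈ V := Subgroup.le_normalizer_iff_commutator_le_left.1
        (Subgroup.le_normalizer_of_normal (K := K)) (Subgroup.commutator_mem_commutator hv' hx)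
      rw [show ⁅u, ⁅n, x⁆ * x⁆ = ⁅u, ⁅n, x⁆⁆ * (⁅n, x⁆ * ⁅u, x⁆ * ⁅n, x⁆⁻¹) by
        simp only [commutatorElement_def]; group, h1, one_mul, ← hc _ hxu, mul_inv_cancel_right]
      exact Subgroup.commutator_mem_commutator hv' hx
    have hNC : N ≤ Subgroup.centralizer (W : Set X) := by
      set U := W ⊓ Subgroup.centralizer (N : Set X)
      have hUK : K ≤ Subgroup.normalizer (U : Set X) :=
        (le_inf hK.le_normalizer_w ((Subgroup.le_normalizer_of_normal (H := N)).trans
          (CfsgLib.LocalEven.normalizer_le_normalizer_centralizer _))).trans (normalizer_inf_le _ _)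
      by_cases hU : U = ⊥
      · exfalso
        -- a `2`-group fixes a nonidentity element of `W`
        have hWbar : IsPGroup 2 ((W.subgroupOf V).map (SemidirectProduct.inl : ↥V →* Hol V)) :=
          ((isPGroup_of_isElementaryAbelian (isElementaryAbelian_of_le hVe hWV)).comap_subtype :
            IsPGroup 2 (W.subgroupOf V)).map _
        set Wb := (W.subgroupOf V).map (SemidirectProduct.inl : ↥V →* Hol V)
        have hnorm : N.map π ≤ Subgroup.normalizer (Wb : Set (Hol V)) := by
          rintro _ ⟨n, hn, rfl⟩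
          refine CfsgLib.LocalEven.mem_normalizer_of_conj (Subgroup.eq_of_le_of_card_ge ?_
            (Nat.card_congr (Subgroup.equivMapOfInjective _ _ (MulAut.conj _).injective).toEquiv).le)
          rintro _ ⟨_, ⟨v, hv, rfl⟩, rfl⟩
          refine ⟨⟨n * v * n⁻¹, (inferInstance : V.Normal).conj_mem v v.2 n⟩, ?_, (toHol_conj n v).symm⟩
          exact (Subgroup.mem_normalizer_iff.1 (hNW hn) v).1 hv
        set S := N.map π ⊔ Wb
        have hS : IsPGroup 2 S := hN2.to_sup_of_normal_right' hWbar hnorm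
        haveI : (Wb.subgroupOf S).Normal :=
          Subgroup.normal_subgroupOf_of_le_normalizer (sup_le hnorm Subgroup.le_normalizer)
        obtain ⟨⟨⟨z, hzS⟩, hzW, hzc⟩, hz1⟩ := Subgroup.ne_bot_iff_exists_ne_one.1
          (CfsgLib.PGroups.inf_center_ne_bot hS (N := Wb.subgroupOf S) (fun e => hK.wOf_ne_bot (by
            have h0 : Wb = ⊥ := by
              rw [← Subgroup.map_subgroupOf_eq_of_le (le_sup_right : Wb ≤ S), e, Subgroup.map_bot]
            rw [Subgroup.map_eq_bot_iff_of_injective _ SemidirectProduct.inl_injective] at h0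
            rw [← hWdef, ← Subgroup.map_subgroupOf_eq_of_le hWV, h0, Subgroup.map_bot])))
        obtain ⟨v, hv, hvz⟩ := hzW
        have hvU : (v : X) ∈ U := ⟨hv, fun n hn => (inl_comm_iff n v).1 (by
          have hh := congrArg Subtype.val (Subgroup.mem_center_iff.1 hzc ⟨π n,
            Subgroup.mem_sup_left (Subgroup.mem_map_of_mem π hn)⟩)
          simp only [Subgroup.coe_mul] at hh
          rw [hvz]; exact hh)⟩
        rw [hU, Subgroup.mem_bot] at hvU
        have hv1 : v = 1 := Subtype.ext hvU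
        rw [hv1, map_one] at hvz
        exact hz1 (Subtype.ext (Subtype.ext hvz.symm))
      · exact Subgroup.le_centralizer_iff.1
          ((hK.eq_w_of_invariant inf_le_left hU hUK).ge.trans inf_le_right)
    refine Subgroup.le_centralizer_iff.1 ?_
    haveI : (Subgroup.centralizer (N : Set X)).Normal := Subgroup.normalizer_eq_top_iff.1
      (top_le_iff.1 ((Subgroup.normalizer_eq_top_iff.2 hN).ge.trans
        (CfsgLib.LocalEven.normalizer_le_normalizer_centralizer _)))
    exact Subgroup.normalClosure_le_normal (Subgroup.le_centralizer_iff.1 hNC)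
  have hff := ffGroup_top isPSolvable_of_isSolvable hVe hO
  rw [thompsonSubgroupOf_eq_sSup]
  refine sSup_le fun A hA => ?_
  have hAm : A ∈ maxElementaryAbelianSubgroups 2 X := mem_max_of_mem_maxEAOf_sylow T hA
  have hAH : A.map π ≤ (thompsonSubgroup 2 X).map π := Subgroup.map_mono (le_thompsonSubgroup hAm)
  obtain ⟨k, F, hF, -, hsup⟩ := hff.1.decomposition hAH
    (isBestOffenderOn_map (isBestOffenderOn_of_max hVe le_top hAm))
  suffices h : A.map π ≤ Subgroup.normalizer
      ((⁅holBase V, K.map π⁆ : Subgroup (Hol V)) : Set (Hol V)) by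
    intro a ha
    have h1 := Subgroup.mem_normalizer_iff_map_conj_eq.1 (h (Subgroup.mem_map_of_mem π ha))
    refine CfsgLib.LocalEven.mem_normalizer_of_conj (Subgroup.eq_of_le_of_card_ge ?_
      (Nat.card_congr (Subgroup.equivMapOfInjective _ _ (MulAut.conj a).injective).toEquiv).le)
    rintro _ ⟨w, hw, rfl⟩
    show a * w * a⁻¹ ∈ W
    have hwV := hWV hw
    have hm : (SemidirectProduct.inl ⟨w, hwV⟩ : Hol V) ∈ ⁅holBase V, K.map π⁆ := by
      rw [commutator_holBase, hVK]; exact Subgroup.mem_map_of_mem _ hw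
    have h2 : π a * SemidirectProduct.inl ⟨w, hwV⟩ * (π a)⁻¹ ∈ ⁅holBase V, K.map π⁆ :=
      h1.le (Subgroup.mem_map_of_mem _ hm)
    rw [hπ, toHol_conj, commutator_holBase, hVK] at h2
    obtain ⟨u, hu, hue⟩ := h2
    have hue' : (u : X) = a * w * a⁻¹ :=
      congrArg Subtype.val (SemidirectProduct.inl_injective hue)
    rw [← hue']; exact hu
  rw [← hsup]
  refine iSup_le fun i => ?_
  obtain ⟨hc, hle, ho⟩ := hF i
  have hFV : F i ≤ Subgroup.normalizer (holBase V : Set (Hol V)) :=
    (hle.trans hAH).trans hff.1.le_norm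
  have htr := IsTransvectionGroup.of_isOff hFV hc ho
  intro b hb
  by_cases hb1 : b = 1
  · subst hb1; exact one_mem _
  have hbz : Subgroup.zpowers b = F i := Subgroup.eq_of_le_of_card_ge (Subgroup.zpowers_le.2 hb) (by
    rw [hc, Nat.card_zpowers]
    have h1 : orderOf b ≠ 1 := fun e => hb1 (orderOf_eq_one_iff.1 e)
    have := orderOf_pos b
    omega)
  have hcard : Nat.card ↥⁅holBase V, K.map π⁆ = 4 := by
    rw [commutator_holBase, hVK, Subgroup.card_map_of_injective SemidirectProduct.inl_injective,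
      CfsgLib.Base.card_subgroupOf hWV]
    exact hK.card_w
  have hcomm : ⁅⁅holBase V, K.map π⁆, K.map π⁆ = ⁅holBase V, K.map π⁆ := by
    refine le_antisymm (Subgroup.commutator_mono ?_ le_rfl) ?_
    · exact Subgroup.le_normalizer_iff_commutator_le_left.1
        ((Subgroup.map_le_range _ _).trans range_le_normalizer)
    · rw [commutator_holBase, hVK, Subgroup.map_le_iff_le_comap]
      intro v hv
      rw [Subgroup.mem_comap]
      have hv' : (v : X) ∈ ⁅W, K⁆ := hK.wOf_comm.ge hv
      -- transport a commutator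
      suffices hs : ⁅W, K⁆ ≤ ((⁅(W.subgroupOf V).map (SemidirectProduct.inl : ↥V →* Hol V),
          K.map π⁆).comap (SemidirectProduct.inl : ↥V →* Hol V)).map V.subtype by
        obtain ⟨u, hu, huv⟩ := hs hv'
        rw [← Subtype.ext huv]; exact hu
      rw [Subgroup.commutator_le]
      intro w hw x hx
      refine ⟨⟨⁅w, x⁆, comm_mem_of_mem_normalizer
        (Subgroup.le_normalizer_of_normal (Subgroup.mem_top x)) (hWV hw)⟩, ?_, rfl⟩
      rw [SetLike.mem_coe, Subgroup.mem_comap, ← inl_commutator x ⟨w, hWV hw⟩]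
      exact Subgroup.commutator_mem_commutator (Subgroup.mem_map_of_mem _ hw)
        (Subgroup.mem_map_of_mem π hx)
  refine mem_normalizer_of_transvection (isElementaryAbelian_holBase hVe)
    ((Subgroup.map_le_range _ _).trans range_le_normalizer) (hFV hb) hcard hcomm
    (by rw [hbz]; exact (htr.card_commutator (isElementaryAbelian_holBase hVe)).1) ?_
  -- both images lie in `O₃` of the range
  obtain ⟨g, -, hg⟩ := hle hb
  have hbig : IsPGroup 3 ((pCore 3 R).map R.subtype) := (CfsgLib.Base.isPGroup_pCore 3 R).map _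
  haveI : Fact (Nat.Prime 3) := ⟨Nat.prime_three⟩
  refine hbig.to_le (sup_le ?_ ?_)
  · have := CfsgLib.Base.le_pCore_of_isSubnormal (p := 3) hKsnR hK3R.comap_subtype
    rw [← Subgroup.map_subgroupOf_eq_of_le (Subgroup.map_le_range π K)]
    exact Subgroup.map_mono this
  · rintro _ ⟨y, hy, rfl⟩
    have := CfsgLib.Base.le_pCore_of_isSubnormal (p := 3) hKsnR hK3R.comap_subtype
      (show (⟨y, Subgroup.map_le_range π K hy⟩ : R) ∈ KR from hy)
    refine ⟨⟨b, g, hg⟩ * ⟨y, Subgroup.map_le_range π K hy⟩ * ⟨b, g, hg⟩⁻¹, ?_, rfl⟩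
    exact (inferInstance : (pCore 3 R).Normal).conj_mem _ this _

end CfsgLib.LocalEven.JComp
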