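import Cfsg.Agent.Lib.LocalEven.JCompZN
import Cfsg.Agent.Lib.LocalEven.JCompExist

/-!
Maximal `2`-subgroups of `M` inside `2`-local subgroups outside `M`.
-/

set_option autoImplicit false
set_option linter.style.haveILetI false
set_option linter.unusedSectionVars false

namespace CfsgLib.LocalEven.JComp

open Cfsg CfsgLib.PLocal
open scoped commutatorElement

variable {G : Type*} [Group G] [Finite G]

theorem maxElemAbelianOrder_eq {T A : Subgroup G} (hA : A ∈ maxEAOf 2 T) :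
    maxElemAbelianOrder T = Nat.card A := by
  refine IsGreatest.csSup_eq ⟨⟨A.subgroupOf T, subgroupOf_mem_max hA,
    CfsgLib.Base.card_subgroupOf hA.1⟩, ?_⟩
  rintro _ ⟨B, hB, rfl⟩
  have h := map_subtype_mem_maxEAOf hB
  show Nat.card B ≤ Nat.card A
  rw [← CfsgLib.Base.card_map_subtype B]
  exact hA.2.2 _ h.1 h.2.1

theorem thompsonSubgroupOf_ne_bot {T : Subgroup G} (hT : IsPGroup 2 T) (h1 : T ≠ ⊥) :
    thompsonSubgroupOf 2 T ≠ ⊥ := by
  intro e
  obtain ⟨A, hA⟩ := maxEAOf_nonempty 2 T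
  have hAb : A = ⊥ := le_bot_iff.1 (e ▸ le_thompsonSubgroupOf hA)
  obtain ⟨n, hn⟩ := IsPGroup.iff_card.1 hT
  have hn0 : n ≠ 0 := fun h => h1 (Subgroup.card_eq_one.1 (by rw [hn, h, pow_zero]))
  obtain ⟨t, ht⟩ := exists_prime_orderOf_dvd_card' (G := T) 2 (hn ▸ dvd_pow_self 2 hn0)
  have ho : orderOf (t : G) = 2 := by rw [Subgroup.orderOf_coe, ht]
  have hz : IsElementaryAbelian 2 (Subgroup.zpowers (t : G)) := by
    refine ⟨inferInstance, fun x hx => ?_⟩
    obtain ⟨i, rfl⟩ := hx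
    show ((t : G) ^ i) ^ 2 = 1
    rw [← zpow_natCast ((t : G) ^ i) 2, ← zpow_mul, mul_comm, zpow_mul, zpow_natCast, ← ho,
      pow_orderOf_eq_one, one_zpow]
  have := hA.2.2 _ (Subgroup.zpowers_le.2 t.2) hz
  rw [Nat.card_zpowers, ho, hAb, Subgroup.card_bot] at this
  omega

variable {M T : Subgroup G}

theorem straddle_growth (hT : T ∈ maxStraddlingTwoSubgroups M) {U : Subgroup G}
    (hU : U ∈ straddlingTwoSubgroups M) (hJU : thompsonSubgroupOf 2 T ≤ U) :
    thompsonSubgroupOf 2 U = thompsonSubgroupOf 2 T ∧ Nat.card U ≤ Nat.card T := by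
  obtain ⟨A, hA⟩ := maxEAOf_nonempty 2 T
  obtain ⟨B, hB⟩ := maxEAOf_nonempty 2 U
  obtain ⟨h1, h2⟩ := hT.2 U hU
  rw [maxElemAbelianOrder_eq hA, maxElemAbelianOrder_eq hB] at h1 h2
  have hsub : ∀ C ∈ maxEAOf 2 T, C ∈ maxEAOf 2 U := fun C hC =>
    ⟨(le_thompsonSubgroupOf hC).trans hJU, hC.2.1, fun D hD hDe =>
      (hB.2.2 D hD hDe).trans (h1.trans (hC.2.2 A hA.1 hA.2.1))⟩
  have e : Nat.card B = Nat.card A :=
    le_antisymm h1 (hB.2.2 A ((le_thompsonSubgroupOf hA).trans hJU) hA.2.1)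
  obtain ⟨h3, h4⟩ := h2 e
  have hle : thompsonSubgroupOf 2 T ≤ thompsonSubgroupOf 2 U := by
    rw [thompsonSubgroupOf_eq_sSup]
    exact sSup_le fun C hC => le_thompsonSubgroupOf (hsub C hC)
  have he := (Subgroup.eq_of_le_of_card_ge hle h3).symm
  exact ⟨he, h4 (by rw [he])⟩

theorem normalizer_thompson_le {S : Sylow 2 G}
    (hMJ : Subgroup.normalizer (thompsonSubgroupOf 2 (S : Subgroup G) : Set G) ≤ M)
    (hT : T ∈ maxStraddlingTwoSubgroups M) :
    Subgroup.normalizer (thompsonSubgroupOf 2 T : Set G) ≤ M := by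
  by_contra hnot
  obtain ⟨hT2, hT1, hTM, -⟩ := hT.1
  set J := thompsonSubgroupOf 2 T
  set N := Subgroup.normalizer (J : Set G)
  have hTN : Subgroup.normalizer (T : Set G) ≤ N :=
    CfsgLib.Transfer.normalizer_le_normalizer_thompsonSubgroupOf _
  have hmax : ∀ R : Subgroup G, IsPGroup 2 R → T ≤ R → R ≤ M → R ≤ N → R = T := by
    intro R hR hTR hRM hRN
    have hRs : R ∈ straddlingTwoSubgroups M := ⟨hR, fun e => hT1 (le_bot_iff.1 (e ▸ hTR)), hRM,
      N, ⟨J, hT2.to_le (thompsonSubgroupOf_le 2 T), thompsonSubgroupOf_ne_bot hT2 hT1, rfl⟩, hRN,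
      hnot⟩
    exact (Subgroup.eq_of_le_of_card_ge hTR
      (straddle_growth hT hRs ((thompsonSubgroupOf_le 2 T).trans hTR)).2).symm
  obtain ⟨R, hR⟩ := (hT2.comap_subtype : IsPGroup 2 (T.subgroupOf M)).exists_le_sylow
  set R' := (R : Subgroup M).map M.subtype
  have hTR : T ≤ R' := by
    rw [← Subgroup.map_subgroupOf_eq_of_le hTM]; exact Subgroup.map_mono hR
  have hRT : R' = T := by
    by_contra hne
    have hlt : T < R' := lt_of_le_of_ne hTR fun e => hne e.symm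
    have hlt' : T.subgroupOf R' < ⊤ :=
      lt_top_iff_ne_top.2 fun h => hlt.not_ge (Subgroup.subgroupOf_eq_top.1 h)
    obtain ⟨x, hx, hxT⟩ := SetLike.exists_of_lt (CfsgLib.PGroups.lt_normalizer (R.2.map M.subtype) hlt')
    rw [← Subgroup.subgroupOf_normalizer_eq hTR] at hx
    have h1 := hmax ((Subgroup.normalizer (T : Set G)) ⊓ R') ((R.2.map M.subtype).to_le inf_le_right)
      (le_inf Subgroup.le_normalizer hTR) (inf_le_right.trans (Subgroup.map_subtype_le _))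
      (inf_le_left.trans hTN)
    exact hxT (h1.le (Subgroup.mem_inf.2 ⟨hx, x.2⟩))
  have hSM : (S : Subgroup G) ≤ M :=
    (Subgroup.le_normalizer.trans (CfsgLib.Transfer.normalizer_le_normalizer_thompsonSubgroupOf _)).trans hMJ
  obtain ⟨R₂, hR₂⟩ := (S.2.comap_subtype : IsPGroup 2 ((S : Subgroup G).subgroupOf M)).exists_le_sylow
  obtain ⟨g, hg⟩ := MulAction.exists_smul_eq M R₂ R
  have hSg : (S : Subgroup G).map (MulAut.conj (g : G)).toMonoidHom ≤ T := by
    rintro _ ⟨x, hx, rfl⟩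
    rw [← hRT]
    refine ⟨g * ⟨x, hSM hx⟩ * g⁻¹, ?_, rfl⟩
    rw [← hg, Sylow.coe_subgroup_smul, ← CfsgLib.Base.map_conj_eq_smul]
    exact ⟨⟨x, hSM hx⟩, hR₂ hx, rfl⟩
  obtain ⟨S1, hS1⟩ := hT2.exists_le_sylow
  have e : (S : Subgroup G).map (MulAut.conj (g : G)).toMonoidHom = T := by
    refine Subgroup.eq_of_le_of_card_ge hSg ((Subgroup.card_le_of_le hS1).trans ?_)
    rw [Subgroup.card_map_of_injective (MulAut.conj (g : G)).injective, S.card_eq_multiplicity,
      S1.card_eq_multiplicity]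
  apply hnot
  intro x hx
  have hJ : J = (thompsonSubgroupOf 2 (S : Subgroup G)).map (MulAut.conj (g : G)).toMonoidHom := by
    rw [map_thompsonSubgroupOf (MulAut.conj (g : G)).injective, e]
  have h1 : (g : G)⁻¹ * x * g ∈ Subgroup.normalizer (thompsonSubgroupOf 2 (S : Subgroup G) : Set G) := by
    rw [Subgroup.mem_normalizer_iff_map_conj_eq]
    have h2 : J.map (MulAut.conj x).toMonoidHom = J := Subgroup.mem_normalizer_iff_map_conj_eq.1 hx
    rw [hJ, Subgroup.map_map] at h2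
    have h3 := congrArg (fun X : Subgroup G => X.map (MulAut.conj (g : G)⁻¹).toMonoidHom) h2
    simp only [Subgroup.map_map] at h3
    have e1 : ((MulAut.conj (g : G)⁻¹).toMonoidHom.comp ((MulAut.conj x).toMonoidHom.comp
        (MulAut.conj (g : G)).toMonoidHom)) = (MulAut.conj ((g : G)⁻¹ * x * g)).toMonoidHom := by
      ext y; simp [mul_assoc]
    have e2 : ((MulAut.conj (g : G)⁻¹).toMonoidHom.comp (MulAut.conj (g : G)).toMonoidHom) =
        MonoidHom.id G := by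
      ext y; simp [mul_assoc]
    rw [e1, e2, Subgroup.map_id] at h3
    exact h3
  have := mul_mem (mul_mem g.2 (hMJ h1)) (inv_mem g.2)
  simpa [mul_assoc] using this

/-- A Sylow subgroup containing `J(T)` of a `2`-local subgroup outside `M`. -/
theorem straddle_sylow {S : Sylow 2 G} (hL : IsCharacteristicTwoType G)
    (hMJ : Subgroup.normalizer (thompsonSubgroupOf 2 (S : Subgroup G) : Set G) ≤ M)
    (hT : T ∈ maxStraddlingTwoSubgroups M) {L : Subgroup G} (hL2 : IsTwoLocal L) (hLM : ¬ L ≤ M)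
    {T₀ : Subgroup G} (hT₀ : IsSylowTwoIn T₀ L) (hJT₀ : thompsonSubgroupOf 2 T ≤ T₀) :
    thompsonSubgroupOf 2 T₀ = thompsonSubgroupOf 2 T ∧ T₀ ∈ straddlingTwoSubgroups M ∧
      L ∈ jOvergroups T₀ ∧ Nat.card T₀ ≤ Nat.card T := by
  obtain ⟨hT2, hT1, hTM, -⟩ := hT.1
  set J := thompsonSubgroupOf 2 T
  have hJ1 : J ≠ ⊥ := thompsonSubgroupOf_ne_bot hT2 hT1
  have hNJ := normalizer_thompson_le hMJ hT
  have hJU : J ≤ T₀ ⊓ M := le_inf hJT₀ ((thompsonSubgroupOf_le 2 T).trans hTM)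
  have hUs : T₀ ⊓ M ∈ straddlingTwoSubgroups M := ⟨hT₀.2.1.to_le inf_le_left,
    fun e => hJ1 (le_bot_iff.1 (e ▸ hJU)), inf_le_right, L, hL2, inf_le_left.trans hT₀.1, hLM⟩
  obtain ⟨hJe, -⟩ := straddle_growth hT hUs hJU
  have hT₀M : T₀ ≤ M := by
    by_contra hnot
    have hlt : (T₀ ⊓ M).subgroupOf T₀ < ⊤ := lt_top_iff_ne_top.2 fun h =>
      (inf_lt_left.2 hnot).not_ge (Subgroup.subgroupOf_eq_top.1 h)
    obtain ⟨x, hx, hxU⟩ := SetLike.exists_of_lt (CfsgLib.PGroups.lt_normalizer hT₀.2.1 hlt)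
    rw [← Subgroup.subgroupOf_normalizer_eq inf_le_left] at hx
    exact hxU ⟨x.2, hNJ (hJe ▸ CfsgLib.Transfer.normalizer_le_normalizer_thompsonSubgroupOf _ hx)⟩
  have hT₀s : T₀ ∈ straddlingTwoSubgroups M :=
    ⟨hT₀.2.1, fun e => hJ1 (le_bot_iff.1 (e ▸ hJT₀)), hT₀M, L, hL2, hT₀.1, hLM⟩
  obtain ⟨hJ0, hle⟩ := straddle_growth hT hT₀s hJT₀
  refine ⟨hJ0, hT₀s, ⟨hT₀, fun hJO => hLM ?_, ?_⟩, hle⟩
  · have hOT : pCoreOf 2 L ≤ T₀ := by
      obtain ⟨hle0, h20, hodd⟩ := hT₀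
      have hnd : ¬ 2 ∣ (T₀.subgroupOf L).index := fun h =>
        (Nat.not_even_iff_odd.2 hodd) (even_iff_two_dvd.2 h)
      set T' := (h20.comap_subtype : IsPGroup 2 (T₀.subgroupOf L)).toSylow hnd
      intro x hx
      obtain ⟨y, hy, rfl⟩ := hx
      exact CfsgLib.LocalEven.pCore_le_sylow T' hy
    have e : thompsonSubgroupOf 2 (pCoreOf 2 L) = J :=
      (thompsonSubgroupOf_eq_of_le hJO hOT).trans hJ0
    calc L ≤ Subgroup.normalizer (pCoreOf 2 L : Set G) := CfsgLib.LocalEven.le_normalizer_pCoreOf 2 L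
      _ ≤ Subgroup.normalizer (J : Set G) := e ▸ CfsgLib.Transfer.normalizer_le_normalizer_thompsonSubgroupOf _
      _ ≤ M := hNJ
  · obtain ⟨Q, hQ2, hQ1, rfl⟩ := hL2
    intro x hx
    have hQO : Q ≤ pCoreOf 2 (Subgroup.normalizer (Q : Set G)) :=
      CfsgLib.LocalEven.le_pCoreOf Subgroup.le_normalizer le_rfl hQ2
    exact (CfsgLib.LocalEven.charP_iff _).1 (hL.2 Q hQ2 hQ1)
      ⟨Subgroup.centralizer_le_normalizer _ (Subgroup.centralizer_le hQO hx), hx⟩

/-- There is a component outside `M` in every overgroup outside `M`. -/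
theorem exists_jComponent_not_le
    (hN : ∀ N : Subgroup G, IsTwoLocal N → Group.IsSolvable ↥N)
    (hZ : ∀ S : Sylow 2 G, Subgroup.centralizer (omegaCenterOf (S : Subgroup G) : Set G) ≤
      Subgroup.normalizer ((S : Subgroup G) : Set G))
    (hT1 : T ≠ ⊥) (hNJ : Subgroup.normalizer (thompsonSubgroupOf 2 T : Set G) ≤ M)
    {L : Subgroup G} (hLT : L ∈ jOvergroups T) (hLM : ¬ L ≤ M) :
    ∃ K, IsJComponent T K ∧ K ≤ L ∧ ¬ K ≤ M := by
  obtain ⟨T', hT', hs, hJ'⟩ := exists_setup hN hZ hT1 hLT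
  obtain ⟨K, hK, hKM⟩ := hs.exists_comp_not_le (M := M.subgroupOf L) (fun n hn => hNJ (by
    rw [Subgroup.mem_normalizer_iff_map_conj_eq] at hn ⊢
    have := congrArg (fun X : Subgroup L => X.map L.subtype) hn
    simp only [Subgroup.map_map] at this
    rw [show L.subtype.comp ((MulAut.conj n : L ≃* L) : L →* L) =
      ((MulAut.conj (n : G) : G ≃* G) : G →* G).comp L.subtype by ext; rfl, ← Subgroup.map_map, hJ'] at this
    exact this)) (fun e => hLM (Subgroup.subgroupOf_eq_top.1 e))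
  have hKG : IsComp (thompsonSubgroupOf 2 T) (K.map L.subtype) :=
    hJ' ▸ (isComp_map_iff L.subtype_injective _ K).2 hK
  refine ⟨K.map L.subtype, ⟨hKG.gen, hKG.comm, hKG.index, fun R hR hJR => ?_, hKG.card_w, hKG.sq⟩,
    Subgroup.map_subtype_le _, fun h => hKM fun x hx => h (Subgroup.mem_map_of_mem _ hx)⟩
  exact thompson_eq_of_le T' hT' hR.2.1 (hR.1.trans (sup_le (Subgroup.map_subtype_le _)
    ((thompsonSubgroupOf_le 2 T).trans hLT.1.1))) hJR

/-- A member of the maximal family is a Sylow subgroup of each overgroup outside `M`. -/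
theorem straddle_jOvergroups {S : Sylow 2 G} (hL : IsCharacteristicTwoType G)
    (hMJ : Subgroup.normalizer (thompsonSubgroupOf 2 (S : Subgroup G) : Set G) ≤ M)
    (hT : T ∈ maxStraddlingTwoSubgroups M) {L : Subgroup G} (hL2 : IsTwoLocal L) (hLM : ¬ L ≤ M)
    (hTL : T ≤ L) : L ∈ jOvergroups T := by
  obtain ⟨R, hR⟩ := (hT.1.1.comap_subtype : IsPGroup 2 (T.subgroupOf L)).exists_le_sylow
  set R' := (R : Subgroup L).map L.subtype
  have hTR : T ≤ R' := by
    rw [← Subgroup.map_subgroupOf_eq_of_le hTL]; exact Subgroup.map_mono hR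
  have hSyl : IsSylowTwoIn R' L := by
    refine ⟨Subgroup.map_subtype_le _, R.2.map _, ?_⟩
    rw [Subgroup.relIndex, Subgroup.subgroupOf, Subgroup.comap_map_eq_self_of_injective L.subtype_injective]
    exact Nat.not_even_iff_odd.1 fun h => R.not_dvd_index (even_iff_two_dvd.1 h)
  obtain ⟨-, -, h, hc⟩ :=
    straddle_sylow hL hMJ hT hL2 hLM hSyl ((thompsonSubgroupOf_le 2 T).trans hTR)
  rwa [← Subgroup.eq_of_le_of_card_ge hTR hc] at h

end CfsgLib.LocalEven.JComp
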