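import Cfsg.Agent.Lib.LocalEven.JCompStraddle

/-!
Each `J`-component outside `M` lies, together with `J(T)`, in a unique maximal `2`-local subgroup.
-/

set_option autoImplicit false
set_option linter.style.haveILetI false
set_option linter.unusedSectionVars false

namespace CfsgLib.LocalEven.JComp

open Cfsg CfsgLib.PLocal
open scoped commutatorElement

variable {G : Type*} [Group G] [Finite G]

/-- The standing hypotheses on a member `T` of the maximal straddling family of `M`. -/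
structure Ctx (M T : Subgroup G) : Prop where
  char2 : IsCharacteristicTwoType G
  sol : ∀ N : Subgroup G, IsTwoLocal N → Group.IsSolvable ↥N
  cent : ∀ S : Sylow 2 G, Subgroup.centralizer (omegaCenterOf (S : Subgroup G) : Set G) ≤
    Subgroup.normalizer ((S : Subgroup G) : Set G)
  core : pCore 2 G = ⊥
  hM : IsTwoLocal M
  hMJ : ∃ S : Sylow 2 G,
    Subgroup.normalizer (thompsonSubgroupOf 2 (S : Subgroup G) : Set G) ≤ M
  max : T ∈ maxStraddlingTwoSubgroups M

theorem conj_map_comp (g h : G) (X : Subgroup G) :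
    (X.map (MulAut.conj h).toMonoidHom).map (MulAut.conj g).toMonoidHom =
      X.map (MulAut.conj (g * h)).toMonoidHom := by
  rw [Subgroup.map_map]
  congr 1
  ext x
  simp [mul_assoc]

theorem exists_isSylowTwoIn {J L : Subgroup G} (hJ : IsPGroup 2 J) (hJL : J ≤ L) :
    ∃ S : Subgroup G, J ≤ S ∧ IsSylowTwoIn S L := by
  obtain ⟨R, hR⟩ := (hJ.comap_subtype : IsPGroup 2 (J.subgroupOf L)).exists_le_sylow
  refine ⟨(R : Subgroup L).map L.subtype, fun x hx => ⟨⟨x, hJL hx⟩, hR hx, rfl⟩,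
    Subgroup.map_subtype_le _, R.2.map _, ?_⟩
  rw [Subgroup.relIndex, Subgroup.subgroupOf, Subgroup.comap_map_eq_self_of_injective L.subtype_injective]
  exact Nat.not_even_iff_odd.1 fun h => R.not_dvd_index (even_iff_two_dvd.1 h)

theorem exists_maximalTwoLocal {N : Subgroup G} (hN : IsTwoLocal N) :
    ∃ L, IsMaximalTwoLocal L ∧ N ≤ L := by
  obtain ⟨L, hNL, hLmax⟩ := (Set.toFinite {L : Subgroup G | IsTwoLocal L}).exists_le_maximal
    (show N ∈ {L : Subgroup G | IsTwoLocal L} from hN)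
  exact ⟨L, ⟨hLmax.1, fun N' h1 h2 => le_antisymm (hLmax.2 h1 h2) h2⟩, hNL⟩

variable {M T : Subgroup G}

namespace Ctx

variable (c : Ctx M T)
include c

theorem isPGroup : IsPGroup 2 T := c.max.1.1

theorem ne_bot : T ≠ ⊥ := c.max.1.2.1

theorem le_M : T ≤ M := c.max.1.2.2.1

theorem isPGroup_J : IsPGroup 2 (thompsonSubgroupOf 2 T) :=
  c.isPGroup.to_le (thompsonSubgroupOf_le 2 T)

theorem J_ne_bot : thompsonSubgroupOf 2 T ≠ ⊥ := thompsonSubgroupOf_ne_bot c.isPGroup c.ne_bot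

theorem normalizer_J_le : Subgroup.normalizer (thompsonSubgroupOf 2 T : Set G) ≤ M := by
  obtain ⟨S, hS⟩ := c.hMJ
  exact normalizer_thompson_le hS c.max

theorem sylow_in {L T₀ : Subgroup G} (hL2 : IsTwoLocal L) (hLM : ¬ L ≤ M) (hT₀ : IsSylowTwoIn T₀ L)
    (hJ : thompsonSubgroupOf 2 T ≤ T₀) :
    thompsonSubgroupOf 2 T₀ = thompsonSubgroupOf 2 T ∧ T₀ ∈ straddlingTwoSubgroups M ∧
      L ∈ jOvergroups T₀ ∧ Nat.card T₀ ≤ Nat.card T := by
  obtain ⟨S, hS⟩ := c.hMJ
  exact straddle_sylow c.char2 hS c.max hL2 hLM hT₀ hJ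

theorem overgroup {L : Subgroup G} (hL2 : IsTwoLocal L) (hLM : ¬ L ≤ M) (hTL : T ≤ L) :
    L ∈ jOvergroups T := by
  obtain ⟨S, hS⟩ := c.hMJ
  exact straddle_jOvergroups c.char2 hS c.max hL2 hLM hTL

/-- Inside a `2`-local subgroup outside `M` the components are those of the local theory. -/
theorem exists_local {L : Subgroup G} (hL2 : IsTwoLocal L) (hLM : ¬ L ≤ M)
    (hJL : thompsonSubgroupOf 2 T ≤ L) :
    ∃ T' : Sylow 2 L, Setup T' ∧
      (thompsonSubgroupOf 2 (T' : Subgroup L)).map L.subtype = thompsonSubgroupOf 2 T := by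
  obtain ⟨T₀, hJT₀, hT₀⟩ := exists_isSylowTwoIn c.isPGroup_J hJL
  obtain ⟨he, -, hLT₀, -⟩ := c.sylow_in hL2 hLM hT₀ hJT₀
  obtain ⟨T', -, hs, hJ'⟩ := exists_setup c.sol c.cent
    (fun e => c.J_ne_bot (le_bot_iff.1 (e ▸ hJT₀))) hLT₀
  exact ⟨T', hs, hJ'.trans he⟩

/-- Components in a common `2`-local subgroup outside `M` normalize each other. -/
theorem comps_normalize {L : Subgroup G} (hL2 : IsTwoLocal L) (hLM : ¬ L ≤ M)
    (hJL : thompsonSubgroupOf 2 T ≤ L) {K K' : Subgroup G}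
    (hK : IsComp (thompsonSubgroupOf 2 T) K) (hKL : K ≤ L)
    (hK' : IsComp (thompsonSubgroupOf 2 T) K') (hKL' : K' ≤ L) :
    K ≤ Subgroup.normalizer (K' : Set G) := by
  obtain ⟨T', hs, hJ'⟩ := c.exists_local hL2 hLM hJL
  intro k hk
  have h1 := hs.comp_le (isComp_subgroupOf hJ' hKL hK) (show (⟨k, hKL hk⟩ : L) ∈ K.subgroupOf L from hk)
  have h2 := Subgroup.mem_normalizer_iff.1 (hs.comp_normal (isComp_subgroupOf hJ' hKL' hK') h1)
  refine CfsgLib.LocalEven.mem_normalizer_of_conj (Subgroup.eq_of_le_of_card_ge ?_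
    (Nat.card_congr (Subgroup.equivMapOfInjective _ _ (MulAut.conj k).injective).toEquiv).le)
  rintro _ ⟨x, hx, rfl⟩
  exact (h2 ⟨x, hKL' hx⟩).1 hx

theorem isTwoLocal_normalizer_w {K : Subgroup G} (hK : IsComp (thompsonSubgroupOf 2 T) K) :
    IsTwoLocal (Subgroup.normalizer (wOf K : Set G)) :=
  ⟨wOf K, IsPGroup.of_card (n := 2) (by rw [hK.card_w]; norm_num), hK.wOf_ne_bot, rfl⟩

theorem J_le_normalizer_w {K : Subgroup G} (hK : IsComp (thompsonSubgroupOf 2 T) K) :
    thompsonSubgroupOf 2 T ≤ Subgroup.normalizer (wOf K : Set G) :=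
  hK.le_normalizer.trans (normalizer_le_normalizer_wOf K)

end Ctx

/-- The components inside a subgroup. -/
def compsIn (J L : Subgroup G) : Set (Subgroup G) := {K | IsComp J K ∧ K ≤ L}

/-- The subgroup generated by the components inside a subgroup. -/
def compsJoin (J L : Subgroup G) : Subgroup G := sSup (compsIn J L)

theorem le_normalizer_sSup_of_forall {g : G} {s : Set (Subgroup G)}
    (h : ∀ K ∈ s, K.map (MulAut.conj g).toMonoidHom ≤ sSup s) :
    g ∈ Subgroup.normalizer ((sSup s : Subgroup G) : Set G) := by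
  refine CfsgLib.LocalEven.mem_normalizer_of_conj (Subgroup.eq_of_le_of_card_ge ?_
    (Nat.card_congr (Subgroup.equivMapOfInjective _ _ (MulAut.conj g).injective).toEquiv).le)
  rw [Subgroup.map_le_iff_le_comap]
  exact sSup_le fun K hK => Subgroup.map_le_iff_le_comap.1 (h K hK)

namespace Ctx

variable (c : Ctx M T)
include c

/-- A `2`-local subgroup permutes its components. -/
theorem le_normalizer_compsJoin {L : Subgroup G} (hL2 : IsTwoLocal L) (hLM : ¬ L ≤ M)
    (hJL : thompsonSubgroupOf 2 T ≤ L) :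
    L ≤ Subgroup.normalizer (compsJoin (thompsonSubgroupOf 2 T) L : Set G) := by
  obtain ⟨T', hs, hJ'⟩ := c.exists_local hL2 hLM hJL
  intro g hg
  obtain ⟨d, hd, n, hn, e⟩ := exists_mul_normalizer T' ⟨g, hg⟩
  have hgdn : g = (d : G) * n := congrArg Subtype.val e
  have hnJ : (thompsonSubgroupOf 2 T).map (MulAut.conj (n : G)).toMonoidHom =
      thompsonSubgroupOf 2 T := by
    conv_lhs => rw [← hJ', Subgroup.map_map]
    rw [show (MulAut.conj (n : G)).toMonoidHom.comp L.subtype =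
      L.subtype.comp ((MulAut.conj n : L ≃* L) : L →* L) by ext; rfl, ← Subgroup.map_map]
    exact (congrArg (fun X : Subgroup L => X.map L.subtype)
      (Subgroup.mem_normalizer_iff_map_conj_eq.1 hn)).trans hJ'
  refine le_normalizer_sSup_of_forall fun K hK => ?_
  set K₁ := K.map (MulAut.conj (n : G)).toMonoidHom
  have hK₁ : K₁ ∈ compsIn (thompsonSubgroupOf 2 T) L := by
    refine ⟨?_, ?_⟩
    · have := hK.1.conj (n : G); rwa [hnJ] at this
    · rintro _ ⟨x, hx, rfl⟩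
      exact mul_mem (mul_mem n.2 (hK.2 hx)) (inv_mem n.2)
  have hdK : (K₁.map (MulAut.conj (d : G)).toMonoidHom) = K₁ := by
    have h2 := Subgroup.mem_normalizer_iff.1 (hs.comp_normal (isComp_subgroupOf hJ' hK₁.2 hK₁.1) hd)
    refine Subgroup.eq_of_le_of_card_ge ?_
      (Nat.card_congr (Subgroup.equivMapOfInjective _ _ (MulAut.conj (d : G)).injective).toEquiv).le
    rintro _ ⟨x, hx, rfl⟩
    exact (h2 ⟨x, hK₁.2 hx⟩).1 hx
  rw [hgdn, ← conj_map_comp, hdK]
  exact le_sSup hK₁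

/-- A maximal `2`-local subgroup over `KJ(T)` is the normalizer of the core of its components. -/
theorem eq_normalizer {L K : Subgroup G} (hLmax : IsMaximalTwoLocal L)
    (hK : IsComp (thompsonSubgroupOf 2 T) K) (hKM : ¬ K ≤ M)
    (hKL : K ⊔ thompsonSubgroupOf 2 T ≤ L) :
    Subgroup.normalizer
      (pCoreOf 2 (compsJoin (thompsonSubgroupOf 2 T) L) : Set G) = L := by
  set J := thompsonSubgroupOf 2 T
  have hLM : ¬ L ≤ M := fun h => hKM ((le_sup_left.trans hKL).trans h)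
  set E := compsJoin J L
  set Q := pCoreOf 2 E
  have hKE : K ≤ E := le_sSup (show K ∈ compsIn J L from ⟨hK, le_sup_left.trans hKL⟩)
  have hQK : pCoreOf 2 K ≤ Q := by
    refine CfsgLib.LocalEven.le_pCoreOf ((CfsgLib.LocalEven.pCoreOf_le 2 K).trans hKE) ?_
      (CfsgLib.LocalEven.isPGroup_pCoreOf K)
    refine sSup_le fun K' hK' => ?_
    intro g hg
    exact CfsgLib.LocalEven.mem_normalizer_pCoreOf
      (c.comps_normalize hLmax.1 hLM (le_sup_right.trans hKL) hK'.1 hK'.2 hK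
        (le_sup_left.trans hKL) hg)
  have hQ1 : Q ≠ ⊥ := fun e => hK.wOf_ne_bot
    (le_bot_iff.1 (e ▸ ((wOf_le K).trans (omegaCenterOf_le _)).trans hQK))
  refine hLmax.2 _ ⟨Q, CfsgLib.LocalEven.isPGroup_pCoreOf E, hQ1, rfl⟩ ?_
  exact (c.le_normalizer_compsJoin hLmax.1 hLM (le_sup_right.trans hKL)).trans
    fun g hg => CfsgLib.LocalEven.mem_normalizer_pCoreOf hg

theorem compsIn_subset {L₁ L₂ K : Subgroup G} (h1 : IsMaximalTwoLocal L₁) (h2 : IsMaximalTwoLocal L₂)
    (hK : IsComp (thompsonSubgroupOf 2 T) K) (hKM : ¬ K ≤ M)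
    (hK1 : K ⊔ thompsonSubgroupOf 2 T ≤ L₁) (hK2 : K ⊔ thompsonSubgroupOf 2 T ≤ L₂) :
    compsIn (thompsonSubgroupOf 2 T) L₂ ⊆ compsIn (thompsonSubgroupOf 2 T) L₁ := by
  set J := thompsonSubgroupOf 2 T
  rintro K' ⟨hK', hK'L⟩
  set N := Subgroup.normalizer (wOf K : Set G)
  have hNM : ¬ N ≤ M := fun h => hKM (hK.le_normalizer_w.trans h)
  have hinN : ∀ {L : Subgroup G}, IsMaximalTwoLocal L → K ⊔ J ≤ L →
      ∀ X ∈ compsIn J L, X ≤ N := fun {L} hL hKL X hX =>
    (c.comps_normalize hL.1 (fun h => hKM ((le_sup_left.trans hKL).trans h))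
      (le_sup_right.trans hKL) hX.1 hX.2 hK (le_sup_left.trans hKL)).trans
      (normalizer_le_normalizer_wOf K)
  refine ⟨hK', ?_⟩
  rw [← c.eq_normalizer h1 hK hKM hK1]
  refine le_trans ?_ (fun g hg => CfsgLib.LocalEven.mem_normalizer_pCoreOf hg)
  intro g hg
  refine le_normalizer_sSup_of_forall fun X hX => ?_
  have := c.comps_normalize (c.isTwoLocal_normalizer_w hK) hNM (c.J_le_normalizer_w hK)
    hK' (hinN h2 hK2 K' ⟨hK', hK'L⟩) hX.1 (hinN h1 hK1 X hX) hg
  exact (Subgroup.mem_normalizer_iff_map_conj_eq.1 this).le.trans (le_sSup hX)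

/-- Uniqueness of the maximal `2`-local subgroup over `KJ(T)`. -/
theorem unique {L₁ L₂ K : Subgroup G} (h1 : IsMaximalTwoLocal L₁) (h2 : IsMaximalTwoLocal L₂)
    (hK : IsComp (thompsonSubgroupOf 2 T) K) (hKM : ¬ K ≤ M)
    (hK1 : K ⊔ thompsonSubgroupOf 2 T ≤ L₁) (hK2 : K ⊔ thompsonSubgroupOf 2 T ≤ L₂) : L₁ = L₂ := by
  rw [← c.eq_normalizer h1 hK hKM hK1, ← c.eq_normalizer h2 hK hKM hK2, compsJoin, compsJoin,
    Set.Subset.antisymm (c.compsIn_subset h2 h1 hK hKM hK2 hK1)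
      (c.compsIn_subset h1 h2 hK hKM hK1 hK2)]

/-- A component is subnormal in each `2`-local subgroup containing it and `J(T)`. -/
theorem isSubnormal {L K : Subgroup G} (hL2 : IsTwoLocal L)
    (hK : IsComp (thompsonSubgroupOf 2 T) K) (hKM : ¬ K ≤ M)
    (hKL : K ⊔ thompsonSubgroupOf 2 T ≤ L) : (K.subgroupOf L).IsSubnormal := by
  obtain ⟨T', hs, hJ'⟩ := c.exists_local hL2 (fun h => hKM ((le_sup_left.trans hKL).trans h))
    (le_sup_right.trans hKL)
  have hK' := isComp_subgroupOf hJ' (le_sup_left.trans hKL) hK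
  haveI := thompsonSubgroup_characteristic 2 L
  exact .step _ _ (hs.comp_le hK') (Subgroup.Normal.isSubnormal inferInstance)
    (Subgroup.normal_subgroupOf_of_le_normalizer (hs.comp_normal hK'))

end Ctx

end CfsgLib.LocalEven.JComp
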