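import Cfsg.Agent.Lib.LocalEven.JCompMain
import Cfsg.Prelude.Def_JComponents

/-!
The passage from a group all whose `2`-locals are solvable to the setting of `JCompMain`.
-/

set_option autoImplicit false
set_option linter.style.haveILetI false
set_option linter.unusedSectionVars false

namespace CfsgLib.LocalEven.JComp

open Cfsg CfsgLib.PLocal
open scoped commutatorElement

variable {G : Type*} [Group G] [Finite G]

theorem pCoreOf_ne_bot {T L : Subgroup G} (hT1 : T ≠ ⊥) (hLT : L ∈ jOvergroups T) :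
    pCoreOf 2 L ≠ ⊥ := by
  intro e
  have h := hLT.2.2
  rw [e] at h
  refine hT1 (le_bot_iff.1 fun x _ => h ?_)
  intro y hy
  rw [SetLike.mem_coe, Subgroup.mem_bot] at hy
  simp [hy]

theorem isSolvable_overgroup (hN : ∀ N : Subgroup G, IsTwoLocal N → Group.IsSolvable ↥N)
    {T L : Subgroup G} (hT1 : T ≠ ⊥) (hLT : L ∈ jOvergroups T) : Group.IsSolvable ↥L :=
  CfsgLib.Coprime.isSolvable_of_le (CfsgLib.LocalEven.le_normalizer_pCoreOf 2 L)
    (hN _ ⟨_, CfsgLib.LocalEven.isPGroup_pCoreOf L, pCoreOf_ne_bot hT1 hLT, rfl⟩)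

theorem exists_setup (hN : ∀ N : Subgroup G, IsTwoLocal N → Group.IsSolvable ↥N)
    (hZ : ∀ S : Sylow 2 G, Subgroup.centralizer (omegaCenterOf (S : Subgroup G) : Set G) ≤
      Subgroup.normalizer ((S : Subgroup G) : Set G))
    {T L : Subgroup G} (hT1 : T ≠ ⊥) (hLT : L ∈ jOvergroups T) :
    ∃ T' : Sylow 2 L, (T' : Subgroup L).map L.subtype = T ∧ Setup T' ∧
      (thompsonSubgroupOf 2 (T' : Subgroup L)).map L.subtype = thompsonSubgroupOf 2 T := by
  obtain ⟨⟨hTL, hT2, hodd⟩, hJ, hcent⟩ := hLT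
  set P : Subgroup L := T.subgroupOf L
  have hP : IsPGroup 2 P := hT2.comap_subtype
  have hnd : ¬ 2 ∣ P.index := fun h => (Nat.not_even_iff_odd.2 hodd) (even_iff_two_dvd.2 h)
  set T' := hP.toSylow hnd with hT'
  have hmap : (T' : Subgroup L).map L.subtype = T := Subgroup.map_subgroupOf_eq_of_le hTL
  have hJmap : (thompsonSubgroupOf 2 (T' : Subgroup L)).map L.subtype = thompsonSubgroupOf 2 T := by
    rw [map_thompsonSubgroupOf L.subtype_injective, hmap]
  refine ⟨T', hmap, ⟨?_, ?_, ?_⟩, hJmap⟩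
  · exact isSolvable_overgroup hN hT1 ⟨⟨hTL, hT2, hodd⟩, hJ, hcent⟩
  · intro c hc
    obtain ⟨S0, hS0⟩ := hT2.exists_le_sylow
    have hPT : pCoreOf 2 L ≤ T := by
      rw [← hmap]; exact Subgroup.map_mono (CfsgLib.LocalEven.pCore_le_sylow T')
    have hcS : (c : G) ∈ Subgroup.centralizer (omegaCenterOf (S0 : Subgroup G) : Set G) := by
      intro z hz
      have hzC : z ∈ Subgroup.centralizer (pCoreOf 2 L : Set G) :=
        (Subgroup.centralizer_le (hPT.trans hS0)) (omegaCenterOf_le_centralizer _ hz)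
      have hz2 : z ^ 2 = 1 := (isElementaryAbelian_omegaCenterOf _).2 z hz
      obtain ⟨y, hy, rfl⟩ := hcent hzC
      have hyO : y ∈ Om L := mem_omegaOne ⟨hy, fun x hx => Subtype.ext
          (hzC x (Subgroup.mem_map_of_mem L.subtype hx))⟩ (Subtype.ext (by simpa using hz2))
      exact congrArg Subtype.val (hc y hyO)
    have hcN := hZ S0 hcS
    -- `T` is the intersection of `L` with `S0`
    have hTeq : ((S0 : Subgroup G).subgroupOf L) = (T' : Subgroup L) :=
      T'.is_maximal' (S0.2.comap_subtype) fun x hx => hS0 (by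
        rw [← hmap]; exact Subgroup.mem_map_of_mem _ hx)
    rw [← hTeq]
    refine Subgroup.mem_normalizer_iff.2 fun x => ?_
    show (x : G) ∈ (S0 : Subgroup G) ↔ (c : G) * x * (c : G)⁻¹ ∈ (S0 : Subgroup G)
    exact Subgroup.mem_normalizer_iff.1 hcN x
  · intro h
    apply hJ
    rw [← hJmap]
    exact Subgroup.map_mono h

theorem isComp_subgroupOf {L : Subgroup G} {J : Subgroup L} {JG K : Subgroup G}
    (hJ : J.map L.subtype = JG) (hKL : K ≤ L) (hK : IsComp JG K) : IsComp J (K.subgroupOf L) := by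
  rw [← isComp_map_iff L.subtype_injective, hJ, Subgroup.map_subgroupOf_eq_of_le hKL]
  exact hK

theorem map_wOf_subgroupOf {L K : Subgroup G} (hKL : K ≤ L) :
    (wOf (K.subgroupOf L)).map L.subtype = wOf K := by
  rw [map_wOf L.subtype_injective, Subgroup.map_subgroupOf_eq_of_le hKL]

/-- Every `2`-subgroup of `L` containing `J(T)` has Thompson subgroup `J(T)`. -/
theorem thompson_eq_of_le {L : Subgroup G} {T S : Subgroup G} (T' : Sylow 2 L)
    (hT' : (T' : Subgroup L).map L.subtype = T) (hS : IsPGroup 2 S) (hSL : S ≤ L)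
    (hJS : thompsonSubgroupOf 2 T ≤ S) : thompsonSubgroupOf 2 S = thompsonSubgroupOf 2 T := by
  obtain ⟨R, hR⟩ := (hS.comap_subtype : IsPGroup 2 (S.subgroupOf L)).exists_le_sylow
  have hJ : (thompsonSubgroupOf 2 (T' : Subgroup L)).map L.subtype = thompsonSubgroupOf 2 T := by
    rw [map_thompsonSubgroupOf L.subtype_injective, hT']
  have hJR : thompsonSubgroupOf 2 (T' : Subgroup L) ≤ S.subgroupOf L := fun x hx =>
    hJS (hJ ▸ Subgroup.mem_map_of_mem L.subtype hx)
  have e := thompson_eq_of_le_sylow T' R (hJR.trans hR)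
  have e2 := thompsonSubgroupOf_eq_of_le (e.le.trans hJR) hR
  rw [← hJ, ← e, ← e2, map_thompsonSubgroupOf L.subtype_injective,
    Subgroup.map_subgroupOf_eq_of_le hSL]

/-- For a component `K`, the normalizer of `W_K` lies in the family of a Sylow subgroup containing `J(T)`. -/
theorem normalizer_w_overgroup (hL : IsCharacteristicTwoType G) {T K : Subgroup G}
    (hT : IsPGroup 2 T) (hK : IsComp (thompsonSubgroupOf 2 T) K)
    (h0 : ∀ S : Subgroup G, thompsonSubgroupOf 2 T ≤ S →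
      IsSylowTwoIn S (Subgroup.normalizer (wOf K : Set G)) →
        thompsonSubgroupOf 2 S = thompsonSubgroupOf 2 T) :
    ∃ S : Subgroup G, thompsonSubgroupOf 2 S = thompsonSubgroupOf 2 T ∧ S ≠ ⊥ ∧
      Subgroup.normalizer (wOf K : Set G) ∈ jOvergroups S := by
  set N := Subgroup.normalizer (wOf K : Set G)
  set J := thompsonSubgroupOf 2 T
  have hJ2 : IsPGroup 2 J := hT.to_le (thompsonSubgroupOf_le 2 T)
  have hJN : J ≤ N := hK.le_normalizer.trans (normalizer_le_normalizer_wOf K)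
  have hKN : K ≤ N := hK.le_normalizer_w
  obtain ⟨R, hR⟩ := (hJ2.comap_subtype : IsPGroup 2 (J.subgroupOf N)).exists_le_sylow
  set S := (R : Subgroup N).map N.subtype
  have hJS : J ≤ S := fun x hx => ⟨⟨x, hJN hx⟩, hR hx, rfl⟩
  have hSyl : IsSylowTwoIn S N := by
    refine ⟨Subgroup.map_subtype_le _, R.2.map _, ?_⟩
    rw [Subgroup.relIndex, Subgroup.subgroupOf, Subgroup.comap_map_eq_self_of_injective N.subtype_injective]
    exact Nat.not_even_iff_odd.1 fun h => R.not_dvd_index (even_iff_two_dvd.1 h)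
  have hJe := h0 S hJS hSyl
  have hW2 : IsPGroup 2 (wOf K) := IsPGroup.of_card (n := 2) (by rw [hK.card_w]; norm_num)
  have hcent : Subgroup.centralizer (pCoreOf 2 N : Set G) ≤ pCoreOf 2 N := by
    intro x hx
    have hWO : wOf K ≤ pCoreOf 2 N :=
      CfsgLib.LocalEven.le_pCoreOf Subgroup.le_normalizer le_rfl hW2
    refine (CfsgLib.LocalEven.charP_iff N).1 (hL.2 _ hW2 hK.wOf_ne_bot) ⟨?_, hx⟩
    exact Subgroup.centralizer_le_normalizer _ (Subgroup.centralizer_le hWO hx)
  have hJne : J ≠ ⊥ := fun e => hK.wOf_ne_bot (by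
    have := hK.comm
    rw [e, Subgroup.commutator_bot_right] at this
    rw [wOf, ← this, Subgroup.commutator_bot_right])
  refine ⟨S, hJe, fun e => hJne (le_bot_iff.1 (hJS.trans e.le)), hSyl, ?_, hcent⟩
  rw [hJe]
  intro hle
  have hKO : K ≤ pCoreOf 2 N := by
    conv_lhs => rw [← hK.comm]
    refine (Subgroup.commutator_mono hKN hle).trans ?_
    exact Subgroup.le_normalizer_iff_commutator_le_right.1 (CfsgLib.LocalEven.le_normalizer_pCoreOf 2 N)
  have h1 : K ≤ ⊥ := by
    conv_lhs => rw [← hK.gen, oddGen]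
    refine (Subgroup.closure_le _).2 fun x hx => ?_
    exact mem_of_ppow (ppow_of_isPGroup (CfsgLib.LocalEven.isPGroup_pCoreOf N) ⊥) (hKO hx.1) hx.2
  exact hK.wOf_ne_bot (by rw [le_bot_iff.1 h1, wOf, Subgroup.commutator_bot_right])

/-- In a group with solvable `2`-locals, `N(W_K) = N(K)` for `K` in the family `𝒦₀(T)`. -/
theorem normalizer_w_eq (hL : IsCharacteristicTwoType G)
    (hN : ∀ N : Subgroup G, IsTwoLocal N → Group.IsSolvable ↥N)
    (hZ : ∀ S : Sylow 2 G, Subgroup.centralizer (omegaCenterOf (S : Subgroup G) : Set G) ≤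
      Subgroup.normalizer ((S : Subgroup G) : Set G))
    {T K : Subgroup G} (hT : IsPGroup 2 T) (hK : K ∈ jComponentsZero T) :
    Subgroup.normalizer (K : Set G) = Subgroup.normalizer (wOf K : Set G) := by
  have hC := isComp_of hK.1
  obtain ⟨S, hJS, hS1, hNS⟩ := normalizer_w_overgroup hL hT hC hK.2
  refine le_antisymm (normalizer_le_normalizer_wOf K) ?_
  set N := Subgroup.normalizer (wOf K : Set G)
  obtain ⟨T', hT', hs, hJ'⟩ := exists_setup hN hZ hS1 hNS
  have hKN : K ≤ N := hC.le_normalizer_w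
  have hKc : IsComp (thompsonSubgroupOf 2 (T' : Subgroup N)) (K.subgroupOf N) :=
    isComp_subgroupOf (hJ'.trans hJS) hKN hC
  intro n hn
  have hn' : (⟨n, hn⟩ : N) ∈ Subgroup.normalizer ((wOf (K.subgroupOf N)) : Set N) := by
    rw [Subgroup.mem_normalizer_iff]
    intro x
    have h := Subgroup.mem_normalizer_iff.1 hn (x : G)
    have e : ∀ y : N, y ∈ wOf (K.subgroupOf N) ↔ (y : G) ∈ wOf K := fun y => by
      rw [← map_wOf_subgroupOf hKN]
      exact ⟨fun hy => ⟨y, hy, rfl⟩, fun ⟨z, hz, hzy⟩ => (Subtype.ext hzy : z = y) ▸ hz⟩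
    rw [e, e]
    exact h
  have := hs.normalizer_w_le hKc hn'
  refine Subgroup.mem_normalizer_iff.2 fun x => ⟨fun hx => ?_, fun hx => ?_⟩
  · exact (Subgroup.mem_normalizer_iff.1 this ⟨x, hKN hx⟩).1 hx
  · have hxN : x ∈ N := by
      have h := mul_mem (mul_mem (inv_mem hn) (hKN hx)) hn
      simpa [mul_assoc] using h
    exact (Subgroup.mem_normalizer_iff.1 this ⟨x, hxN⟩).2 hx

end CfsgLib.LocalEven.JComp
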