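import Cfsg.Agent.Lib.LocalEven.WeakClosed
import Cfsg.Agent.Lib.Coprime.Action2

/-!
Centralizers of `p`-subgroups in groups of characteristic `p`; large subgroups.
-/

namespace CfsgLib.LocalEven

open Cfsg

variable {G : Type*} [Group G] [Finite G] {p : ℕ} [Fact p.Prime]

theorem isPGroup_of_forall_coprime {M : Subgroup G}
    (h : ∀ m ∈ M, (orderOf m).Coprime p → m = 1) : IsPGroup p M := by
  intro m
  obtain ⟨a, ha, b, hb, hab, ⟨k, hk⟩, hbc⟩ := CfsgLib.Transfer.exists_pPart_mul (p := p) (m : G)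
  refine ⟨k, Subtype.ext ?_⟩
  rw [h b ((Subgroup.zpowers_le.2 m.2) hb) hbc, mul_one] at hab
  rw [Subgroup.coe_pow, ← hab, Subgroup.coe_one]
  exact orderOf_dvd_iff_pow_eq_one.1 hk

/-- Characteristic `p` passes to the centralizer of a `p`-group acting on the group. -/
theorem charP_inf_centralizer {K B : Subgroup G}
    (hK : Subgroup.centralizer (pCore p K : Set K) ≤ pCore p K) (hB : IsPGroup p B)
    (hBK : B ≤ Subgroup.normalizer (K : Set G)) :
    Subgroup.centralizer (pCore p ↥(K ⊓ Subgroup.centralizer (B : Set G)) :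
        Set ↥(K ⊓ Subgroup.centralizer (B : Set G))) ≤
      pCore p ↥(K ⊓ Subgroup.centralizer (B : Set G)) := by
  rw [charP_iff]
  set M := K ⊓ Subgroup.centralizer (B : Set G)
  set U := pCoreOf p K
  have hUK : K ≤ Subgroup.normalizer (U : Set G) := le_normalizer_pCoreOf p K
  have hUM : U ⊓ Subgroup.centralizer (B : Set G) ≤ pCoreOf p M :=
    le_pCoreOf (inf_le_inf_right _ (pCoreOf_le p K))
      ((inf_le_inf hUK Subgroup.le_normalizer).trans Subgroup.inf_normalizer_le_normalizer_inf)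
      ((isPGroup_pCoreOf K).to_le inf_le_left)
  refine le_pCoreOf inf_le_left ?_ (isPGroup_of_forall_coprime fun m hm hcop => ?_)
  · exact (le_inf Subgroup.le_normalizer ((le_normalizer_pCoreOf p M).trans
      (normalizer_le_normalizer_centralizer _))).trans Subgroup.inf_normalizer_le_normalizer_inf
  · have hzc : (Nat.card (Subgroup.zpowers m)).Coprime p := by rwa [Nat.card_zpowers]
    have h := CfsgLib.Coprime.pq_lemma hB hzc (isPGroup_pCoreOf K) ?_
      (fun b hb => mem_normalizer_pCoreOf (hBK hb))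
      (Subgroup.zpowers_le.2 (hUK hm.1.1)) ?_
    · have hmU : m ∈ U := (charP_iff K).1 hK ⟨hm.1.1, h (Subgroup.mem_zpowers m)⟩
      have := CfsgLib.Transfer.eq_one_of_coprime_orderOf (isPGroup_pCoreOf (p := p) K)
        (x := ⟨m, hmU⟩) (by rwa [Subgroup.orderOf_mk])
      exact congrArg Subtype.val this
    · rw [Subgroup.le_centralizer_iff, Subgroup.zpowers_le]
      exact hm.1.2
    · rw [Subgroup.le_centralizer_iff, Subgroup.zpowers_le]
      exact fun x hx => hm.2 x (hUM hx)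

/-- Characteristic `p` climbs from `C(B)` to `C(R)` for `p`-groups `B ≤ R`. -/
theorem charP_centralizer_mono {R : Subgroup G} (hR : IsPGroup p R) {B : Subgroup G} (hBR : B ≤ R)
    (h : Subgroup.centralizer (pCore p ↥(Subgroup.centralizer (B : Set G)) :
        Set ↥(Subgroup.centralizer (B : Set G))) ≤ pCore p ↥(Subgroup.centralizer (B : Set G))) :
    Subgroup.centralizer (pCore p ↥(Subgroup.centralizer (R : Set G)) :
        Set ↥(Subgroup.centralizer (R : Set G))) ≤ pCore p ↥(Subgroup.centralizer (R : Set G)) := by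
  suffices key : ∀ n, ∀ B : Subgroup G, B ≤ R → Nat.card R ≤ Nat.card B + n →
      Subgroup.centralizer (pCore p ↥(Subgroup.centralizer (B : Set G)) :
        Set ↥(Subgroup.centralizer (B : Set G))) ≤ pCore p ↥(Subgroup.centralizer (B : Set G)) →
      Subgroup.centralizer (pCore p ↥(Subgroup.centralizer (R : Set G)) :
        Set ↥(Subgroup.centralizer (R : Set G))) ≤ pCore p ↥(Subgroup.centralizer (R : Set G)) from
    key _ B hBR (Nat.le_add_left _ _) h
  intro n
  induction n with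
  | zero =>
    intro B hB hc h
    rwa [Subgroup.eq_of_le_of_card_ge hB (by simpa using hc)] at h
  | succ n ih =>
    intro B hB hc h
    rcases eq_or_lt_of_le hB with e | hlt
    · rwa [e] at h
    have hlt1 := CfsgLib.Fusion.lt_inf_normalizer hR hlt
    set B1 := R ⊓ Subgroup.normalizer (B : Set G)
    have hcard : Nat.card B < Nat.card B1 :=
      lt_of_le_of_ne (Subgroup.card_le_of_le hlt1.le) fun e =>
        hlt1.ne (Subgroup.eq_of_le_of_card_ge hlt1.le e.ge)
    refine ih B1 inf_le_left (by omega) ?_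
    have h1 := charP_inf_centralizer h (hR.to_le (inf_le_left : B1 ≤ R))
      ((inf_le_right : B1 ≤ _).trans (normalizer_le_normalizer_centralizer _))
    rwa [inf_eq_right.2 (Subgroup.centralizer_le (SetLike.coe_subset_coe.2 hlt1.le))] at h1

/-- The basic lemma on weakly closed subgroups `Q` with `C(Q) ≤ Q` inside `L`. -/
theorem wc_charP_lemma {Q L : Subgroup G} (hwc : IsWeaklyClosedSubgroup p Q)
    (hCQ : Subgroup.centralizer (Q : Set G) ≤ Q) (hQL : Q ≤ L)
    (hC : Subgroup.centralizer (pCore p ↥(Subgroup.centralizer (pCoreOf p L : Set G)) :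
        Set ↥(Subgroup.centralizer (pCoreOf p L : Set G))) ≤
      pCore p ↥(Subgroup.centralizer (pCoreOf p L : Set G))) :
    ⁅Q, Subgroup.centralizer (pCoreOf p L : Set G)⁆ ≤ Q ⊓ pCoreOf p L ∧
      IsPGroup p ↥(Subgroup.centralizer (pCoreOf p L : Set G)) ∧
      Subgroup.centralizer (pCore p L : Set L) ≤ pCore p L := by
  have hQp := wc_isPGroup hwc
  set R := pCoreOf p L
  set C := Subgroup.centralizer (R : Set G) with hCdef
  set D := pCoreOf p C
  have hRL : L ≤ Subgroup.normalizer (R : Set G) := le_normalizer_pCoreOf p L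
  have hLC : L ≤ Subgroup.normalizer (C : Set G) := hRL.trans (normalizer_le_normalizer_centralizer _)
  have hLD : L ≤ Subgroup.normalizer (D : Set G) := fun l hl => mem_normalizer_pCoreOf (hLC hl)
  have hDp : IsPGroup p D := isPGroup_pCoreOf C
  have hDQ : D ≤ Subgroup.normalizer (Q : Set G) :=
    wc_normalized_le_normalizer hwc hDp (hQL.trans hLD)
  have hDLR : D ⊓ L ≤ R := le_pCoreOf inf_le_right
    ((le_inf hLD Subgroup.le_normalizer).trans Subgroup.inf_normalizer_le_normalizer_inf)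
    (hDp.to_le inf_le_left)
  have hfix : ∀ d ∈ D ⊓ Q, ∀ c ∈ C, d * c = c * d := fun d hd c hc =>
    hc d (hDLR ⟨hd.1, hQL hd.2⟩)
  have hQC : Q ≤ Subgroup.normalizer (C : Set G) := hQL.trans hLC
  set K := ⁅Q, C⁆
  have hKC : K ≤ C := Subgroup.commutator_le.2 fun q hq c hc => commElem_mem_left hc (hQC hq)
  -- `D ∩ Q` is normalized by `D`
  have hDn : D ≤ Subgroup.normalizer ((D ⊓ Q : Subgroup G) : Set G) :=
    (le_inf Subgroup.le_normalizer hDQ).trans Subgroup.inf_normalizer_le_normalizer_inf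
  let Kc : Subgroup G :=
    { carrier := {c | c ∈ C ∧ ∀ x ∈ D, c * x * c⁻¹ * x⁻¹ ∈ D ⊓ Q}
      one_mem' := ⟨C.one_mem, fun x _ => by simp⟩
      mul_mem' := fun {a b} ha hb => ⟨C.mul_mem ha.1 hb.1, fun x hx => by
        have h1 := hb.2 x hx
        have hfa : a * (b * x * b⁻¹ * x⁻¹) * a⁻¹ = b * x * b⁻¹ * x⁻¹ := by
          rw [← hfix _ h1 a ha.1, mul_inv_cancel_right]
        have e : a * b * x * (a * b)⁻¹ * x⁻¹ =
            a * (b * x * b⁻¹ * x⁻¹) * a⁻¹ * (a * x * a⁻¹ * x⁻¹) := by group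
        rw [e, hfa]
        exact (D ⊓ Q).mul_mem h1 (ha.2 x hx)⟩
      inv_mem' := fun {a} ha => ⟨C.inv_mem ha.1, fun x hx => by
        have h1 := ha.2 x hx
        have h2 := (D ⊓ Q).inv_mem h1
        have hfa : a⁻¹ * (a * x * a⁻¹ * x⁻¹)⁻¹ * a = (a * x * a⁻¹ * x⁻¹)⁻¹ := by
          rw [← hfix _ h2 _ (C.inv_mem ha.1), inv_mul_cancel_right]
        have e : a⁻¹ * x * a⁻¹⁻¹ * x⁻¹ = a⁻¹ * (a * x * a⁻¹ * x⁻¹)⁻¹ * a := by group
        rw [e, hfa]; exact h2⟩ }
  have hK : K ≤ Kc := by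
    refine Subgroup.commutator_le.2 fun q hq c hc => ⟨hKC (Subgroup.commutator_mem_commutator hq hc), ?_⟩
    intro x hx
    show (q * c * q⁻¹ * c⁻¹) * x * (q * c * q⁻¹ * c⁻¹)⁻¹ * x⁻¹ ∈ _
    have hxD : c⁻¹ * x * c ∈ D := by
      simpa using (Subgroup.mem_normalizer_iff.1 (le_normalizer_pCoreOf p C (C.inv_mem hc)) x).1 hx
    set e := q⁻¹ * (c⁻¹ * x * c) * q * (c⁻¹ * x * c)⁻¹
    have he : e ∈ D ⊓ Q := ⟨commElem_conj_inv hxD (hLD (hQL hq)),
      commElem_conj_inv' hq (hDQ hxD)⟩
    have hfe : c * e * c⁻¹ = e := by rw [← hfix e he c hc, mul_inv_cancel_right]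
    have heq : (q * c * q⁻¹ * c⁻¹) * x * (q * c * q⁻¹ * c⁻¹)⁻¹ * x⁻¹ =
        (q * e * q⁻¹) * (q * x * q⁻¹ * x⁻¹) := by
      conv_rhs => rw [← hfe]
      simp [e, mul_assoc]
    rw [heq]
    refine (D ⊓ Q).mul_mem ?_ ⟨commElem_mem_left hx (hLD (hQL hq)), commElem_mem_right hq (hDQ hx)⟩
    exact ⟨(Subgroup.mem_normalizer_iff.1 (hLD (hQL hq)) e).1 he.1,
      (Subgroup.mem_normalizer_iff.1 (Subgroup.le_normalizer hq) e).1 he.2⟩
  have hKp : IsPGroup p K := by
    refine isPGroup_of_stab (A := (D : Set G)) (B := D ⊓ Q) (Q := D) (hDp.to_le inf_le_left) hDp ?_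
      (fun k hk d hd => hfix d hd k (hKC hk)) fun k hk x hx => (hK hk).2 x hx
    exact fun x hx => (charP_iff C).1 hC ⟨hKC hx.2, hx.1⟩
  have hKn : C ≤ Subgroup.normalizer (K : Set G) := Subgroup.normalizer_commutator_ge_right Q C
  have hQKn : Q ≤ Subgroup.normalizer (K : Set G) := Subgroup.normalizer_commutator_ge_left Q C
  have hCQn : C ≤ Subgroup.normalizer (Q : Set G) := by
    refine le_trans ?_ (wc_normalizer_le hwc (hQp.to_sup_of_normal_right' hKp hQKn) le_sup_left)
    intro c hc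
    have key : ∀ c ∈ C, (Q ⊔ K).map (MulAut.conj c).toMonoidHom ≤ Q ⊔ K := by
      intro c hc
      rw [Subgroup.map_sup, conj_map_eq_of_mem_normalizer (hKn hc)]
      refine sup_le ?_ le_sup_right
      rintro _ ⟨q, hq, rfl⟩
      have e : (MulAut.conj c).toMonoidHom q = (q * c * q⁻¹ * c⁻¹)⁻¹ * q := by simp [mul_assoc]
      rw [e]
      exact Subgroup.mul_mem _ ((le_sup_right : K ≤ Q ⊔ K)
        (K.inv_mem (Subgroup.commutator_mem_commutator hq hc))) ((le_sup_left : Q ≤ Q ⊔ K) hq)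
    exact mem_normalizer_of_conj (Subgroup.eq_of_le_of_card_ge (key c hc)
      (le_of_eq (Subgroup.card_map_of_injective (MulAut.conj c).injective).symm))
  have hKQ : K ≤ Q ⊓ C := Subgroup.commutator_le.2 fun q hq c hc =>
    ⟨commElem_mem_right hq (hCQn hc), commElem_mem_left hc (hQC hq)⟩
  have hQCR : Q ⊓ C ≤ R := by
    have h1 : Q ⊓ C ≤ pCoreOf p (C ⊓ L) := le_pCoreOf (le_inf inf_le_right (inf_le_left.trans hQL))
      ((inf_le_left.trans (le_inf hCQn Subgroup.le_normalizer)).trans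
        Subgroup.inf_normalizer_le_normalizer_inf) (hQp.to_le inf_le_left)
    refine h1.trans (le_pCoreOf ((pCoreOf_le p _).trans inf_le_right) ?_ (isPGroup_pCoreOf _))
    exact fun l hl => mem_normalizer_pCoreOf
      (Subgroup.inf_normalizer_le_normalizer_inf ⟨hLC hl, Subgroup.le_normalizer hl⟩)
  refine ⟨le_inf (hKQ.trans inf_le_left) (hKQ.trans hQCR), ?_, ?_⟩
  · refine isPGroup_of_stab (A := (Q : Set G)) (B := Q ⊓ C) (Q := Q) (hQp.to_le inf_le_left) hQp
      (inf_le_left.trans hCQ) (fun c hc d hd => hc d (hQCR hd)) fun c hc q hq => ?_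
    exact ⟨commElem_mem_left hq (hCQn hc), commElem_mem_right hc (hQC hq)⟩
  · rw [charP_iff]
    refine le_pCoreOf inf_le_left ((le_inf Subgroup.le_normalizer hLC).trans
      Subgroup.inf_normalizer_le_normalizer_inf) ?_
    refine IsPGroup.to_le ?_ (inf_le_right : L ⊓ C ≤ C)
    refine isPGroup_of_stab (A := (Q : Set G)) (B := Q ⊓ C) (Q := Q) (hQp.to_le inf_le_left) hQp
      (inf_le_left.trans hCQ) (fun c hc d hd => hc d (hQCR hd)) fun c hc q hq => ?_
    exact ⟨commElem_mem_left hq (hCQn hc), commElem_mem_right hc (hQC hq)⟩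
where
  commElem_conj_inv {A : Subgroup G} {a b : G} (ha : a ∈ A)
      (hb : b ∈ Subgroup.normalizer (A : Set G)) : b⁻¹ * a * b * a⁻¹ ∈ A := by
    simpa using commElem_mem_left ha (Subgroup.inv_mem _ hb)
  commElem_conj_inv' {A : Subgroup G} {a b : G} (ha : a ∈ A)
      (hb : b ∈ Subgroup.normalizer (A : Set G)) : a⁻¹ * b * a * b⁻¹ ∈ A := by
    simpa using commElem_mem_right (A.inv_mem ha) hb

theorem charP_top_centralizer (hG : Subgroup.centralizer (pCore p G : Set G) ≤ pCore p G)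
    {R : Subgroup G} (hR : IsPGroup p R) :
    Subgroup.centralizer (pCore p ↥(Subgroup.centralizer (R : Set G)) :
        Set ↥(Subgroup.centralizer (R : Set G))) ≤ pCore p ↥(Subgroup.centralizer (R : Set G)) := by
  have h := charP_inf_centralizer (charP_equiv (Subgroup.topEquiv (G := G)).symm hG) hR
    (by rw [Subgroup.normalizer_eq_top_iff.2 inferInstance]; exact le_top)
  rwa [top_inf_eq] at h

theorem charP_centralizer_of_element {R : Subgroup G} (hR : IsPGroup p R) {y : G} (hy : y ∈ R)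
    (h : Subgroup.centralizer (pCore p ↥(Subgroup.centralizer ({y} : Set G)) :
        Set ↥(Subgroup.centralizer ({y} : Set G))) ≤ pCore p ↥(Subgroup.centralizer ({y} : Set G))) :
    Subgroup.centralizer (pCore p ↥(Subgroup.centralizer (R : Set G)) :
        Set ↥(Subgroup.centralizer (R : Set G))) ≤ pCore p ↥(Subgroup.centralizer (R : Set G)) := by
  refine charP_centralizer_mono hR (Subgroup.zpowers_le.2 hy) ?_
  have e : Subgroup.centralizer ((Subgroup.zpowers y : Subgroup G) : Set G) =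
      Subgroup.centralizer ({y} : Set G) := by
    rw [Subgroup.zpowers_eq_closure, Subgroup.centralizer_closure]
  rw [e]; exact h

/-! ### Large subgroups -/

variable {Q : Subgroup G}

theorem isLarge_wc (hQp : IsPGroup p Q) (hQ1 : Q ≠ ⊥) (hL : IsLarge Q) :
    IsWeaklyClosedSubgroup p Q := by
  refine wc_of_normal_in_pGroups hQp fun R hR hQR => ?_
  have hRne : R ≠ ⊥ := fun e => hQ1 (le_bot_iff.1 (e ▸ hQR))
  obtain ⟨z, hz, hzp, hzR⟩ := exists_orderOf_eq_prime_central hR le_rfl Subgroup.le_normalizer hRne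
  set U := R ⊓ Subgroup.centralizer (R : Set G)
  have hUne : U ≠ ⊥ := by
    intro e
    have : z ∈ U := ⟨hz, fun r hr => Subgroup.mem_centralizer_singleton_iff.1 (hzR hr)⟩
    rw [e, Subgroup.mem_bot] at this
    rw [this, orderOf_one] at hzp
    exact (Fact.out : p.Prime).ne_one hzp.symm
  refine le_trans ?_ (hL.2 U (inf_le_right.trans (Subgroup.centralizer_le hQR)) hUne)
  exact (le_inf le_rfl (normalizer_le_normalizer_centralizer _)).trans
    Subgroup.inf_normalizer_le_normalizer_inf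

theorem isLarge_map_conj (hL : IsLarge Q) (g : G) :
    IsLarge (Q.map (MulAut.conj g).toMonoidHom) := by
  have hc : Subgroup.centralizer ((Q.map (MulAut.conj g).toMonoidHom : Subgroup G) : Set G) =
      (Subgroup.centralizer (Q : Set G)).map (MulAut.conj g).toMonoidHom := by
    rw [CfsgLib.Base.map_centralizer_mulEquiv, Subgroup.coe_map]
    rfl
  refine ⟨hc.le.trans (Subgroup.map_mono hL.1), fun U hU hne => ?_⟩
  have hU' : U.map (MulAut.conj g⁻¹).toMonoidHom ≤ Subgroup.centralizer (Q : Set G) := by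
    refine (Subgroup.map_mono (hU.trans hc.le)).trans ?_
    rw [conj_map_conj_map, inv_mul_cancel, conj_map_one]
  have h1 := Subgroup.map_mono (f := (MulAut.conj g).toMonoidHom)
    (hL.2 _ hU' (map_conj_ne_bot hne))
  rwa [map_conj_normalizer, map_conj_normalizer, conj_map_conj_map, mul_inv_cancel, conj_map_one] at h1

theorem isLarge_charP_centralizer_of_mem (hQp : IsPGroup p Q) (hL : IsLarge Q) {y : G}
    (hy : y ∈ Subgroup.centralizer (Q : Set G)) (hy1 : y ≠ 1) :
    Subgroup.centralizer (pCore p ↥(Subgroup.centralizer ({y} : Set G)) :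
        Set ↥(Subgroup.centralizer ({y} : Set G))) ≤ pCore p ↥(Subgroup.centralizer ({y} : Set G)) := by
  set K := Subgroup.centralizer ({y} : Set G)
  have hKQ : K ≤ Subgroup.normalizer (Q : Set G) := by
    refine le_trans ?_ (hL.2 (Subgroup.zpowers y) (Subgroup.zpowers_le.2 hy) ?_)
    · refine le_trans ?_ (Subgroup.centralizer_le_normalizer _)
      rw [Subgroup.zpowers_eq_closure, Subgroup.centralizer_closure]
    · rwa [Ne, Subgroup.zpowers_eq_bot]
  have hQK : Q ≤ K := fun q hq => Subgroup.mem_centralizer_singleton_iff.2 (hy q hq)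
  have hQR : Q ≤ pCoreOf p K := le_pCoreOf hQK hKQ hQp
  rw [charP_iff]
  exact fun x hx => hQR (hL.1 (Subgroup.centralizer_le hQR hx.2))

theorem isLarge_exists_fixed (hQp : IsPGroup p Q) {Y : Subgroup G} (hY : IsPGroup p Y)
    (hY1 : Y ≠ ⊥) (hQY : Q ≤ Subgroup.normalizer (Y : Set G)) :
    ∃ y, y ≠ 1 ∧ y ∈ Y ⊓ Subgroup.centralizer (Q : Set G) := by
  obtain ⟨z, hz, hzp, hzB⟩ := exists_orderOf_eq_prime_central (hQp.to_sup_of_normal_right' hY hQY)
    (le_sup_right : Y ≤ Q ⊔ Y) (sup_le hQY Subgroup.le_normalizer) hY1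
  refine ⟨z, fun e => ?_, hz, fun q hq => Subgroup.mem_centralizer_singleton_iff.1
    (hzB ((le_sup_left : Q ≤ Q ⊔ Y) hq))⟩
  rw [e, orderOf_one] at hzp
  exact (Fact.out : p.Prime).ne_one hzp.symm

theorem isLarge_centralizer_le_normalizer (hL : IsLarge Q) (hQp : IsPGroup p Q) {Y : Subgroup G}
    (hY : IsPGroup p Y) (hY1 : Y ≠ ⊥) (hQY : Q ≤ Subgroup.normalizer (Y : Set G)) :
    Subgroup.centralizer (Y : Set G) ≤ Subgroup.normalizer (Q : Set G) := by
  obtain ⟨y, hy1, hy⟩ := isLarge_exists_fixed hQp hY hY1 hQY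
  refine le_trans ?_ (hL.2 (Y ⊓ Subgroup.centralizer (Q : Set G)) inf_le_right fun e => ?_)
  · exact (Subgroup.centralizer_le (SetLike.coe_subset_coe.2 inf_le_left)).trans
      (Subgroup.centralizer_le_normalizer _)
  · rw [e, Subgroup.mem_bot] at hy; exact hy1 hy

theorem isLarge_inf_centralizer_conj (hQp : IsPGroup p Q) (hQ1 : Q ≠ ⊥) (hL : IsLarge Q) {g : G}
    (hg : g ∉ Subgroup.normalizer (Q : Set G)) :
    Subgroup.centralizer (Q : Set G) ⊓
      Subgroup.centralizer ((Q.map (MulAut.conj g).toMonoidHom : Subgroup G) : Set G) = ⊥ := by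
  by_contra hne
  set Q' := Q.map (MulAut.conj g).toMonoidHom
  set U := Subgroup.centralizer (Q : Set G) ⊓ Subgroup.centralizer (Q' : Set G)
  have h1 : Q' ≤ Subgroup.normalizer (Q : Set G) := by
    refine le_trans ?_ (hL.2 U inf_le_left hne)
    refine le_trans ?_ (Subgroup.centralizer_le_normalizer _)
    rw [Subgroup.le_centralizer_iff]
    exact inf_le_right
  have h2 : Q ≤ Subgroup.normalizer (Q' : Set G) := by
    refine le_trans ?_ ((isLarge_map_conj hL g).2 U inf_le_right hne)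
    refine le_trans ?_ (Subgroup.centralizer_le_normalizer _)
    rw [Subgroup.le_centralizer_iff]
    exact inf_le_left
  exact hg (mem_normalizer_of_conj ((wc_iff_commutator hQp).1 (isLarge_wc hQp hQ1 hL) g
    (commutator_le_inf_iff.2 ⟨h1, h2⟩)))

theorem isLarge_overgroup (hQp : IsPGroup p Q) (hQ1 : Q ≠ ⊥) (hL : IsLarge Q) {L : Subgroup G}
    (hQL : Q ≤ L) (hne : pCore p L ≠ ⊥) :
    IsPGroup p ↥(Subgroup.centralizer (pCoreOf p L : Set G)) ∧
      Subgroup.centralizer (pCore p L : Set L) ≤ pCore p L := by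
  have hRne : pCoreOf p L ≠ ⊥ := fun e =>
    hne ((Subgroup.map_eq_bot_iff_of_injective _ L.subtype_injective).1 e)
  obtain ⟨y, hy1, hy⟩ := isLarge_exists_fixed hQp (isPGroup_pCoreOf L) hRne
    (hQL.trans (le_normalizer_pCoreOf p L))
  exact (wc_charP_lemma (isLarge_wc hQp hQ1 hL) hL.1 hQL (charP_centralizer_of_element
    (isPGroup_pCoreOf L) hy.1 (isLarge_charP_centralizer_of_mem hQp hL hy.2 hy1))).2

theorem isLarge_parabolic (hQp : IsPGroup p Q) (hQ1 : Q ≠ ⊥) (hL : IsLarge Q) {R : Subgroup G}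
    (hR : IsParabolic p R) (hne : pCore p R ≠ ⊥) :
    Subgroup.centralizer (pCoreOf p R : Set G) ≤ pCoreOf p R := by
  obtain ⟨T, hT⟩ := hR
  obtain ⟨P, hP⟩ := hQp.exists_le_sylow
  obtain ⟨g, rfl⟩ := MulAction.exists_smul_eq G P T
  have hQg : Q.map (MulAut.conj g).toMonoidHom ≤ R := (Subgroup.map_mono hP).trans hT
  obtain ⟨hC, -⟩ := isLarge_overgroup (hQp.map _) (map_conj_ne_bot hQ1) (isLarge_map_conj hL g)
    hQg hne
  have hn : R ≤ Subgroup.normalizer (Subgroup.centralizer (pCoreOf p R : Set G) : Set G) :=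
    (le_normalizer_pCoreOf p R).trans (normalizer_le_normalizer_centralizer _)
  have hsup : IsPGroup p ↥(((g • P : Sylow p G) : Subgroup G) ⊔
      Subgroup.centralizer (pCoreOf p R : Set G)) :=
    (g • P).isPGroup'.to_sup_of_normal_right' hC (hT.trans hn)
  exact le_pCoreOf ((le_sup_right.trans ((g • P).3 hsup le_sup_left).le).trans hT) hn hC

theorem isLarge_parabolicCharacteristic (hQp : IsPGroup p Q) (hQ1 : Q ≠ ⊥) (hL : IsLarge Q) :
    IsOfParabolicCharacteristic p G := by
  intro R hR hR1 hpar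
  rw [charP_iff]
  refine inf_le_right.trans (isLarge_parabolic hQp hQ1 hL hpar fun e => hR1 ?_)
  have h := le_pCoreOf (p := p) (H := Subgroup.normalizer (R : Set G)) Subgroup.le_normalizer le_rfl hR
  rw [pCoreOf, e, Subgroup.map_bot] at h
  exact le_bot_iff.1 h

end CfsgLib.LocalEven
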