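import Cfsg.Agent.Lib.Coprime.Action2
import Cfsg.Prelude.Def_LocalStructure
import Cfsg.Prelude.Def_Transfer

/-!
# A large subgroup and the `p'`-groups it normalizes
-/

namespace CfsgLib.LocalEven.LargeAction

open Cfsg Subgroup

variable {G : Type*} [Group G] [Finite G] {p : ℕ} [Fact p.Prime]

theorem inf_eq_bot (Q : Subgroup G) (hQp : IsPGroup p Q) (hlarge : IsLarge Q) (G₁ : Subgroup G)
    (hQG : Q ≤ G₁) (R : Subgroup G) (hR : (Nat.card R).Coprime p)
    (hGR : G₁ ≤ normalizer (R : Set G)) (U : Subgroup G)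
    (hx : ∃ x ∈ U, x ≠ 1 ∧ ∃ g ∈ G₁, g * x * g⁻¹ ∈ Q ⊓ centralizer (Q : Set G)) :
    R ⊓ centralizer (U : Set G) = ⊥ := by
  obtain ⟨x, hxU, hx1, g, hg, hy⟩ := hx
  rw [eq_bot_iff]
  rintro r ⟨hrR, hrU⟩
  rw [mem_bot]
  set y := g * x * g⁻¹ with hy'
  set t := g * r * g⁻¹ with ht
  have htR : t ∈ R := (mem_normalizer_iff.1 (hGR hg) r).1 hrR
  have hty : t * y = y * t := by
    rw [ht, hy']
    calc g * r * g⁻¹ * (g * x * g⁻¹) = g * (r * x) * g⁻¹ := by group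
      _ = g * x * g⁻¹ * (g * r * g⁻¹) := by rw [← mem_centralizer_iff.1 hrU x hxU]; group
  have hy1 : y ≠ 1 := fun h => hx1 (by rw [hy', conj_eq_one_iff] at h; exact h)
  have htN : t ∈ normalizer (Q : Set G) := by
    refine hlarge.2 (zpowers y) (zpowers_le.2 hy.2) (by rwa [Ne, zpowers_eq_bot])
      (centralizer_le_normalizer _ ?_)
    rw [mem_centralizer_iff]
    rintro _ ⟨i, rfl⟩
    exact ((show Commute y t from hty.symm).zpow_left i).eq
  have htQ : t ∈ centralizer (Q : Set G) := by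
    rw [mem_centralizer_iff]
    intro q hq
    have hQR : q * t * q⁻¹ * t⁻¹ ∈ R :=
      mul_mem ((mem_normalizer_iff.1 (hGR (hQG hq)) t).1 htR) (inv_mem htR)
    have hQQ : q * t * q⁻¹ * t⁻¹ ∈ Q := by
      have : q * t * q⁻¹ * t⁻¹ = q * (t * q⁻¹ * t⁻¹) := by group
      rw [this]
      exact mul_mem hq ((mem_normalizer_iff.1 htN _).1 (inv_mem hq))
    have h1 : q * t * q⁻¹ * t⁻¹ = 1 := by
      obtain ⟨n, hn⟩ := IsPGroup.iff_card.1 hQp
      have hc : (Nat.card Q).Coprime (Nat.card R) := hn ▸ hR.symm.pow_left n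
      exact mem_bot.1 ((disjoint_iff.1 (disjoint_of_coprime_natCard hc)) ▸ ⟨hQQ, hQR⟩)
    exact mul_inv_eq_iff_eq_mul.1 (mul_inv_eq_one.1 h1)
  have htQ' : t ∈ Q := hlarge.1 htQ
  obtain ⟨n, hn⟩ := IsPGroup.iff_card.1 hQp
  have hc : (Nat.card Q).Coprime (Nat.card R) := hn ▸ hR.symm.pow_left n
  have ht1 : t = 1 := mem_bot.1 ((disjoint_iff.1 (disjoint_of_coprime_natCard hc)) ▸ ⟨htQ', htR⟩)
  rw [ht, conj_eq_one_iff] at ht1; exact ht1

theorem eq_bot_of_elementary (Q : Subgroup G) (hQp : IsPGroup p Q) (hlarge : IsLarge Q)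
    (G₁ : Subgroup G) (hQG : Q ≤ G₁) (R : Subgroup G) (hR : (Nat.card R).Coprime p)
    (hGR : G₁ ≤ normalizer (R : Set G)) (U : Subgroup G) (hUG : U ≤ G₁)
    (hU : IsElementaryAbelian p U) (hcard : p ^ 2 ≤ Nat.card U)
    (hx : ∀ U₀ : Subgroup G, U₀ ≤ U → IsCoatom (U₀.subgroupOf U) →
      ∃ x ∈ U₀, x ≠ 1 ∧ ∃ g ∈ G₁, g * x * g⁻¹ ∈ Q ⊓ centralizer (Q : Set G)) : R = ⊥ := by
  have hp := (Fact.out : p.Prime)
  haveI := hU.1
  have hUp : IsPGroup p U := fun a => ⟨1, Subtype.ext (by simpa using hU.2 a a.2)⟩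
  have hcop : (Nat.card U).Coprime (Nat.card R) := by
    obtain ⟨n, hn⟩ := IsPGroup.iff_card.1 hUp
    exact hn ▸ hR.symm.pow_left n
  rw [eq_bot_iff]
  refine CfsgLib.Coprime.le_of_cyclic_quotient (hUG.trans hGR) hcop fun B hB hBc => ?_
  rw [inf_eq_bot Q hQp hlarge G₁ hQG R hR hGR B ?_]
  obtain ⟨a, ha, hBa⟩ := hBc
  by_cases haB : a ∈ B
  · -- `B = U`: pick any maximal subgroup
    have hBU : B = U := le_antisymm hB (hBa ▸ sup_le le_rfl (zpowers_le.2 haB))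
    haveI : Nontrivial U := by
      rw [← Finite.one_lt_card_iff_nontrivial]
      exact lt_of_lt_of_le (Nat.one_lt_pow two_ne_zero hp.one_lt) hcard
    obtain h | ⟨M, hM, -⟩ := IsCoatomic.eq_top_or_exists_le_coatom (⊥ : Subgroup U)
    · exact absurd h bot_ne_top
    obtain ⟨x, hx, h⟩ := hx (M.map U.subtype) (map_subtype_le M)
      (by rw [subgroupOf, comap_map_eq_self_of_injective U.subtype_injective]; exact hM)
    exact ⟨x, hBU ▸ map_subtype_le M hx, h⟩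
  · refine hx B hB ⟨?_, ?_⟩
    · rw [Ne, subgroupOf_eq_top]
      exact fun h => haB (h ha)
    · intro C hC
      obtain ⟨⟨c, hcU⟩, hcC, hcB⟩ := SetLike.exists_of_lt hC
      have hmem : c ∈ B ⊔ zpowers a := hBa.symm ▸ hcU
      have hn : zpowers a ≤ normalizer (B : Set G) := by
        refine zpowers_le.2 (centralizer_le_normalizer _ ?_)
        rw [mem_centralizer_iff]
        exact fun b hb => congrArg Subtype.val (hU.1.is_comm.comm (⟨b, hB hb⟩ : U) ⟨a, ha⟩)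
      rw [← SetLike.mem_coe, coe_mul_of_right_le_normalizer_left B (zpowers a) hn, Set.mem_mul] at hmem
      obtain ⟨b, hb, w, hw, hbw⟩ := hmem
      have hbC : (⟨b, hB hb⟩ : U) ∈ C := hC.le hb
      have hwC : (⟨w, zpowers_le.2 ha hw⟩ : U) ∈ C := by
        have : (⟨w, zpowers_le.2 ha hw⟩ : U) = (⟨b, hB hb⟩ : U)⁻¹ * ⟨c, hcU⟩ :=
          Subtype.ext (show w = b⁻¹ * c by rw [← hbw]; group)
        rw [this]; exact mul_mem (inv_mem hbC) hcC
      have hw1 : w ≠ 1 := fun h => hcB (show c ∈ B by rw [← hbw, h, mul_one]; exact hb)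
      have hwa : zpowers w = zpowers a := by
        refine eq_of_le_of_card_ge (zpowers_le.2 hw) ?_
        rw [Nat.card_zpowers, Nat.card_zpowers, orderOf_eq_prime (hU.2 a ha) (fun h => haB (h ▸ one_mem B)),
          orderOf_eq_prime (hU.2 w (zpowers_le.2 ha hw)) hw1]
      have haC : (⟨a, ha⟩ : U) ∈ C := by
        obtain ⟨i, hi⟩ := mem_zpowers_iff.1 (hwa.symm ▸ mem_zpowers a : a ∈ zpowers w)
        have : (⟨a, ha⟩ : U) = (⟨w, zpowers_le.2 ha hw⟩ : U) ^ i := Subtype.ext (by simpa using hi.symm)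
        rw [this]; exact zpow_mem hwC i
      rw [eq_top_iff]
      rintro ⟨u, hu⟩ -
      have hmem : u ∈ B ⊔ zpowers a := hBa.symm ▸ hu
      rw [← SetLike.mem_coe, coe_mul_of_right_le_normalizer_left B (zpowers a) hn, Set.mem_mul] at hmem
      obtain ⟨b', hb', w', hw', rfl⟩ := hmem
      obtain ⟨i, rfl⟩ := mem_zpowers_iff.1 hw'
      have : (⟨b' * a ^ i, hu⟩ : U) = (⟨b', hB hb'⟩ : U) * (⟨a, ha⟩ : U) ^ i :=
        Subtype.ext (by simp)
      rw [this]
      exact mul_mem (hC.le hb') (zpow_mem haC i)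

end CfsgLib.LocalEven.LargeAction
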