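import Mathlib

/-!
An element all of whose local normalizers centralize it.
-/

set_option autoImplicit false

namespace CfsgLib.LocalEven.LocCentral

variable {G : Type*} [Group G] [Finite G] {p : ℕ} [Fact p.Prime]

theorem main (P : Sylow p G) {x : G} (hxP : x ∈ (P : Subgroup G))
    (hlc : ∀ R : Subgroup G, R ≤ (P : Subgroup G) → R ≠ ⊥ →
      Subgroup.normalizer (R : Set G) ≤ Subgroup.centralizer ({x} : Set G)) :
    (P : Subgroup G) ≤ Subgroup.centralizer ({x} : Set G) ∧
      (∀ g : G, g * x * g⁻¹ ∈ (P : Subgroup G) → g * x * g⁻¹ = x) ∧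
      ∀ (N : Subgroup G) [N.Normal], ∀ R : Subgroup (G ⧸ N),
        R ≤ (P : Subgroup G).map (QuotientGroup.mk' N) → R ≠ ⊥ →
          Subgroup.normalizer (R : Set (G ⧸ N)) ≤
            Subgroup.centralizer ({(QuotientGroup.mk x : G ⧸ N)} : Set (G ⧸ N)) := by
  have hPc : (P : Subgroup G) ≤ Subgroup.centralizer ({x} : Set G) := by
    intro y hy
    by_cases h : (P : Subgroup G) = ⊥
    · rw [h, Subgroup.mem_bot] at hy
      rw [hy]; exact one_mem _
    · exact hlc _ le_rfl h (Subgroup.le_normalizer hy)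
  refine ⟨hPc, fun g hg => ?_, ?_⟩
  · set y := g * x * g⁻¹ with hy
    rcases eq_or_ne y 1 with hy1 | hy1
    · rw [hy] at hy1 ⊢
      rw [hy1]
      exact (conj_eq_one_iff.1 hy1).symm
    have hle : Subgroup.centralizer ({y} : Set G) ≤ Subgroup.centralizer ({x} : Set G) := by
      refine le_trans (fun c hc => ?_) (hlc (Subgroup.zpowers y) (Subgroup.zpowers_le.2 hg)
        (Subgroup.zpowers_ne_bot.2 hy1))
      apply Subgroup.centralizer_le_normalizer
      intro z hz
      obtain ⟨i, rfl⟩ := Subgroup.mem_zpowers_iff.1 hz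
      exact ((show Commute c y from Subgroup.mem_centralizer_singleton_iff.1 hc).zpow_right i).eq.symm
    have heq : Subgroup.centralizer ({y} : Set G) = Subgroup.centralizer ({x} : Set G) := by
      refine Subgroup.eq_of_le_of_card_ge hle ?_
      refine Nat.card_le_card_of_injective (fun c => ⟨g * c.1 * g⁻¹, ?_⟩) fun a b h => ?_
      · have := Subgroup.mem_centralizer_singleton_iff.1 c.2
        rw [Subgroup.mem_centralizer_singleton_iff, hy]
        simp only [mul_assoc, inv_mul_cancel_left, mul_right_inj]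
        rw [← mul_assoc (c : G), this, mul_assoc]
      · exact Subtype.ext (mul_left_cancel (mul_right_cancel (congrArg Subtype.val h)))
    -- Burnside's argument inside the centralizer of `y`
    set C := Subgroup.centralizer ({y} : Set G) with hC
    have hP1 : (P : Subgroup G) ≤ C := heq.symm ▸ hPc
    have hP2 : ((g • P : Sylow p G) : Subgroup G) ≤ C := by
      intro z hz
      obtain ⟨u, hu, rfl⟩ := Subgroup.mem_map.1 hz
      have := Subgroup.mem_centralizer_singleton_iff.1 (hPc hu)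
      rw [hC, Subgroup.mem_centralizer_singleton_iff, hy]
      show g * u * g⁻¹ * (g * x * g⁻¹) = g * x * g⁻¹ * (g * u * g⁻¹)
      simp only [mul_assoc, inv_mul_cancel_left, mul_right_inj]
      rw [← mul_assoc u, this, mul_assoc]
    obtain ⟨c, hc⟩ := MulAction.exists_smul_eq C ((g • P).subtype hP2) (P.subtype hP1)
    rw [Sylow.smul_subtype] at hc
    have hcg : ((c : G) * g) • P = P := by rw [mul_smul]; exact Sylow.subtype_injective hc
    by_cases hbot : (P : Subgroup G) = ⊥
    · rw [hbot, Subgroup.mem_bot] at hg hxP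
      exact absurd hg hy1
    have hn := hlc _ le_rfl hbot (Sylow.smul_eq_iff_mem_normalizer.1 hcg)
    have h1 := Subgroup.mem_centralizer_singleton_iff.1 hn
    have h2 : (c : G) * y * (c : G)⁻¹ = y :=
      mul_inv_eq_iff_eq_mul.2 (Subgroup.mem_centralizer_singleton_iff.1 c.2)
    calc y = (c : G) * y * (c : G)⁻¹ := h2.symm
      _ = ((c : G) * g) * x * ((c : G) * g)⁻¹ := by rw [hy]; group
      _ = x := by rw [h1, mul_inv_cancel_right]
  · intro N _ R hR hne n hn
    obtain ⟨n, rfl⟩ := QuotientGroup.mk_surjective n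
    set π := QuotientGroup.mk' N
    set R1 := R.comap π with hR1
    set R0 := (P : Subgroup G) ⊓ R1 with hR0
    have hNR1 : N ≤ R1 := fun z hz => by
      show π z ∈ R
      rw [show π z = 1 from (QuotientGroup.eq_one_iff z).2 hz]; exact one_mem R
    have hR1PN : ∀ z ∈ R1, ∃ k ∈ N, ∃ u ∈ (P : Subgroup G), z = k * u := by
      intro z hz
      have h1 : z ∈ ((N ⊔ (P : Subgroup G) : Subgroup G) : Set G) := by
        have := Subgroup.comap_map_eq π (P : Subgroup G)
        rw [QuotientGroup.ker_mk', sup_comm] at this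
        rw [← this]; exact hR hz
      rw [Subgroup.normal_mul] at h1
      obtain ⟨k, hk, u, hu, rfl⟩ := h1
      exact ⟨k, hk, u, hu, rfl⟩
    have hmapR0 : R0.map π = R := by
      refine le_antisymm (Subgroup.map_le_iff_le_comap.2 inf_le_right) fun z hz => ?_
      obtain ⟨z, rfl⟩ := QuotientGroup.mk'_surjective N z
      obtain ⟨k, hk, u, hu, rfl⟩ := hR1PN z hz
      refine ⟨u, ⟨hu, ?_⟩, ?_⟩
      · simpa using mul_mem (inv_mem (hNR1 hk)) hz
      · show π u = π (k * u)
        rw [map_mul, show π k = 1 from (QuotientGroup.eq_one_iff k).2 hk, one_mul]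
    have hR0ne : R0 ≠ ⊥ := fun h => hne (by rw [← hmapR0, h, Subgroup.map_bot])
    -- `R0` is a Sylow subgroup of `R1`
    obtain ⟨Q, hQ⟩ := ((P.2.to_le (inf_le_left : R0 ≤ P)).comap_subtype (K := R1)).exists_le_sylow
    have hQ0 : (Q : Subgroup R1).map R1.subtype = R0 := by
      have hge : R0 ≤ (Q : Subgroup R1).map R1.subtype := fun z hz => ⟨⟨z, hz.2⟩, hQ hz, rfl⟩
      refine (Subgroup.eq_of_le_of_card_ge hge ?_).symm
      obtain ⟨Q', hQ'⟩ := (Q.2.map R1.subtype).exists_le_sylow
      have hQR1 : (Q : Subgroup R1).map R1.subtype ≤ R1 := Subgroup.map_subtype_le _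
      -- move into `P` by an element of `N`
      set L := N ⊔ (P : Subgroup G) with hL
      have hQL : (Q : Subgroup R1).map R1.subtype ≤ L := by
        intro z hz
        obtain ⟨k, hk, u, hu, rfl⟩ := hR1PN z (hQR1 hz)
        exact mul_mem (Subgroup.mem_sup_left hk) (Subgroup.mem_sup_right hu)
      obtain ⟨Q2, hQ2⟩ := ((Q.2.map R1.subtype).comap_subtype (K := L)).exists_le_sylow
      obtain ⟨c, hc⟩ := MulAction.exists_smul_eq L (P.subtype (le_sup_right : _ ≤ L)) Q2
      have hcL : (c : G) ∈ ((N ⊔ (P : Subgroup G) : Subgroup G) : Set G) := c.2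
      rw [Subgroup.normal_mul] at hcL
      obtain ⟨k, hk, u, hu, hku⟩ := hcL
      refine Nat.card_le_card_of_injective (fun z => ⟨k⁻¹ * z.1 * k, ?_, ?_⟩) fun a b h => ?_
      · show _ ∈ (P : Subgroup G)
        have hz2 : (⟨z.1, hQL z.2⟩ : L) ∈ (Q2 : Subgroup L) := hQ2 z.2
        rw [← hc, Sylow.coe_subgroup_smul, Subgroup.mem_pointwise_smul_iff_inv_smul_mem] at hz2
        have h2 : (c : G)⁻¹ * z.1 * c ∈ (P : Subgroup G) := by
          simpa [MulAut.smul_def, Sylow.coe_subtype, Subgroup.mem_subgroupOf] using hz2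
        rw [← hku] at h2
        simpa [mul_assoc] using mul_mem (mul_mem hu h2) (inv_mem hu)
      · exact R1.mul_mem (R1.mul_mem (R1.inv_mem (hNR1 hk)) (hQR1 z.2)) (hNR1 hk)
      · exact Subtype.ext (mul_left_cancel (mul_right_cancel (congrArg Subtype.val h)))
    -- Frattini argument
    have hn1 : ∀ z, z ∈ R1 ↔ n * z * n⁻¹ ∈ R1 := by
      intro z
      simp only [hR1, Subgroup.mem_comap, map_mul, map_inv]
      exact Subgroup.mem_normalizer_iff.1 hn (π z)
    have hR1n : R1.map (MulAut.conj n).toMonoidHom = R1 := by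
      refine le_antisymm ?_ fun z hz => ⟨n⁻¹ * z * n, (hn1 _).2 (by simpa [mul_assoc] using hz), ?_⟩
      · rintro _ ⟨z, hz, rfl⟩; exact (hn1 z).1 hz
      · simp [mul_assoc]
    have hcard : Nat.card ↥((R0.map (MulAut.conj n).toMonoidHom).subgroupOf R1) =
        Nat.card (Q : Subgroup R1) := by
      rw [Nat.card_congr (Subgroup.subgroupOfEquivOfLe ((Subgroup.map_mono
        (inf_le_right : R0 ≤ R1)).trans hR1n.le)).toEquiv,
        Subgroup.card_map_of_injective (MulAut.conj n).injective,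
        ← Subgroup.card_map_of_injective (f := R1.subtype) (K := (Q : Subgroup R1))
          R1.subtype_injective, hQ0]
    obtain ⟨Q3, hQ3⟩ : ∃ Q3 : Sylow p R1,
        (Q3 : Subgroup R1) = (R0.map (MulAut.conj n).toMonoidHom).subgroupOf R1 :=
      ⟨Sylow.ofCard _ (hcard.trans (Sylow.card_eq_multiplicity Q)), rfl⟩
    obtain ⟨r, hr⟩ := MulAction.exists_smul_eq R1 Q3 Q
    have hm : (r : G) * n ∈ Subgroup.normalizer (R0 : Set G) := by
      refine Subgroup.mem_normalizer_fintype fun z hz => ?_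
      have h1 : (⟨n * z * n⁻¹, (hn1 z).1 hz.2⟩ : R1) ∈ (Q3 : Subgroup R1) := by
        rw [hQ3]; exact ⟨z, hz, rfl⟩
      have h2 : r * ⟨n * z * n⁻¹, (hn1 z).1 hz.2⟩ * r⁻¹ ∈ (Q : Subgroup R1) := by
        rw [← hr]; exact ⟨_, h1, rfl⟩
      have h3 : (r : G) * (n * z * n⁻¹) * (r : G)⁻¹ ∈ R0 := hQ0 ▸ ⟨_, h2, rfl⟩
      simpa [mul_assoc] using h3
    have hrn := hlc _ inf_le_left hR0ne hm
    obtain ⟨u, ⟨hu, -⟩, hur⟩ : π (r : G) ∈ R0.map π := hmapR0.symm ▸ r.2
    have hz : u⁻¹ * ((r : G) * n) ∈ Subgroup.centralizer ({x} : Set G) :=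
      mul_mem (inv_mem (hPc hu)) hrn
    have := congrArg π (Subgroup.mem_centralizer_singleton_iff.1 hz)
    simp only [map_mul, map_inv] at this
    rw [show π u = π (r : G) from hur, inv_mul_cancel_left] at this
    exact Subgroup.mem_centralizer_singleton_iff.2 this

end CfsgLib.LocalEven.LocCentral
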