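import Cfsg.Agent.Lib.LocalEven.M24SylTwoData
import Cfsg.Prelude.Def_Transfer

/-!
The quotient of a Sylow 2-subgroup of `Cfsg.M24` by its centre: the group-theoretic meaning of the
finite checks.
-/

set_option autoImplicit false
set_option maxRecDepth 100000

namespace CfsgLib.LocalEven.M24Syl

open Cfsg CfsgLib.Spor

attribute [local irreducible] el zP getT compP idP sP aP rP mList gP cmB eqC eqB sTbl posTbl mTbl
  syl2Tbl syl2Gens

theorem rep_idP : Rep 1 idP := by unfold idP; exact rep_one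

/-- the listed group -/
abbrev T : Subgroup (Equiv.Perm GolayPt) := genGroup syl2Gens

/-- its quotient by the centre -/
abbrev Q : Type := ↥T ⧸ Subgroup.center ↥T

/-- `a` represents a preimage of `x` -/
def QR (x : Q) (a : ℕ) : Prop :=
  ∃ σ : ↥T, (QuotientGroup.mk σ : Q) = x ∧ Rep (σ : Equiv.Perm GolayPt) a

theorem key_iff {σ τ : Equiv.Perm GolayPt} {a b : ℕ} (h : Rep σ a) (h' : Rep τ b) :
    compP idP a = compP idP b ↔ σ = τ := by
  constructor
  · intro e
    have h1 : Rep (1 * σ) (compP idP a) := Rep.mul rep_idP h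
    have h2 : Rep (1 * τ) (compP idP b) := Rep.mul rep_idP h'
    rw [← e] at h2
    simpa using h1.inj h2
  · rintro rfl
    exact h.compP_idP h'

theorem exists_el {i : ℕ} (hi : i < 1024) : ∃ σ : ↥T, Rep (σ : Equiv.Perm GolayPt) (el i) :=
  let ⟨σ, hσ, hr⟩ := listed_mem syl2_listed hi
  ⟨⟨σ, hσ⟩, el_def i ▸ hr⟩

theorem exists_gen {g : ℕ} (hg : g ∈ syl2Gens) :
    ∃ σ : ↥T, Rep (σ : Equiv.Perm GolayPt) g := by
  have hl := syl2_listed
  simp only [listedOK, Bool.and_eq_true, List.all_eq_true] at hl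
  obtain ⟨σ, hσ, hr⟩ := exists_rep_M24 (hl.1.1.1.1.1.1.1.1.2 g hg)
  exact ⟨⟨σ, Subgroup.subset_closure ⟨hσ, g, hg, hr⟩⟩, hr⟩

theorem eq_top_of_gens {H : Subgroup ↥T}
    (h : ∀ σ : ↥T, (∃ g ∈ syl2Gens, Rep (σ : Equiv.Perm GolayPt) g) → σ ∈ H) : H = ⊤ := by
  have hle : T ≤ H.map T.subtype := by
    refine (Subgroup.closure_le _).2 ?_
    rintro σ ⟨hσ, g, hg, hr⟩
    exact ⟨⟨σ, Subgroup.subset_closure ⟨hσ, g, hg, hr⟩⟩, h _ ⟨g, hg, hr⟩, rfl⟩
  refine eq_top_iff.2 fun σ _ => ?_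
  obtain ⟨τ, hτ, e⟩ := hle σ.2
  rwa [← show τ = σ from Subtype.ext e]

theorem exists_zeta : ∃ ζ : ↥T, Rep (ζ : Equiv.Perm GolayPt) zP ∧
    ∀ σ : ↥T, σ ∈ Subgroup.center ↥T ↔ σ = 1 ∨ σ = ζ := by
  obtain ⟨ζ, hζ⟩ := exists_el (i := 341) (by norm_num)
  rw [zP_def] at hζ
  have hz := centre_ok
  simp only [Bool.and_eq_true, List.all_eq_true, Bool.or_eq_true, List.any_eq_true,
    Bool.not_eq_true', List.mem_range, eqB, Nat.beq_eq] at hz
  obtain ⟨⟨hzg, -⟩, hcen⟩ := hz
  have hζc : ζ ∈ Subgroup.center ↥T := by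
    have h := eq_top_of_gens (H := Subgroup.centralizer {ζ}) fun σ ⟨g, hg, hr⟩ => by
      rw [Subgroup.mem_centralizer_singleton_iff]
      apply Subtype.ext
      have h1 := hr.mul hζ
      rw [← hzg g hg] at h1
      exact h1.inj (Rep.mul hζ hr)
    rw [Subgroup.mem_center_iff]
    intro σ
    have h1 : σ ∈ Subgroup.centralizer {ζ} := h ▸ Subgroup.mem_top σ
    exact Subgroup.mem_centralizer_singleton_iff.1 h1
  refine ⟨ζ, hζ, fun σ => ⟨fun hσ => ?_, ?_⟩⟩
  · obtain ⟨i, hi, hr⟩ := listed_complete syl2_listed σ.2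
    rw [el_def] at hr
    rcases hcen i hi with ⟨g, hg, hne⟩ | h | h
    · exfalso
      obtain ⟨γ, hγ⟩ := exists_gen hg
      have e : (γ : Equiv.Perm GolayPt) * σ = σ * γ :=
        congrArg Subtype.val (Subgroup.mem_center_iff.1 hσ γ)
      have e1 : compP (el i) g = compP g (el i) := by
        rw [hr.compP_eq hγ, hγ.compP_eq hr, e]
      rw [e1, Nat.beq_refl] at hne
      exact Bool.noConfusion hne
    · exact Or.inl (Subtype.ext ((key_iff hr rep_idP).1 h))
    · refine Or.inr (Subtype.ext ?_)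
      have h1 : Rep (1 * (σ : Equiv.Perm GolayPt)) (compP idP (el i)) := Rep.mul rep_idP hr
      have h2 : Rep ((ζ : Equiv.Perm GolayPt) * 1) (compP zP idP) := Rep.mul hζ rep_idP
      rw [← h] at h2
      simpa using h1.inj h2
  · rintro (rfl | rfl)
    exacts [one_mem _, hζc]

theorem QR.mul {x y : Q} {a b : ℕ} (h : QR x a) (h' : QR y b) : QR (x * y) (compP a b) := by
  obtain ⟨σ, rfl, hσ⟩ := h
  obtain ⟨τ, rfl, hτ⟩ := h'
  exact ⟨σ * τ, rfl, Rep.mul hσ hτ⟩

theorem qr_one : QR 1 idP := ⟨1, rfl, rep_idP⟩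

theorem QR.eq_iff {x y : Q} {a b : ℕ} (h : QR x a) (h' : QR y b) : x = y ↔ eqB a b = true := by
  obtain ⟨σ, rfl, hσ⟩ := h
  obtain ⟨τ, rfl, hτ⟩ := h'
  obtain ⟨ζ, hζ, hc⟩ := exists_zeta
  have hk : compP idP a = compP zP b ↔ (σ : Equiv.Perm GolayPt) = ζ * τ := by
    have h1 : Rep ((σ : Equiv.Perm GolayPt)) (compP idP a) := by
      simpa using Rep.mul rep_idP hσ
    constructor
    · intro e; exact (e ▸ h1).inj (Rep.mul hζ hτ)
    · intro e
      rw [Rep.compP_eq rep_idP hσ, hζ.compP_eq hτ, one_mul, e]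
  simp only [eqB, Bool.or_eq_true, Nat.beq_eq, key_iff hσ hτ, hk]
  rw [QuotientGroup.eq, hc]
  constructor
  · rintro (e | e)
    · exact Or.inl (congrArg Subtype.val (inv_mul_eq_one.1 e))
    · right
      have hζc : ζ ∈ Subgroup.center ↥T := (hc ζ).2 (Or.inr rfl)
      have hz2 : ζ * ζ = 1 := by
        rcases (hc (ζ * ζ)).1 (mul_mem hζc hζc) with h2 | h2
        · exact h2
        · have : ζ = 1 := by simpa using h2
          rw [this, one_mul]
      have e' : τ = σ * ζ := by rw [← e, mul_inv_cancel_left]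
      have : σ = ζ * τ := by
        rw [e', Subgroup.mem_center_iff.1 hζc σ, ← mul_assoc, hz2, one_mul]
      exact congrArg Subtype.val this
  · rintro (e | e)
    · exact Or.inl (by rw [Subtype.ext e]; exact inv_mul_cancel τ)
    · right
      have hζc : ζ ∈ Subgroup.center ↥T := (hc ζ).2 (Or.inr rfl)
      have hz2 : ζ * ζ = 1 := by
        rcases (hc (ζ * ζ)).1 (mul_mem hζc hζc) with h2 | h2
        · exact h2
        · have : ζ = 1 := by simpa using h2
          rw [this, one_mul]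
      have e' : σ = ζ * τ := Subtype.ext e
      rw [e', mul_inv_rev, mul_assoc, Subgroup.mem_center_iff.1 (inv_mem hζc) τ |>.symm,
        ← mul_assoc, inv_mul_cancel, one_mul, inv_eq_of_mul_eq_one_right hz2]

theorem Rep.idP_compP {σ τ : Equiv.Perm GolayPt} {a b : ℕ} (h : Rep σ a) (h' : Rep τ b) :
    compP idP (compP a b) = compP a b := by
  rw [Rep.compP_eq rep_idP (Rep.mul h h'), Rep.compP_eq h h', one_mul]

theorem QR.eq_of_eqC {x y : Q} {a b : ℕ} (h : QR x a) (h' : QR y b) (e : eqC a b = true) :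
    x = y := by
  rw [h.eq_iff h', eqB, Bool.or_eq_true, Nat.beq_eq, Nat.beq_eq]
  obtain ⟨τ, -, hτ⟩ := h'
  obtain ⟨ζ, hζ, -⟩ := exists_zeta
  simp only [eqC, Bool.or_eq_true, Nat.beq_eq] at e
  rcases e with rfl | rfl
  · exact Or.inl rfl
  · exact Or.inr (Rep.idP_compP hζ hτ)

theorem QR.comm_iff {x y : Q} {a b : ℕ} (h : QR x a) (h' : QR y b) :
    x * y = y * x ↔ cmB a b = true := by
  rw [(h.mul h').eq_iff (h'.mul h)]
  obtain ⟨σ, -, hσ⟩ := h
  obtain ⟨τ, -, hτ⟩ := h'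
  simp only [eqB, cmB, eqC, Rep.idP_compP hσ hτ, Rep.idP_compP hτ hσ]

theorem qr_el {i : ℕ} (hi : i < 1024) : ∃ x : Q, QR x (el i) :=
  let ⟨σ, hσ⟩ := exists_el hi
  ⟨_, σ, rfl, hσ⟩

theorem natCard_Q : Nat.card Q = 512 := by
  obtain ⟨ζ, hζ, hc⟩ := exists_zeta
  have hne : ζ ≠ 1 := by
    intro e
    have hz := centre_ok
    simp only [Bool.and_eq_true, Bool.not_eq_true'] at hz
    have h1 : compP idP zP = compP idP idP := (key_iff hζ rep_idP).2 (by rw [e]; rfl)
    have h2 := hz.1.2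
    rw [h1, Nat.beq_refl] at h2
    exact Bool.noConfusion h2
  have h2 : Nat.card (Subgroup.center ↥T) = 2 := by
    have e : ((Subgroup.center ↥T : Subgroup ↥T) : Set ↥T) = {1, ζ} :=
      Set.ext fun σ => by simpa using hc σ
    change Nat.card ↥((Subgroup.center ↥T : Subgroup ↥T) : Set ↥T) = 2
    rw [Nat.card_coe_set_eq, e, Set.ncard_pair hne.symm]
  have h := Subgroup.card_eq_card_quotient_mul_card_subgroup (Subgroup.center ↥T)
  rw [h2, show Nat.card ↥T = 1024 from natCard_genGroup syl2_listed] at h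
  change 1024 = Nat.card Q * 2 at h
  omega

/-- the classes of the listed abelian subgroup and coset representatives -/
theorem exists_coord : ∃ (a r : ℕ → Q), (∀ m < 64, QR (a m) (aP m)) ∧
    (∀ k < 8, QR (r k) (rP k)) := by
  have h := idx_ok
  simp only [Bool.and_eq_true, List.all_eq_true, Nat.blt_eq] at h
  have get : ∀ (l : List ℕ), (∀ i ∈ l, i < 1024) → ∀ m, ∃ σ : ↥T,
      Rep (σ : Equiv.Perm GolayPt) (el (l.getD m 0)) := by
    intro l hl m
    refine exists_el ?_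
    by_cases hm : m < l.length
    · rw [List.getD_eq_getElem _ _ hm]; exact hl _ (List.getElem_mem hm)
    · rw [List.getD_eq_default _ _ (not_lt.1 hm)]; norm_num
  choose fa hfa using get aList h.1
  choose fr hfr using get rList h.2
  exact ⟨fun m => (fa m : Q), fun k => (fr k : Q), fun m _ => ⟨fa m, rfl, aP_def m ▸ hfa m⟩,
    fun k _ => ⟨fr k, rfl, rP_def k ▸ hfr k⟩⟩

/-- the abelian subgroup with its complement of coset representatives -/
theorem exists_space : ∃ (A : Subgroup Q) (a r : ℕ → Q),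
    (∀ m < 64, QR (a m) (aP m)) ∧ (∀ k < 8, QR (r k) (rP k)) ∧
    (∀ x, x ∈ A ↔ ∃ m < 64, a m = x) ∧ Nat.card ↥A = 64 ∧
    Cfsg.IsElementaryAbelian 2 A ∧
    (∀ k < 8, r k ∈ A ↔ k = 0) ∧
    ∀ x : Q, ∃ k < 8, ∃ m < 64, r k * a m = x := by
  obtain ⟨a, r, ha, hr⟩ := exists_coord
  have h := space_ok
  simp only [Bool.and_eq_true, List.all_eq_true, List.mem_range, Bool.or_eq_true, Nat.beq_eq,
    Bool.not_eq_true'] at h
  obtain ⟨⟨⟨hmul, hker⟩, ha0⟩, hr0⟩ := h
  have hxor : ∀ {i j : ℕ}, i < 64 → j < 64 → i ^^^ j < 64 := fun {i j} hi hj =>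
    Nat.xor_lt_two_pow (n := 6) hi hj
  have am : ∀ i < 64, ∀ j < 64, a i * a j = a (i ^^^ j) := fun i hi j hj =>
    ((ha i hi).mul (ha j hj)).eq_of_eqC (ha _ (hxor hi hj)) (hmul i hi j hj)
  have a0 : a 0 = 1 := ((ha 0 (by norm_num)).eq_iff qr_one).2 ha0
  have r0 : r 0 = 1 := ((hr 0 (by norm_num)).eq_iff qr_one).2 hr0
  have asq : ∀ i < 64, a i * a i = 1 := fun i hi => by rw [am i hi i hi, Nat.xor_self, a0]
  have ainv : ∀ i < 64, (a i)⁻¹ = a i := fun i hi => inv_eq_of_mul_eq_one_right (asq i hi)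
  let A : Subgroup Q :=
    { carrier := {x | ∃ m < 64, a m = x}
      one_mem' := ⟨0, by norm_num, a0⟩
      mul_mem' := by
        rintro _ _ ⟨i, hi, rfl⟩ ⟨j, hj, rfl⟩
        exact ⟨i ^^^ j, hxor hi hj, (am i hi j hj).symm⟩
      inv_mem' := by
        rintro _ ⟨i, hi, rfl⟩
        exact ⟨i, hi, (ainv i hi).symm⟩ }
  have hA : ∀ x, x ∈ A ↔ ∃ m < 64, a m = x := fun x => Iff.rfl
  have inj : ∀ i < 64, ∀ j < 64, a i = a j → i = j := by
    intro i hi j hj e
    have e1 : a (i ^^^ j) = 1 := by rw [← am i hi j hj, e, asq j hj]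
    rcases hker _ (hxor hi hj) with h0 | h0
    · exact Nat.xor_eq_zero_iff.1 h0
    · rw [((ha _ (hxor hi hj)).eq_iff qr_one).1 e1] at h0
      exact Bool.noConfusion h0
  have hcard : Nat.card ↥A = 64 := by
    have e : Function.Bijective (fun m : Fin 64 => (⟨a m, m, m.2, rfl⟩ : ↥A)) :=
      ⟨fun i j e => Fin.ext (inj i i.2 j j.2 (congrArg Subtype.val e)),
        fun ⟨x, m, hm, hx⟩ => ⟨⟨m, hm⟩, Subtype.ext hx⟩⟩
    rw [← Nat.card_eq_of_bijective _ e, Nat.card_fin]
  have hsur : Function.Surjective (fun p : Fin 8 × Fin 64 => r p.1 * a p.2) := by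
    intro x
    obtain ⟨σ, rfl⟩ := QuotientGroup.mk_surjective x
    obtain ⟨i, hi, hrep⟩ := listed_complete syl2_listed σ.2
    have hc := cover_ok
    simp only [Bool.and_eq_true, List.all_eq_true, List.mem_range, Nat.blt_eq] at hc
    obtain ⟨hp, hpe⟩ := hc.2 i hi
    obtain ⟨hs, hse⟩ := hc.1 _ hp
    set p := getT 16 posTbl i
    obtain ⟨y, hy⟩ := qr_el hs
    rw [sP_def] at hy
    rw [el_def] at hrep
    have e1 : (σ : Q) = y := QR.eq_of_eqC ⟨σ, rfl, hrep⟩ hy hpe
    have e2 := ((hr (p / 64) (by omega)).mul (ha (p % 64) (by omega))).eq_of_eqC hy hse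
    exact ⟨(⟨p / 64, by omega⟩, ⟨p % 64, by omega⟩), e2.trans e1.symm⟩
  have hcov : Function.Bijective (fun p : Fin 8 × Fin 64 => r p.1 * a p.2) := by
    rw [Nat.bijective_iff_surjective_and_card]
    exact ⟨hsur, by rw [natCard_Q]; simp⟩
  have rsep : ∀ k < 8, ∀ l < 8, ∀ m < 64, r k * a m = r l → k = l := by
    intro k hk l hl m hm e
    have := @hcov.1 (⟨k, hk⟩, ⟨m, hm⟩) (⟨l, hl⟩, ⟨0, by norm_num⟩)
      (by simpa [a0] using e)
    exact congrArg (fun p : Fin 8 × Fin 64 => p.1.1) this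
  have rA : ∀ k < 8, r k ∈ A ↔ k = 0 := by
    intro k hk
    refine ⟨fun ⟨m, hm, e⟩ => (rsep 0 (by norm_num) k hk m hm (by rw [r0, one_mul, e])).symm, ?_⟩
    rintro rfl
    rw [r0]; exact one_mem _
  refine ⟨A, a, r, ha, hr, hA, hcard, ?_, rA, fun x => ?_⟩
  · refine ⟨⟨⟨fun x y => Subtype.ext ?_⟩⟩, fun x hx => ?_⟩
    · obtain ⟨i, hi, e⟩ := x.2
      obtain ⟨j, hj, e'⟩ := y.2
      show (x : Q) * y = y * x
      rw [← e, ← e', am i hi j hj, am j hj i hi, Nat.xor_comm]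
    · obtain ⟨i, hi, e⟩ := hx
      rw [← e, pow_two, asq i hi]
  · obtain ⟨⟨k, m⟩, e⟩ := hcov.2 x
    exact ⟨k, k.2, m, m.2, e⟩

/-- every abelian subgroup of order 64 is the listed one -/
theorem abelian_eq {A : Subgroup Q} {a r : ℕ → Q} (ha : ∀ m < 64, QR (a m) (aP m))
    (hr : ∀ k < 8, QR (r k) (rP k)) (hA : ∀ x, x ∈ A ↔ ∃ m < 64, a m = x)
    (hAc : Nat.card ↥A = 64) (hAab : ∀ x ∈ A, ∀ y ∈ A, x * y = y * x)
    (rA : ∀ k < 8, r k ∈ A ↔ k = 0) (hcov : ∀ x : Q, ∃ k < 8, ∃ m < 64, r k * a m = x)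
    {B : Subgroup Q} (hB : IsMulCommutative ↥B) (hBc : Nat.card ↥B = 64) : B = A := by
  classical
  refine Subgroup.eq_of_le_of_card_ge (fun b0 hb0 => ?_) (by rw [hAc, hBc])
  by_contra hbA
  have hBab : ∀ x ∈ B, ∀ y ∈ B, x * y = y * x := fun x hx y hy =>
    congrArg Subtype.val (hB.is_comm.comm (⟨x, hx⟩ : ↥B) ⟨y, hy⟩)
  haveI : Finite Q := Nat.finite_of_card_ne_zero (by rw [natCard_Q]; norm_num)
  haveI := Fintype.ofFinite Q
  choose f hf g hg e using hcov
  have hf0 : ∀ x, f x = 0 → x ∈ A := fun x h => by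
    rw [← e x, h]; exact mul_mem ((rA 0 (by norm_num)).2 rfl) ((hA _).2 ⟨_, hg x, rfl⟩)
  let sB : Finset Q := Finset.univ.filter fun x => x ∈ B
  let sD : Finset Q := Finset.univ.filter fun x => x ∈ B ∧ x ∈ A
  have hsB : sB.card = 64 := by
    rw [← hBc, Nat.card_eq_fintype_card, Fintype.card_subtype]
  have hfib : ∀ k, ((sB.filter fun x => f x = k)).card ≤ sD.card := by
    intro k
    by_cases h : ∃ x0 ∈ B, f x0 = k
    · obtain ⟨x0, hx0, rfl⟩ := h
      refine Finset.card_le_card_of_injOn (fun x => x0⁻¹ * x) (fun x hx => ?_)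
        fun x _ y _ h => mul_left_cancel h
      simp only [sB, Finset.coe_filter, Set.mem_ofPred_eq, Finset.mem_filter, Finset.mem_univ,
        true_and] at hx
      simp only [sD, Finset.coe_filter, Set.mem_ofPred_eq, Finset.mem_univ, true_and]
      refine ⟨mul_mem (inv_mem hx0) hx.1, ?_⟩
      rw [← e x0, ← e x, hx.2]
      rw [mul_inv_rev, mul_assoc, inv_mul_cancel_left]
      exact mul_mem (inv_mem ((hA _).2 ⟨_, hg x0, rfl⟩)) ((hA _).2 ⟨_, hg x, rfl⟩)
    · rw [Finset.filter_eq_empty_iff.2 fun x hx hk =>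
        h ⟨x, (Finset.mem_filter.1 hx).2, hk⟩]
      simp
  have hbnd : ∀ ks : List ℕ, (∀ k ∈ ks, ∃ x ∈ B, f x = k) → sD.card ≤ cntA ks := by
    intro ks hks
    refine le_trans (Finset.card_le_card (fun d hd => ?_)) (le_trans
      (Finset.card_image_le (s := ((List.range 64).filter fun m =>
        ks.all fun k => cmB (aP m) (rP k)).toFinset) (f := a)) (List.toFinset_card_le _))
    simp only [sD, Finset.mem_filter, Finset.mem_univ, true_and] at hd
    obtain ⟨m, hm, rfl⟩ := (hA d).1 hd.2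
    refine Finset.mem_image.2 ⟨m, ?_, rfl⟩
    simp only [List.mem_toFinset, List.mem_filter, List.mem_range, List.all_eq_true]
    refine ⟨hm, fun k hk => ?_⟩
    obtain ⟨x, hx, rfl⟩ := hks k hk
    refine ((ha m hm).comm_iff (hr _ (hf x))).1 ?_
    have c1 := hBab _ hd.1 x hx
    rw [← e x, ← mul_assoc, mul_assoc (r (f x)),
      ← hAab _ hd.2 _ ((hA _).2 ⟨_, hg x, rfl⟩), ← mul_assoc] at c1
    exact mul_right_cancel c1
  have hI : sB.card ≤ sD.card * (sB.image f).card :=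
    Finset.card_le_mul_card_image sB _ fun k _ => hfib k
  have hmem : ∀ k ∈ sB.image f, ∃ x ∈ B, f x = k := fun k hk => by
    obtain ⟨x, hx, rfl⟩ := Finset.mem_image.1 hk
    exact ⟨x, (Finset.mem_filter.1 hx).2, rfl⟩
  have hsub : sB.image f ⊆ Finset.range 8 := fun k hk => by
    obtain ⟨x, -, rfl⟩ := hmem k hk; exact Finset.mem_range.2 (hf x)
  have hc := cent_ok
  simp only [Bool.and_eq_true, List.all_eq_true, List.mem_range, Bool.or_eq_true, Nat.beq_eq,
    Nat.ble_eq] at hc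
  obtain ⟨⟨hc1, hc4⟩, hc2⟩ := hc
  have hk0 : f b0 ≠ 0 := fun h => hbA (hf0 _ h)
  have hD16 : sD.card ≤ 16 := le_trans (hbnd [f b0] (by simpa using ⟨b0, hb0, rfl⟩))
    ((hc1 _ (hf b0)).resolve_left hk0)
  have hI3 : 3 < (sB.image f).card := by nlinarith
  obtain ⟨l, hl, hl0⟩ : ∃ l ∈ sB.image f, l ∉ ({0, f b0} : Finset ℕ) := by
    by_contra hne
    push Not at hne
    have h1 := Finset.card_le_card (t := ({0, f b0} : Finset ℕ)) hne
    have h2 : ({0, f b0} : Finset ℕ).card ≤ 2 := Finset.card_le_two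
    omega
  simp only [Finset.mem_insert, Finset.mem_singleton, not_or] at hl0
  have hD8 : sD.card ≤ 8 := by
    refine le_trans (hbnd [f b0, l] ?_) ?_
    · simp only [List.mem_cons, List.not_mem_nil, or_false, forall_eq_or_imp, forall_eq]
      exact ⟨⟨b0, hb0, rfl⟩, hmem l hl⟩
    · rcases hc2 _ (hf b0) l (Finset.mem_range.1 (hsub hl)) with ((h | h) | h) | h
      exacts [absurd h hk0, absurd h hl0.1, absurd h.symm hl0.2, h]
  have h4 : 4 ∈ sB.image f := by
    by_contra h4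
    have h1 := Finset.card_le_card
      (show sB.image f ⊆ (Finset.range 8).erase 4 from fun k hk =>
        Finset.mem_erase.2 ⟨fun e => h4 (e ▸ hk), hsub hk⟩)
    rw [Finset.card_erase_of_mem (by simp), Finset.card_range] at h1
    nlinarith
  have hD7 : sD.card ≤ 7 :=
    le_trans (hbnd [4] (by simpa using hmem 4 h4)) hc4
  have h8 : (sB.image f).card ≤ 8 := by simpa using Finset.card_le_card hsub
  nlinarith

/-- centres of maximal subgroups -/
theorem max_centre {A : Subgroup Q} {a r : ℕ → Q} (ha : ∀ m < 64, QR (a m) (aP m))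
    (hr : ∀ k < 8, QR (r k) (rP k)) (hA : ∀ x, x ∈ A ↔ ∃ m < 64, a m = x)
    (hcov : ∀ x : Q, ∃ k < 8, ∃ m < 64, r k * a m = x) (M : Subgroup Q) (hM : IsCoatom M) :
    Nat.card ↥(Subgroup.center ↥M) ≤ 8 := by
  classical
  haveI : Fact (Nat.Prime 2) := ⟨Nat.prime_two⟩
  haveI : Finite Q := Nat.finite_of_card_ne_zero (by rw [natCard_Q]; norm_num)
  haveI := Fintype.ofFinite Q
  have hQp : IsPGroup 2 Q := IsPGroup.of_card (n := 9) (by rw [natCard_Q]; norm_num)
  haveI := hQp.isNilpotent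
  haveI hMn : M.Normal :=
    Subgroup.NormalizerCondition.normal_of_coatom M normalizerCondition_of_isNilpotent hM
  have hidx : M.index = 2 := by
    obtain ⟨k, hk⟩ := (hQp.to_subgroup M).exists_card_eq
    have hmul := M.card_mul_index
    rw [hk, natCard_Q] at hmul
    have hk8 : k ≤ 8 := by
      by_contra hk8
      have h2 : 2 ^ 9 ≤ 2 ^ k := Nat.pow_le_pow_right (by norm_num) (by omega)
      refine hM.1 ?_
      exact Subgroup.eq_top_of_le_card M (by rw [hk, natCard_Q]; simpa using h2)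
    rcases eq_or_lt_of_le hk8 with rfl | hlt
    · omega
    · exfalso
      obtain ⟨H, hH, hMH⟩ := Sylow.exists_subgroup_card_pow_succ (p := 2) (n := k) (H := M)
        (by rw [natCard_Q]; exact pow_dvd_pow 2 (show k + 1 ≤ 9 by omega)) hk
      have hne : M ≠ H := fun e => by
        rw [e, hH, pow_succ] at hk
        have := Nat.two_pow_pos k
        omega
      have htop := hM.2 H (lt_of_le_of_ne hMH hne)
      rw [htop, Subgroup.card_top, natCard_Q] at hH
      have h2 : 2 ^ (k + 1) ≤ 2 ^ 8 := Nat.pow_le_pow_right (by norm_num) (by omega)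
      omega
  have hglen : syl2Gens.length = 5 := syl2Gens_length
  have hgen : ∀ i < 5, ∃ x : Q, QR x (gP i) := fun i hi => by
    obtain ⟨σ, hσ⟩ := exists_gen (g := gP i) (by
      rw [gP, List.getD_eq_getElem _ _ (by omega)]; exact List.getElem_mem _)
    exact ⟨_, σ, rfl, hσ⟩
  choose! x hx using hgen
  obtain ⟨p0, hp0, hp0M⟩ : ∃ i < 5, x i ∉ M := by
    by_contra hne
    push Not at hne
    refine hM.1 (eq_top_iff.2 fun y _ => ?_)
    obtain ⟨σ, rfl⟩ := QuotientGroup.mk_surjective y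
    have htop := eq_top_of_gens (H := M.comap (QuotientGroup.mk' (Subgroup.center ↥T))) fun τ hτ => by
      obtain ⟨g, hg, hr'⟩ := hτ
      obtain ⟨i, hi, rfl⟩ := List.mem_iff_getElem.1 hg
      have hi5 : i < 5 := by omega
      have hq : QR (QuotientGroup.mk τ) (gP i) :=
        ⟨τ, rfl, by rw [gP, List.getD_eq_getElem _ _ hi]; exact hr'⟩
      have e : (QuotientGroup.mk τ : Q) = x i :=
        (hq.eq_iff (hx i hi5)).2 (by simp [eqB])
      show (QuotientGroup.mk τ : Q) ∈ M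
      rw [e]; exact hne i hi5
    have h1 : σ ∈ M.comap (QuotientGroup.mk' (Subgroup.center ↥T)) := htop ▸ Subgroup.mem_top σ
    exact h1
  let v := ∑ i ∈ Finset.range 5, if x i ∈ M then 0 else 2 ^ i
  have hv : v < 32 ∧ v ≠ 0 ∧ ∀ i < 5, v.testBit i = true ↔ x i ∉ M := by
    have hv' : ∀ b0 b1 b2 b3 b4 : Bool,
        let w := (cond b0 0 1) + (cond b1 0 2) + (cond b2 0 4) + (cond b3 0 8) + (cond b4 0 16)
        w < 32 ∧ (w = 0 ↔ b0 && b1 && b2 && b3 && b4) ∧ w.testBit 0 = !b0 ∧ w.testBit 1 = !b1 ∧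
          w.testBit 2 = !b2 ∧ w.testBit 3 = !b3 ∧ w.testBit 4 = !b4 := by decide
    obtain ⟨h32, h0, t0, t1, t2, t3, t4⟩ := hv' (decide (x 0 ∈ M)) (decide (x 1 ∈ M))
      (decide (x 2 ∈ M)) (decide (x 3 ∈ M)) (decide (x 4 ∈ M))
    have hveq : v = (cond (decide (x 0 ∈ M)) 0 1) + (cond (decide (x 1 ∈ M)) 0 2) +
        (cond (decide (x 2 ∈ M)) 0 4) + (cond (decide (x 3 ∈ M)) 0 8) +
        (cond (decide (x 4 ∈ M)) 0 16) := by
      simp [v, Finset.sum_range_succ, Bool.cond_decide]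
    rw [← hveq] at h32 h0 t0 t1 t2 t3 t4
    refine ⟨h32, fun e => ?_, fun i hi => ?_⟩
    · have := h0.1 e
      simp only [Bool.and_eq_true, decide_eq_true_eq] at this
      interval_cases p0 <;> tauto
    · interval_cases i <;> simp [t0, t1, t2, t3, t4]
  obtain ⟨hv32, hv0, hvb⟩ := hv
  have hp : pivot v < 5 ∧ x (pivot v) ∉ M := by
    unfold pivot
    cases hfind : (List.range 5).find? (fun i => v.testBit i) with
    | none =>
      rw [List.find?_eq_none] at hfind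
      exact absurd ((hvb p0 hp0).2 hp0M) (hfind p0 (List.mem_range.2 hp0))
    | some q =>
      have h1 := List.mem_range.1 (List.mem_of_find?_eq_some hfind)
      exact ⟨h1, (hvb q h1).1 (List.find?_some hfind)⟩
  have hmm := fun {u w : Q} => Subgroup.mul_mem_iff_of_index_two hidx (a := u) (b := w)
  have hin : ∀ c ∈ mList v, ∃ y ∈ M, QR y c := by
    intro c hc
    have hh : ∀ i < 5, ∃ y ∈ M, QR y (hP v i) := by
      intro i hi
      by_cases hb : v.testBit i = true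
      · refine ⟨_, ?_, by rw [hP, if_pos hb]; exact (hx i hi).mul (hx _ hp.1)⟩
        have := (hvb i hi).1 hb
        rw [hmm]; tauto
      · refine ⟨_, ?_, by rw [hP, if_neg hb]; exact hx i hi⟩
        by_contra h; exact hb ((hvb i hi).2 h)
    simp only [mList, List.mem_cons, List.mem_append, List.mem_map, List.mem_range] at hc
    rcases hc with rfl | ⟨i, hi, rfl⟩ | ⟨i, hi, rfl⟩
    · exact ⟨_, by rw [hmm], (hx _ hp.1).mul (hx _ hp.1)⟩
    · exact hh i hi
    · obtain ⟨y, hy, hq⟩ := hh i hi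
      refine ⟨_, ?_, ((hx _ hp.1).mul hq).mul (hx _ hp.1)⟩
      rw [hmm, hmm]; have := hp.2; tauto
  have hmax := max_ok
  simp only [Bool.and_eq_true, List.all_eq_true, List.mem_range, Bool.or_eq_true, Nat.beq_eq,
    Nat.ble_eq, Nat.blt_eq] at hmax
  obtain ⟨⟨hlen, hzip⟩, hcnt⟩ := (hmax.2 v hv32).resolve_left hv0
  have hin' : ∀ j ∈ mTbl.getD v [], ∃ y ∈ M, QR y (el j) := by
    intro j hj
    obtain ⟨i, hi, rfl⟩ := List.mem_iff_getElem.1 hj
    have hz : i < ((mList v).zip (mTbl.getD v [])).length := by rw [List.length_zip]; omega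
    obtain ⟨h1, h2⟩ := hzip _ (List.getElem_mem hz)
    rw [List.getElem_zip] at h1 h2
    obtain ⟨w, hw, hq⟩ := hin _ (List.getElem_mem (show i < (mList v).length by omega))
    obtain ⟨y, hy⟩ := qr_el h1
    exact ⟨y, hq.eq_of_eqC hy h2 ▸ hw, hy⟩
  have hc := cover_ok
  simp only [Bool.and_eq_true, List.all_eq_true, List.mem_range, Nat.blt_eq] at hc
  refine le_trans ?_ hcnt
  set L := (List.range 512).filter fun i =>
    (mTbl.getD v []).all fun j => cmB (sP i) (el j) with hL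
  rw [Nat.card_eq_fintype_card]
  refine le_trans ?_ (List.toFinset_card_le L)
  rw [← Finset.card_univ]
  refine le_trans ?_ (Finset.card_image_le (f := fun i => r (i / 64) * a (i % 64)) (s := L.toFinset))
  refine Finset.card_le_card_of_injOn (fun y => ((y : ↥M) : Q)) (fun y _ => ?_)
    fun y _ y' _ h => Subtype.ext (Subtype.ext h)
  obtain ⟨k, hk, m, hm, e⟩ := hcov ((y : ↥M) : Q)
  have hd : (64 * k + m) / 64 = k ∧ (64 * k + m) % 64 = m := ⟨by omega, by omega⟩
  refine Finset.mem_image.2 ⟨64 * k + m, ?_, by simp only [hd.1, hd.2, e]⟩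
  simp only [hL, List.mem_toFinset, List.mem_filter, List.mem_range, List.all_eq_true]
  refine ⟨by omega, fun j hj => ?_⟩
  obtain ⟨hs, hse⟩ := hc.1 (64 * k + m) (by omega)
  rw [hd.1, hd.2] at hse
  obtain ⟨u, hu⟩ := qr_el hs
  rw [sP_def] at hu
  have e2 := ((hr k hk).mul (ha m hm)).eq_of_eqC hu hse
  rw [e] at e2
  obtain ⟨w, hw, hq⟩ := hin' j hj
  refine (hu.comm_iff hq).1 ?_
  rw [← e2]
  exact (congrArg Subtype.val (Subgroup.mem_center_iff.1 y.2 ⟨w, hw⟩)).symm

end CfsgLib.LocalEven.M24Syl
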