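import Mathlib

/-!
A maximal subgroup of a maximal subgroup which is closed for pairs of conjugates (S3014, S3015),
and minimal supplements with perfect quotient (S3027).
-/

set_option autoImplicit false

namespace CfsgLib.LocalEven.MaxInMax

variable {G : Type*} [Group G] [Finite G]

open Subgroup

theorem exists_kernel {H M : Subgroup G} (hHM : H ≤ M)
    (hcl : ∀ g : G, (H ⊔ H.map (MulAut.conj g).toMonoidHom) ⊓ M = H)
    (hmaxH : IsCoatom (H.subgroupOf M)) (hmaxM : IsCoatom M) :
    (∃ (K : Subgroup G) (x : G), K.Normal ∧ K ⊔ zpowers x = ⊤ ∧ H ≤ K ∧ K ⊓ M = H) ∨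
      (H.Normal ∧ M.Normal) := by
  -- `H` is normal in `M`
  have hnorm : M ≤ normalizer (H : Set G) := by
    intro m hm
    refine mem_normalizer_fintype fun h hh => ?_
    rw [SetLike.mem_coe, ← hcl m]
    exact ⟨mem_sup_right ⟨h, hh, rfl⟩, M.mul_mem (M.mul_mem hm (hHM hh)) (M.inv_mem hm)⟩
  have hn : (H.subgroupOf M).Normal := normal_subgroupOf_iff_le_normalizer hHM |>.2 hnorm
  have hclosed : ∀ h ∈ H, ∀ g : G, g * h * g⁻¹ ∈ M → g * h * g⁻¹ ∈ H := by
    intro h hh g hg
    rw [← hcl g]
    exact ⟨mem_sup_right ⟨h, hh, rfl⟩, hg⟩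
  obtain ⟨x0, hx0, hx0H⟩ : ∃ x ∈ M, x ∉ H := by
    by_contra h
    push Not at h
    exact hmaxH.1 (subgroupOf_eq_top.2 h)
  have hgenM : ∀ x ∈ M, x ∉ H → H ⊔ zpowers x = M := by
    intro x hx hxH
    refine le_antisymm (sup_le hHM (zpowers_le.2 hx)) ?_
    have hlt : H.subgroupOf M < (H ⊔ zpowers x).subgroupOf M := by
      refine lt_of_le_of_ne (fun z hz => mem_sup_left hz) fun he => hxH ?_
      have : (⟨x, hx⟩ : M) ∈ H.subgroupOf M := he ▸ mem_sup_right (mem_zpowers x)
      exact this
    exact subgroupOf_eq_top.1 (hmaxH.2 _ hlt)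
  by_cases hTI : ∀ g : G, ∀ y ∈ M, y ∉ H → g⁻¹ * y * g ∈ M → g ∈ M
  · -- transfer to `M / H`
    let N := H.subgroupOf M
    have : IsSimpleGroup (↥M ⧸ N) := by
      have : Nontrivial (↥M ⧸ N) := by
        refine ⟨QuotientGroup.mk ⟨x0, hx0⟩, 1, fun h => hx0H ?_⟩
        exact (QuotientGroup.eq_one_iff (N := N) _).1 h
      refine ⟨fun L hL => ?_⟩
      have hle : N ≤ L.comap (QuotientGroup.mk' N) := fun z hz => by
        rw [mem_comap, show QuotientGroup.mk' N z = 1 from (QuotientGroup.eq_one_iff z).2 hz]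
        exact one_mem L
      rcases hle.eq_or_lt with h | h
      · left
        rw [← map_comap_eq_self_of_surjective (QuotientGroup.mk'_surjective N) L, ← h,
          QuotientGroup.map_mk'_self]
      · right
        rw [← map_comap_eq_self_of_surjective (QuotientGroup.mk'_surjective N) L, hmaxH.2 _ h,
          map_top_of_surjective _ (QuotientGroup.mk'_surjective N)]
    have hcyc : IsCyclic (↥M ⧸ N) := by
      refine ⟨⟨QuotientGroup.mk ⟨x0, hx0⟩, fun q => ?_⟩⟩
      obtain ⟨z, rfl⟩ := QuotientGroup.mk_surjective q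
      have hz : (z : G) ∈ ((H ⊔ zpowers x0 : Subgroup G) : Set G) := by
        rw [hgenM x0 hx0 hx0H]; exact z.2
      rw [coe_mul_of_right_le_normalizer_left H (zpowers x0)
        ((zpowers_le.2 hx0).trans hnorm)] at hz
      obtain ⟨h, hh, w, hw, hhw⟩ := hz
      obtain ⟨i, rfl⟩ := mem_zpowers_iff.1 hw
      refine mem_zpowers_iff.2 ⟨i, ?_⟩
      rw [← QuotientGroup.mk_zpow, QuotientGroup.eq]
      show ((⟨x0, hx0⟩ : M) ^ i : M).1⁻¹ * z.1 ∈ H
      rw [← hhw, SubgroupClass.coe_zpow]
      have := (mem_normalizer_iff.1 (inv_mem (hnorm (zpow_mem hx0 i))) h).1 hh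
      simpa [mul_assoc] using this
    letI : CommGroup (↥M ⧸ N) := { (inferInstance : Group (↥M ⧸ N)) with
      mul_comm := (IsCyclic.isMulCommutative (α := ↥M ⧸ N)).1.1 }
    let φ : ↥M →* ↥M ⧸ N := QuotientGroup.mk' N
    let V : G →* ↥M ⧸ N := MonoidHom.transfer φ
    have hφ : ∀ z : M, φ z = 1 ↔ (z : G) ∈ H := fun z => QuotientGroup.eq_one_iff z
    have hVH : ∀ h ∈ H, V h = 1 := by
      intro h hh
      classical
      have := Fintype.ofFinite (Quotient (MulAction.orbitRel (zpowers h) (G ⧸ M)))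
      show MonoidHom.transfer φ h = 1
      rw [MonoidHom.transfer_eq_prod_quotient_orbitRel_zpowers_quot]
      refine Finset.prod_eq_one fun q _ => (hφ _).2 ?_
      have hm := QuotientGroup.out_conj_pow_minimalPeriod_mem M h q.out
      have := hclosed _ (pow_mem hh (Function.minimalPeriod (h • ·) q.out)) q.out.out⁻¹
        (by rw [inv_inv]; exact hm)
      rwa [inv_inv] at this
    have hVx : V x0 ≠ 1 := by
      classical
      have := Fintype.ofFinite (Quotient (MulAction.orbitRel (zpowers x0) (G ⧸ M)))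
      show MonoidHom.transfer φ x0 ≠ 1
      rw [MonoidHom.transfer_eq_prod_quotient_orbitRel_zpowers_quot]
      set q0 : Quotient (MulAction.orbitRel (zpowers x0) (G ⧸ M)) :=
        Quotient.mk'' ((1 : G) : G ⧸ M) with hq0
      have hfix : ∀ w : zpowers x0, (w : G) • (((1 : G) : G ⧸ M)) = ((1 : G) : G ⧸ M) := by
        intro w
        rw [MulAction.Quotient.smul_coe, smul_eq_mul, mul_one, QuotientGroup.eq, mul_one]
        exact inv_mem ((zpowers_le.2 hx0) w.2)
      have hout : q0.out = ((1 : G) : G ⧸ M) := by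
        have h1 : MulAction.orbitRel (zpowers x0) (G ⧸ M) q0.out ((1 : G) : G ⧸ M) :=
          Quotient.exact' (Quotient.out_eq' q0)
        rw [MulAction.orbitRel_apply] at h1
        obtain ⟨w, hw⟩ := h1
        exact hw.symm.trans (hfix w)
      rw [Finset.prod_eq_single q0]
      · intro h1
        rw [hφ] at h1
        simp only [hout] at h1
        have hper : Function.minimalPeriod (x0 • ·) (((1 : G) : G ⧸ M)) = 1 := by
          rw [Function.minimalPeriod_eq_one_iff_isFixedPt]
          exact hfix ⟨x0, mem_zpowers x0⟩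
        rw [hper, pow_one] at h1
        set g := Quotient.out (((1 : G) : G ⧸ M))
        have hg : g ∈ M := by
          have := QuotientGroup.out_eq' (((1 : G) : G ⧸ M))
          rw [QuotientGroup.eq, mul_one] at this
          simpa using inv_mem this
        refine hx0H ?_
        have := (mem_normalizer_iff.1 (hnorm hg) _).1 h1
        simpa [mul_assoc] using this
      · intro q _ hq
        rw [hφ]
        have hm := QuotientGroup.out_conj_pow_minimalPeriod_mem M x0 q.out
        set k := Function.minimalPeriod (x0 • ·) q.out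
        by_cases hk : x0 ^ k ∈ H
        · have := hclosed _ hk q.out.out⁻¹ (by rw [inv_inv]; exact hm)
          rwa [inv_inv] at this
        · have hgM := hTI _ _ (pow_mem hx0 k) hk hm
          refine absurd ?_ hq
          have hq' : q.out = ((1 : G) : G ⧸ M) := by
            rw [← QuotientGroup.out_eq' q.out, QuotientGroup.eq, mul_one]
            exact inv_mem hgM
          rw [hq0, ← hq', Quotient.out_eq']
      · intro h; exact absurd (Finset.mem_univ _) h
    refine Or.inl ⟨V.ker, x0, inferInstance, ?_, hVH, ?_⟩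
    · refine top_le_iff.1 fun z _ => ?_
      have htop : zpowers (V x0) = ⊤ :=
        ((zpowers (V x0)).normal_of_isMulCommutative.eq_bot_or_eq_top).resolve_left fun h =>
          hVx (zpowers_eq_bot.1 h)
      obtain ⟨i, hi⟩ := mem_zpowers_iff.1 (htop ▸ mem_top (V z))
      have h1 : z * (x0 ^ i)⁻¹ ∈ V.ker := by
        rw [MonoidHom.mem_ker, map_mul, map_inv, map_zpow, hi, mul_inv_cancel]
      have := mul_mem_sup h1 (mem_zpowers_iff.2 ⟨i, rfl⟩ : x0 ^ i ∈ zpowers x0)
      simpa using this
    · refine le_antisymm ?_ (le_inf hVH hHM)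
      have hle : H.subgroupOf M ≤ (V.ker ⊓ M).subgroupOf M := fun z hz => ⟨hVH _ hz, z.2⟩
      rcases hle.eq_or_lt with h | h
      · intro z hz
        have : (⟨z, hz.2⟩ : M) ∈ H.subgroupOf M := h ▸ hz
        exact this
      · have : (⟨x0, hx0⟩ : M) ∈ (V.ker ⊓ M).subgroupOf M := by rw [hmaxH.2 _ h]; trivial
        exact absurd (MonoidHom.mem_ker.1 this.1) hVx
  · -- some conjugate of `M` meets `M` outside `H`
    push Not at hTI
    obtain ⟨g, y, hy, hyH, hgy, hgM⟩ := hTI
    set T := H ⊔ H.map (MulAut.conj g).toMonoidHom with hT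
    have hTM : T ⊓ M = H := hcl g
    have hyn : y ∈ normalizer (T : Set G) := by
      have h2 : y ∈ normalizer ((H.map (MulAut.conj g).toMonoidHom : Subgroup G) : Set G) := by
        have h3 : g * (g⁻¹ * y * g) * g⁻¹ ∈
            (normalizer (H : Set G)).map (MulAut.conj g).toMonoidHom := ⟨_, hnorm hgy, rfl⟩
        have h4 := le_normalizer_map (MulAut.conj g).toMonoidHom h3
        simpa [mul_assoc] using h4
      refine mem_normalizer_iff.2 fun z => ?_
      have key : ∀ w ∈ normalizer (H : Set G) ⊓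
          normalizer ((H.map (MulAut.conj g).toMonoidHom : Subgroup G) : Set G),
          ∀ z ∈ T, w * z * w⁻¹ ∈ T := by
        intro w hw z hz
        have hle : T ≤ T.comap (MulAut.conj w).toMonoidHom :=
          sup_le (fun a ha => mem_sup_left ((mem_normalizer_iff.1 hw.1 a).1 ha))
            (fun a ha => mem_sup_right ((mem_normalizer_iff.1 hw.2 a).1 ha))
        exact hle hz
      have hw : y ∈ normalizer (H : Set G) ⊓
          normalizer ((H.map (MulAut.conj g).toMonoidHom : Subgroup G) : Set G) := ⟨hnorm hy, h2⟩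
      refine ⟨key y hw z, fun h => ?_⟩
      simpa [mul_assoc] using key y⁻¹ (inv_mem hw) _ h
    have hMle : M ≤ T ⊔ zpowers y :=
      (hgenM y hy hyH).ge.trans (sup_le_sup_right le_sup_left _)
    have hMn : M ≤ normalizer (T : Set G) := by
      rw [← hgenM y hy hyH]
      exact sup_le ((le_sup_left : H ≤ T).trans le_normalizer) (zpowers_le.2 hyn)
    by_cases hTle : T ≤ M
    · -- then `T = H` and `g` normalizes `H` and `M`
      rw [inf_eq_left.2 hTle] at hTM
      have hgn : g ∈ normalizer (H : Set G) := mem_normalizer_fintype fun a ha => by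
        rw [SetLike.mem_coe, ← hTM]
        exact mem_sup_right ⟨a, ha, rfl⟩
      have hHn : normalizer (H : Set G) = ⊤ := (hmaxM.le_iff.1 hnorm).resolve_right fun h' =>
        hgM (h' ▸ hgn)
      have hgNM : g ∈ normalizer (M : Set G) := by
        refine mem_normalizer_fintype fun z hz => ?_
        have h5 : g * (g⁻¹ * y * g) * g⁻¹ ∈ M := by simpa [mul_assoc] using hy
        rw [SetLike.mem_coe, ← hgenM (g⁻¹ * y * g) hgy (fun hc => hyH (by
          simpa [mul_assoc] using (mem_normalizer_iff.1 hgn _).1 hc))] at hz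
        have hle : H ⊔ zpowers (g⁻¹ * y * g) ≤ M.comap (MulAut.conj g).toMonoidHom :=
          sup_le (fun a ha => hHM ((mem_normalizer_iff.1 hgn a).1 ha)) (zpowers_le.2 h5)
        exact hle hz
      refine Or.inr ⟨normalizer_eq_top_iff.1 hHn, normalizer_eq_top_iff.1 ?_⟩
      exact (hmaxM.le_iff.1 le_normalizer).resolve_right fun h' => hgM (h' ▸ hgNM)
    have hnT : normalizer (T : Set G) = ⊤ := (hmaxM.le_iff.1 hMn).resolve_right fun h =>
      hTle (le_normalizer.trans h.le)
    have hgen : T ⊔ zpowers y = ⊤ := (hmaxM.le_iff.1 hMle).resolve_right fun h =>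
      hTle (le_sup_left.trans h.le)
    exact Or.inl ⟨T, y, normalizer_eq_top_iff.1 hnT, hgen, le_sup_left, hTM⟩

theorem closure_inf {H M : Subgroup G} (hHM : H ≤ M)
    (hcl : ∀ g : G, (H ⊔ H.map (MulAut.conj g).toMonoidHom) ⊓ M = H)
    (hmaxH : IsCoatom (H.subgroupOf M)) (hmaxM : IsCoatom M) :
    normalClosure (H : Set G) ⊓ M = H := by
  refine le_antisymm ?_ (le_inf le_normalClosure hHM)
  rcases exists_kernel hHM hcl hmaxH hmaxM with ⟨K, x, hK, -, hHK, hKM⟩ | ⟨hH, -⟩
  · exact (inf_le_inf_right M (normalClosure_le_normal hHK)).trans hKM.le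
  · exact inf_le_left.trans (normalClosure_le_normal le_rfl)

/-- The subgroup generated by the `q'`-elements. -/
def primeToGen (q : ℕ) (A : Subgroup G) : Subgroup G :=
  closure {x | x ∈ A ∧ (orderOf x).Coprime q}

theorem two_conj_generate [IsSimpleGroup G] (hG : ¬ IsMulCommutative G) (M H : Subgroup G)
    (hmaxM : IsCoatom M) (hHM : H ≤ M) (hHn : (H.subgroupOf M).Normal)
    (hidx : (H.relIndex M).Prime) :
    ∃ g : G, H ⊔ H.map (MulAut.conj g).toMonoidHom = ⊤ := by
  by_contra hno
  push Not at hno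
  set q := H.relIndex M with hq
  have : Fact q.Prime := ⟨hidx⟩
  have hmaxH : IsCoatom (H.subgroupOf M) := by
    refine ⟨fun h => hidx.ne_one (by rw [hq, relIndex, h, index_top]), fun L hL => ?_⟩
    rcases hidx.eq_one_or_self_of_dvd _
      (show L.index ∣ (H.subgroupOf M).index from index_dvd_of_le hL.le) with h | h
    · exact index_eq_one.1 h
    · exfalso
      have h1 := relIndex_mul_index hL.le
      rw [show (H.subgroupOf M).index = q from rfl, h] at h1
      have h2 : (H.subgroupOf M).relIndex L = 1 :=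
        Nat.eq_of_mul_eq_mul_right hidx.pos (h1.trans (one_mul q).symm)
      exact hL.not_ge (relIndex_eq_one.1 h2)
  have hMbot : M ≠ ⊥ := fun h => by
    subst h
    exact hidx.ne_one (by rw [hq, relIndex_bot_right])
  have hMn : ¬ M.Normal := fun h => (h.eq_bot_or_eq_top).elim hMbot hmaxM.1
  have hMN : normalizer (M : Set G) = M :=
    ((hmaxM.le_iff.1 le_normalizer).resolve_left fun h => hMn (normalizer_eq_top_iff.1 h))
  have hnormH : M ≤ normalizer (H : Set G) := (normal_subgroupOf_iff_le_normalizer hHM).1 hHn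
  by_cases hcl : ∀ g : G, (H ⊔ H.map (MulAut.conj g).toMonoidHom) ⊓ M = H
  · rcases exists_kernel hHM hcl hmaxH hmaxM with ⟨K, x, hK, hgen, hHK, hKM⟩ | ⟨-, h⟩
    · rcases hK.eq_bot_or_eq_top with rfl | rfl
      · rw [bot_sup_eq] at hgen
        exact hG ⟨⟨fun a b => by
          obtain ⟨i, rfl⟩ := mem_zpowers_iff.1 (hgen ▸ mem_top a)
          obtain ⟨j, rfl⟩ := mem_zpowers_iff.1 (hgen ▸ mem_top b)
          exact ((Commute.refl x).zpow_zpow i j).eq⟩⟩
      · rw [top_inf_eq] at hKM
        exact hmaxH.1 (subgroupOf_eq_top.2 hKM.le)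
    · exact hMn h
  push Not at hcl
  obtain ⟨g, hg⟩ := hcl
  set Hg := H.map (MulAut.conj g).toMonoidHom with hHg
  -- the join is `M`
  have hTM : M ≤ H ⊔ Hg := by
    have hle : H.subgroupOf M ≤ ((H ⊔ Hg) ⊓ M).subgroupOf M := fun z hz => ⟨mem_sup_left hz, z.2⟩
    rcases hle.eq_or_lt with h | h
    · exact absurd (le_antisymm (fun z hz => (h ▸ hz : (⟨z, hz.2⟩ : M) ∈ H.subgroupOf M))
        (le_inf le_sup_left hHM)) hg
    · exact (subgroupOf_eq_top.1 (hmaxH.2 _ h)).trans inf_le_left
  have hT : H ⊔ Hg = M := (hmaxM.le_iff.1 hTM).resolve_left (hno g)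
  have hgle : Hg ≤ M := le_sup_right.trans hT.le
  have hne : Hg ≠ H := fun h => hg (by rw [h, sup_idem, inf_eq_left.2 hHM])
  -- the `q'`-generated subgroup
  have hRM : ∀ A B : Subgroup G, A ≤ B → primeToGen q A ≤ primeToGen q B := fun A B h =>
    closure_mono fun x hx => ⟨h hx.1, hx.2⟩
  have hRH : primeToGen q M = primeToGen q H := by
    refine le_antisymm (closure_mono fun x hx => ⟨?_, hx.2⟩) (hRM _ _ hHM)
    have h1 : (⟨x, hx.1⟩ : M) ^ q ∈ H.subgroupOf M := pow_index_mem (H.subgroupOf M) _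
    obtain ⟨i, hi⟩ := exists_pow_eq_self_of_coprime (x := x) (n := q) hx.2.symm
    rw [← hi]
    exact pow_mem (show x ^ q ∈ H from h1) i
  have hRmap : ∀ (A : Subgroup G) (a : G), (primeToGen q A).map (MulAut.conj a).toMonoidHom =
      primeToGen q (A.map (MulAut.conj a).toMonoidHom) := by
    intro A a
    rw [primeToGen, MonoidHom.map_closure]
    congr 1
    ext z
    constructor
    · rintro ⟨w, ⟨hw, ho⟩, rfl⟩
      exact ⟨⟨w, hw, rfl⟩, by rwa [orderOf_injective _ (MulAut.conj a).injective]⟩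
    · rintro ⟨⟨w, hw, rfl⟩, ho⟩
      exact ⟨w, ⟨hw, by rwa [orderOf_injective _ (MulAut.conj a).injective] at ho⟩, rfl⟩
  set R := primeToGen q M with hR
  by_cases hRbot : R = ⊥
  · -- `M` is a `q`-group
    have hMp : IsPGroup q M := by
      rintro ⟨x, hx⟩
      obtain ⟨a, b, hb, hab⟩ := Nat.exists_eq_pow_mul_and_not_dvd (orderOf_pos x).ne' q hidx.ne_one
      refine ⟨a, Subtype.ext ?_⟩
      show x ^ q ^ a = 1
      rw [← Subgroup.mem_bot, ← hRbot]
      refine subset_closure ⟨pow_mem hx _, ?_⟩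
      rw [orderOf_pow, hab, Nat.gcd_eq_right (dvd_mul_right _ _),
        Nat.mul_div_cancel_left _ (pow_pos hidx.pos _)]
      exact (hidx.coprime_iff_not_dvd.2 hb).symm
    have : Group.IsNilpotent M := hMp.isNilpotent
    have hn : (Hg.subgroupOf M).Normal := by
      have hidx' : Nat.card (Hg.subgroupOf M) = Nat.card (H.subgroupOf M) := by
        rw [Nat.card_congr (subgroupOfEquivOfLe hgle).toEquiv,
          Nat.card_congr (subgroupOfEquivOfLe hHM).toEquiv,
          card_map_of_injective (MulAut.conj g).injective]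
      have hnc := Group.normalizerCondition_of_isNilpotent (G := M)
      refine hnc.normal_of_coatom _ ⟨fun h => ?_, fun L hL => ?_⟩
      · rw [h, Subgroup.card_top] at hidx'
        exact hmaxH.1 (eq_top_of_le_card _ hidx'.le)
      · have hLi : L.index ∣ (Hg.subgroupOf M).index := index_dvd_of_le hL.le
        have hi : (Hg.subgroupOf M).index = q := by
          have h1 := card_mul_index (Hg.subgroupOf M)
          rw [hidx', ← card_mul_index (H.subgroupOf M)] at h1
          exact Nat.eq_of_mul_eq_mul_left Nat.card_pos h1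
        rw [hi] at hLi
        rcases hidx.eq_one_or_self_of_dvd _ hLi with h | h
        · exact index_eq_one.1 h
        · exfalso
          have h1 := relIndex_mul_index hL.le
          rw [hi, h] at h1
          have h2 : (Hg.subgroupOf M).relIndex L = 1 :=
            Nat.eq_of_mul_eq_mul_right hidx.pos (h1.trans (one_mul q).symm)
          exact hL.not_ge (relIndex_eq_one.1 h2)
    have hMNg : M ≤ normalizer (Hg : Set G) := (normal_subgroupOf_iff_le_normalizer hgle).1 hn
    have hMg : M.map (MulAut.conj g).toMonoidHom ≤ normalizer (Hg : Set G) :=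
      (map_mono hnormH).trans (le_normalizer_map (MulAut.conj g).toMonoidHom)
    have hHgbot : Hg ≠ ⊥ := fun h =>
      hne (by rw [h, ((map_eq_bot_iff_of_injective H (MulAut.conj g).injective).1 h)])
    have hN : normalizer (Hg : Set G) = M := by
      refine (hmaxM.le_iff.1 hMNg).resolve_left fun h => ?_
      rcases (normalizer_eq_top_iff.1 h).eq_bot_or_eq_top with h' | h'
      · exact hHgbot h'
      · exact hmaxM.1 (top_le_iff.1 (h' ▸ hgle))
    have hgn : g ∈ normalizer (M : Set G) :=
      mem_normalizer_fintype fun z hz => (hMg.trans hN.le) ⟨z, hz, rfl⟩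
    rw [hMN] at hgn
    refine hne (le_antisymm ?_ ?_)
    · rintro _ ⟨a, ha, rfl⟩; exact (mem_normalizer_iff.1 (hnormH hgn) a).1 ha
    · intro a ha
      exact ⟨g⁻¹ * a * g, by simpa using (mem_normalizer_iff.1 (hnormH (inv_mem hgn)) a).1 ha,
        by simp [mul_assoc]⟩
  · -- `g` normalizes `R`
    have hgR : g ∈ normalizer (R : Set G) := by
      refine mem_normalizer_fintype fun z hz => ?_
      have h1 : R.map (MulAut.conj g).toMonoidHom ≤ R := by
        rw [hRH, hRmap, ← hRH]
        exact hRM _ _ hgle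
      exact h1 ⟨z, hz, rfl⟩
    have hMR : M ≤ normalizer (R : Set G) := by
      intro m hm
      refine mem_normalizer_fintype fun z hz => ?_
      have h1 : R.map (MulAut.conj m).toMonoidHom ≤ R := by
        rw [hR, hRmap]
        refine hRM _ _ ?_
        rintro _ ⟨w, hw, rfl⟩
        exact mul_mem (mul_mem hm hw) (inv_mem hm)
      exact h1 ⟨z, hz, rfl⟩
    have hgM : g ∈ M := by
      rcases hmaxM.le_iff.1 hMR with h | h
      · rcases (normalizer_eq_top_iff.1 h).eq_bot_or_eq_top with h' | h'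
        · exact absurd h' hRbot
        · exact absurd (top_le_iff.1 (h' ▸ (closure_le M).2 fun x hx => hx.1)) hmaxM.1
      · exact h ▸ hgR
    refine hne (le_antisymm ?_ ?_)
    · rintro _ ⟨a, ha, rfl⟩; exact (mem_normalizer_iff.1 (hnormH hgM) a).1 ha
    · intro a ha
      exact ⟨g⁻¹ * a * g, by simpa using (mem_normalizer_iff.1 (hnormH (inv_mem hgM)) a).1 ha,
        by simp [mul_assoc]⟩

/-- The smallest subnormal supplement of a normal subgroup with perfect quotient. -/
theorem exists_min_supplement (D : Subgroup G) [D.Normal]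
    (hperf : ⁅(⊤ : Subgroup G), (⊤ : Subgroup G)⁆ ⊔ D = ⊤) :
    ∃ B : Subgroup G, B.Normal ∧ B ⊔ D = ⊤ ∧
      ∀ B' : Subgroup G, B'.IsSubnormal → B' ⊔ D = ⊤ → B ≤ B' := by
  obtain ⟨E, ⟨hEn, hED⟩, hmin⟩ := Set.Finite.exists_minimal
    (s := {B : Subgroup G | B.Normal ∧ B ⊔ D = ⊤}) (Set.toFinite _) ⟨⊤, inferInstance, top_sup_eq D⟩
  have hsup : ∀ A : Subgroup G, A ⊔ D = ⊤ ↔ A.map (QuotientGroup.mk' D) = ⊤ := by
    intro A
    constructor
    · intro h
      have := congrArg (Subgroup.map (QuotientGroup.mk' D)) h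
      rwa [Subgroup.map_sup, QuotientGroup.map_mk'_self, sup_bot_eq,
        Subgroup.map_top_of_surjective _ (QuotientGroup.mk'_surjective D)] at this
    · intro h
      have := congrArg (Subgroup.comap (QuotientGroup.mk' D)) h
      rwa [Subgroup.comap_map_eq, QuotientGroup.ker_mk', Subgroup.comap_top] at this
  have hcomm : ∀ A B : Subgroup G, A ⊔ D = ⊤ → B ⊔ D = ⊤ → ⁅A, B⁆ ⊔ D = ⊤ := by
    intro A B hA hB
    rw [hsup, map_commutator, (hsup A).1 hA, (hsup B).1 hB]
    have := (hsup _).1 hperf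
    rwa [map_commutator, map_top_of_surjective _ (QuotientGroup.mk'_surjective D)] at this
  refine ⟨E, hEn, hED, fun B hB hBD => ?_⟩
  induction hB with
  | top => exact le_top
  | step H K hle _ hHK ih =>
    have hEK : E ≤ K := ih (top_le_iff.1 (hBD ▸ sup_le_sup_right hle D))
    have hnH : K ≤ normalizer (H : Set G) := (normal_subgroupOf_iff_le_normalizer hle).1 hHK
    -- the property: normalized by `E`, inside `E`, a supplement
    let good : Subgroup G → Prop := fun A =>
      A ≤ E ∧ E ≤ normalizer (A : Set G) ∧ A ⊔ D = ⊤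
    have hinf : ∀ A C, good A → good C → good (A ⊓ C) := by
      rintro A C ⟨hA, hAn, hAD⟩ ⟨hC, hCn, hCD⟩
      refine ⟨inf_le_left.trans hA, fun x hx => ?_, top_le_iff.1 ?_⟩
      · refine mem_normalizer_fintype fun z hz => ⟨?_, ?_⟩
        · exact (mem_normalizer_iff.1 (hAn hx) z).1 hz.1
        · exact (mem_normalizer_iff.1 (hCn hx) z).1 hz.2
      · rw [← hcomm A C hAD hCD]
        refine sup_le_sup_right (commutator_le.2 fun a ha c hc => mem_inf.2 ⟨?_, ?_⟩) D
        · have e : a * c * a⁻¹ * c⁻¹ = a * (c * a⁻¹ * c⁻¹) := by simp only [mul_assoc]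
          simp only [commutatorElement_def]
          rw [e]; exact mul_mem ha ((mem_normalizer_iff.1 (hAn (hC hc)) _).1 (inv_mem ha))
        · exact mul_mem ((mem_normalizer_iff.1 (hCn (hA ha)) c).1 hc) (inv_mem hc)
    have h1 : good (E ⊓ H) := by
      refine ⟨inf_le_left, fun x hx => mem_normalizer_fintype fun z hz => ?_, top_le_iff.1 ?_⟩
      · exact ⟨hEn.conj_mem z hz.1 x, (mem_normalizer_iff.1 (hnH (hEK hx)) z).1 hz.2⟩
      · rw [← hcomm E H hED hBD]
        refine sup_le_sup_right (le_inf (commutator_le_left E H) (commutator_le.2 fun a ha c hc => ?_)) D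
        exact mul_mem ((mem_normalizer_iff.1 (hnH (hEK ha)) c).1 hc) (inv_mem hc)
    obtain ⟨A, hA, hAmin⟩ := Set.Finite.exists_minimal (s := {A : Subgroup G | good A})
      (Set.toFinite _) ⟨_, h1⟩
    have hAle : ∀ C, good C → A ≤ C := fun C hC =>
      le_inf_iff.1 (hAmin (hinf A C hA hC) inf_le_left) |>.2
    have hAn : A.Normal := by
      refine ⟨fun a ha x => ?_⟩
      have hgood : good (A.map (MulAut.conj x⁻¹).toMonoidHom) := by
        refine ⟨?_, ?_, top_le_iff.1 ?_⟩
        · rintro _ ⟨z, hz, rfl⟩; exact hEn.conj_mem z (hA.1 hz) _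
        · intro e he
          have h2 : x * e * x⁻¹ ∈ E := hEn.conj_mem e he x
          have h3 := le_normalizer_map (MulAut.conj x⁻¹).toMonoidHom ⟨_, hA.2.1 h2, rfl⟩
          simpa [mul_assoc] using h3
        · rw [← map_top_of_surjective (MulAut.conj x⁻¹).toMonoidHom (MulAut.conj x⁻¹).surjective,
            ← hA.2.2, Subgroup.map_sup]
          refine sup_le_sup_left ?_ _
          rintro _ ⟨d, hd, rfl⟩
          exact Normal.conj_mem ‹D.Normal› d hd _
      obtain ⟨z, hz, hzx⟩ := hAle _ hgood ha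
      rw [← hzx]
      simpa [mul_assoc] using hz
    have := hmin ⟨hAn, hA.2.2⟩ hA.1
    exact this.trans ((hAle _ h1).trans inf_le_right)

end CfsgLib.LocalEven.MaxInMax
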