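import Mathlib

/-!
# An integral column problem of size sixteen

Columns `v`, `R i`, `S i` with the orthogonality relations of the subsections of a block with
defect group elementary abelian of order sixteen and inertial quotient of order nine.
-/

set_option autoImplicit false

namespace CfsgLib.LocalEven.NineRank

open Finset

theorem cover_one (f g : Fin 4 → Bool) (hf : (univ.filter fun i => f i = true).card = 3)
    (hg : (univ.filter fun i => g i = true).card = 2) :
    ∃ i j, i ≠ j ∧ f i = true ∧ f j = true ∧ ¬ (g i = true ∧ g j = true) := by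
  revert f g
  decide

set_option synthInstance.maxSize 4096 in
theorem cover_two : ∀ f : Fin 4 → Bool, (univ.filter fun i => f i = true).card = 3 →
    ∀ g : Fin 4 → Bool, (univ.filter fun i => g i = true).card = 3 →
    ∀ u : Fin 4 → Bool, (univ.filter fun i => u i = true).card = 2 →
    ∀ w : Fin 4 → Bool, (univ.filter fun i => w i = true).card = 2 →
    (∀ i j, i < j → ((f i && f j) ^^ (g i && g j) ^^ (u i && u j) ^^ (w i && w j)) = false) →
    ∃ i, f i = true ∧ g i = true ∧ u i = true ∧ w i = true := by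
  decide +kernel

variable {ι : Type*} [Fintype ι]

/-- The hypotheses on the columns. -/
structure Cols (v : ι → ℤ) (R S : Fin 4 → ι → ℤ) : Prop where
  ne : ∀ x, v x ≠ 0
  sq : ∑ x, v x ^ 2 = 16
  nine : 9 ≤ Fintype.card ι
  orthR : ∀ i j, ∑ x, R i x * R j x = if i = j then 4 else 0
  orthS : ∀ i j, ∑ x, S i x * S j x = if i = j then 4 else 0
  cross : ∀ i j, ∑ x, R i x * S j x = 1
  sumR : ∀ x, ∑ i, R i x = v x
  sumS : ∀ x, ∑ i, S i x = v x
  pos : ∀ x, 4 * (∑ i, R i x ^ 2) + 4 * (∑ i, S i x ^ 2) < 16 + v x ^ 2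

variable {v : ι → ℤ} {R S : Fin 4 → ι → ℤ}

theorem Cols.symm (h : Cols v R S) : Cols v S R :=
  ⟨h.ne, h.sq, h.nine, h.orthS, h.orthR, fun i j => by simp only [mul_comm (S i _), h.cross],
    h.sumS, h.sumR, fun x => by linarith [h.pos x]⟩

theorem sq_bounds (r : Fin 4 → ℤ) :
    |∑ i, r i| ≤ ∑ i, r i ^ 2 ∧ (2 : ℤ) ∣ (∑ i, r i ^ 2) - ∑ i, r i := by
  refine ⟨(abs_sum_le_sum_abs _ _).trans (sum_le_sum fun i _ => ?_), ?_⟩
  · rw [← sq_abs]; exact Int.le_self_sq _
  · rw [← sum_sub_distrib]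
    refine dvd_sum fun i _ => ?_
    have h := (Int.even_mul_succ_self (r i - 1)).two_dvd
    rwa [sub_add_cancel, show (r i - 1) * r i = r i ^ 2 - r i by ring] at h

theorem abs_le_one_of_sq_le {r : Fin 4 → ℤ} (h : ∑ i, r i ^ 2 ≤ 3) (i : Fin 4) :
    r i = 0 ∨ r i = 1 ∨ r i = -1 := by
  have hle : r i ^ 2 ≤ 3 := (single_le_sum (fun j _ => sq_nonneg (r j)) (mem_univ i)).trans h
  have a : r i < 2 := by nlinarith
  have b : -2 < r i := by nlinarith
  omega

/-- The number of nonzero entries. -/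
theorem card_support {r : Fin 4 → ℤ} (h : ∀ i, r i = 0 ∨ r i = 1 ∨ r i = -1) :
    ((univ.filter fun i => decide (r i ≠ 0) = true).card : ℤ) = ∑ i, r i ^ 2 := by
  rw [card_filter, Nat.cast_sum]
  refine sum_congr rfl fun i _ => ?_
  rcases h i with e | e | e <;> simp [e]

/-- Two equal signs in a row with two entries summing to two. -/
theorem entry_of_two {r : Fin 4 → ℤ} {t : ℤ} (h2 : ∑ i, r i ^ 2 = 2) (ht : ∑ i, r i = t)
    (ht2 : t = 2 ∨ t = -2) {i : Fin 4} (hi : r i ≠ 0) : 2 * r i = t := by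
  have hr := abs_le_one_of_sq_le (r := r) (by omega)
  simp only [Fin.sum_univ_four] at h2 ht
  have q := fun j => (show r j ^ 2 = r j * r j by ring)
  rcases hr 0 with a | a | a <;> rcases hr 1 with b | b | b <;> rcases hr 2 with c | c | c <;>
    rcases hr 3 with d | d | d <;> rw [a, b, c, d] at h2 ht <;> norm_num at h2 <;>
    (fin_cases i <;> simp only [Fin.zero_eta, Fin.mk_one, Fin.reduceFinMk] at hi ⊢ <;> omega)

theorem Cols.small (h : Cols v R S) (x : ι) : v x = 1 ∨ v x = -1 ∨ v x = 2 ∨ v x = -2 := by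
  classical
  have h1 : ∑ y ∈ univ.erase x, v y ^ 2 + v x ^ 2 = 16 := by
    rw [sum_erase_add _ _ (mem_univ x)]; exact h.sq
  have h8 : (8 : ℤ) ≤ ∑ y ∈ univ.erase x, v y ^ 2 :=
    calc (8 : ℤ) ≤ ((univ.erase x).card : ℤ) := by
          rw [card_erase_of_mem (mem_univ x), card_univ]; have := h.nine; omega
      _ = ∑ y ∈ univ.erase x, (1 : ℤ) := by simp
      _ ≤ _ := sum_le_sum fun y _ => by nlinarith [Int.one_le_abs (h.ne y), sq_abs (v y)]
  have a : v x < 3 := by nlinarith
  have b : -3 < v x := by nlinarith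
  have := h.ne x
  omega

/-- The norms of a row. -/
theorem Cols.rows (h : Cols v R S) (x : ι) :
    ((v x = 2 ∨ v x = -2) ∧ ∑ i, R i x ^ 2 = 2 ∧ ∑ i, S i x ^ 2 = 2) ∨
    ((v x = 1 ∨ v x = -1) ∧ ∑ i, R i x ^ 2 = 1 ∧ ∑ i, S i x ^ 2 = 1) ∨
    ((v x = 1 ∨ v x = -1) ∧ ∑ i, R i x ^ 2 = 3 ∧ ∑ i, S i x ^ 2 = 1) ∨
    ((v x = 1 ∨ v x = -1) ∧ ∑ i, R i x ^ 2 = 1 ∧ ∑ i, S i x ^ 2 = 3) := by
  obtain ⟨hc, hcp⟩ := sq_bounds fun i => R i x
  obtain ⟨hd, hdp⟩ := sq_bounds fun i => S i x
  simp only [h.sumR] at hc hcp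
  simp only [h.sumS] at hd hdp
  have hp := h.pos x
  rcases h.small x with e | e | e | e <;> rw [e] at hc hcp hd hdp hp <;> norm_num at hc hd hp <;>
    omega

/-- A column with entries at four given rows vanishes elsewhere. -/
theorem Cols.vanish (h : Cols v R S) {i : Fin 4} {s : Finset ι} (hs : s.card = 4)
    (hne : ∀ x ∈ s, R i x ≠ 0) {y : ι} (hy : y ∉ s) : R i y = 0 := by
  classical
  by_contra h0
  have h4 : ∑ x, R i x * R i x = 4 := by rw [h.orthR, if_pos rfl]
  have h5 : (((insert y s).card : ℕ) : ℤ) ≤ ∑ x ∈ insert y s, R i x * R i x := by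
    rw [card_eq_sum_ones, Nat.cast_sum]
    refine sum_le_sum fun x hx => ?_
    have hx0 : R i x ≠ 0 := by
      rcases mem_insert.1 hx with rfl | hx
      exacts [h0, hne x hx]
    push_cast
    rcases lt_or_gt_of_ne hx0 with l | l <;> nlinarith
  have h6 : ∑ x ∈ insert y s, R i x * R i x ≤ ∑ x, R i x * R i x :=
    sum_le_sum_of_subset_of_nonneg (subset_univ _) fun x _ _ => mul_self_nonneg _
  rw [card_insert_of_notMem hy, hs] at h5
  push_cast at h5
  omega

/-- The orthogonality seen on the rows with several entries. -/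
theorem Cols.orth_on (h : Cols v R S) {i j : Fin 4} (hij : i ≠ j) {s : Finset ι}
    (hs : ∀ x ∉ s, ∑ k, R k x ^ 2 = 1) : ∑ x ∈ s, R i x * R j x = 0 := by
  classical
  have h0 : ∑ x, R i x * R j x = 0 := by rw [h.orthR, if_neg hij]
  refine Eq.trans (sum_subset (subset_univ s) fun x _ hx => ?_) h0
  by_contra hne
  obtain ⟨hi, hj⟩ := not_or.1 fun e => hne (mul_eq_zero.2 e)
  have h2 : R i x ^ 2 + R j x ^ 2 ≤ ∑ k, R k x ^ 2 := by
    rw [← sum_pair hij (f := fun k => R k x ^ 2)]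
    exact sum_le_sum_of_subset_of_nonneg (subset_univ _) fun k _ _ => sq_nonneg _
  rw [hs x hx] at h2
  rcases lt_or_gt_of_ne hi with l | l <;> rcases lt_or_gt_of_ne hj with l' | l' <;> nlinarith

theorem Cols.entries (h : Cols v R S) (x : ι) (i : Fin 4) :
    R i x = 0 ∨ R i x = 1 ∨ R i x = -1 := by
  refine abs_le_one_of_sq_le (r := fun k => R k x) ?_ i
  rcases h.rows x with ⟨-, e, -⟩ | ⟨-, e, -⟩ | ⟨-, e, -⟩ | ⟨-, e, -⟩ <;> omega

theorem Cols.count (h : Cols v R S) :
    (univ.filter fun x => ∑ i, R i x ^ 2 = 3).card =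
        (univ.filter fun x => v x = 2 ∨ v x = -2).card ∧
      Fintype.card ι + 3 * (univ.filter fun x => v x = 2 ∨ v x = -2).card = 16 := by
  classical
  have hc : ∑ x, ∑ i, R i x ^ 2 = 16 := by
    rw [sum_comm, sum_congr rfl fun i _ => (show ∑ x, R i x ^ 2 = 4 by
      simp only [pow_two]; rw [h.orthR, if_pos rfl])]
    simp
  have e1 : ∀ x, v x ^ 2 = 1 + 3 * (if v x = 2 ∨ v x = -2 then 1 else 0 : ℤ) := by
    intro x
    rcases h.small x with e | e | e | e <;> simp [e]
  have e2 : ∀ x, ∑ i, R i x ^ 2 = 1 + (if v x = 2 ∨ v x = -2 then 1 else 0 : ℤ) +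
      2 * (if ∑ i, R i x ^ 2 = 3 then 1 else 0 : ℤ) := by
    intro x
    rcases h.rows x with ⟨a | a, e, -⟩ | ⟨a | a, e, -⟩ | ⟨a | a, e, -⟩ | ⟨a | a, e, -⟩ <;>
      simp [a, e]
  have s1 := h.sq
  rw [sum_congr rfl fun x _ => e1 x, sum_add_distrib, ← mul_sum, sum_boole] at s1
  rw [sum_congr rfl fun x _ => e2 x, sum_add_distrib, sum_add_distrib, ← mul_sum, sum_boole,
    sum_boole] at hc
  simp only [sum_const, card_univ, nsmul_eq_mul, mul_one] at s1 hc
  omega

open scoped Classical in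
/-- With two big rows a column passes through them and through the two triple rows. -/
theorem Cols.through (h : Cols v R S) {a b : ι} (hab : a ≠ b)
    (hbig : univ.filter (fun x => v x = 2 ∨ v x = -2) = {a, b}) :
    ∃ (x y : ι) (i : Fin 4), x ≠ y ∧ (∑ k, R k x ^ 2 = 3) ∧ (∑ k, R k y ^ 2 = 3) ∧
      2 * R i a = v a ∧ 2 * R i b = v b ∧ ∀ z, R i z ≠ 0 → z = a ∨ z = b ∨ z = x ∨ z = y := by
  classical
  have hcard := h.count.1
  rw [hbig, card_pair hab, card_eq_two] at hcard
  obtain ⟨x, y, hxy, hT⟩ := hcard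
  have hx : ∑ k, R k x ^ 2 = 3 :=
    (mem_filter.1 (hT ▸ mem_insert_self x {y} : x ∈ univ.filter fun x => ∑ i, R i x ^ 2 = 3)).2
  have hy : ∑ k, R k y ^ 2 = 3 :=
    (mem_filter.1 (hT ▸ mem_insert_of_mem (mem_singleton_self y) :
      y ∈ univ.filter fun x => ∑ i, R i x ^ 2 = 3)).2
  have hm : ∀ z, (v z = 2 ∨ v z = -2) ↔ z = a ∨ z = b := fun z => by
    simpa using (Finset.ext_iff.1 hbig z)
  have hva := (hm a).2 (Or.inl rfl)
  have hvb := (hm b).2 (Or.inr rfl)
  have htwo : ∀ z, (v z = 2 ∨ v z = -2) → ∑ k, R k z ^ 2 = 2 := fun z hz => by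
    rcases h.rows z with ⟨-, e, -⟩ | ⟨e', -⟩ | ⟨e', -⟩ | ⟨e', -⟩ <;> omega
  have ha := htwo a hva
  have hb := htwo b hvb
  have hd : a ≠ x ∧ a ≠ y ∧ b ≠ x ∧ b ≠ y :=
    ⟨fun e => by rw [e] at ha; omega, fun e => by rw [e] at ha; omega,
      fun e => by rw [e] at hb; omega, fun e => by rw [e] at hb; omega⟩
  have hout : ∀ z ∉ ({a, b, x, y} : Finset ι), ∑ k, R k z ^ 2 = 1 := by
    intro z hz
    simp only [mem_insert, mem_singleton, not_or] at hz
    rcases h.rows z with ⟨e, -⟩ | ⟨-, e, -⟩ | ⟨-, e, -⟩ | ⟨-, e, -⟩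
    · exact absurd ((hm z).1 e) (by tauto)
    · exact e
    · have : z ∈ ({x, y} : Finset ι) := hT ▸ mem_filter.2 ⟨mem_univ z, e⟩
      simp at this; tauto
    · exact e
  let f : ι → Fin 4 → Bool := fun z k => decide (R k z ≠ 0)
  have hf : ∀ z (n : ℕ), ∑ k, R k z ^ 2 = n → (univ.filter fun k => f z k = true).card = n := by
    intro z n hn
    have := card_support (r := fun k => R k z) fun k => h.entries z k
    rw [hn] at this
    exact_mod_cast this
  have hpar : ∀ i j : Fin 4, i < j →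
      ((f x i && f x j) ^^ (f y i && f y j) ^^ (f a i && f a j) ^^ (f b i && f b j)) = false := by
    intro i j hij
    have e := h.orth_on (i := i) (j := j) hij.ne hout
    rw [sum_insert (by simp [hab, hd]), sum_insert (by simp [hd]), sum_pair hxy] at e
    have key : ∀ {p q r s : ℤ}, (p = 0 ∨ p = 1 ∨ p = -1) → (q = 0 ∨ q = 1 ∨ q = -1) →
        (r = 0 ∨ r = 1 ∨ r = -1) → (s = 0 ∨ s = 1 ∨ s = -1) → p + q + r + s = 0 →
        (decide (r ≠ 0) ^^ decide (s ≠ 0) ^^ decide (p ≠ 0) ^^ decide (q ≠ 0)) = false := by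
      intro p q r s hp hq hr hs hsum
      rcases hp with rfl | rfl | rfl <;> rcases hq with rfl | rfl | rfl <;>
        rcases hr with rfl | rfl | rfl <;> rcases hs with rfl | rfl | rfl <;>
        first | omega | decide
    have hand : ∀ z, (f z i && f z j) = decide (R i z * R j z ≠ 0) := fun z => by
      simp only [f, ← Bool.decide_and, ne_eq, mul_eq_zero, not_or]
    have hval : ∀ z, R i z * R j z = 0 ∨ R i z * R j z = 1 ∨ R i z * R j z = -1 := fun z => by
      rcases h.entries z i with p | p | p <;> rcases h.entries z j with q | q | q <;> simp [p, q]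
    rw [hand, hand, hand, hand]
    exact key (hval a) (hval b) (hval x) (hval y) (by linarith)
  obtain ⟨i, h1, h2, h3, h4⟩ := cover_two (f x) (hf x 3 hx) (f y) (hf y 3 hy) (f a) (hf a 2 ha)
    (f b) (hf b 2 hb) hpar
  simp only [f, decide_eq_true_eq] at h1 h2 h3 h4
  refine ⟨x, y, i, hxy, hx, hy, entry_of_two (r := fun k => R k a) ha (h.sumR a) hva h3,
    entry_of_two (r := fun k => R k b) hb (h.sumR b) hvb h4, fun z hz => ?_⟩
  by_contra hcon
  refine hz (h.vanish (s := ({a, b, x, y} : Finset ι)) ?_ ?_ ?_)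
  · simp [hab, hd, hxy]
  · simp [h1, h2, h3, h4]
  · simpa using hcon

/-- **The block has sixteen characters.** -/
theorem Cols.card_eq (h : Cols v R S) : Fintype.card ι = 16 := by
  classical
  obtain ⟨hT, hcard⟩ := h.count
  have h9 := h.nine
  have htwo : ∀ z, (v z = 2 ∨ v z = -2) → ∑ k, R k z ^ 2 = 2 := fun z hz => by
    rcases h.rows z with ⟨-, e, -⟩ | ⟨e', -⟩ | ⟨e', -⟩ | ⟨e', -⟩ <;> omega
  rcases Nat.eq_zero_or_pos (univ.filter fun x => v x = 2 ∨ v x = -2).card with h0 | h0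
  · omega
  exfalso
  rcases Nat.lt_or_ge (univ.filter fun x => v x = 2 ∨ v x = -2).card 2 with h1 | h1
  · -- one big row
    have hm1 : (univ.filter fun x => v x = 2 ∨ v x = -2).card = 1 := by omega
    rw [hm1] at hT
    obtain ⟨a, ha⟩ := card_eq_one.1 hm1
    obtain ⟨x, hx⟩ := card_eq_one.1 hT
    have hx3 : ∑ k, R k x ^ 2 = 3 :=
      (mem_filter.1 (hx ▸ mem_singleton_self x : x ∈ univ.filter fun x => ∑ i, R i x ^ 2 = 3)).2
    have hva : v a = 2 ∨ v a = -2 :=
      (mem_filter.1 (ha ▸ mem_singleton_self a : a ∈ univ.filter fun x => v x = 2 ∨ v x = -2)).2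
    have ha2 := htwo a hva
    have hax : a ≠ x := fun e => by rw [e] at ha2; omega
    have hf : ∀ z (n : ℕ), ∑ k, R k z ^ 2 = n →
        (univ.filter fun k => decide (R k z ≠ 0) = true).card = n := by
      intro z n hn
      have := card_support (r := fun k => R k z) fun k => h.entries z k
      rw [hn] at this
      exact_mod_cast this
    obtain ⟨i, j, hij, hi, hj, hnot⟩ := cover_one (fun k => decide (R k x ≠ 0))
      (fun k => decide (R k a ≠ 0)) (hf x 3 hx3) (hf a 2 ha2)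
    simp only [decide_eq_true_eq] at hi hj hnot
    have e := h.orth_on (i := i) (j := j) hij (s := {x, a}) fun z hz => by
      simp only [mem_insert, mem_singleton, not_or] at hz
      rcases h.rows z with ⟨e, -⟩ | ⟨-, e, -⟩ | ⟨-, e, -⟩ | ⟨-, e, -⟩
      · exact absurd (mem_singleton.1 (ha ▸ mem_filter.2 ⟨mem_univ z, e⟩)) hz.2
      · exact e
      · exact absurd (mem_singleton.1 (hx ▸ mem_filter.2 ⟨mem_univ z, e⟩)) hz.1
      · exact e
    rw [sum_pair hax.symm] at e
    have : R i a * R j a = 0 := by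
      rcases not_and_or.1 hnot with e' | e' <;> simp [not_not.1 e']
    rw [this, add_zero, mul_eq_zero] at e
    tauto
  · obtain ⟨a, b, hab, hbig⟩ := card_eq_two.1 (show (univ.filter fun x => v x = 2 ∨ v x = -2).card = 2 by omega)
    obtain ⟨x, y, i, hxy, hx, hy, hia, hib, hi⟩ := h.through hab hbig
    obtain ⟨z, w, j, hzw, hz, hw, hja, hjb, hj⟩ := h.symm.through hab hbig
    have hd : ∀ t, (∑ k, R k t ^ 2 = 3) → (∑ k, S k t ^ 2 = 3) → False := fun t e e' => by
      rcases h.rows t with ⟨-, u, u'⟩ | ⟨-, u, u'⟩ | ⟨-, u, u'⟩ | ⟨-, u, u'⟩ <;> omega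
    have e := h.cross i j
    rw [← sum_subset (subset_univ ({a, b} : Finset ι)) fun t _ ht => ?_, sum_pair hab] at e
    · have va := (mem_filter.1 (hbig ▸ mem_insert_self a {b} :
        a ∈ univ.filter fun x => v x = 2 ∨ v x = -2)).2
      have vb := (mem_filter.1 (hbig ▸ mem_insert_of_mem (mem_singleton_self b) :
        b ∈ univ.filter fun x => v x = 2 ∨ v x = -2)).2
      have e1 : R i a * S j a = 1 := by rcases va with u | u <;> nlinarith
      have e2 : R i b * S j b = 1 := by rcases vb with u | u <;> nlinarith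
      omega
    · by_contra hne
      obtain ⟨hRt, hSt⟩ := not_or.1 fun e => hne (mul_eq_zero.2 e)
      simp only [mem_insert, mem_singleton, not_or] at ht
      rcases hi t hRt with u | u | u | u
      · exact ht.1 u
      · exact ht.2 u
      all_goals
        rcases hj t hSt with u' | u' | u' | u'
        · exact ht.1 u'
        · exact ht.2 u'
        · exact hd t (u ▸ ‹_›) (u' ▸ hz)
        · exact hd t (u ▸ ‹_›) (u' ▸ hw)

end CfsgLib.LocalEven.NineRank
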