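import Cfsg.Agent.Lib.Blocks.KleinPrincipal
import Cfsg.Agent.Lib.Blocks.KleinCols
import Cfsg.Agent.Lib.Blocks.NilpotentPrincipal
import Cfsg.Agent.Lib.Blocks.SectionSum
import Cfsg.Agent.Lib.Blocks.Covering
import Cfsg.Agent.Lib.BlockOrth.Dimension
import Cfsg.Agent.Lib.CharsMore.Gow.Main

/-!
# The principal block above a normal subgroup of index four with a four group as Sylow subgroup

If a four group centralizing a Sylow four group `Q` of the normal subgroup `K` complements `K`, and
`K` fuses the involutions of `Q`, every character of the principal block of `K` is invariant and the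
principal block of the group has three modular characters.
-/

set_option autoImplicit false
set_option linter.unusedSectionVars false
set_option linter.style.haveILetI false

namespace CfsgLib.LocalEven.NineRank

open Cfsg CfsgLib.Chars CfsgLib.Blocks CfsgLib.CharApps CfsgLib.BlockOrth Finset
open scoped ComplexConjugate

universe u

variable {H : Type u} [Group H] [Fintype H] {M : Ideal AlgInt} [M.IsPrime] [Fact (Nat.Prime 2)]

/-- An odd element moving an element of a two-subgroup it normalizes excludes rank one. -/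
theorem two_le_blockRank_principal (hpM : ((2 : ℕ) : AlgInt) ∈ M) {Q : Subgroup H} (hQ : IsPGroup 2 Q)
    {n q : H} (hn : ¬ 2 ∣ orderOf n) (hq : q ∈ Q) (hnq : n * q * n⁻¹ ∈ Q) (hne : n * q * n⁻¹ ≠ q) :
    2 ≤ blockRank 2 (principalBlock M H) := by
  have h1 := one_le_blockRank (p := 2) (isPBlock_principalBlock (G := H) M)
  refine (Nat.lt_or_ge 1 _).resolve_right fun h2 => hne ?_
  obtain ⟨O, hON, hO, k, hk⟩ := exists_normal_complement_of_rank_one hpM (le_antisymm h2 h1)
  have hnO : n ∈ O := index_eq_pow_mem_of_regular hk hn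
  have hmem : n * q * n⁻¹ * q⁻¹ ∈ O := by
    have := O.mul_mem hnO (hON.conj_mem _ (O.inv_mem hnO) q)
    simpa [mul_assoc] using this
  have hQm : n * q * n⁻¹ * q⁻¹ ∈ Q := Q.mul_mem hnq (Q.inv_mem hq)
  obtain ⟨j, hj⟩ := IsPGroup.iff_orderOf.1 hQ ⟨_, hQm⟩
  have hdvd := Subgroup.orderOf_dvd_natCard O hmem
  rw [← Subgroup.orderOf_coe] at hj
  simp only [hj] at hdvd
  rcases Nat.eq_zero_or_pos j with h0 | h0
  · rw [h0, pow_zero] at hj
    exact mul_inv_eq_one.1 (orderOf_eq_one_iff.1 hj)
  · exact absurd ((dvd_pow_self 2 h0.ne').trans hdvd) hO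

/-- A normal subgroup of index four with a complementing four group. -/
structure IndexFour (K : Subgroup H) [K.Normal] (A : Subgroup H) (Q : Sylow 2 K) : Prop where
  index : K.index = 4
  inter : ∀ x ∈ A, x ∈ K → x = 1
  cardA : Nat.card A = 4
  commA : ∀ x ∈ A, ∀ y ∈ A, x * y = y * x
  commAQ : ∀ x ∈ A, ∀ q ∈ (Q : Subgroup K), x * (q : H) = (q : H) * x
  klein : IsKleinFour (Q : Subgroup K)
  mover : ∃ n : K, n ∈ Subgroup.normalizer ((Q : Subgroup K) : Set K) ∧ Odd (orderOf n) ∧
    (∀ x ∈ A, x * (n : H) = (n : H) * x) ∧ ∃ q ∈ (Q : Subgroup K), n * q * n⁻¹ ≠ q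
  ctrl : ∀ x ∈ A, ∀ q ∈ (Q : Subgroup K), IsConj x (x * (q : H)) → q = 1

variable {K : Subgroup H} [K.Normal] [Fintype K] {A : Subgroup H} {Q : Sylow 2 K}

theorem IndexFour.regular_mem (hK : IndexFour K A Q) {h : H} (hh : ¬ 2 ∣ orderOf h) : h ∈ K :=
  index_eq_pow_mem_of_regular (p := 2) (k := 2) (hK.index.trans (by norm_num)) hh

theorem IndexFour.split (hK : IndexFour K A Q) (h : H) : ∃ x : A, ∃ k : K, h = (k : H) * x := by
  have hbij : Function.Bijective (fun x : A => (QuotientGroup.mk (x : H) : H ⧸ K)) := by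
    refine (Nat.bijective_iff_injective_and_card _).2 ⟨fun x y e => ?_, ?_⟩
    · have e1 := (QuotientGroup.eq).1 e
      exact Subtype.ext (inv_mul_eq_one.1 (hK.inter _ (A.mul_mem (A.inv_mem x.2) y.2) e1))
    · rw [hK.cardA]; exact hK.index.symm
  obtain ⟨x, hx⟩ := hbij.2 (QuotientGroup.mk h)
  refine ⟨x, ⟨h * (x : H)⁻¹, ?_⟩, by simp⟩
  have e := (QuotientGroup.eq).1 hx
  have := (inferInstance : K.Normal).conj_mem _ e (x : H)
  simpa [mul_assoc] using this

theorem IndexFour.all_conj (hK : IndexFour K A Q) (s t : K) (hs : orderOf s = 2) (ht : orderOf t = 2) :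
    IsConj s t := by
  classical
  obtain ⟨n, hn, hodd, -, q, hq, hne⟩ := hK.mover
  set σ : MulAut (Q : Subgroup K) := (Q : Subgroup K).normalizerMonoidHom ⟨n, hn⟩ with hσ
  obtain ⟨m, hm⟩ := hodd
  have hpow : σ ^ (2 * m + 1) = 1 := by
    rw [hσ, ← map_pow]
    convert map_one (Q : Subgroup K).normalizerMonoidHom
    exact Subtype.ext (by push_cast; rw [← hm, pow_orderOf_eq_one])
  have hsq : ∀ x : (Q : Subgroup K), x * x = 1 := fun x => by
    have := hK.klein
    exact IsKleinFour.mul_self x
  have hfix : ∀ x : (Q : Subgroup K), x ≠ 1 → σ x ≠ x := fun x hx e => by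
    refine hne ?_
    have h1 := four_aut_eq_one hK.klein.card_four hsq hpow hx e
    have h2 := DFunLike.congr_fun h1 (⟨q, hq⟩ : (Q : Subgroup K))
    exact congrArg Subtype.val h2
  obtain ⟨r, hr⟩ : ∃ r : (Q : Subgroup K), r ≠ 1 := by
    haveI : Nontrivial (Q : Subgroup K) :=
      Finite.one_lt_card_iff_nontrivial.1 (by rw [hK.klein.card_four]; norm_num)
    exact exists_ne 1
  have hσr : σ r ≠ 1 := fun e => hr (σ.injective (e.trans (map_one σ).symm))
  have hval : ∀ x : (Q : Subgroup K), ((σ x : (Q : Subgroup K)) : K) = n * x * n⁻¹ := fun x => rfl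
  have hQconj : ∀ x : (Q : Subgroup K), x ≠ 1 → IsConj (r : K) x := by
    intro x hx
    by_cases h1 : x = r
    · rw [h1]
    have c1 : IsConj (r : K) (σ r : (Q : Subgroup K)) := isConj_iff.2 ⟨n, (hval r).symm⟩
    have c2 : IsConj (σ r : K) (σ (σ r) : (Q : Subgroup K)) := isConj_iff.2 ⟨n, (hval _).symm⟩
    by_cases h2 : x = σ r
    · rw [h2]; exact c1
    have h3 : σ (σ r) ≠ 1 := fun e => hσr (σ.injective (e.trans (map_one σ).symm))
    have h4 : σ (σ r) ≠ r := by
      intro e
      refine hfix r hr ?_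
      have h2k : ∀ k : ℕ, (σ ^ (2 * k)) r = r := fun k => by
        induction k with
        | zero => simp
        | succ k ih =>
          rw [show 2 * (k + 1) = 2 * k + 2 by ring, pow_add, MulAut.mul_apply, sq, MulAut.mul_apply,
            e, ih]
      have := DFunLike.congr_fun hpow r
      rw [pow_succ', MulAut.mul_apply, h2k, MulAut.one_apply] at this
      exact this
    have h5 : x = σ (σ r) := by
      by_contra h5
      have hc : ({1, r, σ r, σ (σ r), x} : Finset (Q : Subgroup K)).card = 5 := by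
        rw [Finset.card_insert_of_notMem, Finset.card_insert_of_notMem,
          Finset.card_insert_of_notMem, Finset.card_insert_of_notMem, Finset.card_singleton] <;>
          simp only [Finset.mem_insert, Finset.mem_singleton, not_or]
        · exact Ne.symm h5
        · exact ⟨fun e => hfix (σ r) hσr e.symm, Ne.symm h2⟩
        · exact ⟨Ne.symm (hfix r hr), Ne.symm h4, Ne.symm h1⟩
        · exact ⟨Ne.symm hr, Ne.symm hσr, Ne.symm h3, Ne.symm hx⟩
      have := Finset.card_le_univ ({1, r, σ r, σ (σ r), x} : Finset (Q : Subgroup K))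
      rw [hc, ← Nat.card_eq_fintype_card, hK.klein.card_four] at this
      omega
    rw [h5]
    exact c1.trans c2
  have hall : ∀ s : K, orderOf s = 2 → IsConj (r : K) s := by
    intro s hs
    obtain ⟨T, hT⟩ := (IsPGroup.of_card (p := 2) (n := 1) (G := Subgroup.zpowers s)
      (by rw [Nat.card_zpowers, hs, pow_one])).exists_le_sylow
    obtain ⟨c, hcT⟩ := MulAction.exists_smul_eq K T Q
    have hmem : c * s * c⁻¹ ∈ (Q : Subgroup K) := by
      rw [← hcT, Sylow.coe_subgroup_smul]
      exact ⟨_, hT (Subgroup.mem_zpowers s), rfl⟩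
    have hs1 : c * s * c⁻¹ ≠ 1 := fun e => by
      rw [conj_eq_one_iff] at e; rw [e, orderOf_one] at hs; omega
    exact (hQconj ⟨_, hmem⟩ (fun e => hs1 (congrArg Subtype.val e))).trans
      (isConj_iff.2 ⟨c, rfl⟩).symm
  exact (hall s hs).symm.trans (hall t ht)

/-- The four characters of the principal block of `K`. -/
structure KleinFam (M : Ideal AlgInt) (K : Subgroup H) [Fintype K] where
  ζ : Fin 4 → IrrCharacter K
  ε : Fin 4 → ℤ
  inj : Function.Injective ζ
  block : ∀ θ : IrrCharacter K, θ ∈ principalBlock M K ↔ ∃ i, ζ i = θ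
  ε_cases : ∀ i, ε i = 1 ∨ ε i = -1
  sing : ∀ i (k : K), 2 ∣ orderOf k → (ζ i : K → ℂ) k = ε i
  indicator : ∀ k : K, ∑ i, (ε i : ℂ) * (ζ i : K → ℂ) k = if 2 ∣ orderOf k then 4 else 0

theorem IndexFour.exists_fam (hK : IndexFour K A Q) (hM : IsPModular 2 M) :
    Nonempty (KleinFam M K) := by
  classical
  obtain ⟨q, hq⟩ : ∃ q : (Q : Subgroup K), q ≠ 1 := by
    haveI : Nontrivial (Q : Subgroup K) :=
      Finite.one_lt_card_iff_nontrivial.1 (by rw [hK.klein.card_four]; norm_num)
    exact exists_ne 1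
  have hord : ∀ y : (Q : Subgroup K), y ≠ 1 → orderOf (y : K) = 2 := fun y hy => by
    rw [Subgroup.orderOf_coe]
    haveI := hK.klein
    exact orderOf_eq_prime (by rw [sq]; exact IsKleinFour.mul_self y) hy
  have hJ := hord q hq
  obtain ⟨d⟩ := exists_kleinData hM Q hK.klein hK.all_conj hJ
  have hF := fewInvolutions_of_klein Q hK.klein
  have hab : IsMulCommutative Q := ⟨⟨hF.comm⟩⟩
  have hfrob : ∀ y : K, y ∈ (Q : Subgroup K) → y ≠ 1 →
      Subgroup.centralizer ({y} : Set K) ⊓ Subgroup.normalizer ((Q : Subgroup K) : Set K) =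
        Subgroup.centralizer ((Q : Subgroup K) : Set K) :=
    fun y hy hy1 => hF.centralizer_inf_normalizer hy hy1
  have hsing : ∀ θ ∈ principalBlock M K, ∀ k : K, 2 ∣ orderOf k →
      (θ : K → ℂ) k = (θ : K → ℂ) (q : K) := by
    intro θ hθ k hk
    obtain ⟨v, y, hyv, hc, ⟨e, he⟩, hv⟩ := exists_isPPrimePart (p := 2) k
    obtain ⟨T, hT⟩ := (IsPGroup.of_card (p := 2) (n := e) (G := Subgroup.zpowers y)
      (by rw [Nat.card_zpowers, he])).exists_le_sylow
    obtain ⟨c, hcT⟩ := MulAction.exists_smul_eq K T Q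
    have hmem : c * y * c⁻¹ ∈ (Q : Subgroup K) := by
      rw [← hcT, Sylow.coe_subgroup_smul]
      exact ⟨_, hT (Subgroup.mem_zpowers y), rfl⟩
    have hne : (⟨_, hmem⟩ : (Q : Subgroup K)) ≠ 1 := fun e => by
      have e' : c * y * c⁻¹ = 1 := congrArg Subtype.val e
      rw [conj_eq_one_iff] at e'
      rw [← hyv, e', one_mul] at hk
      exact hv hk
    have hz : IsPPart 2 (c * k * c⁻¹) (c * y * c⁻¹) :=
      ⟨c * v * c⁻¹, by rw [← hyv]; group, (Commute.conj_iff c).2 hc,
        ⟨e, (MulEquiv.orderOf_eq (MulAut.conj c) y).trans he⟩,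
        fun h => hv (h.trans (MulEquiv.orderOf_eq (MulAut.conj c) v).dvd)⟩
    rw [(isConj_iff_forall_irr _ _).1 (isConj_iff.2 ⟨c, rfl⟩ : IsConj k (c * k * c⁻¹)) θ,
      apply_eq_of_pPart hM hab hfrob ⟨_, hmem⟩ hne hz hθ]
    exact (isConj_iff_forall_irr _ _).1 (hK.all_conj _ _ (hord _ hne) hJ) θ
  let ζ : Fin 4 → IrrCharacter K := ![principal K, d.X, d.Y, d.Z]
  let ε : Fin 4 → ℤ := ![1, 1, d.ε, -1]
  have hmem : ∀ i, ζ i ∈ principalBlock M K := fun i => by
    rw [d.block]; fin_cases i <;> simp [ζ]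
  have hval : ∀ i, (ζ i : K → ℂ) (q : K) = ε i := fun i => by
    fin_cases i <;> simp [ζ, ε, d.valX, d.valY, d.valZ, principal_apply]
  have hεc : ∀ i, ε i = 1 ∨ ε i = -1 := fun i => by
    fin_cases i <;> simp [ε, d.ε_cases]
  refine ⟨⟨ζ, ε, ?_, fun θ => ?_, hεc, fun i k hk => ?_, fun k => ?_⟩⟩
  · intro i j e
    fin_cases i <;> fin_cases j <;>
      simp [ζ, d.XY, d.XZ, d.YZ, d.X_ne, d.Y_ne, d.Z_ne, d.XY.symm, d.XZ.symm, d.YZ.symm,
        d.X_ne.symm, d.Y_ne.symm, d.Z_ne.symm] at e ⊢
  · rw [d.block]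
    simp [ζ, Fin.exists_fin_succ, eq_comm (a := θ)]
  · rw [hsing _ (hmem i) k hk, hval i]
  · split_ifs with hk
    · rw [Finset.sum_congr rfl (g := fun _ => (1 : ℂ)) fun i _ => ?_]
      · simp
      rw [hsing _ (hmem i) k hk, hval i]
      rcases hεc i with e | e <;> rw [e] <;> simp
    · have := d.rel k hk
      simp [ζ, ε, Fin.sum_univ_four, principal_apply]
      linear_combination this

variable (F : KleinFam M K)

theorem KleinFam.mem (i : Fin 4) : F.ζ i ∈ principalBlock M K := (F.block _).2 ⟨i, rfl⟩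

theorem KleinFam.inner (i j : Fin 4) :
    classInner (F.ζ i : K → ℂ) (F.ζ j : K → ℂ) = if i = j then 1 else 0 := by
  split_ifs with e
  · rw [e, inner_irr_self]
  · exact inner_irr_ne fun e' => e (F.inj e')

/-- The sum of the regular parts. -/
theorem KleinFam.regular_norm [Fintype (IrrCharacter K)] :
    ∑ i, ∑ k : K, (if 2 ∣ orderOf k then 0 else (F.ζ i : K → ℂ) k * conj ((F.ζ i : K → ℂ) k)) =
      3 * (Nat.card K : ℂ) := by
  classical
  have hN : (Nat.card K : ℂ) ≠ 0 := card_ne_zero K
  have hfull : ∀ i j, ∑ k : K, (F.ζ i : K → ℂ) k * conj ((F.ζ j : K → ℂ) k) =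
      if i = j then (Nat.card K : ℂ) else 0 := by
    intro i j
    have h := F.inner i j
    rw [inner_def, inv_mul_eq_iff_eq_mul₀ hN] at h
    rw [h]; split_ifs <;> simp
  -- the singular elements are a quarter of `K`
  have hsing : (4 : ℂ) * ∑ k : K, (if 2 ∣ orderOf k then (1 : ℂ) else 0) = Nat.card K := by
    obtain ⟨i₀, hi₀⟩ := (F.block _).1 (principal_mem_principalBlock (G := K) M)
    have h : ∀ k : K, (4 : ℂ) * (if 2 ∣ orderOf k then (1 : ℂ) else 0) =
        (∑ i, (F.ε i : ℂ) * (F.ζ i : K → ℂ) k) * conj ((F.ζ i₀ : K → ℂ) k) := by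
      intro k
      rw [F.indicator k, hi₀, principal_apply, map_one, mul_one]
      split_ifs <;> simp
    rw [Finset.mul_sum, Finset.sum_congr rfl fun k _ => h k]
    simp only [Finset.sum_mul, mul_assoc]
    rw [Finset.sum_comm]
    simp only [← Finset.mul_sum, hfull, mul_ite, mul_zero, Finset.sum_ite_eq', Finset.mem_univ,
      if_true]
    have h1 : (F.ε i₀ : ℂ) = 1 := by
      obtain ⟨k, hk⟩ : ∃ k : K, 2 ∣ orderOf k := by
        by_contra hcon
        push Not at hcon
        have h2 := F.indicator 1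
        have h3 : ∑ k : K, (∑ i, (F.ε i : ℂ) * (F.ζ i : K → ℂ) k) *
            conj ((F.ζ i₀ : K → ℂ) k) = 0 := Finset.sum_eq_zero fun k _ => by
          rw [F.indicator k, if_neg (hcon k), zero_mul]
        simp only [Finset.sum_mul, mul_assoc] at h3
        rw [Finset.sum_comm] at h3
        simp only [← Finset.mul_sum, hfull, mul_ite, mul_zero, Finset.sum_ite_eq', Finset.mem_univ,
          if_true] at h3
        rcases F.ε_cases i₀ with e | e <;> rw [e] at h3 <;> simp [hN] at h3
      have := F.sing i₀ k hk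
      rw [hi₀, principal_apply] at this
      exact this.symm
    rw [h1, one_mul]
  have hrow : ∀ i, ∑ k : K, (if 2 ∣ orderOf k then 0
      else (F.ζ i : K → ℂ) k * conj ((F.ζ i : K → ℂ) k)) =
      Nat.card K - ∑ k : K, (if 2 ∣ orderOf k then (1 : ℂ) else 0) := by
    intro i
    rw [eq_sub_iff_add_eq, ← Finset.sum_add_distrib,
      ← (hfull i i).trans (if_pos rfl)]
    refine Finset.sum_congr rfl fun k _ => ?_
    split_ifs with hk
    · rw [F.sing i k hk]
      rcases F.ε_cases i with e | e <;> rw [e] <;> simp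
    · rw [add_zero]
  rw [Finset.sum_congr rfl fun i _ => hrow i, Finset.sum_const, Finset.card_univ, Fintype.card_fin,
    nsmul_eq_mul]
  push_cast
  linear_combination -hsing

/-- The multiplicities in a restriction. -/
noncomputable def mult (η : IrrCharacter H) (θ : IrrCharacter K) : ℂ :=
  classInner (fun k : K => (η : H → ℂ) k) (θ : K → ℂ)

theorem mult_nat (η : IrrCharacter H) (θ : IrrCharacter K) : ∃ m : ℕ, mult η θ = m :=
  inner_irr_right_nat (isCharacter_restrict K (isCharacter_of_irr η.2)) θ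

theorem mult_conj (η : IrrCharacter H) (g : H) (θ : IrrCharacter K) :
    mult η (conjIrr K g θ) = mult η θ := by
  rw [mult, mult, inner_def, inner_def]
  congr 1
  refine Fintype.sum_bijective _ (bijective_conjBy K g) _ _ fun k => ?_
  rw [coe_conjIrr, CharsMore.conjFn]
  show (η : H → ℂ) k * _ = (η : H → ℂ) (g * k * g⁻¹) * _
  rw [isClassFunction_irr η]

/-- The regular sum of a character of `H` seen in `K`. -/
theorem regularSum_eq [Fintype (IrrCharacter K)] (hK : IndexFour K A Q) (η : IrrCharacter H) :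
    ∑ h ∈ univ.filter (fun h : H => ¬ 2 ∣ orderOf h), (η : H → ℂ) h =
      ∑ θ : IrrCharacter K, mult η θ *
        ∑ k ∈ univ.filter (fun k : K => ¬ 2 ∣ orderOf k), (θ : K → ℂ) k := by
  classical
  have h1 : ∑ h ∈ univ.filter (fun h : H => ¬ 2 ∣ orderOf h), (η : H → ℂ) h =
      ∑ k ∈ univ.filter (fun k : K => ¬ 2 ∣ orderOf k), (η : H → ℂ) k := by
    symm
    refine Finset.sum_bij (fun k _ => (k : H)) (fun k hk => ?_) (fun k _ l _ e => Subtype.ext e)
      (fun h hh => ?_) fun k _ => rfl
    · simp only [mem_filter, mem_univ, true_and, Subgroup.orderOf_coe] at hk ⊢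
      exact hk
    · simp only [mem_filter, mem_univ, true_and] at hh
      refine ⟨⟨h, hK.regular_mem hh⟩, ?_, rfl⟩
      simp only [mem_filter, mem_univ, true_and, Subgroup.orderOf_mk]
      exact hh
  rw [h1]
  simp only [Finset.mul_sum]
  rw [Finset.sum_comm]
  refine Finset.sum_congr rfl fun k _ => ?_
  have hcf : IsClassFunction K (fun k : K => (η : H → ℂ) k) :=
    isClassFunction_of_isCharacter (isCharacter_restrict K (isCharacter_of_irr η.2))
  have := congrFun (classFun_eq_sum hcf) k
  simpa [Finset.sum_apply, mult] using this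

/-- The scalar products of the rows of multiplicities count the conjugations. -/
theorem sum_mult_mul_conj [Fintype (IrrCharacter H)] [DecidableEq (IrrCharacter K)]
    (hK : IndexFour K A Q) [Fintype A] (θ θ' : IrrCharacter K) :
    ∑ η : IrrCharacter H, mult η θ * conj (mult η θ') =
      ((univ.filter fun x : A => conjIrr K (x : H) θ' = θ).card : ℂ) := by
  classical
  have hN : (Nat.card K : ℂ) ≠ 0 := card_ne_zero K
  have hbij : Function.Bijective (fun z : A × K => (z.2 : H) * (z.1 : H)) := by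
    refine ⟨fun z w e => ?_, fun h => ?_⟩
    · simp only at e
      have h1 : (z.1 : H) * (w.1 : H)⁻¹ = (z.2 : H)⁻¹ * (w.2 : H) := by
        rw [mul_inv_eq_iff_eq_mul, mul_assoc, eq_inv_mul_iff_mul_eq]; exact e
      have h2 : (z.1 : H) = w.1 := mul_inv_eq_one.1 (hK.inter _ (A.mul_mem z.1.2 (A.inv_mem w.1.2))
        (h1 ▸ K.mul_mem (K.inv_mem z.2.2) w.2.2))
      rw [h2] at e
      exact Prod.ext (Subtype.ext h2) (Subtype.ext (mul_right_cancel e))
    · obtain ⟨x, k, e⟩ := hK.split h
      exact ⟨(x, k), e.symm⟩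
  have step : ∀ g : H, ∑ k : K, conj ((θ : K → ℂ) k) * (θ' : K → ℂ) (CharsMore.conjBy K g k) =
      (Nat.card K : ℂ) * classInner (conjIrr K g θ' : K → ℂ) (θ : K → ℂ) := by
    intro g
    rw [inner_def, ← mul_assoc, mul_inv_cancel₀ hN, one_mul]
    exact Finset.sum_congr rfl fun k _ => by rw [coe_conjIrr, CharsMore.conjFn, mul_comm]
  calc ∑ η : IrrCharacter H, mult η θ * conj (mult η θ')
      = (Nat.card K : ℂ)⁻¹ * (Nat.card K : ℂ)⁻¹ * ∑ k : K, ∑ l : K,
          conj ((θ : K → ℂ) k) * (θ' : K → ℂ) l *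
            ∑ η : IrrCharacter H, (η : H → ℂ) k * conj ((η : H → ℂ) l) := by
        simp only [mult, inner_def, map_mul, map_inv₀, map_natCast, map_sum, Complex.conj_conj,
          Finset.mul_sum, Finset.sum_mul]
        rw [Finset.sum_comm]
        refine Eq.trans (Finset.sum_congr rfl fun l _ => ?_) Finset.sum_comm
        rw [Finset.sum_comm]
        refine Finset.sum_congr rfl fun k _ => Finset.sum_congr rfl fun η _ => ?_
        ring
    _ = (Nat.card K : ℂ)⁻¹ * (Nat.card K : ℂ)⁻¹ * ∑ k : K, ∑ g : H,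
          conj ((θ : K → ℂ) k) * (θ' : K → ℂ) (CharsMore.conjBy K g k) := by
        congr 1
        refine Finset.sum_congr rfl fun k _ => ?_
        rw [← Finset.sum_fiberwise univ (fun g : H => CharsMore.conjBy K g k)]
        refine Finset.sum_congr rfl fun l _ => ?_
        rw [CharsMore.Gow.sum_irr_mul_conj, Finset.sum_congr rfl fun g hg => by
          rw [(mem_filter.1 hg).2], Finset.sum_const, nsmul_eq_mul, mul_comm _ ((Nat.card _ : ℕ) : ℂ)]
        congr 2
        rw [← Fintype.card_subtype, ← Nat.card_eq_fintype_card]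
        exact Nat.card_congr (Equiv.subtypeEquiv (Equiv.refl H) fun g =>
          ⟨fun e => Subtype.ext e, fun e => congrArg Subtype.val e⟩)
    _ = (Nat.card K : ℂ)⁻¹ * ∑ g : H, classInner (conjIrr K g θ' : K → ℂ) (θ : K → ℂ) := by
        rw [Finset.sum_comm, Finset.sum_congr rfl fun g _ => step g, ← Finset.mul_sum, ← mul_assoc,
          mul_assoc (Nat.card K : ℂ)⁻¹ _ (Nat.card K : ℂ), inv_mul_cancel₀ hN, mul_one]
    _ = _ := by
        rw [← hbij.sum_comp, Fintype.sum_prod_type]
        have hsame : ∀ (x : A) (k : K),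
            conjIrr K ((k : H) * (x : H)) θ' = conjIrr K (x : H) θ' := by
          intro x k
          rw [conjIrr_mul]
          congr 1
          refine Subtype.ext (funext fun l => ?_)
          rw [coe_conjIrr, CharsMore.conjFn]
          exact isClassFunction_irr θ' l k
        simp only [hsame, Finset.sum_const, Finset.card_univ, ← Nat.card_eq_fintype_card,
          nsmul_eq_mul, ← Finset.mul_sum]
        rw [← mul_assoc, inv_mul_cancel₀ hN, one_mul,
          ← Finset.sum_boole]
        refine Finset.sum_congr rfl fun x _ => ?_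
        split_ifs with e
        · rw [e, inner_irr_self]
        · exact inner_irr_ne e

theorem conjIrr_mem_principal [Fintype (IrrCharacter K)] (hpM : ((2 : ℕ) : AlgInt) ∈ M) (g : H)
    {θ : IrrCharacter K} (hθ : θ ∈ principalBlock M K) :
    conjIrr K g θ ∈ principalBlock M K := by
  classical
  rw [mem_principalBlock_iff_regularSum hpM] at hθ ⊢
  refine fun e => hθ (Eq.trans ?_ e)
  refine Finset.sum_bij (fun k _ => CharsMore.conjBy K g⁻¹ k) (fun k hk => ?_)
    (fun k _ l _ e => (bijective_conjBy K g⁻¹).1 e)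
    (fun k hk => ⟨CharsMore.conjBy K g k, ?_, ?_⟩) fun k _ => ?_
  · simp only [mem_filter, mem_univ, true_and] at hk ⊢
    rwa [orderOf_injective _ (bijective_conjBy K g⁻¹).1]
  · simp only [mem_filter, mem_univ, true_and] at hk ⊢
    rwa [orderOf_injective _ (bijective_conjBy K g).1]
  · exact Subtype.ext (by simp [CharsMore.conjBy, mul_assoc])
  · rw [coe_conjIrr, CharsMore.conjFn]
    exact congrArg (θ : K → ℂ) (Subtype.ext (by simp [CharsMore.conjBy, mul_assoc]))

/-- A character meets the principal block of `K` if it is in the principal block. -/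
theorem exists_mult_ne_zero [Fintype (IrrCharacter K)] (hpM : ((2 : ℕ) : AlgInt) ∈ M)
    (hK : IndexFour K A Q) {η : IrrCharacter H} (hη : η ∈ principalBlock M H) :
    ∃ i, mult η (F.ζ i) ≠ 0 := by
  classical
  by_contra hcon
  push Not at hcon
  rw [mem_principalBlock_iff_regularSum hpM, regularSum_eq hK] at hη
  refine hη (Finset.sum_eq_zero fun θ _ => ?_)
  by_cases hθ : θ ∈ principalBlock M K
  · obtain ⟨i, rfl⟩ := (F.block θ).1 hθ
    rw [hcon i, zero_mul]
  · rw [mem_principalBlock_iff_regularSum hpM, not_not] at hθ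
    rw [hθ, mul_zero]

theorem card_le_twelve_le [Fintype (IrrCharacter H)] (hM : IsPModular 2 M)
    (hK : IndexFour K A Q) : 12 ≤ Nat.card (principalBlock M H) := by
  classical
  haveI := Fintype.ofFinite A
  obtain ⟨n, hn, hodd, hnA, q, hq, hne⟩ := hK.mover
  have hnodd : ¬ 2 ∣ orderOf (n : H) := by
    rw [Subgroup.orderOf_coe]; exact hodd.not_two_dvd_nat
  have hq1 : q ≠ 1 := fun e => hne (by simp [e])
  let y : A × Bool → H := fun i => (i.1 : H) * if i.2 then (q : H) else 1
  have hA4 : ∀ x ∈ A, x ^ 4 = 1 := fun x hx => by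
    have := pow_card_eq_one' (G := A) (x := ⟨x, hx⟩)
    rw [hK.cardA] at this
    exact congrArg Subtype.val this
  have hq4 : (q : H) ^ 4 = 1 := by
    have := pow_card_eq_one' (G := (Q : Subgroup K)) (x := ⟨q, hq⟩)
    rw [hK.klein.card_four] at this
    exact congrArg (fun z : (Q : Subgroup K) => ((z : K) : H)) this
  have hy : ∀ i, ∃ k, orderOf (y i) = 2 ^ k := fun i => by
    have h4 : y i ^ 2 ^ 2 = 1 := by
      have hc : Commute (i.1 : H) (if i.2 then (q : H) else 1) := by
        split_ifs
        · exact hK.commAQ _ i.1.2 q hq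
        · exact Commute.one_right _
      show ((i.1 : H) * _) ^ 4 = 1
      rw [hc.mul_pow, hA4 _ i.1.2, one_mul]
      split_ifs <;> simp [hq4]
    obtain ⟨k, -, hk⟩ := (Nat.dvd_prime_pow Nat.prime_two).1 (orderOf_dvd_of_pow_eq_one h4)
    exact ⟨k, hk⟩
  have h := sum_blockRank_le hM (isPBlock_principalBlock (G := H) M) y
    (fun i => principalBlock M (Subgroup.centralizer (Subgroup.zpowers (y i) : Set H))) hy
    (fun i => isBrauerPairOf_principalPair hM.2.2 (by
      obtain ⟨k, hk⟩ := hy i
      exact IsPGroup.of_card (p := 2) (n := k) (by rw [Nat.card_zpowers, hk]))) ?_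
  · refine le_trans ?_ h
    rw [Fintype.sum_prod_type]
    calc 12 = ∑ _x : A, 3 := by
          simp [Finset.card_univ, ← Nat.card_eq_fintype_card, hK.cardA]
      _ ≤ _ := Finset.sum_le_sum fun x _ => by
          rw [Fintype.sum_bool]
          have h1 := one_le_blockRank (p := 2) (isPBlock_principalBlock
            (G := Subgroup.centralizer (Subgroup.zpowers (y (x, true)) : Set H)) M)
          have hC : ∀ g : H, Commute g (x : H) →
              g ∈ Subgroup.centralizer (Subgroup.zpowers (y (x, false)) : Set H) := fun g hg =>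
            Subgroup.mem_centralizer_iff.2 fun z hz => by
              obtain ⟨k, rfl⟩ := Subgroup.mem_zpowers_iff.1 hz
              simpa [y] using (hg.zpow_right k).eq.symm
          have hQp : IsPGroup 2 ((((Q : Subgroup K).map K.subtype)).subgroupOf
              (Subgroup.centralizer (Subgroup.zpowers (y (x, false)) : Set H))) :=
            (IsPGroup.map Q.isPGroup' K.subtype).comap_of_injective _
              (Subgroup.subtype_injective _)
          have h2 := two_le_blockRank_principal (M := M) hM.2.2 hQp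
            (n := ⟨(n : H), hC _ (hnA _ x.2).symm⟩) (q := ⟨(q : H), hC _ (hK.commAQ _ x.2 q hq).symm⟩)
            (by rwa [← Subgroup.orderOf_coe]) ⟨q, hq, rfl⟩
            ⟨n * q * n⁻¹, (Subgroup.mem_normalizer_iff.1 hn q).1 hq, by simp⟩
            (fun e => hne (Subtype.ext (by simpa using congrArg Subtype.val e)))
          omega
  · intro i j g hg _
    have hcomm : ∀ x : A, ∀ g : H, g * (x : H) * g⁻¹ * (x : H)⁻¹ ∈ K := by
      intro x g
      obtain ⟨x', k, rfl⟩ := hK.split g
      rw [show (k : H) * (x' : H) * (x : H) * ((k : H) * (x' : H))⁻¹ * (x : H)⁻¹ =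
        (k : H) * ((x' : H) * x * (x' : H)⁻¹) * (k : H)⁻¹ * (x : H)⁻¹ by group,
        hK.commA _ x'.2 _ x.2, mul_inv_cancel_right,
        show (k : H) * (x : H) * (k : H)⁻¹ * (x : H)⁻¹ =
          (k : H) * ((x : H) * (k : H)⁻¹ * (x : H)⁻¹) by group]
      exact K.mul_mem k.2 ((inferInstance : K.Normal).conj_mem _ (K.inv_mem k.2) _)
    have hin : ∀ b : Bool, (if b then (q : H) else 1) ∈ K := fun b => by
      split_ifs
      exacts [q.2, K.one_mem]
    have hfst : i.1 = j.1 := by
      have e1 : g * (i.1 : H) * g⁻¹ * ((j.1 : H))⁻¹ ∈ K := by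
        have e2 : g * (i.1 : H) * g⁻¹ * (g * (if i.2 then (q : H) else 1) * g⁻¹) =
            (j.1 : H) * (if j.2 then (q : H) else 1) := by
          have : g * y i * g⁻¹ = y j := hg
          simp only [y] at this
          rw [← this]; group
        rw [eq_mul_inv_of_mul_eq e2]
        have hc := (inferInstance : K.Normal).conj_mem _ (hin i.2) g
        have h3 := (inferInstance : K.Normal).conj_mem _ (K.mul_mem (hin j.2) (K.inv_mem hc)) (j.1 : H)
        simpa [mul_assoc] using h3
      have e3 : (i.1 : H) * (j.1 : H)⁻¹ ∈ K := by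
        have := K.mul_mem (K.inv_mem (hcomm i.1 g)) e1
        simpa [mul_assoc] using this
      exact Subtype.ext (mul_inv_eq_one.1
        (hK.inter _ (A.mul_mem i.1.2 (A.inv_mem j.1.2)) e3))
    refine Prod.ext hfst ?_
    by_contra hne'
    obtain ⟨x, bi⟩ := i
    obtain ⟨x', bj⟩ := j
    simp only at hfst hne'
    subst hfst
    refine hq1 (hK.ctrl x x.2 q hq ?_)
    cases bi <;> cases bj <;> simp [y] at hg hne'
    · exact isConj_iff.2 ⟨g, hg⟩
    · exact (isConj_iff.2 ⟨g, hg⟩).symm

/-- **The characters of the principal block of `K` are invariant.** -/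
theorem conjIrr_eq_self [Fintype (IrrCharacter H)] [Fintype (IrrCharacter K)] (hM : IsPModular 2 M)
    (hK : IndexFour K A Q) (x : A) (i : Fin 4) : conjIrr K (x : H) (F.ζ i) = F.ζ i := by
  classical
  haveI := Fintype.ofFinite A
  by_contra hne
  obtain ⟨j, hj⟩ := (F.block _).1 (conjIrr_mem_principal hM.2.2 (x : H) (F.mem i))
  have hij : j ≠ i := fun e => hne (by rw [← hj, e])
  let S : Fin 4 → Finset (IrrCharacter H) := fun l => univ.filter fun η => mult η (F.ζ l) ≠ 0
  have hS : ∀ l, (S l).card ≤ (univ.filter fun y : A => conjIrr K (y : H) (F.ζ l) = F.ζ l).card := by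
    intro l
    have e := sum_mult_mul_conj hK (F.ζ l) (F.ζ l)
    choose m hm using fun η : IrrCharacter H => mult_nat η (F.ζ l)
    simp only [hm, map_natCast] at e
    have e' : ∑ η : IrrCharacter H, m η * m η =
        (univ.filter fun y : A => conjIrr K (y : H) (F.ζ l) = F.ζ l).card := by exact_mod_cast e
    rw [← e', Finset.card_eq_sum_ones]
    refine le_trans (Finset.sum_le_sum fun η hη => ?_)
      (Finset.sum_le_sum_of_subset (f := fun η => m η * m η) (Finset.subset_univ _))
    have hη' := (mem_filter.1 hη).2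
    rw [hm] at hη'
    exact Nat.one_le_iff_ne_zero.2 (by simpa using hη')
  have hS4 : ∀ l, (S l).card ≤ 4 := fun l => (hS l).trans (by
    refine (Finset.card_le_univ _).trans ?_
    rw [← Nat.card_eq_fintype_card, hK.cardA])
  have hS2 : (S i).card ≤ 2 := by
    let st : Subgroup A :=
      { carrier := {y | conjIrr K (y : H) (F.ζ i) = F.ζ i}
        one_mem' := conjIrr_one K _
        mul_mem' := fun {a b} (ha : _ = _) (hb : _ = _) => by
          show conjIrr K ((a : H) * (b : H)) _ = _
          rw [conjIrr_mul, ha, hb]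
        inv_mem' := fun {a} (ha : _ = _) => by
          show conjIrr K ((a : H)⁻¹) _ = _
          conv_lhs => rw [← ha, ← conjIrr_mul, mul_inv_cancel, conjIrr_one] }
    have h1 : (univ.filter fun y : A => conjIrr K (y : H) (F.ζ i) = F.ζ i).card = Nat.card st := by
      rw [← Fintype.card_subtype, ← Nat.card_eq_fintype_card]
      rfl
    have h2 : st ≠ ⊤ := fun e => hne (show x ∈ st by rw [e]; trivial)
    have h3 := st.card_subgroup_dvd_card
    rw [hK.cardA] at h3
    have h4 : Nat.card st ≠ 4 := fun e => h2 (Subgroup.eq_top_of_card_eq _ (e.trans hK.cardA.symm))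
    have h5 : Nat.card st ≤ 2 := by
      rcases (Nat.dvd_prime_pow Nat.prime_two).1 (show Nat.card st ∣ 2 ^ 2 from h3) with ⟨k, hk, e⟩
      interval_cases k <;> omega
    exact (hS i).trans (h1 ▸ h5)
  have hsub : univ.filter (· ∈ principalBlock M H) ⊆ (univ.erase j).biUnion S := by
    intro η hη
    obtain ⟨l, hl⟩ := exists_mult_ne_zero F hM.2.2 hK (mem_filter.1 hη).2
    refine mem_biUnion.2 ?_
    by_cases hlj : l = j
    · refine ⟨i, mem_erase.2 ⟨hij.symm, mem_univ _⟩, mem_filter.2 ⟨mem_univ _, ?_⟩⟩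
      rwa [← mult_conj η (x : H) (F.ζ i), ← hj, ← hlj]
    · exact ⟨l, mem_erase.2 ⟨hlj, mem_univ _⟩, mem_filter.2 ⟨mem_univ _, hl⟩⟩
  have h12 := card_le_twelve_le (M := M) hM hK
  rw [Nat.card_eq_fintype_card, Fintype.card_subtype] at h12
  have h10 := h12.trans ((Finset.card_le_card hsub).trans Finset.card_biUnion_le)
  have hi : i ∈ univ.erase j := mem_erase.2 ⟨hij.symm, mem_univ _⟩
  rw [← Finset.add_sum_erase _ _ hi] at h10
  have h8 : ∑ l ∈ (univ.erase j).erase i, (S l).card ≤ 8 := by
    refine (Finset.sum_le_card_nsmul _ _ 4 fun l _ => hS4 l).trans ?_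
    rw [card_erase_of_mem hi, card_erase_of_mem (mem_univ _), card_univ, Fintype.card_fin]
    simp
  omega

/-- The products of the multiplicities. -/
theorem sum_mult_zeta [Fintype (IrrCharacter H)] [Fintype (IrrCharacter K)] (hM : IsPModular 2 M)
    (hK : IndexFour K A Q) (i l : Fin 4) :
    ∑ η : IrrCharacter H, mult η (F.ζ i) * conj (mult η (F.ζ l)) = if i = l then 4 else 0 := by
  classical
  haveI := Fintype.ofFinite A
  rw [sum_mult_mul_conj hK]
  simp only [conjIrr_eq_self F hM hK]
  split_ifs with e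
  · subst e
    rw [Finset.filter_true_of_mem fun y _ => rfl, Finset.card_univ, ← Nat.card_eq_fintype_card,
      hK.cardA]
    norm_num
  · rw [Finset.filter_false_of_mem fun y _ h => e (F.inj h).symm]
    simp

/-- A constituent in the principal block of `K` puts a character in the principal block. -/
theorem mem_of_mult [Fintype (IrrCharacter H)] [Fintype (IrrCharacter K)] (hM : IsPModular 2 M)
    (hK : IndexFour K A Q) {η : IrrCharacter H} {i : Fin 4} (hi : mult η (F.ζ i) ≠ 0) :
    η ∈ principalBlock M H ∧ ∀ θ : IrrCharacter K, θ ≠ F.ζ i → mult η θ = 0 := by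
  classical
  haveI := Fintype.ofFinite A
  have hother : ∀ θ : IrrCharacter K, θ ≠ F.ζ i → mult η θ = 0 := by
    intro θ hθ
    by_contra hm
    have e := sum_mult_mul_conj hK θ (F.ζ i)
    rw [Finset.filter_false_of_mem fun y _ h => hθ (h.symm.trans (conjIrr_eq_self F hM hK y i))] at e
    choose a ha using fun η : IrrCharacter H => mult_nat η θ
    choose b hb using fun η : IrrCharacter H => mult_nat η (F.ζ i)
    simp only [ha, hb, map_natCast, Finset.card_empty, Nat.cast_zero] at e
    have e' : ∑ η : IrrCharacter H, a η * b η = 0 := by exact_mod_cast e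
    have h0 := (Finset.sum_eq_zero_iff.1 e') η (mem_univ _)
    rw [ha, Nat.cast_eq_zero] at hm
    rw [hb, ne_eq, Nat.cast_eq_zero] at hi
    rcases mul_eq_zero.1 h0 with h | h <;> contradiction
  refine ⟨?_, hother⟩
  rw [mem_principalBlock_iff_regularSum hM.2.2, regularSum_eq hK,
    Finset.sum_eq_single (F.ζ i) (fun θ _ h => by rw [hother θ h, zero_mul])
      (fun h => absurd (mem_univ _) h)]
  exact mul_ne_zero hi ((mem_principalBlock_iff_regularSum hM.2.2 _).1 (F.mem i))

/-- The restriction of a character of the principal block. -/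
theorem restrict_eq [Fintype (IrrCharacter H)] [Fintype (IrrCharacter K)] (hM : IsPModular 2 M)
    (hK : IndexFour K A Q) {η : IrrCharacter H} (hη : η ∈ principalBlock M H) (k : K) :
    (η : H → ℂ) k = ∑ i, mult η (F.ζ i) * (F.ζ i : K → ℂ) k := by
  classical
  obtain ⟨i, hi⟩ := exists_mult_ne_zero F hM.2.2 hK hη
  have hcf : IsClassFunction K (fun k : K => (η : H → ℂ) k) :=
    isClassFunction_of_isCharacter (isCharacter_restrict K (isCharacter_of_irr η.2))
  have h := congrFun (classFun_eq_sum hcf) k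
  rw [Finset.sum_apply] at h
  have hother := (mem_of_mult F hM hK hi).2
  rw [Finset.sum_eq_single (F.ζ i) (fun θ _ hθ => by
    rw [Pi.smul_apply, show classInner _ _ = mult η θ from rfl, hother θ hθ, zero_smul])
    (fun h => absurd (mem_univ _) h)] at h
  rw [Finset.sum_eq_single i (fun l _ hl => by
    rw [hother _ fun e => hl (F.inj e), zero_mul]) (fun h => absurd (mem_univ _) h)]
  exact h

/-- **The principal block seen in `K`.** -/
theorem gram [Fintype (IrrCharacter H)] [Fintype (IrrCharacter K)]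
    [DecidablePred (· ∈ principalBlock M H)] (hM : IsPModular 2 M)
    (hK : IndexFour K A Q) (k l : K) :
    ∑ η ∈ univ.filter (· ∈ principalBlock M H), (η : H → ℂ) k * conj ((η : H → ℂ) l) =
      4 * ∑ i, (F.ζ i : K → ℂ) k * conj ((F.ζ i : K → ℂ) l) := by
  classical
  calc ∑ η ∈ univ.filter (· ∈ principalBlock M H), (η : H → ℂ) k * conj ((η : H → ℂ) l)
      = ∑ η ∈ univ.filter (· ∈ principalBlock M H), ∑ i, ∑ j,
          mult η (F.ζ i) * conj (mult η (F.ζ j)) * ((F.ζ i : K → ℂ) k * conj ((F.ζ j : K → ℂ) l)) :=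
        Finset.sum_congr rfl fun η hη => by
          rw [restrict_eq F hM hK (mem_filter.1 hη).2 k, restrict_eq F hM hK (mem_filter.1 hη).2 l,
            map_sum, Finset.sum_mul_sum]
          refine Finset.sum_congr rfl fun i _ => Finset.sum_congr rfl fun j _ => ?_
          rw [map_mul]; ring
    _ = ∑ η, ∑ i, ∑ j,
          mult η (F.ζ i) * conj (mult η (F.ζ j)) * ((F.ζ i : K → ℂ) k * conj ((F.ζ j : K → ℂ) l)) := by
        refine Finset.sum_subset (subset_univ _) fun η _ hη => Finset.sum_eq_zero fun i _ =>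
          Finset.sum_eq_zero fun j _ => ?_
        have : mult η (F.ζ i) = 0 := by
          by_contra h
          exact hη (mem_filter.2 ⟨mem_univ _, (mem_of_mult F hM hK h).1⟩)
        rw [this, zero_mul, zero_mul]
    _ = _ := by
        rw [Finset.sum_comm]
        simp only [Finset.sum_comm (s := (univ : Finset (IrrCharacter H))), ← Finset.sum_mul,
          sum_mult_zeta F hM hK, ite_mul, zero_mul, Finset.sum_ite_eq, Finset.mem_univ, if_true,
          ← Finset.mul_sum]

/-- **Three modular characters.** -/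
theorem blockRank_eq_three [Fintype (IrrCharacter H)] [Fintype (IrrCharacter K)]
    (hM : IsPModular 2 M) (hK : IndexFour K A Q) (F : KleinFam M K) :
    blockRank 2 (principalBlock M H) = 3 := by
  classical
  apply Nat.cast_injective (R := ℂ)
  rw [blockRank_eq_sum hM.2.2 (isPBlock_principalBlock M)]
  simp only [inner_def, ← Finset.mul_sum]
  rw [Finset.sum_comm]
  have hstep : ∀ h : H, ∑ η ∈ univ.filter (· ∈ principalBlock M H),
      pRegularPart 2 (η : H → ℂ) h * conj ((η : H → ℂ) h) =
      if hh : 2 ∣ orderOf h then 0 else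
        4 * ∑ i, (F.ζ i : K → ℂ) ⟨h, hK.regular_mem hh⟩ *
          conj ((F.ζ i : K → ℂ) ⟨h, hK.regular_mem hh⟩) := by
    intro h
    split_ifs with hh
    · exact Finset.sum_eq_zero fun η _ => by rw [pRegularPart_apply, if_neg (not_not.2 hh), zero_mul]
    · rw [← gram F hM hK ⟨h, hK.regular_mem hh⟩ ⟨h, hK.regular_mem hh⟩]
      exact Finset.sum_congr rfl fun η _ => by rw [pRegularPart_apply, if_pos hh]
  rw [Finset.sum_congr rfl fun h _ => hstep h,
    ← Finset.sum_subset (subset_univ ((univ : Finset K).map ⟨_, Subtype.val_injective⟩)) ?_,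
    Finset.sum_map]
  · have e : ∀ k : K, (if hh : 2 ∣ orderOf (k : H) then (0 : ℂ) else
        4 * ∑ i, (F.ζ i : K → ℂ) ⟨k, hK.regular_mem hh⟩ *
          conj ((F.ζ i : K → ℂ) ⟨k, hK.regular_mem hh⟩)) =
        4 * ∑ i, (if 2 ∣ orderOf k then 0 else (F.ζ i : K → ℂ) k * conj ((F.ζ i : K → ℂ) k)) := by
      intro k
      simp only [Subgroup.orderOf_coe]
      split_ifs <;> simp
    simp only [Function.Embedding.coeFn_mk, e, ← Finset.mul_sum]
    rw [Finset.sum_comm, F.regular_norm, ← K.index_mul_card, hK.index]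
    have := card_ne_zero K
    push_cast
    field_simp
  · intro h _ hh
    rw [dif_pos]
    by_contra hreg
    exact hh (mem_map.2 ⟨⟨h, hK.regular_mem hreg⟩, mem_univ _, rfl⟩)

end CfsgLib.LocalEven.NineRank
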