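import Cfsg.Agent.Lib.LocalEven.NineRankSection
import Cfsg.Agent.Lib.LocalEven.NineRankComb

/-!
# The principal block for an elementary abelian Sylow subgroup of order sixteen and automizer nine
-/

set_option autoImplicit false
set_option linter.unusedSectionVars false
set_option linter.style.haveILetI false

namespace CfsgLib.LocalEven.NineRank

open Cfsg CfsgLib.Chars CfsgLib.Blocks CfsgLib.CharApps CfsgLib.BlockOrth Finset
open scoped ComplexConjugate

universe u

variable {G : Type u} [Group G] [Fintype G] {M : Ideal AlgInt} [M.IsPrime] [Fact (Nat.Prime 2)]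
  {P : Sylow 2 G} {A B : Subgroup G}

/-- The classes of two-elements. -/
theorem Frame.classes (h : Frame P A B) {a b : G} (ha : a ∈ A) (ha1 : a ≠ 1) (hb : b ∈ B)
    (hb1 : b ≠ 1) [DecidableEq G] :
    (∀ x ∈ ({1, a, b, a * b} : Finset G), ∃ k, orderOf x = 2 ^ k) ∧
      ∀ g : G, (∃ k, orderOf g = 2 ^ k) → ∃! x, x ∈ ({1, a, b, a * b} : Finset G) ∧ IsConj g x := by
  constructor
  · intro x hx
    simp only [Finset.mem_insert, Finset.mem_singleton] at hx
    rcases hx with rfl | rfl | rfl | rfl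
    exacts [⟨0, by simp⟩, h.isPElt (h.leA ha), h.isPElt (h.leB hb),
      h.isPElt (mul_mem (h.leA ha) (h.leB hb))]
  · rintro g ⟨e, he⟩
    obtain ⟨T, hT⟩ := (IsPGroup.of_card (p := 2) (n := e) (G := Subgroup.zpowers g)
      (by rw [Nat.card_zpowers, he])).exists_le_sylow
    obtain ⟨c, hcT⟩ := MulAction.exists_smul_eq G T P
    have hmem : c * g * c⁻¹ ∈ (P : Subgroup G) := by
      rw [← hcT, Sylow.coe_subgroup_smul]
      exact ⟨_, hT (Subgroup.mem_zpowers g), rfl⟩
    obtain ⟨x, hx, w, hw, hxw⟩ := h.decomp hmem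
    have hg : IsConj g (x * w) := isConj_iff.2 ⟨c, hxw⟩
    -- a representative of the pattern
    obtain ⟨x₀, hx₀, hx₀1, w₀, hw₀, hw₀1, hconj⟩ : ∃ x₀, (x₀ = 1 ∨ x₀ = a) ∧ (x₀ = 1 ↔ x = 1) ∧
        ∃ w₀, (w₀ = 1 ∨ w₀ = b) ∧ (w₀ = 1 ↔ w = 1) ∧ IsConj (x * w) (x₀ * w₀) := by
      by_cases hx1 : x = 1 <;> by_cases hw1 : w = 1
      · exact ⟨1, Or.inl rfl, by simp [hx1], 1, Or.inl rfl, by simp [hw1], by rw [hx1, hw1]⟩
      · obtain ⟨t, ht, -⟩ := h.symm.conjA hw hw1 hb hb1
        exact ⟨1, Or.inl rfl, by simp [hx1], b, Or.inr rfl, by simp [hb1, hw1],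
          isConj_iff.2 ⟨t, by rw [hx1, one_mul, one_mul, ht]⟩⟩
      · obtain ⟨t, ht, -⟩ := h.conjA hx hx1 ha ha1
        exact ⟨a, Or.inr rfl, by simp [hx1, ha1], 1, Or.inl rfl, by simp [hw1],
          isConj_iff.2 ⟨t, by rw [hw1, mul_one, mul_one, ht]⟩⟩
      · obtain ⟨t, ht, htB⟩ := h.conjA hx hx1 ha ha1
        obtain ⟨s, hs, hsA⟩ := h.symm.conjA hw hw1 hb hb1
        refine ⟨a, Or.inr rfl, by simp [hx1, ha1], b, Or.inr rfl, by simp [hb1, hw1],
          isConj_iff.2 ⟨s * t, ?_⟩⟩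
        calc s * t * (x * w) * (s * t)⁻¹ = s * ((t * x * t⁻¹) * (t * w * t⁻¹)) * s⁻¹ := by group
          _ = (s * a * s⁻¹) * (s * w * s⁻¹) := by rw [ht, htB w hw]; group
          _ = a * b := by rw [hsA a ha, hs]
    refine ⟨x₀ * w₀, ⟨?_, hg.trans hconj⟩, fun z hz => ?_⟩
    · rcases hx₀ with rfl | rfl <;> rcases hw₀ with rfl | rfl <;> simp
    · obtain ⟨hz1, hz2⟩ := hz
      have hc : IsConj z (x₀ * w₀) := hz2.symm.trans (hg.trans hconj)
      have hxA : x₀ ∈ A := by rcases hx₀ with rfl | rfl; exacts [A.one_mem, ha]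
      have hwB : w₀ ∈ B := by rcases hw₀ with rfl | rfl; exacts [B.one_mem, hb]
      obtain ⟨u, hu, u', hu', rfl⟩ : ∃ u, (u = 1 ∨ u = a) ∧ ∃ u', (u' = 1 ∨ u' = b) ∧ z = u * u' := by
        simp only [Finset.mem_insert, Finset.mem_singleton] at hz1
        rcases hz1 with rfl | rfl | rfl | rfl
        exacts [⟨1, Or.inl rfl, 1, Or.inl rfl, (one_mul 1).symm⟩,
          ⟨_, Or.inr rfl, 1, Or.inl rfl, (mul_one _).symm⟩,
          ⟨1, Or.inl rfl, _, Or.inr rfl, (one_mul _).symm⟩, ⟨a, Or.inr rfl, b, Or.inr rfl, rfl⟩]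
      have huA : u ∈ A := by rcases hu with rfl | rfl; exacts [A.one_mem, ha]
      have huB : u' ∈ B := by rcases hu' with rfl | rfl; exacts [B.one_mem, hb]
      obtain ⟨e1, e2⟩ := h.conj_iff_one huA hxA huB hwB hc
      rcases hu with rfl | rfl <;> rcases hx₀ with rfl | rfl <;> rcases hu' with rfl | rfl <;>
        rcases hw₀ with rfl | rfl <;> simp_all

/-- **Sixteen ordinary and nine modular characters.** -/
theorem main (hM : IsPModular 2 M) (h : Frame P A B) :
    Nat.card (principalBlock M G) = 16 ∧ blockRank 2 (principalBlock M G) = 9 := by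
  classical
  haveI := irrFintype G
  have exists_ne_one : ∀ {S : Subgroup G}, Nat.card S = 4 → ∃ x ∈ S, x ≠ 1 := by
    intro S hS
    by_contra hcon
    push Not at hcon
    rw [(Subgroup.eq_bot_iff_forall _).2 hcon, Subgroup.card_bot] at hS
    omega
  obtain ⟨a, ha, ha1⟩ := exists_ne_one h.cardA
  obtain ⟨b, hb, hb1⟩ := exists_ne_one h.cardB
  obtain ⟨D⟩ := exists_side (b := b) hM h ha ha1
  obtain ⟨D'⟩ := exists_side (b := a) hM h.symm hb hb1
  have hab : b * a = a * b := h.comm _ (h.leB hb) _ (h.leA ha)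
  set B₀ := univ.filter (· ∈ principalBlock M G) with hB₀
  haveI : Fintype (Subgroup.centralizer ({a} : Set G)) := Fintype.ofFinite _
  haveI : Fintype (Subgroup.centralizer ({b} : Set G)) := Fintype.ofFinite _
  haveI : Fintype (Subgroup.centralizer ({a * b} : Set G)) := Fintype.ofFinite _
  choose v hv using fun χ : IrrCharacter G =>
    exists_int_apply_involution (h.sq _ (mul_mem (h.leA ha) (h.leB hb))) χ
  choose R hR using fun χ i => D.r_int ha χ i
  choose S hS using fun χ i => D'.r_int hb χ i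
  have hmem : ∀ {χ}, χ ∈ B₀ ↔ χ ∈ principalBlock M G := by simp [hB₀]
  -- the regular part of the norm
  have hnorm : ∀ χ ∈ B₀, (16 : ℂ) * classInner (pRegularPart 2 (χ : G → ℂ)) (χ : G → ℂ) =
      ((16 + v χ ^ 2 - 4 * ∑ i, R χ i ^ 2 - 4 * ∑ i, S χ i ^ 2 : ℤ) : ℂ) := by
    intro χ hχ
    have hχB := hmem.1 hχ
    obtain ⟨hX, hrep⟩ := h.classes ha ha1 hb hb1
    have hcf : IsClassFunction G (fun g => (χ : G → ℂ) g * conj ((χ : G → ℂ) g)) := fun g c => by
      simp only [isClassFunction_irr χ g c]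
    have e := sum_eq_sum_sections (p := 2) hcf hX hrep
    rw [← inner_def, inner_irr_self] at e
    have h1 : (1 : G) ∉ ({a, b, a * b} : Finset G) := by
      simp only [Finset.mem_insert, Finset.mem_singleton, not_or]
      refine ⟨Ne.symm ha1, Ne.symm hb1, fun e => ha1 (h.inter a ha ?_)⟩
      rw [eq_inv_of_mul_eq_one_left e.symm]; exact B.inv_mem hb
    have h2 : a ∉ ({b, a * b} : Finset G) := by
      simp only [Finset.mem_insert, Finset.mem_singleton, not_or]
      exact ⟨fun e => ha1 (h.inter a ha (e ▸ hb)), fun e => hb1 (mul_eq_left.1 e.symm)⟩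
    have h3 : b ∉ ({a * b} : Finset G) := by
      simp only [Finset.mem_singleton]
      exact fun e => ha1 (mul_eq_right.1 e.symm)
    rw [Finset.sum_insert h1, Finset.sum_insert h2, Finset.sum_insert h3, Finset.sum_singleton] at e
    have hfirst : classInner (pRegularPart 2 (χ : G → ℂ)) (χ : G → ℂ) =
        (Nat.card (Subgroup.centralizer ({(1 : G)} : Set G)) : ℂ)⁻¹ *
          ∑ᶠ y : Subgroup.centralizer ({(1 : G)} : Set G),
            pRegularPart 2 (fun y : Subgroup.centralizer ({(1 : G)} : Set G) =>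
              (χ : G → ℂ) (1 * y) * conj ((χ : G → ℂ) (1 * y))) y := by
      have htop : Subgroup.centralizer ({(1 : G)} : Set G) = ⊤ := by
        ext x; simp [Subgroup.mem_centralizer_singleton_iff]
      rw [inner_def, htop, Nat.card_congr Subgroup.topEquiv.toEquiv, finsum_eq_sum_of_fintype]
      refine congrArg _ (Fintype.sum_equiv Subgroup.topEquiv.symm.toEquiv _ _ fun g => ?_)
      show pRegularPart 2 (χ : G → ℂ) g * conj ((χ : G → ℂ) g) =
        pRegularPart 2 _ (Subgroup.topEquiv.symm g)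
      rw [pRegularPart_apply, pRegularPart_apply,
        show orderOf (Subgroup.topEquiv.symm g) = orderOf g from MulEquiv.orderOf_eq _ g]
      split_ifs <;> simp
    have hsec : ∀ (x : G) [Fintype (Subgroup.centralizer ({x} : Set G))],
        (∑ᶠ y : Subgroup.centralizer ({x} : Set G),
          pRegularPart 2 (fun y : Subgroup.centralizer ({x} : Set G) =>
            (χ : G → ℂ) (x * y) * conj ((χ : G → ℂ) (x * y))) y) =
        ∑ y : Subgroup.centralizer ({x} : Set G), (if 2 ∣ orderOf y then 0 else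
          (χ : G → ℂ) (x * y) * conj ((χ : G → ℂ) (x * y))) := fun x _ => by
      rw [finsum_eq_sum_of_fintype]
      refine Finset.sum_congr rfl fun y _ => ?_
      rw [pRegularPart_apply, ite_not]
    have e3 : (16 : ℂ) * ((Nat.card (Subgroup.centralizer ({a * b} : Set G)) : ℂ)⁻¹ *
        ∑ y : Subgroup.centralizer ({a * b} : Set G), (if 2 ∣ orderOf y then 0 else
          (χ : G → ℂ) (a * b * y) * conj ((χ : G → ℂ) (a * b * y)))) =
        (χ : G → ℂ) (a * b) * conj ((χ : G → ℂ) (a * b)) := by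
      have hc := h.column_count ha ha1 hb hb1
      have hN : (Nat.card (Subgroup.centralizer ({a * b} : Set G)) : ℂ) ≠ 0 := card_ne_zero _
      rw [Finset.sum_congr rfl (g := fun y : Subgroup.centralizer ({a * b} : Set G) =>
        (χ : G → ℂ) (a * b) * conj ((χ : G → ℂ) (a * b)) * (if 2 ∣ orderOf y then (0 : ℂ) else 1))
        fun y _ => ?_, ← Finset.mul_sum]
      · field_simp
        linear_combination ((χ : G → ℂ) (a * b) * conj ((χ : G → ℂ) (a * b))) * hc
      · split_ifs with hy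
        · rw [mul_zero]
        · rw [h.column_const hM ha ha1 hb hb1
            (Subgroup.mem_centralizer_singleton_iff.1 y.2 : _ = _).symm
            (by rwa [Subgroup.orderOf_coe]) hχB, mul_one]
    have ea := D.section_norm hM ha ha1 hb hb1 hχB
    have eb := D'.section_norm hM hb hb1 ha ha1 hχB
    rw [hab] at eb
    rw [← hfirst, hsec a, hsec b, hsec (a * b)] at e
    have hRc : ∑ i, D.r χ i * conj (D.r χ i) = ((∑ i, R χ i ^ 2 : ℤ) : ℂ) := by
      push_cast
      exact Finset.sum_congr rfl fun i _ => by rw [hR χ i, map_intCast, pow_two]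
    have hSc : ∑ i, D'.r χ i * conj (D'.r χ i) = ((∑ i, S χ i ^ 2 : ℤ) : ℂ) := by
      push_cast
      exact Finset.sum_congr rfl fun i _ => by rw [hS χ i, map_intCast, pow_two]
    rw [hRc, ← hv χ, map_intCast] at ea
    rw [hSc, ← hv χ, map_intCast] at eb
    rw [← hv χ, map_intCast] at e3
    push_cast at ea eb e3 ⊢
    linear_combination (-16 : ℂ) * e - ea - eb - e3
  have hpos : ∀ χ ∈ B₀, 4 * (∑ i, R χ i ^ 2) + 4 * (∑ i, S χ i ^ 2) < 16 + v χ ^ 2 := by
    intro χ hχ
    have e := hnorm χ hχ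
    set r : ℝ := (Nat.card G : ℝ)⁻¹ *
      ∑ g : G, Complex.normSq (pRegularPart 2 (χ : G → ℂ) g) with hr
    have hrpos : 0 < r := by
      refine mul_pos (inv_pos.2 (Nat.cast_pos.2 Nat.card_pos)) (Finset.sum_pos'
        (fun g _ => Complex.normSq_nonneg _) ⟨1, mem_univ _, ?_⟩)
      rw [pRegularPart_apply, if_pos (by simp), Complex.normSq_pos]
      exact irr_degree_ne_zero χ.2
    have hc : classInner (pRegularPart 2 (χ : G → ℂ)) (χ : G → ℂ) = (r : ℂ) := by
      rw [inner_def, hr]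
      push_cast
      refine congrArg _ (Finset.sum_congr rfl fun g _ => ?_)
      rw [← Complex.mul_conj, pRegularPart_apply]
      split_ifs <;> simp
    rw [hc] at e
    have e' : (16 : ℝ) * r = ((16 + v χ ^ 2 - 4 * ∑ i, R χ i ^ 2 - 4 * ∑ i, S χ i ^ 2 : ℤ) : ℝ) := by
      apply Complex.ofReal_injective
      push_cast at e ⊢
      exact e
    have h0 : (0 : ℤ) < 16 + v χ ^ 2 - 4 * ∑ i, R χ i ^ 2 - 4 * ∑ i, S χ i ^ 2 := by
      refine (Int.cast_pos (R := ℝ)).1 ?_
      rw [← e']; positivity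
    omega
  -- the global columns
  have hsq : ∑ χ ∈ B₀, v χ ^ 2 = 16 := by
    apply Int.cast_injective (α := ℂ)
    push_cast
    rw [← h.column_sq (M := M) hM ha ha1 hb hb1, hB₀]
    exact Finset.sum_congr rfl fun χ _ => by rw [← hv, map_intCast, pow_two]
  have horth : ∀ i j, ∑ χ ∈ B₀, R χ i * R χ j = if i = j then 4 else 0 := fun i j => by
    apply Int.cast_injective (α := ℂ)
    push_cast
    rw [show ((if i = j then (4 : ℂ) else 0)) = _ from (D.orth hM ha ha1 hb hb1 i j).symm]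
    exact Finset.sum_congr rfl fun χ _ => by rw [hR χ i, hR χ j, map_intCast]
  have horth' : ∀ i j, ∑ χ ∈ B₀, S χ i * S χ j = if i = j then 4 else 0 := fun i j => by
    apply Int.cast_injective (α := ℂ)
    push_cast
    rw [show ((if i = j then (4 : ℂ) else 0)) = _ from (D'.orth hM hb hb1 ha ha1 i j).symm]
    exact Finset.sum_congr rfl fun χ _ => by rw [hS χ i, hS χ j, map_intCast]
  have hcr : ∀ i j, ∑ χ ∈ B₀, R χ i * S χ j = 1 := fun i j => by
    apply Int.cast_injective (α := ℂ)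
    push_cast
    rw [← D.cross D' hM ha ha1 hb hb1 i j]
    exact Finset.sum_congr rfl fun χ _ => by rw [hR χ i, hS χ j, map_intCast]
  have hsum : ∀ χ ∈ B₀, ∑ i, R χ i = v χ ∧ ∑ i, S χ i = v χ := fun χ hχ => by
    constructor
    · apply Int.cast_injective (α := ℂ)
      push_cast
      rw [hv, ← D.sum_r hM ha ha1 hb hb1 (hmem.1 hχ)]
      exact Finset.sum_congr rfl fun i _ => (hR χ i).symm
    · apply Int.cast_injective (α := ℂ)
      push_cast
      rw [hv, ← hab, ← D'.sum_r hM hb hb1 ha ha1 (hmem.1 hχ)]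
      exact Finset.sum_congr rfl fun i _ => (hS χ i).symm
  -- the rank
  have hk : Nat.card (principalBlock M G) = B₀.card := by
    rw [hB₀, Nat.card_eq_fintype_card, Fintype.card_subtype]
  have hrank : blockRank 2 (principalBlock M G) + 7 = B₀.card := by
    have e := blockRank_eq_sum (p := 2) (B := principalBlock M G) hM.2.2 (isPBlock_principalBlock M)
    have e' : (16 : ℤ) * blockRank 2 (principalBlock M G) =
        ∑ χ ∈ B₀, (16 + v χ ^ 2 - 4 * ∑ i, R χ i ^ 2 - 4 * ∑ i, S χ i ^ 2) := by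
      apply Int.cast_injective (α := ℂ)
      push_cast
      rw [e, Finset.mul_sum]
      exact Finset.sum_congr rfl fun χ hχ => by rw [hnorm χ hχ]; push_cast; rfl
    rw [Finset.sum_sub_distrib, Finset.sum_sub_distrib, Finset.sum_add_distrib, ← Finset.mul_sum,
      ← Finset.mul_sum, hsq, Finset.sum_const, nsmul_eq_mul,
      Finset.sum_comm (f := fun χ i => R χ i ^ 2), Finset.sum_comm (f := fun χ i => S χ i ^ 2)] at e'
    simp only [pow_two, horth, horth', if_true, Finset.sum_const, Finset.card_univ,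
      Fintype.card_fin, nsmul_eq_mul] at e'
    push_cast at e'
    omega
  have hl2 : 2 ≤ blockRank 2 (principalBlock M G) := by
    obtain ⟨n, hn, hodd, -, hfree⟩ := h.moveA
    exact two_le_blockRank_principal hM.2.2 P.2 hodd.not_two_dvd_nat (h.leA ha)
      (h.leA (h.mapA n hn a ha)) (hfree a ha ha1)
  have hcols : Cols (ι := ↥B₀) (fun χ => v χ.1) (fun i χ => R χ.1 i) (fun i χ => S χ.1 i) := by
    refine ⟨fun χ e => ?_, ?_, ?_, fun i j => ?_, fun i j => ?_, fun i j => ?_,
      fun χ => (hsum _ χ.2).1, fun χ => (hsum _ χ.2).2, fun χ => hpos _ χ.2⟩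
    · exact h.column_ne_zero hM ha ha1 hb hb1 (hmem.1 χ.2) (by rw [← hv, e, Int.cast_zero])
    · rw [Finset.sum_coe_sort B₀ (fun χ => v χ ^ 2)]; exact hsq
    · rw [Fintype.card_coe]; omega
    · rw [Finset.sum_coe_sort B₀ (fun χ => R χ i * R χ j)]; exact horth i j
    · rw [Finset.sum_coe_sort B₀ (fun χ => S χ i * S χ j)]; exact horth' i j
    · rw [Finset.sum_coe_sort B₀ (fun χ => R χ i * S χ j)]; exact hcr i j
  have h16 := hcols.card_eq
  rw [Fintype.card_coe] at h16
  exact ⟨hk.trans h16, by omega⟩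

end CfsgLib.LocalEven.NineRank
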