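import Cfsg.Agent.Lib.LocalEven.NineRankSetup
import Cfsg.Agent.Lib.BlockOrth.SubsectionCount
import Cfsg.Agent.Lib.BlockOrth.Contribution

/-!
# The sections of the principal block for the automizer of order nine

The section of an involution of one of the four groups is described by four integral columns.
-/

set_option autoImplicit false
set_option linter.unusedSectionVars false
set_option linter.style.haveILetI false

namespace CfsgLib.LocalEven.NineRank

open Cfsg CfsgLib.Chars CfsgLib.Blocks CfsgLib.CharApps CfsgLib.BlockOrth Finset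
open scoped ComplexConjugate

universe u

variable {G : Type u} [Group G] [Fintype G] {M : Ideal AlgInt} [M.IsPrime] [Fact (Nat.Prime 2)]

theorem principalBlock_sum_section (hM : IsPModular 2 M) {z : G} (hz : ∃ k, orderOf z = 2 ^ k)
    (y y' : Subgroup.centralizer ({z} : Set G)) (hy : ¬ 2 ∣ orderOf y) (hy' : ¬ 2 ∣ orderOf y') :
    ∑ᶠ χ ∈ principalBlock M G, (χ : G → ℂ) (z * y) * conj ((χ : G → ℂ) (z * y')) =
      ∑ᶠ η ∈ principalBlock M (Subgroup.centralizer ({z} : Set G)),
        (η : Subgroup.centralizer ({z} : Set G) → ℂ) y *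
          conj ((η : Subgroup.centralizer ({z} : Set G) → ℂ) y') := by
  classical
  haveI := Fintype.ofFinite (Subgroup.centralizer ({z} : Set G))
  have h := blockPart_principalBlock_centralizer hM (isClassFunction_classInd (z * (y' : G))) hz hy
  have hB := isPBlock_principalBlock (G := Subgroup.centralizer ({z} : Set G)) M
  have hcf := isClassFunction_mul_left (z := z) (isClassFunction_classInd (z * (y' : G)))
  have h0 : blockPart (principalBlock M (Subgroup.centralizer ({z} : Set G)))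
      (fun c : Subgroup.centralizer ({z} : Set G) => classInd (z * (y' : G)) (z * c)) y =
      blockPart (principalBlock M (Subgroup.centralizer ({z} : Set G))) (classInd y') y := by
    have hd : IsClassFunction (Subgroup.centralizer ({z} : Set G))
        (fun c => classInd (z * (y' : G)) (z * c) + (-1 : ℂ) * classInd y' c) :=
      isClassFunction_add hcf (isClassFunction_smul (-1 : ℂ) (isClassFunction_classInd y'))
    have h1 := blockPart_eq_zero_of_regular Nat.prime_two hM.2.2 hB hd (fun g hg => by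
      rw [classInd_mul_left_of_regular hz y' g hy' hg]; ring) hy
    rw [blockPart_eq_sum _ hd] at h1
    rw [blockPart_eq_sum _ hcf, blockPart_eq_sum _ (isClassFunction_classInd y')]
    simp only [mul_add, Finset.sum_add_distrib, neg_mul, one_mul, mul_neg,
      Finset.sum_neg_distrib] at h1
    exact eq_of_sub_eq_zero (by rw [sub_eq_add_neg]; exact h1)
  rw [h0, blockPart_classInd, blockPart_classInd, card_centralizer_mul hz y' hy'] at h
  exact mul_left_cancel₀ (inv_ne_zero (Nat.cast_ne_zero.2 Nat.card_pos.ne')) h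

/-- The columns at different sections are orthogonal. -/
theorem sum_sections_eq_zero (hM : IsPModular 2 M) {z w : G} (hz : ∃ k, orderOf z = 2 ^ k)
    (hw : ∃ k, orderOf w = 2 ^ k) (hne : ¬ IsConj z w) {y y' : G} (hyz : Commute z y)
    (hy : ¬ 2 ∣ orderOf y) (hyw : Commute w y') (hy' : ¬ 2 ∣ orderOf y') :
    ∑ᶠ χ ∈ principalBlock M G, (χ : G → ℂ) (z * y) * conj ((χ : G → ℂ) (w * y')) = 0 := by
  classical
  haveI := Fintype.ofFinite (Subgroup.centralizer ({z} : Set G))
  let y₀ : Subgroup.centralizer ({z} : Set G) :=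
    ⟨y, Subgroup.mem_centralizer_singleton_iff.2 hyz.eq.symm⟩
  have hy₀ : ¬ 2 ∣ orderOf y₀ := by rwa [← Subgroup.orderOf_coe]
  have h := blockPart_principalBlock_centralizer hM (isClassFunction_classInd (w * y')) hz hy₀
  have h0 : ∀ g : Subgroup.centralizer ({z} : Set G), ¬ 2 ∣ orderOf g →
      classInd (w * y') (z * (g : G)) = 0 := by
    intro g hg
    rw [classInd_apply, if_neg]
    intro hc
    obtain ⟨c, e⟩ := isConj_iff.1 hc
    refine hne (isConj_iff.2 ⟨c, ?_⟩).symm
    have h1 : pPartElt 2 (w * y') = w := (pPartElt_eq_iff hw _).2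
      ⟨⟨y', Subgroup.mem_centralizer_singleton_iff.2 hyw.eq.symm⟩, by rwa [← Subgroup.orderOf_coe],
        rfl⟩
    have h2 : pPartElt 2 (z * (g : G)) = z := (pPartElt_eq_iff hz _).2 ⟨g, hg, rfl⟩
    rw [← h1, ← h2, ← pPartElt_conj, e]
  rw [blockPart_eq_zero_of_regular Nat.prime_two hM.2.2
    (isPBlock_principalBlock (G := Subgroup.centralizer ({z} : Set G)) M)
    (isClassFunction_mul_left (z := z) (isClassFunction_classInd (w * y'))) h0 hy₀,
    blockPart_classInd] at h
  exact (mul_eq_zero.1 h).resolve_left (inv_ne_zero (Nat.cast_ne_zero.2 Nat.card_pos.ne'))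

variable {P : Sylow 2 G} {A B : Subgroup G}

theorem Frame.isPElt (h : Frame P A B) {x : G} (hx : x ∈ (P : Subgroup G)) :
    ∃ k, orderOf x = 2 ^ k := by
  obtain ⟨k, -, hk⟩ := (Nat.dvd_prime_pow Nat.prime_two).1
    (orderOf_dvd_of_pow_eq_one (show x ^ 2 ^ 1 = 1 by rw [pow_one, pow_two]; exact h.sq x hx))
  exact ⟨k, hk⟩

/-- The centralizer of an element with two nontrivial components has a normal complement. -/
theorem Frame.exists_complement (h : Frame P A B) {a b : G} (ha : a ∈ A) (ha1 : a ≠ 1) (hb : b ∈ B)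
    (hb1 : b ≠ 1) :
    ∃ O : Subgroup (Subgroup.centralizer ({a * b} : Set G)), O.Normal ∧ ¬ 2 ∣ Nat.card O ∧
      O.index = 2 ^ 4 := by
  set C := Subgroup.centralizer ({a * b} : Set G)
  have hu := mul_mem (h.leA ha) (h.leB hb)
  have hPC : (P : Subgroup G) ≤ C := fun x hx =>
    Subgroup.mem_centralizer_singleton_iff.2 (h.comm x hx _ hu)
  let S := P.subtype hPC
  have hcard : Nat.card S = 16 :=
    (Nat.card_congr (Subgroup.subgroupOfEquivOfLe hPC).toEquiv).trans h.cardP
  have hS : Subgroup.normalizer ((S : Subgroup C) : Set C) ≤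
      Subgroup.centralizer ((S : Subgroup C) : Set C) := by
    intro g hg
    have hgN : (g : G) ∈ Subgroup.normalizer ((P : Subgroup G) : Set G) := by
      refine Subgroup.mem_normalizer_iff.mpr fun t => ⟨fun hh => ?_, fun hh => ?_⟩
      · exact (Subgroup.mem_normalizer_iff.mp hg ⟨t, hPC hh⟩).mp hh
      · have h' : t ∈ C := by
          have := mul_mem (mul_mem (inv_mem g.2) (hPC hh)) g.2
          simpa [mul_assoc] using this
        exact (Subgroup.mem_normalizer_iff.mp hg ⟨t, h'⟩).mpr hh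
    obtain ⟨e1, e2⟩ := h.decomp_eq (h.mapA _ hgN a ha) ha (h.mapB _ hgN b hb) hb (by
      calc (g : G) * a * (g : G)⁻¹ * ((g : G) * b * (g : G)⁻¹) = g * (a * b) * (g : G)⁻¹ := by group
        _ = a * b := mul_inv_eq_iff_eq_mul.2 (Subgroup.mem_centralizer_singleton_iff.1 g.2))
    refine Subgroup.mem_centralizer_iff.2 fun s hs => Subtype.ext ?_
    obtain ⟨x, hx, w, hw, e⟩ := h.decomp (x := ((s : C) : G)) hs
    have hfix : (g : G) * ((s : C) : G) * (g : G)⁻¹ = s := by
      rw [e]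
      calc (g : G) * (x * w) * (g : G)⁻¹ = g * x * (g : G)⁻¹ * ((g : G) * w * (g : G)⁻¹) := by group
        _ = x * w := by rw [h.rigidA _ hgN a ha ha1 e1 x hx, h.rigidB _ hgN b hb hb1 e2 w hw]
    exact (mul_inv_eq_iff_eq_mul.1 hfix).symm
  have hc := MonoidHom.ker_transferSylow_isComplement' S hS
  refine ⟨(MonoidHom.transferSylow S hS).ker, inferInstance, ?_, ?_⟩
  · rw [← hc.index_eq_card]; exact S.not_dvd_index
  · rw [hc.symm.index_eq_card, hcard]; norm_num

theorem Frame.column_const (h : Frame P A B) (hM : IsPModular 2 M) {a b y : G} (ha : a ∈ A)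
    (ha1 : a ≠ 1) (hb : b ∈ B) (hb1 : b ≠ 1) (hyc : Commute (a * b) y) (hy : ¬ 2 ∣ orderOf y)
    {χ : IrrCharacter G} (hχ : χ ∈ principalBlock M G) :
    (χ : G → ℂ) (a * b * y) = (χ : G → ℂ) (a * b) := by
  classical
  haveI := Fintype.ofFinite (Subgroup.centralizer ({a * b} : Set G))
  obtain ⟨O, hON, hO, hidx⟩ := h.exists_complement ha ha1 hb hb1
  have hu := h.isPElt (mul_mem (h.leA ha) (h.leB hb))
  refine principalBlock_apply_mul_core hM hu (v := ⟨y, Subgroup.mem_centralizer_singleton_iff.2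
    hyc.eq.symm⟩) ?_ hχ
  exact CfsgLib.Base.le_pPrimeCore_of_not_dvd hO
    (index_eq_pow_mem_of_regular hidx (by rwa [Subgroup.orderOf_mk]))

theorem Frame.column_sq (h : Frame P A B) (hM : IsPModular 2 M) [Fintype (IrrCharacter G)]
    [DecidablePred (· ∈ principalBlock M G)] {a b : G} (ha : a ∈ A) (ha1 : a ≠ 1) (hb : b ∈ B)
    (hb1 : b ≠ 1) :
    ∑ χ ∈ univ.filter (· ∈ principalBlock M G),
      (χ : G → ℂ) (a * b) * conj ((χ : G → ℂ) (a * b)) = 16 := by
  classical
  obtain ⟨O, hON, hO, hidx⟩ := h.exists_complement ha ha1 hb hb1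
  haveI := Fintype.ofFinite (Subgroup.centralizer ({a * b} : Set G))
  haveI := irrFintype (Subgroup.centralizer ({a * b} : Set G))
  haveI := irrFintype (Subgroup.centralizer ({a * b} : Set G) ⧸ O)
  have hu := h.isPElt (mul_mem (h.leA ha) (h.leB hb))
  have e := principal_column_norm (M := M) hM hu
  rw [finsum_mem_eq_sum_of_inter_support_eq (t := univ.filter (· ∈ principalBlock M G)) _
    (by ext; simp)] at e
  rw [e, finsum_mem_eq_sum_of_inter_support_eq
    (t := Finset.univ.filter (fun χ : IrrCharacter (Subgroup.centralizer ({a * b} : Set G)) =>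
      O ≤ charKer χ)) _ (by
        ext χ
        simp only [Finset.coe_filter, Finset.mem_univ, true_and, Set.mem_inter_iff,
          Set.mem_setOf_eq]
        rw [mem_principalBlock_iff_of_pow_index hM.2.2 hO hidx χ]
        simp only [SetLike.le_def, mem_charKer])]
  have h2 := sum_inflate O (fun χ : IrrCharacter (Subgroup.centralizer ({a * b} : Set G)) =>
    ((charDegree (χ : Subgroup.centralizer ({a * b} : Set G) → ℂ) ^ 2 : ℕ) : ℂ))
  rw [← Nat.cast_sum, ← Nat.cast_sum, Nat.cast_inj] at h2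
  rw [h2]
  simp only [inflate_charDegree]
  rw [sum_degree_sq_nat, ← Subgroup.index_eq_card, hidx]
  norm_num

/-- A sum over the section of an element with two nontrivial components. -/
theorem Frame.column_count (h : Frame P A B) {a b : G} (ha : a ∈ A) (ha1 : a ≠ 1) (hb : b ∈ B)
    (hb1 : b ≠ 1) [Fintype (Subgroup.centralizer ({a * b} : Set G))] :
    (16 : ℂ) * ∑ y : Subgroup.centralizer ({a * b} : Set G),
      (if 2 ∣ orderOf y then (0 : ℂ) else 1) =
      Nat.card (Subgroup.centralizer ({a * b} : Set G)) := by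
  classical
  obtain ⟨O, hON, hO, hidx⟩ := h.exists_complement ha ha1 hb hb1
  haveI := Fintype.ofFinite O
  have hiff : ∀ y : Subgroup.centralizer ({a * b} : Set G), y ∈ O ↔ ¬ 2 ∣ orderOf y :=
    fun y => ⟨fun hy hd => hO (hd.trans (Subgroup.orderOf_dvd_natCard O hy)),
      fun hy => index_eq_pow_mem_of_regular hidx hy⟩
  have e : ∑ y : Subgroup.centralizer ({a * b} : Set G), (if 2 ∣ orderOf y then (0 : ℂ) else 1) =
      (Nat.card O : ℂ) := by
    rw [Finset.sum_ite, Finset.sum_const_zero, zero_add, Finset.sum_const, nsmul_one,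
      ← Fintype.card_subtype, ← Nat.card_eq_fintype_card]
    exact congrArg Nat.cast (Nat.card_congr (Equiv.subtypeEquivRight fun y => (hiff y).symm))
  rw [e, ← O.index_mul_card, hidx]
  push_cast
  ring

theorem Frame.column_ne_zero (h : Frame P A B) (hM : IsPModular 2 M) {a b : G} (ha : a ∈ A)
    (ha1 : a ≠ 1) (hb : b ∈ B) (hb1 : b ≠ 1) {χ : IrrCharacter G} (hχ : χ ∈ principalBlock M G) :
    (χ : G → ℂ) (a * b) ≠ 0 := by
  classical
  have hu := mul_mem (h.leA ha) (h.leB hb)
  have hbelow : Relation.ReflTransGen (NormalSubpairRel 2 M)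
      (principalPair M (Subgroup.zpowers (a * b))) (principalPair M (P : Subgroup G)) :=
    below_principal hM.2.2 P.2 _ (Subgroup.zpowers_le.2 hu)
  obtain ⟨y, hyc, hy, hne⟩ := exists_secVal_ne_zero_of_central hM.2.2
    (isMaximal_principal_sylow (M := M) hM.2.2 P) hu
    (le_centralizer_of_abelian le_rfl h.comm hu)
    (b := principalBlock M (Subgroup.centralizer (Subgroup.zpowers (a * b) : Set G))) hbelow hχ
  intro h0
  refine hne ?_
  rw [show secVal (⟨Subgroup.zpowers (a * b), principalBlock M _⟩ : BrauerPairIdx G) (χ : G → ℂ)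
    (a * b * y) = _ from secVal_principal hM hχ hyc ⟨1, by rw [pow_one, pow_two]; exact h.sq _ hu⟩ hy,
    h.column_const hM ha ha1 hb hb1 hyc hy hχ, h0]

/-- The data of the section of an involution of `A`. -/
structure Side (h : Frame P A B) (M : Ideal AlgInt) (a b : G) where
  K : Subgroup (Subgroup.centralizer ({a} : Set G))
  normal : K.Normal
  fK : Fintype K
  Q : Sylow 2 K
  ext : IndexFour K (A.subgroupOf (Subgroup.centralizer ({a} : Set G))) Q
  memQ : ∀ q : K, q ∈ (Q : Subgroup K) ↔ ((q : Subgroup.centralizer ({a} : Set G)) : G) ∈ B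
  fam : KleinFam M K

attribute [instance] Side.normal Side.fK

variable {h : Frame P A B} {a b : G}

theorem exists_side (hM : IsPModular 2 M) (h : Frame P A B) (ha : a ∈ A) (ha1 : a ≠ 1) :
    Nonempty (Side h M a b) := by
  classical
  obtain ⟨K, hKn, Q, hext, hQ⟩ := h.exists_indexFour ha ha1
  haveI := hKn
  haveI := Fintype.ofFinite K
  obtain ⟨F⟩ := hext.exists_fam hM
  exact ⟨⟨K, hKn, inferInstance, Q, hext, hQ, F⟩⟩

variable (D : Side h M a b)

/-- The section function on `K`. -/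
def Side.f (χ : IrrCharacter G) (k : D.K) : ℂ :=
  (χ : G → ℂ) (a * ((k : Subgroup.centralizer ({a} : Set G)) : G))

/-- The coordinate of a character, normalised to sum to its value at `a b`. -/
noncomputable def Side.r (χ : IrrCharacter G) (i : Fin 4) : ℂ :=
  (D.fam.ε i : ℂ) * classInner (D.f χ) (D.fam.ζ i : D.K → ℂ)

theorem Side.comm (k : D.K) :
    Commute a ((k : Subgroup.centralizer ({a} : Set G)) : G) :=
  (Subgroup.mem_centralizer_singleton_iff.1 (k : Subgroup.centralizer ({a} : Set G)).2 : _ = _).symm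

/-- A singular element of `K` gives a section conjugate to that of `a b`. -/
theorem Side.sing_section (ha : a ∈ A) (ha1 : a ≠ 1) (hb : b ∈ B) (hb1 : b ≠ 1) (k : D.K)
    (hk : 2 ∣ orderOf k) :
    ∃ g y : G, Commute (a * b) y ∧ ¬ 2 ∣ orderOf y ∧
      g * (a * ((k : Subgroup.centralizer ({a} : Set G)) : G)) * g⁻¹ = a * b * y := by
  obtain ⟨v, y, hyv, hc, ⟨e, he⟩, hv⟩ := exists_isPPrimePart (p := 2) k
  obtain ⟨T, hT⟩ := (IsPGroup.of_card (p := 2) (n := e) (G := Subgroup.zpowers y)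
    (by rw [Nat.card_zpowers, he])).exists_le_sylow
  obtain ⟨c, hcT⟩ := MulAction.exists_smul_eq D.K T D.Q
  have hmem : c * y * c⁻¹ ∈ (D.Q : Subgroup D.K) := by
    rw [← hcT, Sylow.coe_subgroup_smul]
    exact ⟨_, hT (Subgroup.mem_zpowers y), rfl⟩
  let ι : D.K →* G := (Subgroup.centralizer ({a} : Set G)).subtype.comp D.K.subtype
  have hι : Function.Injective ι := fun x z e => Subtype.ext (Subtype.ext e)
  set q := ι (c * y * c⁻¹) with hq
  have hqB : q ∈ B := (D.memQ _).1 hmem
  have hq1 : q ≠ 1 := fun e => by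
    have e' : c * y * c⁻¹ = 1 := hι (e.trans (map_one ι).symm)
    rw [conj_eq_one_iff] at e'
    rw [← hyv, e', one_mul] at hk
    exact hv hk
  obtain ⟨g, hg, hgA⟩ := h.symm.conjA hqB hq1 hb hb1
  have hca : ι c * a * (ι c)⁻¹ = a := by
    rw [mul_inv_eq_iff_eq_mul]; exact (D.comm c).eq.symm
  refine ⟨g * ι c, g * (ι c * ι v * (ι c)⁻¹) * g⁻¹, ?_, ?_, ?_⟩
  · have e1 : a * b = g * (a * q) * g⁻¹ := by
      calc a * b = (g * a * g⁻¹) * (g * q * g⁻¹) := by rw [hgA a ha, hg]
        _ = g * (a * q) * g⁻¹ := by group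
    rw [e1, Commute.conj_iff, ← map_inv ι c, ← map_mul, ← map_mul]
    exact Commute.mul_left (D.comm (c * v * c⁻¹)) (((Commute.conj_iff c).2 hc).map ι)
  · intro hd
    apply hv
    have e1 : orderOf (g * (ι c * ι v * (ι c)⁻¹) * g⁻¹) = orderOf (ι v) := by
      rw [show g * (ι c * ι v * (ι c)⁻¹) * g⁻¹ = MulAut.conj g (MulAut.conj (ι c) (ι v)) from rfl,
        MulEquiv.orderOf_eq, MulEquiv.orderOf_eq]
    rwa [e1, orderOf_injective ι hι] at hd
  · calc g * ι c * (a * ι k) * (g * ι c)⁻¹ =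
          g * ((ι c * a * (ι c)⁻¹) * (ι c * (ι y * ι v) * (ι c)⁻¹)) * g⁻¹ := by
            rw [← map_mul ι y v, hyv]; group
      _ = g * (a * (ι (c * y * c⁻¹)) * (ι c * ι v * (ι c)⁻¹)) * g⁻¹ := by
            rw [hca, map_mul, map_mul, map_inv]; group
      _ = (g * a * g⁻¹) * (g * q * g⁻¹) * (g * (ι c * ι v * (ι c)⁻¹) * g⁻¹) := by rw [← hq]; group
      _ = _ := by rw [hgA a ha, hg]

theorem Side.f_sing (hM : IsPModular 2 M) (ha : a ∈ A) (ha1 : a ≠ 1) (hb : b ∈ B) (hb1 : b ≠ 1)
    {χ : IrrCharacter G} (hχ : χ ∈ principalBlock M G) (k : D.K) (hk : 2 ∣ orderOf k) :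
    D.f χ k = (χ : G → ℂ) (a * b) := by
  obtain ⟨g, y, hyc, hy, e⟩ := D.sing_section ha ha1 hb hb1 k hk
  rw [Side.f, classFun_of_isConj (isClassFunction_irr χ) (isConj_iff.2 ⟨g, e⟩),
    h.column_const hM ha ha1 hb hb1 hyc hy hχ]

/-- The coordinates are integers. -/
theorem Side.r_int (ha : a ∈ A) (χ : IrrCharacter G) (i : Fin 4) : ∃ m : ℤ, D.r χ i = m := by
  classical
  haveI := Fintype.ofFinite (Subgroup.centralizer ({a} : Set G))
  haveI := irrFintype (Subgroup.centralizer ({a} : Set G))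
  set H := Subgroup.centralizer ({a} : Set G) with hHdef
  have hH : ∀ c : G, c ∈ H ↔ c * a = a * c := fun _ => Subgroup.mem_centralizer_singleton_iff
  have hz : (⟨a, (hH a).2 rfl⟩ : H) ∈ Subgroup.center H := mem_center_of_self hH
  have ha2 : (⟨a, (hH a).2 rfl⟩ : H) ^ 2 = 1 := by
    apply Subtype.ext; push_cast; rw [pow_two]; exact h.sq a (h.leA ha)
  have hf : classInner (D.f χ) (D.fam.ζ i : D.K → ℂ) =
      ∑ θ : IrrCharacter H, classInner (secFun H a (χ : G → ℂ)) (θ : H → ℂ) *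
        mult θ (D.fam.ζ i) := by
    have e := classFun_eq_sum (isClassFunction_secFun hH (isClassFunction_irr χ))
    have : D.f χ = ∑ θ : IrrCharacter H, classInner (secFun H a (χ : G → ℂ)) (θ : H → ℂ) •
        (fun k : D.K => (θ : H → ℂ) k) := by
      funext k
      have := congrFun e k
      simp only [Finset.sum_apply, Pi.smul_apply] at this ⊢
      exact this
    rw [this, inner_sum_left]
    exact Finset.sum_congr rfl fun θ _ => by rw [Chars.inner_smul_left]; rfl
  suffices ∀ θ : IrrCharacter H, ∃ m : ℤ,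
      classInner (secFun H a (χ : G → ℂ)) (θ : H → ℂ) * mult θ (D.fam.ζ i) = m by
    choose m hm using this
    refine ⟨D.fam.ε i * ∑ θ, m θ, ?_⟩
    rw [Side.r, hf, Finset.sum_congr rfl fun θ _ => hm θ]
    push_cast
    rfl
  intro θ
  obtain ⟨m₁, h1⟩ := inner_irr_right_nat (isCharacter_restrict H (isCharacter_of_irr χ.2)) θ
  obtain ⟨m₂, h2⟩ := mult_nat θ (D.fam.ζ i)
  have hs := centralScalar_pow_eq_one θ hz ha2
  rw [inner_secFun_eq hH, h2, show classInner (fun h : H => (χ : G → ℂ) h) (θ : H → ℂ) = m₁ from h1]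
  rcases sq_eq_one_iff.1 hs with e | e
  · exact ⟨(m₁ : ℤ) * m₂, by rw [e]; push_cast; ring⟩
  · exact ⟨-((m₁ : ℤ) * m₂), by rw [e]; push_cast; ring⟩

section Gram

variable [Fintype (IrrCharacter G)] [DecidablePred (· ∈ principalBlock M G)]

theorem Side.gram (hM : IsPModular 2 M) (ha : a ∈ A) (ha1 : a ≠ 1) (hb : b ∈ B) (hb1 : b ≠ 1)
    (k l : D.K) :
    ∑ χ ∈ univ.filter (· ∈ principalBlock M G), D.f χ k * conj (D.f χ l) =
      4 * ∑ i, (D.fam.ζ i : D.K → ℂ) k * conj ((D.fam.ζ i : D.K → ℂ) l) := by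
  classical
  haveI := Fintype.ofFinite (Subgroup.centralizer ({a} : Set G))
  haveI := irrFintype (Subgroup.centralizer ({a} : Set G))
  haveI := irrFintype D.K
  have hpa := h.isPElt (h.leA ha)
  have hfin : ∀ F : IrrCharacter G → ℂ, ∑ᶠ χ ∈ principalBlock M G, F χ =
      ∑ χ ∈ univ.filter (· ∈ principalBlock M G), F χ := fun F =>
    finsum_mem_eq_sum_of_inter_support_eq _ (by ext; simp)
  have hcon : ∑ i, (D.fam.ζ i : D.K → ℂ) k * conj ((D.fam.ζ i : D.K → ℂ) l) =
      if 2 ∣ orderOf k then (if 2 ∣ orderOf l then 4 else 0) else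
        if 2 ∣ orderOf l then 0 else ∑ i, (D.fam.ζ i : D.K → ℂ) k *
          conj ((D.fam.ζ i : D.K → ℂ) l) := by
    by_cases hk : 2 ∣ orderOf k
    · rw [if_pos hk]
      have e := congrArg conj (D.fam.indicator l)
      rw [map_sum] at e
      simp only [map_mul, map_intCast] at e
      rw [Finset.sum_congr rfl fun i _ => by rw [D.fam.sing i k hk], e]
      split_ifs
      · exact map_ofNat _ 4
      · exact map_zero _
    · rw [if_neg hk]
      by_cases hl : 2 ∣ orderOf l
      · rw [if_pos hl, Finset.sum_congr rfl fun i _ => by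
          rw [D.fam.sing i l hl, map_intCast, mul_comm], D.fam.indicator k, if_neg hk]
      · rw [if_neg hl]
  rw [hcon]
  have hreg : ∀ m : D.K, ¬ 2 ∣ orderOf m →
      ¬ 2 ∣ orderOf (m : Subgroup.centralizer ({a} : Set G)) := fun m hm => by
    rwa [Subgroup.orderOf_coe]
  have hmix : ∀ m n : D.K, 2 ∣ orderOf m → ¬ 2 ∣ orderOf n →
      ∑ χ ∈ univ.filter (· ∈ principalBlock M G), D.f χ m * conj (D.f χ n) = 0 := by
    intro m n hm hn
    refine Eq.trans (Finset.sum_congr rfl (g := fun χ : IrrCharacter G => (χ : G → ℂ) (a * b * 1) *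
      conj ((χ : G → ℂ) (a * ((n : Subgroup.centralizer ({a} : Set G)) : G)))) fun χ hχ => by
        rw [D.f_sing hM ha ha1 hb hb1 (mem_filter.1 hχ).2 m hm, mul_one]; rfl) ?_
    rw [← hfin]
    refine sum_sections_eq_zero hM (h.isPElt (mul_mem (h.leA ha) (h.leB hb))) hpa (fun hc => ?_)
      (Commute.one_right _) (by simp) (D.comm n) (by rw [Subgroup.orderOf_coe]; exact hreg n hn)
    have := (h.conj_iff_one ha ha hb B.one_mem (by rwa [mul_one])).2.2 rfl
    exact hb1 this
  by_cases hk : 2 ∣ orderOf k <;> by_cases hl : 2 ∣ orderOf l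
  · rw [if_pos hk, if_pos hl, Finset.sum_congr rfl fun χ hχ => by
      rw [D.f_sing hM ha ha1 hb hb1 (mem_filter.1 hχ).2 k hk,
        D.f_sing hM ha ha1 hb hb1 (mem_filter.1 hχ).2 l hl], h.column_sq hM ha ha1 hb hb1]
    norm_num
  · rw [if_pos hk, if_neg hl, mul_zero, hmix k l hk hl]
  · rw [if_neg hk, if_pos hl, mul_zero]
    have := congrArg conj (hmix l k hl hk)
    rw [map_sum, map_zero] at this
    rw [← this]
    exact Finset.sum_congr rfl fun χ _ => by rw [map_mul, Complex.conj_conj, mul_comm]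
  · rw [if_neg hk, if_neg hl, ← CfsgLib.LocalEven.NineRank.gram D.fam hM D.ext k l, ← hfin]
    show ∑ᶠ χ ∈ principalBlock M G,
      (χ : G → ℂ) (a * _) * conj ((χ : G → ℂ) (a * _)) = _
    rw [principalBlock_sum_section hM hpa _ _ (hreg k hk) (hreg l hl)]
    exact finsum_mem_eq_sum_of_inter_support_eq _ (by ext; simp)

theorem Side.sum_f_coef (hM : IsPModular 2 M) (ha : a ∈ A) (ha1 : a ≠ 1) (hb : b ∈ B)
    (hb1 : b ≠ 1) (k : D.K) (i : Fin 4) :
    ∑ χ ∈ univ.filter (· ∈ principalBlock M G),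
        D.f χ k * conj (classInner (D.f χ) (D.fam.ζ i : D.K → ℂ)) =
      4 * (D.fam.ζ i : D.K → ℂ) k := by
  classical
  calc ∑ χ ∈ univ.filter (· ∈ principalBlock M G),
          D.f χ k * conj (classInner (D.f χ) (D.fam.ζ i : D.K → ℂ))
      = (Nat.card D.K : ℂ)⁻¹ * ∑ l : D.K,
          (∑ χ ∈ univ.filter (· ∈ principalBlock M G), D.f χ k * conj (D.f χ l)) *
            (D.fam.ζ i : D.K → ℂ) l := by
        simp only [inner_def, map_mul, map_inv₀, map_natCast, map_sum, Complex.conj_conj,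
          Finset.mul_sum, Finset.sum_mul]
        rw [Finset.sum_comm]
        exact Finset.sum_congr rfl fun l _ => Finset.sum_congr rfl fun χ _ => by ring
    _ = 4 * ∑ j, (D.fam.ζ j : D.K → ℂ) k *
          classInner (D.fam.ζ i : D.K → ℂ) (D.fam.ζ j : D.K → ℂ) := by
        simp only [D.gram hM ha ha1 hb hb1, inner_def, Finset.mul_sum, Finset.sum_mul]
        rw [Finset.sum_comm]
        exact Finset.sum_congr rfl fun j _ => Finset.sum_congr rfl fun l _ => by ring
    _ = _ := by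
        simp only [D.fam.inner, mul_ite, mul_one, mul_zero, Finset.sum_ite_eq, Finset.mem_univ,
          if_true]

theorem Side.orth (hM : IsPModular 2 M) (ha : a ∈ A) (ha1 : a ≠ 1) (hb : b ∈ B) (hb1 : b ≠ 1)
    (i j : Fin 4) :
    ∑ χ ∈ univ.filter (· ∈ principalBlock M G), D.r χ i * conj (D.r χ j) =
      if i = j then 4 else 0 := by
  classical
  simp only [Side.r, map_mul, map_intCast]
  have hswap : ∀ χ : IrrCharacter G, classInner (D.f χ) (D.fam.ζ i : D.K → ℂ) *
      conj (classInner (D.f χ) (D.fam.ζ j : D.K → ℂ)) =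
      (Nat.card D.K : ℂ)⁻¹ * ∑ k : D.K,
        (D.f χ k * conj (classInner (D.f χ) (D.fam.ζ j : D.K → ℂ))) *
          conj ((D.fam.ζ i : D.K → ℂ) k) := fun χ => by
    rw [inner_def (φ := D.f χ) (ψ := (D.fam.ζ i : D.K → ℂ)), mul_assoc, Finset.sum_mul]
    exact congrArg _ (Finset.sum_congr rfl fun k _ => by ring)
  rw [Finset.sum_congr rfl (g := fun χ => (D.fam.ε i : ℂ) * D.fam.ε j *
      ((Nat.card D.K : ℂ)⁻¹ * ∑ k : D.K,
        (D.f χ k * conj (classInner (D.f χ) (D.fam.ζ j : D.K → ℂ))) *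
          conj ((D.fam.ζ i : D.K → ℂ) k))) fun χ _ => by rw [← hswap χ]; ring,
    ← Finset.mul_sum, ← Finset.mul_sum, Finset.sum_comm]
  simp only [← Finset.sum_mul, D.sum_f_coef hM ha ha1 hb hb1, mul_assoc (4 : ℂ), ← Finset.mul_sum]
  rw [mul_left_comm _ (4 : ℂ), ← inner_def, D.fam.inner]
  rcases eq_or_ne i j with rfl | hij
  · rw [if_pos rfl, if_pos rfl]
    rcases D.fam.ε_cases i with e | e <;> rw [e] <;> simp
  · rw [if_neg hij, if_neg (Ne.symm hij), mul_zero, mul_zero]

/-- The section function is the combination of the four characters. -/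
theorem Side.f_eq (hM : IsPModular 2 M) (ha : a ∈ A) (ha1 : a ≠ 1) (hb : b ∈ B) (hb1 : b ≠ 1)
    {χ : IrrCharacter G} (hχ : χ ∈ principalBlock M G) (k : D.K) :
    D.f χ k = ∑ i, classInner (D.f χ) (D.fam.ζ i : D.K → ℂ) * (D.fam.ζ i : D.K → ℂ) k := by
  classical
  set c : IrrCharacter G → Fin 4 → ℂ := fun ψ i => classInner (D.f ψ) (D.fam.ζ i : D.K → ℂ) with hc
  set u : IrrCharacter G → ℂ := fun ψ => D.f ψ k - ∑ i, c ψ i * (D.fam.ζ i : D.K → ℂ) k with hu
  have hcc : ∀ i j, ∑ ψ ∈ univ.filter (· ∈ principalBlock M G), c ψ i * conj (c ψ j) =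
      if i = j then 4 else 0 := by
    intro i j
    have e := D.orth hM ha ha1 hb hb1 i j
    simp only [Side.r, map_mul, map_intCast] at e
    rw [Finset.sum_congr rfl (g := fun ψ => (D.fam.ε i : ℂ) * D.fam.ε j * (c ψ i * conj (c ψ j)))
      fun ψ _ => by rw [hc]; ring, ← Finset.mul_sum] at e
    split_ifs at e ⊢ with hij
    · subst hij
      rcases D.fam.ε_cases i with e' | e' <;> simpa [e'] using e
    · refine (mul_eq_zero.1 e).resolve_left ?_
      rcases D.fam.ε_cases i with e' | e' <;> rcases D.fam.ε_cases j with e'' | e'' <;>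
        simp [e', e'']
  have hz : ∑ ψ ∈ univ.filter (· ∈ principalBlock M G), u ψ * conj (u ψ) = 0 := by
    have e1 : ∀ ψ, u ψ * conj (u ψ) = D.f ψ k * conj (D.f ψ k) -
        ∑ i, (D.f ψ k * conj (c ψ i)) * conj ((D.fam.ζ i : D.K → ℂ) k) -
        ∑ i, conj (D.f ψ k * conj (c ψ i)) * (D.fam.ζ i : D.K → ℂ) k +
        ∑ i, ∑ j, (c ψ i * conj (c ψ j)) *
          ((D.fam.ζ i : D.K → ℂ) k * conj ((D.fam.ζ j : D.K → ℂ) k)) := by
      intro ψ
      have e2 : ∑ i, ∑ j, (c ψ i * conj (c ψ j)) *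
          ((D.fam.ζ i : D.K → ℂ) k * conj ((D.fam.ζ j : D.K → ℂ) k)) =
          (∑ i, c ψ i * (D.fam.ζ i : D.K → ℂ) k) * conj (∑ i, c ψ i * (D.fam.ζ i : D.K → ℂ) k) := by
        rw [map_sum, Finset.sum_mul_sum]
        exact Finset.sum_congr rfl fun i _ => Finset.sum_congr rfl fun j _ => by rw [map_mul]; ring
      have e3 : ∑ i, (D.f ψ k * conj (c ψ i)) * conj ((D.fam.ζ i : D.K → ℂ) k) =
          D.f ψ k * conj (∑ i, c ψ i * (D.fam.ζ i : D.K → ℂ) k) := by
        rw [map_sum, Finset.mul_sum]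
        exact Finset.sum_congr rfl fun i _ => by rw [map_mul]; ring
      have e4 : ∑ i, conj (D.f ψ k * conj (c ψ i)) * (D.fam.ζ i : D.K → ℂ) k =
          conj (D.f ψ k) * ∑ i, c ψ i * (D.fam.ζ i : D.K → ℂ) k := by
        rw [Finset.mul_sum]
        exact Finset.sum_congr rfl fun i _ => by rw [map_mul, Complex.conj_conj]; ring
      rw [e2, e3, e4]
      simp only [hu, map_sub]
      ring
    rw [Finset.sum_congr rfl fun ψ _ => e1 ψ, Finset.sum_add_distrib, Finset.sum_sub_distrib,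
      Finset.sum_sub_distrib, D.gram hM ha ha1 hb hb1,
      Finset.sum_comm (t := (univ : Finset (Fin 4))),
      Finset.sum_comm (t := (univ : Finset (Fin 4))),
      Finset.sum_comm (t := (univ : Finset (Fin 4)))]
    simp only [Finset.sum_comm (s := univ.filter (· ∈ principalBlock M G)), ← Finset.sum_mul,
      ← map_sum, hc, D.sum_f_coef hM ha ha1 hb hb1]
    simp only [hc] at hcc
    simp only [hcc, ite_mul, zero_mul, Finset.sum_ite_eq, Finset.mem_univ, if_true, map_mul,
      map_ofNat, mul_assoc, ← Finset.mul_sum]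
    rw [Finset.sum_congr rfl (g := fun i => (D.fam.ζ i : D.K → ℂ) k *
      conj ((D.fam.ζ i : D.K → ℂ) k)) fun i _ => mul_comm _ _]
    ring
  have hre : ∑ ψ ∈ univ.filter (· ∈ principalBlock M G), Complex.normSq (u ψ) = 0 := by
    apply Complex.ofReal_injective
    push_cast
    rw [← hz]
    exact Finset.sum_congr rfl fun ψ _ => (Complex.mul_conj _).symm
  have := (Finset.sum_eq_zero_iff_of_nonneg fun ψ _ => Complex.normSq_nonneg _).1 hre χ
    (mem_filter.2 ⟨mem_univ _, hχ⟩)
  exact sub_eq_zero.1 (Complex.normSq_eq_zero.1 this)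

/-- The coordinates add up to the value at `a b`. -/
theorem Side.sum_r (hM : IsPModular 2 M) (ha : a ∈ A) (ha1 : a ≠ 1) (hb : b ∈ B) (hb1 : b ≠ 1)
    {χ : IrrCharacter G} (hχ : χ ∈ principalBlock M G) :
    ∑ i, D.r χ i = (χ : G → ℂ) (a * b) := by
  classical
  obtain ⟨k, hk⟩ : ∃ k : D.K, 2 ∣ orderOf k := by
    obtain ⟨n, -, -, -, q, hq, hne⟩ := D.ext.mover
    refine ⟨q, ?_⟩
    have hq1 : q ≠ 1 := fun e => hne (by simp [e])
    obtain ⟨j, hj⟩ := IsPGroup.iff_orderOf.1 D.Q.2 ⟨q, hq⟩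
    rw [← Subgroup.orderOf_coe] at hj
    rw [hj]
    exact dvd_pow_self 2 fun h0 => hq1 (orderOf_eq_one_iff.1 (by simpa [h0] using hj))
  rw [← D.f_sing hM ha ha1 hb hb1 hχ k hk, D.f_eq hM ha ha1 hb hb1 hχ k]
  exact Finset.sum_congr rfl fun i _ => by rw [Side.r, D.fam.sing i k hk, mul_comm]

/-- The norm of a character on the section of `a`. -/
theorem Side.section_norm (hM : IsPModular 2 M) (ha : a ∈ A) (ha1 : a ≠ 1) (hb : b ∈ B)
    (hb1 : b ≠ 1) [Fintype (Subgroup.centralizer ({a} : Set G))]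
    {χ : IrrCharacter G} (hχ : χ ∈ principalBlock M G) :
    (16 : ℂ) * ((Nat.card (Subgroup.centralizer ({a} : Set G)) : ℂ)⁻¹ *
      ∑ y : Subgroup.centralizer ({a} : Set G), (if 2 ∣ orderOf y then 0 else
        (χ : G → ℂ) (a * y) * conj ((χ : G → ℂ) (a * y)))) =
      4 * (∑ i, D.r χ i * conj (D.r χ i)) -
        (χ : G → ℂ) (a * b) * conj ((χ : G → ℂ) (a * b)) := by
  classical
  haveI := irrFintype D.K
  have hN : (Nat.card D.K : ℂ) ≠ 0 := card_ne_zero D.K
  have hH : (Nat.card (Subgroup.centralizer ({a} : Set G)) : ℂ) = 4 * Nat.card D.K := by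
    rw [← D.K.index_mul_card, D.ext.index]; push_cast; rfl
  have h1 : ∑ y : Subgroup.centralizer ({a} : Set G), (if 2 ∣ orderOf y then 0 else
      (χ : G → ℂ) (a * y) * conj ((χ : G → ℂ) (a * y))) =
      ∑ k : D.K, (if 2 ∣ orderOf k then 0 else D.f χ k * conj (D.f χ k)) := by
    rw [← Finset.sum_subset (subset_univ ((univ : Finset D.K).map ⟨_, Subtype.val_injective⟩))
      fun y _ hy => ?_, Finset.sum_map]
    · refine Finset.sum_congr rfl fun k _ => ?_
      simp only [Function.Embedding.coeFn_mk, Subgroup.orderOf_coe]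
      rfl
    · rw [if_pos]
      by_contra hreg
      exact hy (mem_map.2 ⟨⟨y, D.ext.regular_mem hreg⟩, mem_univ _, rfl⟩)
  -- the singular quarter
  have hsing : (4 : ℂ) * ∑ k : D.K, (if 2 ∣ orderOf k then (1 : ℂ) else 0) = Nat.card D.K := by
    have e : ∀ i, ∑ k : D.K, (if 2 ∣ orderOf k then 0 else
        (D.fam.ζ i : D.K → ℂ) k * conj ((D.fam.ζ i : D.K → ℂ) k)) =
        Nat.card D.K - ∑ k : D.K, (if 2 ∣ orderOf k then (1 : ℂ) else 0) := by
      intro i
      have hfull : ∑ k : D.K, (D.fam.ζ i : D.K → ℂ) k * conj ((D.fam.ζ i : D.K → ℂ) k) =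
          Nat.card D.K := by
        have e := D.fam.inner i i
        rw [if_pos rfl, inner_def, inv_mul_eq_iff_eq_mul₀ hN, mul_one] at e
        exact e
      rw [eq_sub_iff_add_eq, ← Finset.sum_add_distrib, ← hfull]
      refine Finset.sum_congr rfl fun k _ => ?_
      split_ifs with hk
      · rw [D.fam.sing i k hk]
        rcases D.fam.ε_cases i with e | e <;> rw [e] <;> simp
      · rw [add_zero]
    have h3 := D.fam.regular_norm
    rw [Finset.sum_congr rfl fun i _ => e i, Finset.sum_const, Finset.card_univ, Fintype.card_fin,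
      nsmul_eq_mul] at h3
    push_cast at h3
    linear_combination -h3
  have hfull : ∑ k : D.K, D.f χ k * conj (D.f χ k) =
      (Nat.card D.K : ℂ) * ∑ i, D.r χ i * conj (D.r χ i) := by
    set c := fun i => classInner (D.f χ) (D.fam.ζ i : D.K → ℂ) with hc
    have e : ∀ i, D.r χ i * conj (D.r χ i) = c i * conj (c i) := fun i => by
      rw [Side.r, map_mul, map_intCast]
      rcases D.fam.ε_cases i with e | e <;> rw [e] <;> simp [hc]
    simp only [e]
    have e2 : ∀ i, c i * conj (c i) = (Nat.card D.K : ℂ)⁻¹ * ∑ k : D.K,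
        D.f χ k * conj (c i * (D.fam.ζ i : D.K → ℂ) k) := fun i => by
      conv_lhs => arg 1; rw [hc]; simp only [inner_def]
      rw [mul_assoc, Finset.sum_mul]
      exact congrArg _ (Finset.sum_congr rfl fun k _ => by rw [map_mul]; ring)
    simp only [e2, Finset.mul_sum, ← mul_assoc, mul_inv_cancel₀ hN, one_mul]
    rw [Finset.sum_comm]
    refine Finset.sum_congr rfl fun k _ => ?_
    rw [← Finset.mul_sum, ← map_sum, ← D.f_eq hM ha ha1 hb hb1 hχ k]
  have h2 : ∑ k : D.K, (if 2 ∣ orderOf k then 0 else D.f χ k * conj (D.f χ k)) =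
      ∑ k : D.K, D.f χ k * conj (D.f χ k) -
        (χ : G → ℂ) (a * b) * conj ((χ : G → ℂ) (a * b)) *
          ∑ k : D.K, (if 2 ∣ orderOf k then (1 : ℂ) else 0) := by
    rw [Finset.mul_sum, ← Finset.sum_sub_distrib]
    refine Finset.sum_congr rfl fun k _ => ?_
    split_ifs with hk
    · rw [D.f_sing hM ha ha1 hb hb1 hχ k hk]; ring
    · ring
  rw [h1, h2, hfull, hH]
  field_simp
  linear_combination (-4 : ℂ) * ((χ : G → ℂ) (a * b) * conj ((χ : G → ℂ) (a * b))) * hsing

/-- The two sides meet once. -/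
theorem Side.cross {h' : Frame P B A} (D' : Side h' M b a) (hM : IsPModular 2 M) (ha : a ∈ A)
    (ha1 : a ≠ 1) (hb : b ∈ B) (hb1 : b ≠ 1) (i j : Fin 4) :
    ∑ χ ∈ univ.filter (· ∈ principalBlock M G), D.r χ i * conj (D'.r χ j) = 1 := by
  classical
  have hab : b * a = a * b := h.comm _ (h.leB hb) _ (h.leA ha)
  have hN : (Nat.card D.K : ℂ) ≠ 0 := card_ne_zero D.K
  have hN' : (Nat.card D'.K : ℂ) ≠ 0 := card_ne_zero D'.K
  have hfin : ∀ F : IrrCharacter G → ℂ, ∑ᶠ χ ∈ principalBlock M G, F χ =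
      ∑ χ ∈ univ.filter (· ∈ principalBlock M G), F χ := fun F =>
    finsum_mem_eq_sum_of_inter_support_eq _ (by ext; simp)
  have hu := h.isPElt (mul_mem (h.leA ha) (h.leB hb))
  -- the cross Gram function
  have hg : ∀ (k : D.K) (l : D'.K),
      ∑ χ ∈ univ.filter (· ∈ principalBlock M G), D.f χ k * conj (D'.f χ l) =
        (if 2 ∣ orderOf k then (1 : ℂ) else 0) * (if 2 ∣ orderOf l then (1 : ℂ) else 0) * 16 := by
    intro k l
    by_cases hk : 2 ∣ orderOf k <;> by_cases hl : 2 ∣ orderOf l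
    · rw [if_pos hk, if_pos hl, one_mul, one_mul, ← h.column_sq hM ha ha1 hb hb1]
      refine Finset.sum_congr rfl fun χ hχ => ?_
      rw [D.f_sing hM ha ha1 hb hb1 (mem_filter.1 hχ).2 k hk,
        D'.f_sing hM hb hb1 ha ha1 (mem_filter.1 hχ).2 l hl, hab]
    · rw [if_neg hl, mul_zero, zero_mul]
      refine Eq.trans (Finset.sum_congr rfl (g := fun χ : IrrCharacter G => (χ : G → ℂ) (a * b * 1) *
        conj ((χ : G → ℂ) (b * ((l : Subgroup.centralizer ({b} : Set G)) : G)))) fun χ hχ => by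
          rw [D.f_sing hM ha ha1 hb hb1 (mem_filter.1 hχ).2 k hk, mul_one]; rfl) ?_
      rw [← hfin]
      refine sum_sections_eq_zero hM hu (h.isPElt (h.leB hb)) (fun hc => ?_) (Commute.one_right _)
        (by simp) (D'.comm l) (by rwa [Subgroup.orderOf_coe, Subgroup.orderOf_coe])
      exact ha1 ((h.conj_iff_one ha A.one_mem hb hb (by rwa [one_mul])).1.2 rfl)
    · rw [if_neg hk, zero_mul, zero_mul]
      refine Eq.trans (Finset.sum_congr rfl (g := fun χ : IrrCharacter G =>
        (χ : G → ℂ) (a * ((k : Subgroup.centralizer ({a} : Set G)) : G)) *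
        conj ((χ : G → ℂ) (a * b * 1))) fun χ hχ => by
          rw [D'.f_sing hM hb hb1 ha ha1 (mem_filter.1 hχ).2 l hl, mul_one, hab]; rfl) ?_
      rw [← hfin]
      refine sum_sections_eq_zero hM (h.isPElt (h.leA ha)) hu (fun hc => ?_) (D.comm k)
        (by rwa [Subgroup.orderOf_coe, Subgroup.orderOf_coe]) (Commute.one_right _) (by simp)
      exact hb1 ((h.conj_iff_one ha ha hb B.one_mem (by rw [mul_one]; exact hc.symm)).2.2 rfl)
    · rw [if_neg hk, zero_mul, zero_mul, ← hfin]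
      refine sum_sections_eq_zero hM (h.isPElt (h.leA ha)) (h.isPElt (h.leB hb)) (fun hc => ?_)
        (D.comm k) (by rwa [Subgroup.orderOf_coe, Subgroup.orderOf_coe]) (D'.comm l)
        (by rwa [Subgroup.orderOf_coe, Subgroup.orderOf_coe])
      exact ha1 ((h.conj_iff_one ha A.one_mem B.one_mem hb (by rwa [mul_one, one_mul])).1.2 rfl)
  have hind : ∀ {h₀ : Frame P A B} (E : Side h₀ M a b) (i : Fin 4),
      ∑ k : E.K, (if 2 ∣ orderOf k then (1 : ℂ) else 0) * conj ((E.fam.ζ i : E.K → ℂ) k) =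
        (Nat.card E.K : ℂ) * E.fam.ε i / 4 := fun E i => by
    have e : ∀ k : E.K, (if 2 ∣ orderOf k then (1 : ℂ) else 0) =
        (1 / 4 : ℂ) * ∑ l, (E.fam.ε l : ℂ) * (E.fam.ζ l : E.K → ℂ) k := fun k => by
      rw [E.fam.indicator k]; split_ifs <;> norm_num
    simp only [e, Finset.mul_sum, Finset.sum_mul]
    rw [Finset.sum_comm, Finset.sum_eq_single i (fun l _ hl => ?_) (fun h => absurd (mem_univ i) h)]
    · have e1 := E.fam.inner i i
      rw [if_pos rfl, inner_def, inv_mul_eq_iff_eq_mul₀ (card_ne_zero E.K), mul_one] at e1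
      simp only [mul_assoc, ← Finset.mul_sum, e1]
      ring
    · have e1 := E.fam.inner l i
      rw [if_neg hl, inner_def, inv_mul_eq_iff_eq_mul₀ (card_ne_zero E.K), mul_zero] at e1
      simp only [mul_assoc, ← Finset.mul_sum, e1, mul_zero]
  have hind' : ∑ l : D'.K, (if 2 ∣ orderOf l then (1 : ℂ) else 0) * (D'.fam.ζ j : D'.K → ℂ) l =
      (Nat.card D'.K : ℂ) * D'.fam.ε j / 4 := by
    have e : ∀ k : D'.K, (if 2 ∣ orderOf k then (1 : ℂ) else 0) =
        conj ((1 / 4 : ℂ) * ∑ l, (D'.fam.ε l : ℂ) * (D'.fam.ζ l : D'.K → ℂ) k) := fun k => by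
      rw [D'.fam.indicator k]; split_ifs <;> simp
    simp only [e, map_mul, map_sum, map_div₀, map_one, map_ofNat, map_intCast, Finset.mul_sum,
      Finset.sum_mul]
    rw [Finset.sum_comm, Finset.sum_eq_single j (fun l _ hl => ?_) (fun h => absurd (mem_univ j) h)]
    · have e1 := D'.fam.inner j j
      rw [if_pos rfl, inner_def, inv_mul_eq_iff_eq_mul₀ hN', mul_one] at e1
      rw [Finset.sum_congr rfl (g := fun k => (1 / 4 : ℂ) * D'.fam.ε j *
        ((D'.fam.ζ j : D'.K → ℂ) k * conj ((D'.fam.ζ j : D'.K → ℂ) k))) fun k _ => by ring,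
        ← Finset.mul_sum, e1]
      ring
    · have e1 := D'.fam.inner j l
      rw [if_neg (Ne.symm hl), inner_def, inv_mul_eq_iff_eq_mul₀ hN', mul_zero] at e1
      rw [Finset.sum_congr rfl (g := fun k => (1 / 4 : ℂ) * D'.fam.ε l *
        ((D'.fam.ζ j : D'.K → ℂ) k * conj ((D'.fam.ζ l : D'.K → ℂ) k))) fun k _ => by ring,
        ← Finset.mul_sum, e1, mul_zero]
  calc ∑ χ ∈ univ.filter (· ∈ principalBlock M G), D.r χ i * conj (D'.r χ j)
      = (D.fam.ε i : ℂ) * D'.fam.ε j * ((Nat.card D.K : ℂ)⁻¹ * (Nat.card D'.K : ℂ)⁻¹) *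
          ∑ k : D.K, ∑ l : D'.K,
            (∑ χ ∈ univ.filter (· ∈ principalBlock M G), D.f χ k * conj (D'.f χ l)) *
              (conj ((D.fam.ζ i : D.K → ℂ) k) * (D'.fam.ζ j : D'.K → ℂ) l) := by
        simp only [Side.r, inner_def, map_mul, map_inv₀, map_natCast, map_sum, map_intCast,
          Complex.conj_conj, Finset.mul_sum, Finset.sum_mul]
        rw [Finset.sum_comm]
        refine Eq.trans (Finset.sum_congr rfl fun l _ => ?_) Finset.sum_comm
        rw [Finset.sum_comm]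
        exact Finset.sum_congr rfl fun k _ => Finset.sum_congr rfl fun χ _ => by ring
    _ = (D.fam.ε i : ℂ) * D'.fam.ε j * ((Nat.card D.K : ℂ)⁻¹ * (Nat.card D'.K : ℂ)⁻¹) * 16 *
          ((∑ k : D.K, (if 2 ∣ orderOf k then (1 : ℂ) else 0) * conj ((D.fam.ζ i : D.K → ℂ) k)) *
           ∑ l : D'.K, (if 2 ∣ orderOf l then (1 : ℂ) else 0) * (D'.fam.ζ j : D'.K → ℂ) l) := by
        rw [Finset.sum_mul_sum, mul_assoc _ (16 : ℂ), Finset.mul_sum (a := (16 : ℂ))]
        refine congrArg _ (Finset.sum_congr rfl fun k _ => ?_)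
        rw [Finset.mul_sum]
        exact Finset.sum_congr rfl fun l _ => by rw [hg]; ring
    _ = 1 := by
        rw [hind D i, hind']
        rcases D.fam.ε_cases i with e | e <;> rcases D'.fam.ε_cases j with e' | e' <;>
          rw [e, e'] <;> field_simp <;> norm_num

end Gram

end CfsgLib.LocalEven.NineRank
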