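import Cfsg.Agent.Lib.LocalEven.NineRankExt
import Cfsg.Agent.Lib.Blocks.FreePrincipal

/-!
# The automizer of order nine of an elementary abelian Sylow subgroup of order sixteen

The Sylow subgroup is the product of two four groups, each moved without fixed points by an element
of the normalizer which centralizes the other one; the centralizer of an involution of one of them
has a normal subgroup of index four.
-/

set_option autoImplicit false
set_option linter.unusedSectionVars false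
set_option linter.style.haveILetI false

namespace CfsgLib.LocalEven.NineRank

open Cfsg CfsgLib.Blocks Finset

universe u

variable {G : Type u} [Group G] [Fintype G] [Fact (Nat.Prime 2)]

/-- The decomposition of the Sylow subgroup. -/
structure Frame (P : Sylow 2 G) (A B : Subgroup G) : Prop where
  cardP : Nat.card P = 16
  sq : ∀ x ∈ (P : Subgroup G), x * x = 1
  leA : A ≤ P
  leB : B ≤ P
  cardA : Nat.card A = 4
  cardB : Nat.card B = 4
  inter : ∀ x ∈ A, x ∈ B → x = 1
  mapA : ∀ g ∈ Subgroup.normalizer ((P : Subgroup G) : Set G), ∀ x ∈ A, g * x * g⁻¹ ∈ A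
  mapB : ∀ g ∈ Subgroup.normalizer ((P : Subgroup G) : Set G), ∀ x ∈ B, g * x * g⁻¹ ∈ B
  rigidA : ∀ g ∈ Subgroup.normalizer ((P : Subgroup G) : Set G), ∀ x ∈ A, x ≠ 1 →
    g * x * g⁻¹ = x → ∀ y ∈ A, g * y * g⁻¹ = y
  rigidB : ∀ g ∈ Subgroup.normalizer ((P : Subgroup G) : Set G), ∀ x ∈ B, x ≠ 1 →
    g * x * g⁻¹ = x → ∀ y ∈ B, g * y * g⁻¹ = y
  moveA : ∃ n ∈ Subgroup.normalizer ((P : Subgroup G) : Set G), Odd (orderOf n) ∧
    (∀ y ∈ B, n * y * n⁻¹ = y) ∧ ∀ x ∈ A, x ≠ 1 → n * x * n⁻¹ ≠ x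
  moveB : ∃ n ∈ Subgroup.normalizer ((P : Subgroup G) : Set G), Odd (orderOf n) ∧
    (∀ y ∈ A, n * y * n⁻¹ = y) ∧ ∀ x ∈ B, x ≠ 1 → n * x * n⁻¹ ≠ x

variable {P : Sylow 2 G} {A B : Subgroup G}

theorem Frame.symm (h : Frame P A B) : Frame P B A :=
  ⟨h.cardP, h.sq, h.leB, h.leA, h.cardB, h.cardA, fun x hx hx' => h.inter x hx' hx, h.mapB, h.mapA,
    h.rigidB, h.rigidA, h.moveB, h.moveA⟩

theorem Frame.comm (h : Frame P A B) : ∀ x ∈ (P : Subgroup G), ∀ y ∈ (P : Subgroup G), x * y = y * x :=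
  four_comm h.sq

theorem Frame.decomp (h : Frame P A B) {x : G} (hx : x ∈ (P : Subgroup G)) :
    ∃ a ∈ A, ∃ b ∈ B, x = a * b := by
  have hb : Function.Bijective (fun z : A × B =>
      (⟨(z.1 : G) * z.2, mul_mem (h.leA z.1.2) (h.leB z.2.2)⟩ : (P : Subgroup G))) := by
    refine (Nat.bijective_iff_injective_and_card _).2 ⟨fun z w e => ?_, ?_⟩
    · have e1 : (z.1 : G) * z.2 = w.1 * w.2 := congrArg Subtype.val e
      have e2 : (w.1 : G)⁻¹ * z.1 = w.2 * (z.2 : G)⁻¹ := by
        rw [eq_mul_inv_iff_mul_eq, mul_assoc, e1, inv_mul_cancel_left]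
      have e3 : (w.1 : G) = z.1 := inv_mul_eq_one.1 (h.inter _ (A.mul_mem (A.inv_mem w.1.2) z.1.2)
        (e2 ▸ B.mul_mem w.2.2 (B.inv_mem z.2.2)))
      rw [e3] at e1
      exact Prod.ext (Subtype.ext e3.symm) (Subtype.ext (mul_left_cancel e1))
    · rw [Nat.card_prod, h.cardA, h.cardB]; exact h.cardP.symm
  obtain ⟨z, hz⟩ := hb.2 ⟨x, hx⟩
  exact ⟨z.1, z.1.2, z.2, z.2.2, (congrArg Subtype.val hz).symm⟩

theorem Frame.decomp_eq (h : Frame P A B) {a a' b b' : G} (ha : a ∈ A) (ha' : a' ∈ A) (hb : b ∈ B)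
    (hb' : b' ∈ B) (e : a * b = a' * b') : a = a' ∧ b = b' := by
  have e2 : a'⁻¹ * a = b' * b⁻¹ := by rw [eq_mul_inv_iff_mul_eq, mul_assoc, e, inv_mul_cancel_left]
  have e3 : a' = a := inv_mul_eq_one.1
    (h.inter _ (A.mul_mem (A.inv_mem ha') ha) (e2 ▸ B.mul_mem hb' (B.inv_mem hb)))
  subst e3
  exact ⟨rfl, mul_left_cancel e⟩

/-- Fusion in the Sylow subgroup is controlled by its normalizer. -/
theorem Frame.exists_conj (h : Frame P A B) {x y : G} (hx : x ∈ (P : Subgroup G))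
    (hy : y ∈ (P : Subgroup G)) (hxy : IsConj x y) :
    ∃ n ∈ Subgroup.normalizer ((P : Subgroup G) : Set G), n * x * n⁻¹ = y := by
  obtain ⟨g, hg⟩ := isConj_iff.1 hxy
  haveI : IsMulCommutative (P : Subgroup G) := ⟨⟨fun a b => Subtype.ext (h.comm a a.2 b b.2)⟩⟩
  haveI : IsMulCommutative P := ‹_›
  obtain ⟨n, hn, e⟩ := P.conj_eq_normalizer_conj_of_mem x g⁻¹ hx (by rw [inv_inv, hg]; exact hy)
  refine ⟨n⁻¹, inv_mem hn, ?_⟩
  rw [inv_inv, hg] at e
  rw [inv_inv]
  exact e.symm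

/-- Conjugate elements of the Sylow subgroup have conjugate components. -/
theorem Frame.conj_iff_one (h : Frame P A B) {a a' b b' : G} (ha : a ∈ A) (ha' : a' ∈ A)
    (hb : b ∈ B) (hb' : b' ∈ B) (hc : IsConj (a * b) (a' * b')) :
    (a = 1 ↔ a' = 1) ∧ (b = 1 ↔ b' = 1) := by
  obtain ⟨n, hn, e⟩ := h.exists_conj (mul_mem (h.leA ha) (h.leB hb))
    (mul_mem (h.leA ha') (h.leB hb')) hc
  obtain ⟨e1, e2⟩ := h.decomp_eq (h.mapA n hn a ha) ha' (h.mapB n hn b hb) hb'
    (by rw [← e]; group)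
  constructor
  · rw [← e1, conj_eq_one_iff]
  · rw [← e2, conj_eq_one_iff]

/-- An odd element acting without fixed points permutes the three involutions cyclically. -/
theorem Frame.conjA (h : Frame P A B) {x y : G} (hx : x ∈ A) (hx1 : x ≠ 1) (hy : y ∈ A)
    (hy1 : y ≠ 1) : ∃ g : G, g * x * g⁻¹ = y ∧ ∀ z ∈ B, g * z * g⁻¹ = z := by
  classical
  obtain ⟨n, hn, -, hB, hfree⟩ := h.moveA
  by_cases h1 : y = x
  · exact ⟨1, by simp [h1], fun z _ => by simp⟩
  set x' := n * x * n⁻¹ with hx'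
  have hx'A : x' ∈ A := h.mapA n hn x hx
  have hx'1 : x' ≠ 1 := fun e => hx1 (conj_eq_one_iff.1 e)
  by_cases h2 : y = x'
  · exact ⟨n, h2.symm, hB⟩
  set x'' := n * x' * n⁻¹ with hx''
  have hx''A : x'' ∈ A := h.mapA n hn x' hx'A
  refine ⟨n * n, ?_, fun z hz => ?_⟩
  swap
  · calc n * n * z * (n * n)⁻¹ = n * (n * z * n⁻¹) * n⁻¹ := by group
      _ = z := by rw [hB z hz, hB z hz]
  rw [show n * n * x * (n * n)⁻¹ = x'' by rw [hx'', hx']; group]
  have hsq : ∀ z ∈ A, z * z = 1 := fun z hz => h.sq z (h.leA hz)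
  have hne : x'' ≠ x := by
    intro e
    -- then `n` would fix the product
    have hp : n * (x * x') * n⁻¹ = x * x' := by
      calc n * (x * x') * n⁻¹ = (n * x * n⁻¹) * (n * x' * n⁻¹) := by group
        _ = x' * x'' := rfl
        _ = x * x' := by rw [e, h.comm x' (h.leA hx'A) x (h.leA hx)]
    refine hfree _ (A.mul_mem hx hx'A) (fun e' => hfree x hx hx1 ?_) hp
    have : x' = x⁻¹ := eq_inv_of_mul_eq_one_right e'
    rw [← hx', this]
    exact (eq_inv_of_mul_eq_one_left (hsq x hx)).symm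
  by_contra h3
  have hc : ({⟨1, A.one_mem⟩, ⟨x, hx⟩, ⟨x', hx'A⟩, ⟨x'', hx''A⟩, ⟨y, hy⟩} : Finset A).card = 5 := by
    rw [Finset.card_insert_of_notMem, Finset.card_insert_of_notMem, Finset.card_insert_of_notMem,
      Finset.card_insert_of_notMem, Finset.card_singleton] <;>
      simp only [Finset.mem_insert, Finset.mem_singleton, Subtype.mk.injEq, not_or]
    · exact h3
    · exact ⟨fun e => hfree x' hx'A hx'1 e.symm, Ne.symm h2⟩
    · exact ⟨Ne.symm (hfree x hx hx1), Ne.symm hne, Ne.symm h1⟩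
    · exact ⟨Ne.symm hx1, Ne.symm hx'1, Ne.symm (fun e => hx'1 (conj_eq_one_iff.1 e)), Ne.symm hy1⟩
  have := Finset.card_le_univ
    ({⟨1, A.one_mem⟩, ⟨x, hx⟩, ⟨x', hx'A⟩, ⟨x'', hx''A⟩, ⟨y, hy⟩} : Finset A)
  rw [hc, ← Nat.card_eq_fintype_card, h.cardA] at this
  omega

theorem exists_frame (P : Sylow 2 G) (hcard : Nat.card P = 16)
    (hel : ∀ x : P, x ^ 2 = 1)
    (he : (Subgroup.centralizer ((P : Subgroup G) : Set G)).relIndex
      (Subgroup.normalizer ((P : Subgroup G) : Set G)) = 9) :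
    ∃ A B : Subgroup G, Frame P A B := by
  classical
  have hsq : ∀ x ∈ (P : Subgroup G), x * x = 1 := fun x hx => by
    have := congrArg Subtype.val (hel ⟨x, hx⟩)
    simpa [sq] using this
  letI : CommGroup (P : Subgroup G) :=
    { (inferInstance : Group (P : Subgroup G)) with
      mul_comm := fun a b => Subtype.ext (four_comm hsq a a.2 b b.2) }
  have hsq' : ∀ x : (P : Subgroup G), x * x = 1 := fun x => Subtype.ext (hsq x x.2)
  have hP : Nat.card (P : Subgroup G) = 16 := hcard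
  set E := (P : Subgroup G).normalizerMonoidHom.range with hE
  have hE9 : Nat.card E = 9 := by rw [hE, card_range_normalizerMonoidHom]; exact he
  haveI : Fact (Nat.Prime 3) := ⟨Nat.prime_three⟩
  have hEc : ∀ f g : E, f * g = g * f :=
    IsPGroup.commutative_of_card_eq_prime_sq (p := 3) (hE9.trans (by norm_num))
  have hpow : ∀ f : E, (f : MulAut (P : Subgroup G)) ^ (2 * 4 + 1) = 1 := fun f => by
    have := pow_card_eq_one' (x := f)
    rw [hE9] at this
    exact congrArg Subtype.val this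
  -- an element with a fixed point
  obtain ⟨σ, hσ1, v, hv1, hv⟩ : ∃ σ : E, σ ≠ 1 ∧ ∃ v : (P : Subgroup G), v ≠ 1 ∧
      (σ : MulAut (P : Subgroup G)) v = v := by
    by_contra hcon
    push Not at hcon
    haveI := Fintype.ofFinite (MulAction.orbitRel.Quotient E (P : Subgroup G))
    have hb := MulAction.sum_card_fixedBy_eq_card_orbits_mul_card_group E (P : Subgroup G)
    have h1 : ∀ f : E, Fintype.card (MulAction.fixedBy (P : Subgroup G) f) =
        1 + if f = 1 then 15 else 0 := by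
      intro f
      split_ifs with hf
      · subst hf
        rw [← Nat.card_eq_fintype_card]
        simp only [MulAction.fixedBy, one_smul, Set.setOf_true]
        rw [Nat.card_univ, hP]
      · rw [add_zero, Fintype.card_eq_one_iff]
        refine ⟨⟨1, ?_⟩, fun y => Subtype.ext ?_⟩
        · show (f : MulAut (P : Subgroup G)) 1 = 1
          exact map_one _
        · by_contra hy
          exact hcon f hf y hy y.2
    rw [Finset.sum_congr rfl fun f _ => h1 f, Finset.sum_add_distrib, Finset.sum_ite_eq' univ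
      (1 : E), if_pos (mem_univ _), Finset.sum_const, Finset.card_univ, smul_eq_mul, mul_one,
      ← Nat.card_eq_fintype_card (α := E), hE9] at hb
    omega
  let d : (P : Subgroup G) →* (P : Subgroup G) :=
    { toFun := fun x => (σ : MulAut (P : Subgroup G)) x * x⁻¹
      map_one' := by simp
      map_mul' := fun x y => by
        rw [map_mul, mul_inv]; exact mul_mul_mul_comm _ _ _ _ }
  have hd : ∀ x, d x = (σ : MulAut (P : Subgroup G)) x * x⁻¹ := fun _ => rfl
  set A₀ := d.ker with hA₀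
  set B₀ := d.range with hB₀
  have hmemA : ∀ x, x ∈ A₀ ↔ (σ : MulAut (P : Subgroup G)) x = x := fun x => by
    rw [hA₀, MonoidHom.mem_ker, hd, mul_inv_eq_one]
  have hinter : ∀ x, x ∈ A₀ → x ∈ B₀ → x = 1 := by
    rintro y hy ⟨x, rfl⟩
    rw [hmemA] at hy
    have h1 : (σ : MulAut (P : Subgroup G)) x = d x * x := by rw [hd, inv_mul_cancel_right]
    have h2 : ∀ k : ℕ, ((σ : MulAut (P : Subgroup G)) ^ (2 * k)) x = x := fun k => by
      induction k with
      | zero => simp
      | succ k ih =>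
        rw [show 2 * (k + 1) = 2 * k + 2 by ring, pow_add, MulAut.mul_apply, sq, MulAut.mul_apply,
          h1, map_mul, hy, h1, ← mul_assoc, hsq', one_mul, ih]
    have h3 := DFunLike.congr_fun (hpow σ) x
    rw [pow_succ', MulAut.mul_apply, h2, MulAut.one_apply] at h3
    rw [hd, h3, mul_inv_cancel]
  have hAB : Nat.card A₀ * Nat.card B₀ = 16 := by
    rw [hB₀, ← Subgroup.index_ker d, hA₀, Subgroup.card_mul_index, hP]
  -- the cardinalities
  have hfour : Nat.card A₀ = 4 ∧ Nat.card B₀ = 4 := by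
    have hA2 : ∃ i ≤ 4, Nat.card A₀ = 2 ^ i :=
      (Nat.dvd_prime_pow Nat.prime_two).1 (show Nat.card A₀ ∣ 2 ^ 4 by
        rw [show (2 : ℕ) ^ 4 = 16 by norm_num, ← hP]; exact A₀.card_subgroup_dvd_card)
    obtain ⟨i, hi, hiA⟩ := hA2
    have hA1 : Nat.card A₀ ≠ 1 := fun e => hv1
      (Subgroup.mem_bot.1 ((Subgroup.card_eq_one.1 e) ▸ (hmemA v).2 hv))
    have hA16 : Nat.card A₀ ≠ 16 := by
      intro e
      have htop := Subgroup.eq_top_of_card_eq _ (e.trans hP.symm)
      exact hσ1 (Subtype.ext (MulEquiv.ext fun x => (hmemA x).1 (htop ▸ Subgroup.mem_top x)))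
    -- the count of the fixed points modulo three
    have hcong : Nat.card A₀ % 3 = 1 := by
      have hZ : IsPGroup 3 (Subgroup.zpowers σ) :=
        (IsPGroup.of_card (p := 3) (n := 2) (G := E) (hE9.trans (by norm_num))).to_subgroup _
      have h := hZ.card_modEq_card_fixedPoints (P : Subgroup G)
      rw [hP] at h
      have e : MulAction.fixedPoints (Subgroup.zpowers σ) (P : Subgroup G) =
          (A₀ : Set (P : Subgroup G)) := by
        ext x
        rw [MulAction.mem_fixedPoints, SetLike.mem_coe, hmemA]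
        constructor
        · exact fun hx => hx ⟨σ, Subgroup.mem_zpowers σ⟩
        · intro hx g
          obtain ⟨k, hk⟩ := Subgroup.mem_zpowers_iff.1 g.2
          have : σ ∈ MulAction.stabilizer E x := hx
          have h' := Subgroup.zpow_mem _ this k
          rw [hk] at h'
          exact h'
      rw [e] at h
      exact h.symm
    rcases Nat.lt_or_ge i 5 with h5 | h5
    · rw [hiA] at hA1 hA16 hcong hAB ⊢
      interval_cases i <;> omega
    · omega
  -- the automorphisms preserve both factors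
  have hcomm : ∀ (f : E) (x : (P : Subgroup G)), (σ : MulAut (P : Subgroup G))
      ((f : MulAut (P : Subgroup G)) x) =
      (f : MulAut (P : Subgroup G)) ((σ : MulAut (P : Subgroup G)) x) := fun f x =>
    DFunLike.congr_fun (congrArg Subtype.val (hEc σ f)) x
  have hfA : ∀ (f : E) x, x ∈ A₀ → (f : MulAut (P : Subgroup G)) x ∈ A₀ := fun f x hx => by
    rw [hmemA] at hx ⊢; rw [hcomm, hx]
  have hfB : ∀ (f : E) x, x ∈ B₀ → (f : MulAut (P : Subgroup G)) x ∈ B₀ := by
    rintro f _ ⟨y, rfl⟩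
    exact ⟨(f : MulAut (P : Subgroup G)) y, by rw [hd, hd, hcomm, map_mul, map_inv]⟩
  have hrigid : ∀ (S : Subgroup (P : Subgroup G)), Nat.card S = 4 →
      (∀ (f : E) x, x ∈ S → (f : MulAut (P : Subgroup G)) x ∈ S) → ∀ (f : E) x, x ∈ S → x ≠ 1 →
      (f : MulAut (P : Subgroup G)) x = x → ∀ y ∈ S, (f : MulAut (P : Subgroup G)) y = y := by
    intro S hS hinv f x hx hx1 hfix y hy
    have hmap : S.map (f : MulAut (P : Subgroup G)).toMonoidHom = S := by
      refine Subgroup.eq_of_le_of_card_ge ?_ ?_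
      · rintro _ ⟨z, hz, rfl⟩; exact hinv f z hz
      · rw [Subgroup.card_map_of_injective (MulEquiv.injective _)]
    let ρ : MulAut S :=
      ((f : MulAut (P : Subgroup G)).subgroupMap S).trans (MulEquiv.subgroupCongr hmap)
    have hρ : ∀ z : S, ((ρ z : S) : (P : Subgroup G)) = (f : MulAut (P : Subgroup G)) z := fun z => rfl
    have hρk : ∀ (k : ℕ) (z : S), (((ρ ^ k) z : S) : (P : Subgroup G)) =
        ((f : MulAut (P : Subgroup G)) ^ k) z := fun k z => by
      induction k with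
      | zero => simp
      | succ k ih => rw [pow_succ', MulAut.mul_apply, hρ, ih, pow_succ', MulAut.mul_apply]
    have h1 := four_aut_eq_one hS (fun z => Subtype.ext (hsq' z.1)) (σ := ρ) (m := 4)
      (MulEquiv.ext fun z => Subtype.ext (by rw [hρk, hpow]; rfl))
      (u := ⟨x, hx⟩) (fun e => hx1 (congrArg Subtype.val e)) (Subtype.ext (by rw [hρ]; exact hfix))
    have := congrArg (fun g : MulAut S => ((g ⟨y, hy⟩ : S) : (P : Subgroup G))) h1
    simp only [hρ, MulAut.one_apply] at this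
    exact this
  -- an element fixing `B₀`
  obtain ⟨τ, hτ1, hτB⟩ : ∃ τ : E, τ ≠ 1 ∧ ∀ y ∈ B₀, (τ : MulAut (P : Subgroup G)) y = y := by
    obtain ⟨b, hb, hb1⟩ : ∃ b ∈ B₀, b ≠ 1 := by
      by_contra hcon
      push Not at hcon
      have : B₀ = ⊥ := (Subgroup.eq_bot_iff_forall _).2 hcon
      rw [this, Subgroup.card_bot] at hfour
      omega
    obtain ⟨f, g, hfg, he'⟩ := Fintype.exists_ne_map_eq_of_card_lt
      (fun f : E => (⟨(f : MulAut (P : Subgroup G)) b, hfB f b hb⟩ : B₀)) (by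
        rw [← Nat.card_eq_fintype_card, ← Nat.card_eq_fintype_card, hfour.2, hE9]; norm_num)
    refine ⟨g⁻¹ * f, fun e => hfg (inv_mul_eq_one.1 e).symm, hrigid B₀ hfour.2 hfB _ b hb hb1 ?_⟩
    rw [Subgroup.coe_mul, MulAut.mul_apply]
    have : (f : MulAut (P : Subgroup G)) b = (g : MulAut (P : Subgroup G)) b :=
      congrArg Subtype.val he'
    rw [this, Subgroup.coe_inv, MulAut.inv_def, MulEquiv.symm_apply_apply]
  have hgen : ∀ (f : E), (∀ x ∈ A₀, (f : MulAut (P : Subgroup G)) x = x) →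
      (∀ x ∈ B₀, (f : MulAut (P : Subgroup G)) x = x) → f = 1 := by
    intro f ha hb
    refine Subtype.ext (MulEquiv.ext fun x => ?_)
    have hbij : Function.Bijective (fun z : A₀ × B₀ => (z.1 : (P : Subgroup G)) * z.2) := by
      refine (Nat.bijective_iff_injective_and_card _).2 ⟨fun z w e => ?_, ?_⟩
      · simp only at e
        have e2 : (w.1 : (P : Subgroup G))⁻¹ * z.1 = w.2 * (z.2 : (P : Subgroup G))⁻¹ := by
          rw [eq_mul_inv_iff_mul_eq, mul_assoc, e, inv_mul_cancel_left]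
        have e3 := inv_mul_eq_one.1 (hinter _ (A₀.mul_mem (A₀.inv_mem w.1.2) z.1.2)
          (e2 ▸ B₀.mul_mem w.2.2 (B₀.inv_mem z.2.2)))
        rw [e3] at e
        exact Prod.ext (Subtype.ext e3.symm) (Subtype.ext (mul_left_cancel e))
      · rw [Nat.card_prod, hfour.1, hfour.2]; exact hP.symm
    obtain ⟨⟨a, b⟩, rfl⟩ := hbij.2 x
    show (f : MulAut (P : Subgroup G)) ((a : (P : Subgroup G)) * b) = _
    rw [map_mul, ha a a.2, hb b b.2]
    rfl
  let A := A₀.map (P : Subgroup G).subtype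
  let B := B₀.map (P : Subgroup G).subtype
  have hact : ∀ (n : G) (hn : n ∈ Subgroup.normalizer ((P : Subgroup G) : Set G)),
      ∃ f : E, ∀ x : (P : Subgroup G),
        (((f : MulAut (P : Subgroup G)) x : (P : Subgroup G)) : G) = n * x * n⁻¹ :=
    fun n hn => ⟨⟨_, ⟨⟨n, hn⟩, rfl⟩⟩, fun x => rfl⟩
  have hmove : ∀ (S T : Subgroup (P : Subgroup G)) (f₀ : E), f₀ ≠ 1 → Nat.card T = 4 →
      (∀ (f : E) x, x ∈ T → (f : MulAut (P : Subgroup G)) x ∈ T) →
      (∀ y ∈ S, (f₀ : MulAut (P : Subgroup G)) y = y) →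
      (∀ f : E, (∀ x ∈ S, (f : MulAut (P : Subgroup G)) x = x) →
        (∀ x ∈ T, (f : MulAut (P : Subgroup G)) x = x) → f = 1) →
      ∃ n ∈ Subgroup.normalizer ((P : Subgroup G) : Set G), Odd (orderOf n) ∧
        (∀ y ∈ S.map (P : Subgroup G).subtype, n * y * n⁻¹ = y) ∧
        ∀ x ∈ T.map (P : Subgroup G).subtype, x ≠ 1 → n * x * n⁻¹ ≠ x := by
    intro S T f₀ hf₀ hT hTinv hS hboth
    obtain ⟨⟨g, hg⟩, hgf⟩ := f₀.2
    obtain ⟨t, m, hm, htm⟩ :=
      Nat.exists_eq_pow_mul_and_not_dvd (orderOf_pos g).ne' 2 (by norm_num)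
    obtain ⟨f, hf⟩ : ∃ f : E, f = f₀ ^ (2 ^ t) := ⟨_, rfl⟩
    have hf1 : f ≠ 1 := by
      intro e
      apply hf₀
      have h9 : f₀ ^ 9 = 1 := hE9 ▸ pow_card_eq_one'
      have hd := Nat.dvd_gcd (orderOf_dvd_of_pow_eq_one (hf ▸ e : f₀ ^ (2 ^ t) = 1))
        (orderOf_dvd_of_pow_eq_one h9)
      rw [show Nat.gcd (2 ^ t) 9 = 1 from Nat.Coprime.pow_left t (by norm_num), Nat.dvd_one] at hd
      exact orderOf_eq_one_iff.1 hd
    have hfS : ∀ y ∈ S, (f : MulAut (P : Subgroup G)) y = y := by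
      intro y hy
      have : f₀ ∈ MulAction.stabilizer E y := hS y hy
      exact hf ▸ Subgroup.pow_mem _ this _
    have hval : ∀ x : (P : Subgroup G), (((f : MulAut (P : Subgroup G)) x : (P : Subgroup G)) : G) =
        g ^ (2 ^ t) * x * (g ^ (2 ^ t))⁻¹ := by
      intro x
      rw [hf, SubmonoidClass.coe_pow, ← hgf, ← map_pow]
      rfl
    refine ⟨g ^ (2 ^ t), pow_mem hg _, ?_, ?_, ?_⟩
    · rw [orderOf_pow' g (pow_ne_zero t (by norm_num)), htm,
        Nat.gcd_eq_right (Dvd.intro m rfl), Nat.mul_div_cancel_left m (pow_pos (by norm_num) t)]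
      exact Nat.not_even_iff_odd.1 fun h => hm h.two_dvd
    · rintro _ ⟨y, hy, rfl⟩
      exact (hval y).symm.trans (congrArg Subtype.val (hfS y hy))
    · rintro _ ⟨x, hx, rfl⟩ hx1 e
      refine hf1 (hboth f hfS (hrigid T hT hTinv f x hx (fun e' => hx1 (by rw [e']; rfl)) ?_))
      exact Subtype.ext ((hval x).trans e)
  refine ⟨A, B, hcard, hsq, Subgroup.map_subtype_le _, Subgroup.map_subtype_le _, ?_, ?_, ?_, ?_, ?_,
    ?_, ?_, hmove B₀ A₀ τ hτ1 hfour.1 hfA hτB (fun f hb ha => hgen f ha hb),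
    hmove A₀ B₀ σ hσ1 hfour.2 hfB (fun y hy => (hmemA y).1 hy) hgen⟩
  · rw [Subgroup.card_map_of_injective (P : Subgroup G).subtype_injective]; exact hfour.1
  · rw [Subgroup.card_map_of_injective (P : Subgroup G).subtype_injective]; exact hfour.2
  · rintro _ ⟨x, hx, rfl⟩ ⟨y, hy, e⟩
    obtain rfl := (P : Subgroup G).subtype_injective e
    rw [hinter y hx hy]; rfl
  · rintro n hn _ ⟨x, hx, rfl⟩
    obtain ⟨f, hf⟩ := hact n hn
    exact ⟨_, hfA f x hx, hf x⟩
  · rintro n hn _ ⟨x, hx, rfl⟩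
    obtain ⟨f, hf⟩ := hact n hn
    exact ⟨_, hfB f x hx, hf x⟩
  all_goals
    rintro n hn _ ⟨x, hx, rfl⟩ hx1 hfix _ ⟨y, hy, rfl⟩
    obtain ⟨f, hf⟩ := hact n hn
    refine (hf y).symm.trans (congrArg Subtype.val (hrigid _ ?_ ?_ f x hx
      (fun e => hx1 (by rw [e]; rfl)) (Subtype.ext ((hf x).trans hfix)) y hy))
    first | exact hfour.1 | exact hfour.2
    first | exact hfA | exact hfB

/-- A normal subgroup of index four of the centralizer of an involution of `A`. -/
theorem Frame.exists_indexFour (h : Frame P A B) {a : G} (ha : a ∈ A) (ha1 : a ≠ 1) :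
    ∃ (K : Subgroup (Subgroup.centralizer ({a} : Set G))) (_ : K.Normal) (Q : Sylow 2 K),
      IndexFour K (A.subgroupOf (Subgroup.centralizer ({a} : Set G))) Q ∧
      ∀ q : K, q ∈ (Q : Subgroup K) ↔ ((q : Subgroup.centralizer ({a} : Set G)) : G) ∈ B := by
  classical
  set H := Subgroup.centralizer ({a} : Set G) with hH
  have hPH : (P : Subgroup G) ≤ H := fun x hx =>
    Subgroup.mem_centralizer_singleton_iff.2 (h.comm x hx a (h.leA ha))
  let S : Sylow 2 H := P.subtype hPH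
  have hSmem : ∀ x : H, x ∈ (S : Subgroup H) ↔ (x : G) ∈ (P : Subgroup G) := fun x => Iff.rfl
  letI : CommGroup (S : Subgroup H) :=
    { (inferInstance : Group (S : Subgroup H)) with
      mul_comm := fun x y => Subtype.ext (Subtype.ext (h.comm _ x.2 _ y.2)) }
  haveI : IsMulCommutative S := ⟨⟨fun x y => mul_comm x y⟩⟩
  obtain ⟨n, hn, hodd, hnA, hfree⟩ := h.moveB
  have hnH : n ∈ H := by
    refine Subgroup.mem_centralizer_singleton_iff.2 ?_
    exact mul_inv_eq_iff_eq_mul.1 (hnA a ha)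
  have hnP : ∀ {x : G}, x ∈ (P : Subgroup G) → n * x * n⁻¹ ∈ (P : Subgroup G) := fun hx =>
    (Subgroup.mem_normalizer_iff.1 hn _).1 hx
  let c : (S : Subgroup H) →* (S : Subgroup H) :=
    { toFun := fun x => ⟨⟨n, hnH⟩ * x * ⟨n, hnH⟩⁻¹, hnP x.2⟩
      map_one' := Subtype.ext (by simp)
      map_mul' := fun x y => Subtype.ext (by push_cast; group) }
  let π : (S : Subgroup H) →* (S : Subgroup H) := MonoidHom.id _ * c * c.comp c
  have hc : ∀ x : (S : Subgroup H), ((c x : (S : Subgroup H)) : G) = n * ((x : H) : G) * n⁻¹ :=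
    fun x => rfl
  have hπ : ∀ x, π x = x * c x * c (c x) := fun x => rfl
  have hπA : ∀ x : (S : Subgroup H), ((x : H) : G) ∈ A → π x = x := by
    intro x hx
    have e : c x = x := Subtype.ext (Subtype.ext (hnA _ hx))
    rw [hπ, e, e, Subtype.ext_iff, Subtype.ext_iff]
    push_cast
    rw [h.sq ((x : H) : G) x.2, one_mul]
  have hπB : ∀ x : (S : Subgroup H), ((x : H) : G) ∈ B → π x = 1 := by
    intro x hx
    by_cases hx1 : x = 1
    · rw [hx1, map_one]
    have h1 : ((x : H) : G) ≠ 1 := fun e => hx1 (Subtype.ext (Subtype.ext e))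
    -- the product over the orbit is fixed
    have hmem : ((π x : (S : Subgroup H)) : G) ∈ B := by
      rw [hπ]
      push_cast
      exact B.mul_mem (B.mul_mem hx (h.mapB n hn _ hx)) (h.mapB n hn _ (h.mapB n hn _ hx))
    by_contra hne
    refine hfree _ hmem (fun e => hne (Subtype.ext (Subtype.ext e))) ?_
    rw [← hc]
    have h3 : c (c (c x)) = x := by
      apply Subtype.ext; apply Subtype.ext
      rw [hc, hc, hc]
      set y := ((x : H) : G)
      have hz1 : n * y * n⁻¹ ≠ y := hfree y hx h1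
      by_contra hne3
      have hy' := h.mapB n hn y hx
      have hy'' := h.mapB n hn _ hy'
      have hy''' := h.mapB n hn _ hy''
      have hy1' : n * y * n⁻¹ ≠ 1 := fun e => h1 (conj_eq_one_iff.1 e)
      have hy1'' : n * (n * y * n⁻¹) * n⁻¹ ≠ 1 := fun e => hy1' (conj_eq_one_iff.1 e)
      have hy1''' : n * (n * (n * y * n⁻¹) * n⁻¹) * n⁻¹ ≠ 1 := fun e => hy1'' (conj_eq_one_iff.1 e)
      have hne2 : n * (n * y * n⁻¹) * n⁻¹ ≠ y := by
        intro e
        refine hfree _ (B.mul_mem hx hy') (fun e' => hz1 ?_) ?_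
        · rw [eq_inv_of_mul_eq_one_right e']
          exact (eq_inv_of_mul_eq_one_left (h.sq y (h.leB hx))).symm
        · calc n * (y * (n * y * n⁻¹)) * n⁻¹ = (n * y * n⁻¹) * (n * (n * y * n⁻¹) * n⁻¹) := by group
            _ = y * (n * y * n⁻¹) := by rw [e, h.comm _ (h.leB hy') _ (h.leB hx)]
      have hc5 : ({⟨1, B.one_mem⟩, ⟨y, hx⟩, ⟨_, hy'⟩, ⟨_, hy''⟩, ⟨_, hy'''⟩} : Finset B).card = 5 := by
        rw [Finset.card_insert_of_notMem, Finset.card_insert_of_notMem,
          Finset.card_insert_of_notMem, Finset.card_insert_of_notMem, Finset.card_singleton] <;>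
          simp only [Finset.mem_insert, Finset.mem_singleton, Subtype.mk.injEq, not_or]
        · exact fun e => hfree _ hy'' hy1'' e.symm
        · exact ⟨fun e => hfree _ hy' hy1' e.symm,
            fun e => hne2 (mul_left_cancel (mul_right_cancel e)).symm⟩
        · exact ⟨Ne.symm hz1, Ne.symm hne2, Ne.symm hne3⟩
        · exact ⟨Ne.symm h1, Ne.symm hy1', Ne.symm hy1'', Ne.symm hy1'''⟩
      have := Finset.card_le_univ
        ({⟨1, B.one_mem⟩, ⟨y, hx⟩, ⟨_, hy'⟩, ⟨_, hy''⟩, ⟨_, hy'''⟩} : Finset B)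
      rw [hc5, ← Nat.card_eq_fintype_card, h.cardB] at this
      omega
    rw [hπ, map_mul, map_mul, h3, mul_comm (c x * c (c x)) x, ← mul_assoc]
  have hπmem : ∀ x : (S : Subgroup H), ((π x : (S : Subgroup H)) : G) ∈ A := by
    intro x
    obtain ⟨u, hu, w, hw, e⟩ := h.decomp x.2
    have e' : x = (⟨⟨u, hPH (h.leA hu)⟩, h.leA hu⟩ : (S : Subgroup H)) *
        ⟨⟨w, hPH (h.leB hw)⟩, h.leB hw⟩ := Subtype.ext (Subtype.ext e)
    rw [e', map_mul, hπA _ hu, hπB _ hw, mul_one]
    exact hu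
  haveI : (S : Subgroup H).FiniteIndex := inferInstance
  let τ : H →* (S : Subgroup H) := MonoidHom.transfer π
  have hτA : ∀ (x : H) (hx : (x : G) ∈ A), τ x = ⟨x, h.leA hx⟩ := by
    intro x hx
    have key : ∀ (k : ℕ) (g₀ : H), g₀⁻¹ * x ^ k * g₀ ∈ (S : Subgroup H) →
        g₀⁻¹ * x ^ k * g₀ = x ^ k := by
      intro k g₀ hg
      obtain ⟨m, hm, e⟩ := S.conj_eq_normalizer_conj_of_mem (x ^ k) g₀
        (pow_mem (show x ∈ (S : Subgroup H) from h.leA hx) k) hg
      rw [e]
      have hmN : (m : G) ∈ Subgroup.normalizer ((P : Subgroup G) : Set G) := by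
        refine Subgroup.mem_normalizer_iff.2 fun y => ⟨fun hy => ?_, fun hy => ?_⟩
        · exact (Subgroup.mem_normalizer_iff.1 hm ⟨y, hPH hy⟩).1 hy
        · have hyH : y ∈ H := by
            have := H.mul_mem (H.mul_mem (H.inv_mem m.2) (hPH hy)) m.2
            simpa [mul_assoc] using this
          exact (Subgroup.mem_normalizer_iff.1 hm ⟨y, hyH⟩).2 hy
      have hfa : (m : G) * a * (m : G)⁻¹ = a :=
        mul_inv_eq_iff_eq_mul.2 (Subgroup.mem_centralizer_singleton_iff.1 m.2)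
      have h1 := h.rigidA _ hmN a ha ha1 hfa (x : G) hx
      have h2 : m⁻¹ * x * m = x := by
        apply Subtype.ext
        push_cast
        conv_lhs => rw [← h1]
        group
      rw [show m⁻¹ * x ^ k * m = (m⁻¹ * x * m) ^ k by
        simpa using (map_pow (MulAut.conj m⁻¹) x k), h2]
    rw [show τ x = _ from MonoidHom.transfer_eq_pow π x key, hπA _ (by
      show ((x ^ (S : Subgroup H).index : H) : G) ∈ A
      push_cast
      exact pow_mem hx _)]
    apply Subtype.ext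
    show x ^ (S : Subgroup H).index = x
    obtain ⟨k, hk⟩ : Odd (S : Subgroup H).index :=
      Nat.not_even_iff_odd.1 fun e => S.not_dvd_index e.two_dvd
    have h2 : x ^ 2 = 1 := by
      apply Subtype.ext; push_cast; rw [pow_two]; exact h.sq _ (h.leA hx)
    rw [hk, pow_succ, pow_mul, h2, one_pow, one_mul]
  have hτB : ∀ (x : H), (x : G) ∈ B → τ x = 1 := by
    intro x hx
    -- `B` consists of commutators with `n`
    obtain ⟨y, hy, e⟩ : ∃ y ∈ B, n * y * n⁻¹ * y⁻¹ = (x : G) := by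
      let φ : B → B := fun y => ⟨n * y * n⁻¹ * (y : G)⁻¹, B.mul_mem (h.mapB n hn _ y.2) (B.inv_mem y.2)⟩
      have hinj : Function.Injective φ := by
        intro y z e
        have e' : n * y * n⁻¹ * (y : G)⁻¹ = n * z * n⁻¹ * (z : G)⁻¹ := congrArg Subtype.val e
        by_contra hne
        refine hfree _ (B.mul_mem (B.inv_mem z.2) y.2)
          (fun e1 => hne (Subtype.ext (inv_mul_eq_one.1 e1).symm)) ?_
        have hcy := h.comm _ (h.leB (h.mapB n hn _ y.2)) _ (inv_mem (h.leB y.2))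
        calc n * ((z : G)⁻¹ * y) * n⁻¹ = (n * z * n⁻¹)⁻¹ * (n * y * n⁻¹) := by group
          _ = (z : G)⁻¹ * (n * z * n⁻¹ * (z : G)⁻¹)⁻¹ * (n * y * n⁻¹) := by group
          _ = (z : G)⁻¹ * (n * y * n⁻¹ * (y : G)⁻¹)⁻¹ * (n * y * n⁻¹) := by rw [e']
          _ = (z : G)⁻¹ * y := by group
      obtain ⟨y, hy⟩ := (Finite.injective_iff_surjective.1 hinj) ⟨_, hx⟩
      exact ⟨y, y.2, congrArg Subtype.val hy⟩
    have e' : x = ⟨n, hnH⟩ * ⟨y, hPH (h.leB hy)⟩ * (⟨n, hnH⟩ : H)⁻¹ * (⟨y, hPH (h.leB hy)⟩ : H)⁻¹ :=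
      Subtype.ext e.symm
    rw [e', map_mul, map_mul, map_mul, map_inv, map_inv]
    rw [mul_inv_cancel_comm, mul_inv_cancel]
  have hrange : ∀ x : H, ((τ x : (S : Subgroup H)) : G) ∈ A := by
    intro x
    let A' : Subgroup (S : Subgroup H) := (A.comap H.subtype).comap (S : Subgroup H).subtype
    show τ x ∈ A'
    have hπA' : ∀ y, π y ∈ A' := hπmem
    show MonoidHom.transfer π x ∈ A'
    rw [MonoidHom.transfer_def π (T := default)]
    exact A'.prod_mem fun q _ => hπA' _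
  set K := τ.ker with hK
  have hRcard : Nat.card τ.range = 4 := by
    rw [← h.cardA]
    refine (Nat.card_congr (Equiv.ofBijective
      (fun x : A => (⟨τ ⟨x, hPH (h.leA x.2)⟩, MonoidHom.mem_range.2 ⟨_, rfl⟩⟩ : τ.range)) ⟨?_, ?_⟩)).symm
    · intro x y e
      have e' := congrArg Subtype.val e
      simp only [hτA ⟨x, hPH (h.leA x.2)⟩ x.2, hτA ⟨y, hPH (h.leA y.2)⟩ y.2] at e'
      exact Subtype.ext (congrArg (fun z : (S : Subgroup H) => ((z : H) : G)) e')
    · rintro ⟨_, z, rfl⟩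
      exact ⟨⟨_, hrange z⟩, Subtype.ext (hτA ⟨_, hPH (h.leA (hrange z))⟩ (hrange z))⟩
  have hidx : K.index = 4 := by rw [hK, Subgroup.index_ker]; exact hRcard
  have hint : ∀ x ∈ A.subgroupOf H, x ∈ K → x = 1 := fun x hx hxK => by
    rw [hK, MonoidHom.mem_ker, hτA x hx] at hxK
    exact congrArg Subtype.val hxK
  let Q₀ : Subgroup K := (B.subgroupOf H).subgroupOf K
  have hBK : B.subgroupOf H ≤ K := fun x hx => hτB x hx
  have hQ4 : Nat.card Q₀ = 4 := by
    rw [Nat.card_congr (Subgroup.subgroupOfEquivOfLe hBK).toEquiv,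
      Nat.card_congr (Subgroup.subgroupOfEquivOfLe (h.leB.trans hPH)).toEquiv, h.cardB]
  have hQcard : Nat.card Q₀ = 2 ^ (Nat.card K).factorization 2 := by
    rw [hQ4]
    have h16 : (2 : ℕ) ^ (Nat.card H).factorization 2 = 16 := by
      rw [← Sylow.card_eq_multiplicity S]
      change Nat.card ((P : Subgroup G).subgroupOf H) = 16
      rw [Nat.card_congr (Subgroup.subgroupOfEquivOfLe hPH).toEquiv]
      exact h.cardP
    have hfac : (Nat.card H).factorization 2 = 4 :=
      Nat.pow_right_injective le_rfl (show 2 ^ _ = 2 ^ 4 by simpa using h16)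
    have e := K.card_mul_index
    rw [hidx] at e
    rw [← e, Nat.factorization_mul Nat.card_pos.ne' (by norm_num), Finsupp.add_apply,
      show (4 : ℕ) = 2 ^ 2 by norm_num, Nat.Prime.factorization_pow Nat.prime_two,
      Finsupp.single_eq_same] at hfac
    rw [show (Nat.card K).factorization 2 = 2 by omega]
    norm_num
  refine ⟨K, inferInstance, Sylow.ofCard Q₀ hQcard, ⟨hidx, hint, ?_, ?_, ?_, ?_, ?_, ?_⟩,
    fun q => Iff.rfl⟩
  · rw [Nat.card_congr (Subgroup.subgroupOfEquivOfLe (h.leA.trans hPH)).toEquiv, h.cardA]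
  · exact fun x hx y hy => Subtype.ext (h.comm _ (h.leA hx) _ (h.leA hy))
  · exact fun x hx q hq => Subtype.ext (h.comm _ (h.leA hx) _ (h.leB hq))
  · refine ⟨hQ4, ?_⟩
    haveI : Nontrivial Q₀ := Finite.one_lt_card_iff_nontrivial.1 (by rw [hQ4]; norm_num)
    refine (Monoid.exponent_eq_prime_iff (G := Q₀) Nat.prime_two).2 fun g hg => ?_
    · refine orderOf_eq_prime ?_ hg
      apply Subtype.ext; apply Subtype.ext; apply Subtype.ext
      push_cast
      rw [pow_two]
      exact h.sq _ (h.leB g.2)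
  · obtain ⟨b, hb, hb1⟩ : ∃ b ∈ B, b ≠ 1 := by
      by_contra hcon
      push Not at hcon
      have : B = ⊥ := (Subgroup.eq_bot_iff_forall _).2 hcon
      have h4 := h.cardB
      rw [this, Subgroup.card_bot] at h4
      omega
    have hnK : (⟨n, hnH⟩ : H) ∈ K := by
      refine index_eq_pow_mem_of_regular (p := 2) (k := 2) (hidx.trans (by norm_num)) ?_
      rw [Subgroup.orderOf_mk]
      exact hodd.not_two_dvd_nat
    refine ⟨⟨_, hnK⟩, ?_, by rwa [Subgroup.orderOf_mk, Subgroup.orderOf_mk],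
      fun x hx => Subtype.ext (mul_inv_eq_iff_eq_mul.1 (hnA _ hx)).symm,
      ⟨⟨b, hPH (h.leB hb)⟩, hBK hb⟩, hb, fun e => hfree b hb hb1 ?_⟩
    · refine Subgroup.mem_normalizer_iff.2 fun y => ⟨fun hy => h.mapB n hn _ hy, fun hy => ?_⟩
      have := h.mapB n⁻¹ (inv_mem hn) _ hy
      show ((y : H) : G) ∈ B
      simpa [mul_assoc] using this
    · exact congrArg (fun z : K => ((z : H) : G)) e
  · intro x hx q hq hc
    have hc' : IsConj (x : G) ((x : G) * ((q : H) : G)) := H.subtype.map_isConj hc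
    by_contra hq1
    have hq1' : ((q : H) : G) ≠ 1 := fun e => hq1 (Subtype.ext (Subtype.ext e))
    refine hq1' ((h.conj_iff_one hx hx B.one_mem hq ?_).2.1 rfl)
    rwa [mul_one]

end CfsgLib.LocalEven.NineRank
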