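import Cfsg.Agent.Lib.Transfer.SL2Free
import Cfsg.Agent.Lib.Fusion.SimpleTwoRankLie

/-!
Groups whose 2-subgroups are nearly abelian have no quadratic elements on faithful irreducible
modules in odd characteristic.
-/

set_option autoImplicit false

open Subgroup
open scoped commutatorElement

universe u

namespace CfsgLib.LocalEven.NoQuadratic

/-- An abelian subgroup outside of which all elements square to one. -/
def NearlyAbelian {X : Type*} [Group X] (U : Subgroup X) : Prop :=
  ∃ R : Subgroup X, (∀ x ∈ R, ∀ y ∈ R, x * y = y * x) ∧ ∀ u ∈ U, u ∉ R → u * u = 1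

theorem nearlyAbelian_of_quaternion {S X : Type*} [Group S] [Group X] {n : ℕ} (e : S ≃* QuaternionGroup n)
    (ψ : S →* X) (hψ : ∀ s : S, s * s * (s * s) = 1 → ψ (s * s) = 1) : NearlyAbelian ψ.range := by
  let R₀ : Subgroup (QuaternionGroup n) :=
    { carrier := {x | ∃ i, x = QuaternionGroup.a i}
      one_mem' := ⟨0, rfl⟩
      mul_mem' := by
        rintro _ _ ⟨i, rfl⟩ ⟨j, rfl⟩
        exact ⟨i + j, QuaternionGroup.a_mul_a i j⟩
      inv_mem' := by
        rintro _ ⟨i, rfl⟩
        exact ⟨-i, rfl⟩ }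
  refine ⟨(R₀.comap e.toMonoidHom).map ψ, ?_, ?_⟩
  · rintro _ ⟨x, ⟨i, hi⟩, rfl⟩ _ ⟨y, ⟨j, hj⟩, rfl⟩
    rw [← map_mul, ← map_mul]
    congr 1
    apply e.injective
    change e x = _ at hi
    change e y = _ at hj
    rw [map_mul, map_mul, hi, hj, QuaternionGroup.a_mul_a, QuaternionGroup.a_mul_a, add_comm]
  · rintro _ ⟨s, rfl⟩ hu
    obtain ⟨i, hi⟩ : ∃ i, e s = QuaternionGroup.xa i := by
      cases hes : e s with
      | a i => exact absurd ⟨s, ⟨i, hes⟩, rfl⟩ hu
      | xa i => exact ⟨i, rfl⟩
    rw [← map_mul]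
    refine hψ s (e.injective ?_)
    rw [map_mul, map_mul, map_one, hi, QuaternionGroup.xa_mul_xa, QuaternionGroup.a_mul_a, add_sub_cancel_right,
      show (n : ZMod (2 * n)) + n = 0 by
        rw [← two_mul]
        exact_mod_cast ZMod.natCast_self (2 * n)]
    rfl

theorem nearlyAbelian_PSL2 {F : Type*} [Field F] [Finite F] (hodd : Odd (Nat.card F))
    (U : Subgroup (Matrix.ProjectiveSpecialLinearGroup (Fin 2) F)) (hU : IsPGroup 2 U) : NearlyAbelian U := by
  haveI : Fact (Nat.Prime 2) := ⟨Nat.prime_two⟩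
  have h2 := CfsgLib.Classical.two_ne_zero_of_odd_card hodd
  obtain ⟨P, hP⟩ := hU.exists_le_sylow
  obtain ⟨S, rfl⟩ := Sylow.mapSurjective_surjective
    (QuotientGroup.mk'_surjective (center (Matrix.SpecialLinearGroup (Fin 2) F))) 2 P
  rw [Sylow.coe_mapSurjective] at hP
  rcases CfsgLib.Classical.twoGroup_cyclic_or_quaternion h2 S.2 (S : Subgroup (Matrix.SpecialLinearGroup (Fin 2) F)).subtype
    (Subgroup.subtype_injective _) with h | ⟨k, hk, ⟨e⟩⟩
  · exact absurd h.isMulCommutative (CfsgLib.Classical.sylow_two_SL2_not_commutative h2 S)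
  obtain ⟨R, hR, hR'⟩ := nearlyAbelian_of_quaternion e
    ((QuotientGroup.mk' (center (Matrix.SpecialLinearGroup (Fin 2) F))).comp
      (S : Subgroup (Matrix.SpecialLinearGroup (Fin 2) F)).subtype) (fun s hs => by
      rw [MonoidHom.comp_apply, QuotientGroup.mk'_apply, QuotientGroup.eq_one_iff]
      rcases CfsgLib.Classical.sl2_eq_one_or_of_sq h2 rfl
        (g := ((s * s : (S : Subgroup (Matrix.SpecialLinearGroup (Fin 2) F))) :
          Matrix.SpecialLinearGroup (Fin 2) F)) (z := CfsgLib.Classical.negOneSL F)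
        ((pow_two _).trans (congrArg Subtype.val hs)) with h | h
      · show ((s * s : (S : Subgroup (Matrix.SpecialLinearGroup (Fin 2) F))) :
          Matrix.SpecialLinearGroup (Fin 2) F) ∈ _
        rw [h]; exact one_mem _
      · show ((s * s : (S : Subgroup (Matrix.SpecialLinearGroup (Fin 2) F))) :
          Matrix.SpecialLinearGroup (Fin 2) F) ∈ _
        rw [h]; exact CfsgLib.Classical.negOneSL_mem_center)
  refine ⟨R, hR, fun u hu hu' => hR' u ?_ hu'⟩
  obtain ⟨x, hx, rfl⟩ := hP hu
  exact ⟨⟨x, hx⟩, rfl⟩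

variable {p : ℕ} [Fact p.Prime]

/-- Nearly abelian 2-subgroups exclude sections `SL(2,p)`. -/
theorem not_involvesSL2 {X : Type*} [Group X] [Finite X] (hp : p ≠ 2)
    (h : ∀ U : Subgroup X, IsPGroup 2 U → NearlyAbelian U) : ¬ CfsgLib.OddOrder.InvolvesSL2 p X := by
  haveI : Fact (Nat.Prime 2) := ⟨Nat.prime_two⟩
  rintro ⟨K₀, f, hf⟩
  have h2 : (2 : ZMod p) ≠ 0 := by
    intro h0
    have h1 : ((2 : ℕ) : ZMod p) = 0 := by exact_mod_cast h0
    rw [ZMod.natCast_eq_zero_iff] at h1
    exact hp ((Nat.prime_dvd_prime_iff_eq Fact.out Nat.prime_two).1 h1)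
  obtain ⟨S⟩ : Nonempty (Sylow 2 K₀) := inferInstance
  obtain ⟨R, hR, hR'⟩ := h ((S : Subgroup K₀).map K₀.subtype) (S.2.map _)
  refine CfsgLib.Classical.sylow_two_SL2_not_commutative h2 (S.mapSurjective hf) ?_
  rw [Sylow.coe_mapSurjective]
  have hcen : ∀ s : K₀, s ∈ (S : Subgroup K₀) → (s : X) ∉ R → f s ∈ center _ := by
    intro s hs hsR
    have h1 : s * s = 1 := Subtype.ext (hR' s ⟨s, hs, rfl⟩ hsR)
    rcases CfsgLib.Classical.sl2_eq_one_or_of_sq h2 rfl (g := f s) (z := CfsgLib.Classical.negOneSL (ZMod p))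
      (by rw [pow_two, ← map_mul, h1, map_one]) with e | e
    · rw [e]; exact one_mem _
    · rw [e]; exact CfsgLib.Classical.negOneSL_mem_center
  refine ⟨⟨fun ⟨_, x, hx, hxe⟩ ⟨_, y, hy, hye⟩ => Subtype.ext ?_⟩⟩
  subst hxe hye
  show f x * f y = f y * f x
  by_cases hxR : (x : X) ∈ R
  · by_cases hyR : (y : X) ∈ R
    · rw [← map_mul, ← map_mul]
      exact congrArg f (Subtype.ext (hR _ hxR _ hyR))
    · exact mem_center_iff.1 (hcen y hy hyR) _
  · exact (mem_center_iff.1 (hcen x hx hxR) _).symm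

/-- No quadratic elements on a faithful irreducible module. -/
theorem quadratic_eq_one {V Q : Type u} [CommGroup V] [Finite V] [Group Q] [Finite Q] (hp : p ≠ 2)
    (hV : ∀ v : V, v ^ p = 1) (α : Q →* MulAut V) (hα : Function.Injective α)
    (hirr : ∀ W : Subgroup V, (∀ q : Q, ∀ w ∈ W, α q w ∈ W) → W = ⊥ ∨ W = ⊤)
    (hna : ∀ U : Subgroup Q, IsPGroup 2 U → NearlyAbelian U) (a : Q)
    (hquad : ∀ v : V, α a (α a v / v) = α a v / v) : a = 1 := by
  let X := V ⋊[α] Q
  haveI : Finite X := Finite.of_equiv _ SemidirectProduct.equivProd.symm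
  set B : Subgroup X := (SemidirectProduct.inl (φ := α)).range with hB
  haveI hBn : B.Normal := by
    rw [hB, SemidirectProduct.range_inl_eq_ker_rightHom]
    infer_instance
  have hBp : IsPGroup p B := by
    rintro ⟨_, v, rfl⟩
    exact ⟨1, Subtype.ext (by simp [← map_pow, hV])⟩
  have hker : ∀ x : X, SemidirectProduct.rightHom x = 1 → x ∈ B := fun x hx => by
    rw [hB, SemidirectProduct.range_inl_eq_ker_rightHom]; exact hx
  have hfree : ¬ CfsgLib.OddOrder.InvolvesSL2 p X := by
    refine not_involvesSL2 hp fun U hU => ?_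
    obtain ⟨R, hR, hR'⟩ := hna (U.map SemidirectProduct.rightHom) (hU.map _)
    haveI : Fact (Nat.Prime 2) := ⟨Nat.prime_two⟩
    have hinj : ∀ x ∈ U, ∀ y ∈ U, SemidirectProduct.rightHom x = SemidirectProduct.rightHom y → x = y := by
      intro x hx y hy e
      have h1 : x * y⁻¹ ∈ B := hker _ (by rw [map_mul, map_inv, e, mul_inv_cancel])
      have h2 := disjoint_def.1 (IsPGroup.disjoint_of_ne p 2 hp B U hBp hU) h1 (mul_mem hx (inv_mem hy))
      exact mul_inv_eq_one.1 h2
    refine ⟨R.comap SemidirectProduct.rightHom ⊓ U, fun x hx y hy => ?_, fun u hu hu' => ?_⟩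
    · exact hinj _ (mul_mem hx.2 hy.2) _ (mul_mem hy.2 hx.2) (by
        rw [map_mul, map_mul]; exact hR _ hx.1 _ hy.1)
    · exact hinj _ (mul_mem hu hu) _ (one_mem _) (by
        rw [map_mul, map_one]
        exact hR' _ ⟨u, hu, rfl⟩ fun h => hu' ⟨h, hu⟩)
  have hst := CfsgLib.Transfer.quadStable_of_not_involvesSL2 hp hfree
  set g : X := SemidirectProduct.inr a with hg
  have haction : ∀ v : V, (⁅g, SemidirectProduct.inl v⁆ : X) = SemidirectProduct.inl (α a v / v) := by
    intro v
    rw [commutatorElement_def, hg, ← map_inv SemidirectProduct.inr, ← SemidirectProduct.inl_aut,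
      div_eq_mul_inv, map_mul, map_inv]
  -- `a` acts with order dividing `p`
  have hap : a ^ p = 1 := by
    apply hα
    refine MulEquiv.ext fun v => ?_
    have key : ∀ n : ℕ, (α (a ^ n)) v = v * (α a v / v) ^ n := by
      intro n
      induction n with
      | zero => simp
      | succ n ih =>
        rw [pow_succ', map_mul, MulAut.mul_apply, ih, map_mul, map_pow (α a), hquad, pow_succ', ← mul_assoc,
          mul_div_cancel]
    rw [key, hV, mul_one, map_one]; rfl
  classical
  have hgp : IsPGroup p (zpowers g) := IsPGroup.of_card (n := if a = 1 then 0 else 1) (by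
    rw [Nat.card_zpowers, hg, orderOf_injective _ SemidirectProduct.inr_injective]
    split
    · next h => rw [h, orderOf_one, pow_zero]
    · next h => rw [orderOf_eq_prime hap h, pow_one])
  have hq : ⁅⁅B, zpowers g⁆, zpowers g⁆ = ⊥ := by
    have hfixset : ⁅B, zpowers g⁆ ≤ B ⊓ centralizer {g} := by
      rw [commutator_le]
      rintro _ ⟨v, rfl⟩ y hy
      refine ⟨commutator_le_left B _ (commutator_mem_commutator (H₁ := B) (H₂ := zpowers g) ⟨v, rfl⟩ hy), ?_⟩
      obtain ⟨n, rfl⟩ := hy
      beta_reduce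
      rw [hg, ← map_zpow, commutatorElement_def, mul_assoc (SemidirectProduct.inl v) _ _,
        mul_assoc (SemidirectProduct.inl v) _ _, ← map_inv SemidirectProduct.inl,
        ← map_inv SemidirectProduct.inr, ← SemidirectProduct.inl_aut, ← map_mul]
      refine mem_centralizer_singleton_iff.2 ?_
      have hfix : α a (v * (α (a ^ n)) v⁻¹) = v * (α (a ^ n)) v⁻¹ := by
        let F : Subgroup V := ((α a).toMonoidHom.eqLocus (MonoidHom.id V))
        have key : ∀ k : ℕ, ∀ w : V, w⁻¹ * α (a ^ k) w ∈ F := by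
          intro k
          induction k with
          | zero => intro w; rw [pow_zero, map_one, MulAut.one_apply, inv_mul_cancel]; exact one_mem F
          | succ k ih =>
            intro w
            rw [pow_succ, map_mul, MulAut.mul_apply,
              show w⁻¹ * α (a ^ k) (α a w) = (α a w / w) * ((α a w)⁻¹ * α (a ^ k) (α a w)) by
                rw [div_eq_mul_inv, mul_comm (α a w) w⁻¹, mul_assoc, mul_inv_cancel_left]]
            exact mul_mem (hquad w) (ih _)
        obtain ⟨k, hk⟩ : ∃ k : ℕ, a ^ k = a ^ n := by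
          have h := (mem_zpowers_iff_mem_range_orderOf (x := a) (y := a ^ n)).1 (zpow_mem (mem_zpowers a) n)
          obtain ⟨k, -, hk⟩ := Finset.mem_image.1 h
          exact ⟨k, hk⟩
        have := key k v⁻¹
        rw [inv_inv, hk] at this
        exact this
      have h1 := congrArg (SemidirectProduct.inl (φ := α)) hfix
      rw [SemidirectProduct.inl_aut, map_inv SemidirectProduct.inr] at h1
      exact (mul_inv_eq_iff_eq_mul.1 h1).symm
    rw [commutator_eq_bot_iff_le_centralizer]
    refine hfixset.trans (inf_le_right.trans ?_)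
    intro x hx
    rw [mem_centralizer_iff]
    rintro _ ⟨n, rfl⟩
    exact (Commute.zpow_left ((mem_centralizer_singleton_iff.1 hx).symm : Commute g x) n).eq
  have hmem := hst B hBp g hgp hq
  set C := centralizer (B : Set X) with hC
  set D := (Cfsg.pCore p (X ⧸ C)).comap (QuotientGroup.mk' C) with hD
  haveI hDn : D.Normal := (inferInstance : (Cfsg.pCore p (X ⧸ C)).Normal).comap _
  have hgD : g ∈ D := hmem
  -- the image of D is trivial
  set W : Subgroup Q := D.map SemidirectProduct.rightHom with hW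
  haveI hWn : W.Normal := hDn.map _ SemidirectProduct.rightHom_surjective
  have hCrq : ∀ x ∈ C, SemidirectProduct.rightHom x = 1 := by
    intro x hx
    apply hα
    refine MulEquiv.ext fun v => ?_
    rw [map_one, MulAut.one_apply]
    have h1 : x * SemidirectProduct.inl v = SemidirectProduct.inl v * x :=
      (mem_centralizer_iff.1 hx _ ⟨v, rfl⟩).symm
    have h2 := congrArg SemidirectProduct.left h1
    rw [SemidirectProduct.mul_left, SemidirectProduct.mul_left] at h2
    simp only [SemidirectProduct.left_inl, SemidirectProduct.right_inl, map_one, MulAut.one_apply] at h2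
    rw [mul_comm x.left, mul_left_inj] at h2
    exact h2
  have hWp : IsPGroup p W := by
    rintro ⟨_, d, hd, rfl⟩
    obtain ⟨k, hk⟩ := (CfsgLib.Base.isPGroup_pCore p (X ⧸ C)) ⟨_, hd⟩
    refine ⟨k, Subtype.ext ?_⟩
    show (SemidirectProduct.rightHom d) ^ p ^ k = 1
    rw [← map_pow]
    refine hCrq _ ((QuotientGroup.eq_one_iff _).1 ?_)
    simpa using congrArg Subtype.val hk
  have hga : a ∈ W := ⟨g, hgD, SemidirectProduct.rightHom_inr a⟩
  -- fixed points
  letI : MulAction W V := MulAction.compHom V (α.comp W.subtype)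
  let Fx : Subgroup V :=
    { carrier := {v | ∀ w : W, α w v = v}
      one_mem' := fun w => map_one _
      mul_mem' := fun {x y} hx hy w => by rw [map_mul, hx, hy]
      inv_mem' := fun {x} hx w => by rw [map_inv, hx] }
  rcases subsingleton_or_nontrivial V with hsub | hnt
  · exact hα (MulEquiv.ext fun v => Subsingleton.elim _ _)
  rcases hirr Fx (fun q v hv w => by
    have hc : q⁻¹ * (w : Q) * q ∈ W := by simpa using hWn.conj_mem w w.2 q⁻¹
    have := congrArg (α q) (hv ⟨_, hc⟩)
    rw [← MulAut.mul_apply, ← map_mul, show q * (q⁻¹ * (w : Q) * q) = (w : Q) * q by group, map_mul,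
      MulAut.mul_apply] at this
    exact this) with h | h
  · exfalso
    have hdvd : p ∣ Nat.card V := by
      obtain ⟨v, hv⟩ := exists_ne (1 : V)
      exact (orderOf_eq_prime (hV v) hv) ▸ orderOf_dvd_natCard v
    have h1 : (1 : V) ∈ MulAction.fixedPoints W V := fun w => map_one (α (w : Q))
    obtain ⟨v, hv, hv1⟩ := hWp.exists_fixed_point_of_prime_dvd_card_of_fixed_point V hdvd h1
    exact hv1 (((eq_bot_iff_forall _).1 h v fun w => hv w).symm)
  · refine hα (MulEquiv.ext fun v => ?_)
    rw [map_one, MulAut.one_apply]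
    exact (h.ge (mem_top v) : v ∈ Fx) ⟨a, hga⟩

end CfsgLib.LocalEven.NoQuadratic
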