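import Cfsg.Agent.Lib.LocalEven.CharP2
import Cfsg.Prelude.Def_LocalStructure

/-!
`p`-reduced normal subgroups, in the ambient group.
-/

namespace CfsgLib.LocalEven

variable {G : Type*} [Group G] {p : ℕ}

/-- `V` is a `p`-reduced normal subgroup of `L`: elementary abelian, normal in `L`, and every normal
subgroup of `L` acting on `V` as a `p`-group centralizes `V`. -/
def IsPRedIn (p : ℕ) (V L : Subgroup G) : Prop :=
  V ≤ L ∧ L ≤ Subgroup.normalizer (V : Set G) ∧ Cfsg.IsElementaryAbelian p V ∧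
    ∀ D : Subgroup G, D ≤ L → L ≤ Subgroup.normalizer (D : Set G) →
      (∀ d ∈ D, ∃ k, d ^ p ^ k ∈ Subgroup.centralizer (V : Set G)) →
      D ≤ Subgroup.centralizer (V : Set G)

theorem isPGroup_of_exponent {V : Subgroup G} (h : ∀ a ∈ V, a ^ p = 1) : IsPGroup p V :=
  fun a => ⟨1, Subtype.ext (by simpa using h a a.2)⟩

theorem elemAbelian_le_centralizer {V : Subgroup G} (h : Cfsg.IsElementaryAbelian p V) :
    V ≤ Subgroup.centralizer (V : Set G) :=
  Subgroup.le_centralizer_iff_isMulCommutative.2 h.1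

theorem elemAbelian_iff {V : Subgroup G} :
    Cfsg.IsElementaryAbelian p V ↔
      V ≤ Subgroup.centralizer (V : Set G) ∧ ∀ a ∈ V, a ^ p = 1 :=
  and_congr_left fun _ => Subgroup.le_centralizer_iff_isMulCommutative.symm

theorem elemAbelian_mono {V W : Subgroup G} (h : Cfsg.IsElementaryAbelian p W) (hle : V ≤ W) :
    Cfsg.IsElementaryAbelian p V :=
  elemAbelian_iff.2 ⟨(hle.trans (elemAbelian_le_centralizer h)).trans
    (Subgroup.centralizer_le hle), fun a ha => h.2 a (hle ha)⟩

theorem elemAbelian_closure {s : Set G} (hc : ∀ x ∈ s, ∀ y ∈ s, x * y = y * x)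
    (hp : ∀ x ∈ s, x ^ p = 1) : Cfsg.IsElementaryAbelian p (Subgroup.closure s) := by
  refine ⟨Subgroup.isMulCommutative_closure hc, fun a ha => ?_⟩
  have hab := (Subgroup.le_centralizer_iff_isMulCommutative.2 (Subgroup.isMulCommutative_closure hc))
  induction ha using Subgroup.closure_induction with
  | mem x hx => exact hp x hx
  | one => simp
  | mul x y hx hy ihx ihy =>
    rw [Commute.mul_pow (show Commute x y from (hab hx y hy).symm), ihx, ihy, one_mul]
  | inv x _ ih => rw [inv_pow, ih, inv_one]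

theorem elemAbelian_sup {V W : Subgroup G} (hV : Cfsg.IsElementaryAbelian p V)
    (hW : Cfsg.IsElementaryAbelian p W) (h : V ≤ Subgroup.centralizer (W : Set G)) :
    Cfsg.IsElementaryAbelian p (V ⊔ W) := by
  rw [← Subgroup.closure_eq V, ← Subgroup.closure_eq W, ← Subgroup.closure_union]
  refine elemAbelian_closure ?_ ?_
  · rintro x (hx | hx) y (hy | hy)
    · exact (elemAbelian_le_centralizer hV hx y hy).symm
    · exact (h hx y hy).symm
    · exact h hy x hx
    · exact (elemAbelian_le_centralizer hW hx y hy).symm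
  · rintro x (hx | hx)
    exacts [hV.2 x hx, hW.2 x hx]

theorem elemAbelian_omegaOne_center (p : ℕ) (H : Subgroup G) :
    Cfsg.IsElementaryAbelian p
      (Cfsg.omegaOne p (H ⊓ Subgroup.centralizer (H : Set G))) :=
  elemAbelian_closure (fun _ hx y hy => hy.1.2 _ hx.1.1) (fun _ hx => hx.2)

theorem omegaOne_le (p : ℕ) (H : Subgroup G) : Cfsg.omegaOne p H ≤ H :=
  (Subgroup.closure_le _).2 fun _ hx => hx.1

theorem le_omegaOne_center {V H : Subgroup G} (hV : Cfsg.IsElementaryAbelian p V) (hle : V ≤ H)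
    (hc : V ≤ Subgroup.centralizer (H : Set G)) :
    V ≤ Cfsg.omegaOne p (H ⊓ Subgroup.centralizer (H : Set G)) :=
  fun x hx => Subgroup.subset_closure ⟨⟨hle hx, hc hx⟩, hV.2 x hx⟩

theorem map_pCore_quotient_le {L : Subgroup G} {V : Subgroup G}
    (hLV : L ≤ Subgroup.normalizer (V : Set G)) :
    ((Subgroup.centralizer (V : Set G)).subgroupOf L).Normal := by
  apply Subgroup.Normal.mk
  intro c hc g
  simp only [Subgroup.mem_subgroupOf, Subgroup.coe_mul, Subgroup.coe_inv] at hc ⊢
  exact (Subgroup.mem_normalizer_iff.1 (normalizer_le_normalizer_centralizer _ (hLV g.2)) _).1 hc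

/-- A normal subgroup acting as a `p`-group maps into `O_p` of the automizer, hence into the image of
every Sylow `p`-subgroup. -/
theorem exists_sylow_mul_centralizer [Finite G] [Fact p.Prime] {V L D : Subgroup G}
    (hLV : L ≤ Subgroup.normalizer (V : Set G)) (hDL : D ≤ L)
    (hDn : L ≤ Subgroup.normalizer (D : Set G))
    (hD : ∀ d ∈ D, ∃ k, d ^ p ^ k ∈ Subgroup.centralizer (V : Set G)) (S : Sylow p L) {d : G}
    (hd : d ∈ D) :
    ∃ s ∈ (S : Subgroup L).map L.subtype, ∃ c ∈ L ⊓ Subgroup.centralizer (V : Set G), d = s * c := by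
  have hC := map_pCore_quotient_le hLV
  set C := (Subgroup.centralizer (V : Set G)).subgroupOf L
  have hN : ((D.subgroupOf L).map (QuotientGroup.mk' C)).Normal :=
    Subgroup.Normal.map ((Subgroup.normal_subgroupOf_iff_le_normalizer hDL).2 hDn) _
      (QuotientGroup.mk'_surjective _)
  have hp : IsPGroup p ((D.subgroupOf L).map (QuotientGroup.mk' C)) := by
    rintro ⟨_, x, hx, rfl⟩
    obtain ⟨k, hk⟩ := hD (x : G) hx
    refine ⟨k, Subtype.ext ?_⟩
    simp only [Subgroup.coe_pow, Subgroup.coe_one, ← map_pow]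
    exact (QuotientGroup.eq_one_iff _).2 (by simpa [C, Subgroup.mem_subgroupOf] using hk)
  have := (le_pCore hN hp).trans (pCore_le_sylow (S.mapSurjective (QuotientGroup.mk'_surjective C)))
  obtain ⟨s, hs, hse⟩ := this ⟨⟨d, hDL hd⟩, hd, rfl⟩
  have hsc := QuotientGroup.eq.1 hse
  refine ⟨s, ⟨s, hs, rfl⟩, (s : G)⁻¹ * d, ⟨L.mul_mem (L.inv_mem s.2) (hDL hd), ?_⟩, by group⟩
  simpa [C, Subgroup.mem_subgroupOf] using hsc

theorem isPRedIn_bot (p : ℕ) (L : Subgroup G) : IsPRedIn p (⊥ : Subgroup G) L := by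
  refine ⟨bot_le, by rw [Subgroup.normalizer_eq_top_iff.2 Subgroup.normal_bot]; exact le_top,
    elemAbelian_iff.2 ⟨bot_le, fun a ha => by rw [Subgroup.mem_bot.1 ha, one_pow]⟩,
    fun D _ _ _ x _ y hy => ?_⟩
  rw [Subgroup.mem_bot.1 (show y ∈ (⊥ : Subgroup G) from hy)]; simp

theorem IsPRedIn.pCoreOf_le_centralizer [Fact p.Prime] {V L : Subgroup G} [Finite L]
    (hV : IsPRedIn p V L) : Cfsg.pCoreOf p L ≤ Subgroup.centralizer (V : Set G) :=
  hV.2.2.2 _ (pCoreOf_le p L) (le_normalizer_pCoreOf p L) fun d hd => by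
    obtain ⟨k, hk⟩ := isPGroup_pCoreOf L ⟨d, hd⟩
    refine ⟨k, ?_⟩
    have := congrArg Subtype.val hk
    simp only [Subgroup.coe_pow, Subgroup.coe_one] at this
    rw [this]; exact Subgroup.one_mem _

theorem IsPRedIn.le_pCoreOf [Fact p.Prime] {V L : Subgroup G} [Finite L] (hV : IsPRedIn p V L) :
    V ≤ Cfsg.pCoreOf p L :=
  CfsgLib.LocalEven.le_pCoreOf hV.1 hV.2.1 (isPGroup_of_exponent hV.2.2.1.2)

theorem IsPRedIn.le_centralizer_pCoreOf [Fact p.Prime] {V L : Subgroup G} [Finite L]
    (hV : IsPRedIn p V L) : V ≤ Subgroup.centralizer (Cfsg.pCoreOf p L : Set G) :=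
  Subgroup.le_centralizer_iff.1 hV.pCoreOf_le_centralizer

theorem IsPRedIn.sup [Fact p.Prime] {V W L : Subgroup G} [Finite L] (hV : IsPRedIn p V L)
    (hW : IsPRedIn p W L) : IsPRedIn p (V ⊔ W) L := by
  have hcomm : V ≤ Subgroup.centralizer (W : Set G) :=
    hV.le_pCoreOf.trans hW.pCoreOf_le_centralizer
  refine ⟨sup_le hV.1 hW.1, ?_, elemAbelian_sup hV.2.2.1 hW.2.2.1 hcomm, fun D hDL hDn hD => ?_⟩
  · intro g hg
    apply mem_normalizer_of_conj
    rw [Subgroup.map_sup, conj_map_eq_of_mem_normalizer (hV.2.1 hg),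
      conj_map_eq_of_mem_normalizer (hW.2.1 hg)]
  · have h1 : D ≤ Subgroup.centralizer (V : Set G) := hV.2.2.2 D hDL hDn fun d hd =>
      (hD d hd).imp fun _ hk => Subgroup.centralizer_le (SetLike.coe_subset_coe.2 le_sup_left) hk
    have h2 : D ≤ Subgroup.centralizer (W : Set G) := hW.2.2.2 D hDL hDn fun d hd =>
      (hD d hd).imp fun _ hk => Subgroup.centralizer_le (SetLike.coe_subset_coe.2 le_sup_right) hk
    exact Subgroup.le_centralizer_iff.1
      (sup_le (Subgroup.le_centralizer_iff.1 h1) (Subgroup.le_centralizer_iff.1 h2))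

theorem isPReducedNormal_iff [Finite G] [Fact p.Prime] {V : Subgroup G} :
    Cfsg.IsPReducedNormal p V ↔ IsPRedIn p V ⊤ := by
  constructor
  · rintro ⟨hn, hel, hC, hcore⟩
    refine ⟨le_top, by rw [Subgroup.normalizer_eq_top_iff.2 hn], hel, fun D _ hDn hD => ?_⟩
    have hDnormal : D.Normal := Subgroup.normalizer_eq_top_iff.1 (top_le_iff.1 hDn)
    have h := le_pCore (p := p) (Subgroup.Normal.map hDnormal (QuotientGroup.mk' _)
      (QuotientGroup.mk'_surjective (Subgroup.centralizer (V : Set G)))) (by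
        rintro ⟨_, x, hx, rfl⟩
        obtain ⟨k, hk⟩ := hD x hx
        exact ⟨k, Subtype.ext (by
          simp only [Subgroup.coe_pow, Subgroup.coe_one, ← map_pow]
          exact (QuotientGroup.eq_one_iff _).2 hk)⟩)
    rw [hcore] at h
    intro d hd
    exact (QuotientGroup.eq_one_iff d).1 (h ⟨d, hd, rfl⟩)
  · rintro ⟨-, hn, hel, hD⟩
    have hVn : V.Normal := Subgroup.normalizer_eq_top_iff.1 (top_le_iff.1 hn)
    have hC : (Subgroup.centralizer (V : Set G)).Normal := by
      rw [← Subgroup.normalizer_eq_top_iff, ← top_le_iff]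
      exact hn.trans (normalizer_le_normalizer_centralizer _)
    refine ⟨hVn, hel, hC, ?_⟩
    rw [eq_bot_iff]
    intro x hx
    obtain ⟨d, rfl⟩ := QuotientGroup.mk'_surjective _ x
    have hle := hD ((Cfsg.pCore p (G ⧸ Subgroup.centralizer (V : Set G))).comap (QuotientGroup.mk' _))
      le_top (by rw [Subgroup.normalizer_eq_top_iff.2 inferInstance]) ?_
    · exact (QuotientGroup.eq_one_iff d).2 (hle hx)
    · intro y hy
      obtain ⟨k, hk⟩ := isPGroup_pCore (⟨_, hy⟩ : Cfsg.pCore p (G ⧸ Subgroup.centralizer (V : Set G)))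
      refine ⟨k, (QuotientGroup.eq_one_iff _).1 ?_⟩
      simpa using congrArg Subtype.val hk

theorem centralizer_map_subtype_iff {L : Subgroup G} {V : Subgroup L} {x : L} :
    (x : G) ∈ Subgroup.centralizer ((V.map L.subtype : Subgroup G) : Set G) ↔
      x ∈ Subgroup.centralizer (V : Set L) := by
  constructor
  · exact fun h y hy => Subtype.ext (h y ⟨y, hy, rfl⟩)
  · rintro h _ ⟨y, hy, rfl⟩
    exact congrArg Subtype.val (h y hy)

theorem le_normalizer_map_subtype {L : Subgroup G} {V : Subgroup L}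
    (hV : (⊤ : Subgroup L) ≤ Subgroup.normalizer (V : Set L)) :
    L ≤ Subgroup.normalizer ((V.map L.subtype : Subgroup G) : Set G) := by
  rw [← Subgroup.normal_subgroupOf_iff_le_normalizer (Subgroup.map_subtype_le _)]
  rw [Subgroup.subgroupOf, Subgroup.comap_map_eq_self_of_injective L.subtype_injective]
  exact Subgroup.normalizer_eq_top_iff.1 (top_le_iff.1 hV)

theorem isPRedIn_map_iff {L : Subgroup G} {V : Subgroup L} :
    IsPRedIn p (V.map L.subtype) L ↔ IsPRedIn p V ⊤ := by
  have hel : Cfsg.IsElementaryAbelian p (V.map L.subtype) ↔ Cfsg.IsElementaryAbelian p V := by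
    simp only [elemAbelian_iff]
    refine and_congr ⟨fun h x hx => centralizer_map_subtype_iff.1 (h ⟨x, hx, rfl⟩), ?_⟩ ⟨?_, ?_⟩
    · rintro h _ ⟨x, hx, rfl⟩
      exact centralizer_map_subtype_iff.2 (h hx)
    · exact fun h a ha => Subtype.ext (by simpa using h a ⟨a, ha, rfl⟩)
    · rintro h _ ⟨a, ha, rfl⟩
      simpa using congrArg Subtype.val (h a ha)
  constructor
  · rintro ⟨-, hn, he, hD⟩
    refine ⟨le_top, ?_, hel.1 he, fun D _ hDn hDp x hx => centralizer_map_subtype_iff.1 ?_⟩
    · have : V.Normal := by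
        have h2 := (Subgroup.normal_subgroupOf_iff_le_normalizer (Subgroup.map_subtype_le V)).2 hn
        rwa [Subgroup.subgroupOf, Subgroup.comap_map_eq_self_of_injective L.subtype_injective] at h2
      rw [Subgroup.normalizer_eq_top_iff.2 this]
    · refine hD (D.map L.subtype) (Subgroup.map_subtype_le _) (le_normalizer_map_subtype hDn) ?_
        ⟨x, hx, rfl⟩
      rintro _ ⟨y, hy, rfl⟩
      exact (hDp y hy).imp fun _ hk => by simpa using centralizer_map_subtype_iff.2 hk
  · rintro ⟨-, hn, he, hD⟩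
    refine ⟨Subgroup.map_subtype_le _, le_normalizer_map_subtype hn, hel.2 he,
      fun D hDL hDn hDp x hx => ?_⟩
    have := hD (D.subgroupOf L) le_top
      (by rw [Subgroup.normalizer_eq_top_iff.2
        ((Subgroup.normal_subgroupOf_iff_le_normalizer hDL).2 hDn)])
      (fun y hy => (hDp y hy).imp fun _ hk => centralizer_map_subtype_iff.1 (by simpa using hk))
      (show (⟨x, hDL hx⟩ : L) ∈ D.subgroupOf L from hx)
    exact centralizer_map_subtype_iff.2 this

theorem isPRedIn_iff_subgroupOf [Fact p.Prime] {V L : Subgroup G} [Finite L] (hVL : V ≤ L) :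
    IsPRedIn p V L ↔ Cfsg.IsPReducedNormal p (V.subgroupOf L) := by
  rw [isPReducedNormal_iff, ← isPRedIn_map_iff, Subgroup.map_subgroupOf_eq_of_le hVL]

theorem isPRedIn_largest [Fact p.Prime] (L : Subgroup G) [Finite L] :
    IsPRedIn p (Cfsg.largestPReducedOf p L) L := by
  rw [Cfsg.largestPReducedOf, isPRedIn_map_iff]
  let S : Set (Subgroup L) := {V | Cfsg.IsPReducedNormal p V}
  obtain ⟨M, hM, hmax⟩ := S.toFinite.exists_maximalFor id S
    ⟨⊥, isPReducedNormal_iff.2 (isPRedIn_bot p ⊤)⟩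
  have : Cfsg.largestPReduced p L = M := le_antisymm
    (sSup_le fun N hN => le_sup_right.trans (hmax (show M ⊔ N ∈ S from
      isPReducedNormal_iff.2 ((isPReducedNormal_iff.1 hM).sup (isPReducedNormal_iff.1 hN)))
      le_sup_left))
    (le_sSup hM)
  rw [this]
  exact isPReducedNormal_iff.1 hM

theorem IsPRedIn.le_largest [Fact p.Prime] {V L : Subgroup G} [Finite L] (hV : IsPRedIn p V L) :
    V ≤ Cfsg.largestPReducedOf p L := by
  have h : V.subgroupOf L ≤ Cfsg.largestPReduced p L :=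
    le_sSup ((isPRedIn_iff_subgroupOf hV.1).1 hV)
  have := Subgroup.map_mono (f := L.subtype) h
  rwa [Subgroup.map_subgroupOf_eq_of_le hV.1] at this

/-- The `p`-reduced normal subgroups have a largest one, namely `largestPReduced`. -/
theorem isPReducedNormal_largestPReduced (p : ℕ) [Fact p.Prime] (L : Type*) [Group L] [Finite L] :
    Cfsg.IsPReducedNormal p (Cfsg.largestPReduced p L) := by
  let S : Set (Subgroup L) := {V | Cfsg.IsPReducedNormal p V}
  obtain ⟨M, hM, hmax⟩ := S.toFinite.exists_maximalFor id S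
    ⟨⊥, isPReducedNormal_iff.2 (isPRedIn_bot p ⊤)⟩
  have : Cfsg.largestPReduced p L = M := le_antisymm
    (sSup_le fun N hN => le_sup_right.trans (hmax (show M ⊔ N ∈ S from
      isPReducedNormal_iff.2 ((isPReducedNormal_iff.1 hM).sup (isPReducedNormal_iff.1 hN)))
      le_sup_left))
    (le_sSup hM)
  rw [this]
  exact hM

end CfsgLib.LocalEven
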