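import Cfsg.Agent.Lib.LocalEven.CharP2
import Cfsg.Agent.Lib.LocalEven.PReduced
import Cfsg.Agent.Lib.PGroups.Basic

/-!
The norm map for a group acting on an elementary abelian subgroup, and `Φ(P)`.
-/

namespace CfsgLib.LocalEven

variable {G : Type*} [Group G] [Finite G] {p : ℕ} [Fact p.Prime]

/-- If `z` is fixed by a Sylow `p`-subgroup of `L` and all its `L`-conjugates are congruent to it
modulo `D`, then `z` lies in `C_V(L) D`. -/
theorem mem_sup_of_fixed_sylow {V L D : Subgroup G} (hV : Cfsg.IsElementaryAbelian p V)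
    (hLV : L ≤ Subgroup.normalizer (V : Set G)) (hDV : D ≤ V) (S : Sylow p L) {z : G} (hz : z ∈ V)
    (hfix : ∀ s ∈ (S : Subgroup L), (s : G) * z * (s : G)⁻¹ = z)
    (hD : ∀ g ∈ L, g * z * g⁻¹ * z⁻¹ ∈ D) :
    z ∈ (V ⊓ Subgroup.centralizer (L : Set G)) ⊔ D := by
  classical
  have := hV.1
  let : CommGroup V :=
    { (inferInstance : Group V) with mul_comm := fun a b => mul_comm' a b }
  have := Fintype.ofFinite (↥L ⧸ (S : Subgroup L))
  let act : L → V → V := fun g v =>
    ⟨g * v * (g : G)⁻¹, (Subgroup.mem_normalizer_iff.1 (hLV g.2) v).1 v.2⟩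
  let f : ↥L ⧸ (S : Subgroup L) → V := fun q => Quotient.liftOn' q (fun g => act g ⟨z, hz⟩) (by
    intro a b hab
    rw [QuotientGroup.leftRel_apply] at hab
    apply Subtype.ext
    have h1 := hfix _ hab
    simp only [act, Subgroup.coe_mul, InvMemClass.coe_inv] at h1 ⊢
    conv_lhs => rw [← h1]
    group)
  set N : V := ∏ q, f q
  have hNc : (N : G) ∈ Subgroup.centralizer (L : Set G) := by
    intro g hg
    let c : V →* V :=
      { toFun := act ⟨g, hg⟩
        map_one' := Subtype.ext (by simp [act])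
        map_mul' := fun a b => Subtype.ext (by simp [act, mul_assoc]) }
    have h1 : c N = N := by
      rw [map_prod]
      refine Fintype.prod_equiv (MulAction.toPerm (⟨g, hg⟩ : L)) _ _ fun q => ?_
      induction q using QuotientGroup.induction_on with
      | H a =>
        apply Subtype.ext
        show g * ((a : G) * z * (a : G)⁻¹) * g⁻¹ = (g * (a : G)) * z * (g * (a : G))⁻¹
        group
    have h2 : g * (N : G) * g⁻¹ = N := congrArg Subtype.val h1
    exact (mul_inv_eq_iff_eq_mul.1 h2)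
  -- modulo `D`
  let π := QuotientGroup.mk' (D.subgroupOf V)
  have hπ : π N = π ⟨z, hz⟩ ^ Nat.card (↥L ⧸ (S : Subgroup L)) := by
    rw [map_prod, Nat.card_eq_fintype_card, ← Finset.card_univ]
    refine Finset.prod_eq_pow_card fun q _ => ?_
    induction q using QuotientGroup.induction_on with
    | H a =>
      show π (act a ⟨z, hz⟩) = π ⟨z, hz⟩
      rw [← mul_inv_eq_one, ← map_inv, ← map_mul]
      exact (QuotientGroup.eq_one_iff _).2 (hD a a.2)
  have hmem : z ^ Nat.card (↥L ⧸ (S : Subgroup L)) ∈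
      (V ⊓ Subgroup.centralizer (L : Set G)) ⊔ D := by
    rw [← map_pow] at hπ
    have h3 := QuotientGroup.eq.1 hπ
    have h4 := Subgroup.mul_mem_sup (S := V ⊓ Subgroup.centralizer (L : Set G)) (T := D)
      (show (N : G) ∈ V ⊓ _ from ⟨N.2, hNc⟩) h3
    simpa using h4
  have hcop : (Nat.card (↥L ⧸ (S : Subgroup L))).Coprime (orderOf z) := by
    refine Nat.Coprime.coprime_dvd_right (orderOf_dvd_of_pow_eq_one (hV.2 z hz)) ?_
    rw [Nat.coprime_comm, (Fact.out : p.Prime).coprime_iff_not_dvd]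
    exact S.not_dvd_index
  obtain ⟨m, hm⟩ := exists_pow_eq_self_of_coprime hcop
  rw [← hm]
  exact Subgroup.pow_mem _ hmem m

/-- An element centralizes `Φ(P)` if it centralizes the commutators and the `p`-th powers. -/
theorem frattini_map_le {P K : Subgroup G} (hP : IsPGroup p P) (hc : ⁅P, P⁆ ≤ K)
    (hpow : ∀ x ∈ P, x ^ p ∈ K) : (frattini ↥P).map P.subtype ≤ K := by
  rw [CfsgLib.PGroups.frattini_eq_derivedPow hP, CfsgLib.PGroups.derivedPow, Subgroup.map_sup]
  refine sup_le ?_ ?_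
  · rw [commutator_def, Subgroup.map_commutator, ← MonoidHom.range_eq_map, Subgroup.range_subtype]
    exact hc
  · rw [MonoidHom.map_closure, Subgroup.closure_le]
    rintro _ ⟨_, ⟨x, rfl⟩, rfl⟩
    rw [map_pow]; exact hpow _ x.2

omit [Finite G] [Fact p.Prime] in
theorem commutator_flip_mem {P H : Subgroup G} {x h : G} (hx : x ∈ P) (hh : h ∈ H) :
    h * x * h⁻¹ * x⁻¹ ∈ ⁅P, H⁆ := by
  rw [Subgroup.commutator_comm]
  exact Subgroup.commutator_mem_commutator hh hx

/-- `[P,H] ≤ Ω₁Z(P)` implies that `H` centralizes `Φ(P)`. -/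
theorem le_centralizer_frattini {P H : Subgroup G} (hP : IsPGroup p P)
    (h : ⁅P, H⁆ ≤ Cfsg.omegaOne p (P ⊓ Subgroup.centralizer (P : Set G))) :
    H ≤ Subgroup.centralizer (((frattini ↥P).map P.subtype : Subgroup G) : Set G) := by
  intro g hg
  set Z := Cfsg.omegaOne p (P ⊓ Subgroup.centralizer (P : Set G))
  have hZ := elemAbelian_omegaOne_center p P
  have hZc : ∀ z ∈ Z, ∀ x ∈ P, x * z = z * x := fun z hz x hx => (omegaOne_le p _ hz).2 x hx
  suffices hK : (frattini ↥P).map P.subtype ≤ Subgroup.centralizer ({g} : Set G) from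
    fun x hx => Subgroup.mem_centralizer_singleton_iff.1 (hK hx)
  refine frattini_map_le hP (Subgroup.commutator_le.2 fun a ha b hb => ?_) fun x hx => ?_
  · rw [Subgroup.mem_centralizer_singleton_iff, eq_comm, ← mul_inv_eq_iff_eq_mul]
    set u := g * a * g⁻¹ * a⁻¹
    set v := g * b * g⁻¹ * b⁻¹
    have hu : u ∈ Z := h (commutator_flip_mem ha hg)
    have hv : v ∈ Z := h (commutator_flip_mem hb hg)
    have e : g * (a * b * a⁻¹ * b⁻¹) * g⁻¹ = (u * a) * (v * b) * (u * a)⁻¹ * (v * b)⁻¹ := by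
      simp [u, v, mul_assoc]
    show g * (a * b * a⁻¹ * b⁻¹) * g⁻¹ = a * b * a⁻¹ * b⁻¹
    have c1 : Commute u a := (hZc u hu a ha).symm
    have c2 : Commute u b := (hZc u hu b hb).symm
    have c3 : Commute v a := (hZc v hv a ha).symm
    have c4 : Commute v b := (hZc v hv b hb).symm
    have c5 : Commute u v := (hZc v hv u ((omegaOne_le p _ hu).1))
    rw [e]
    calc u * a * (v * b) * (u * a)⁻¹ * (v * b)⁻¹
        = u * a * (v * b) * (a⁻¹ * u⁻¹) * (b⁻¹ * v⁻¹) := by group
      _ = u * (v * a) * b * (u⁻¹ * a⁻¹) * (b⁻¹ * v⁻¹) := by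
        rw [show a⁻¹ * u⁻¹ = u⁻¹ * a⁻¹ from (c1.inv_inv.symm).eq, show v * a = a * v from c3.eq]
        group
      _ = u * v * (a * b) * u⁻¹ * (a⁻¹ * b⁻¹) * v⁻¹ := by group
      _ = u * v * (u⁻¹ * (a * b)) * (a⁻¹ * b⁻¹) * v⁻¹ := by
        rw [mul_assoc (u * v) (a * b) u⁻¹, ((c1.mul_right c2).inv_left).eq]
      _ = v * (a * b) * (a⁻¹ * b⁻¹) * v⁻¹ := by rw [c5.eq]; group
      _ = a * b * a⁻¹ * b⁻¹ := by
        have c6 : Commute v (a * b * a⁻¹ * b⁻¹) :=
          ((c3.mul_right c4).mul_right c3.inv_right).mul_right c4.inv_right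
        calc v * (a * b) * (a⁻¹ * b⁻¹) * v⁻¹ = v * (a * b * a⁻¹ * b⁻¹) * v⁻¹ := by group
          _ = a * b * a⁻¹ * b⁻¹ := by rw [c6.eq, mul_inv_cancel_right]
  · rw [Subgroup.mem_centralizer_singleton_iff, eq_comm, ← mul_inv_eq_iff_eq_mul]
    set u := g * x * g⁻¹ * x⁻¹
    have hu : u ∈ Z := h (commutator_flip_mem hx hg)
    have c1 : Commute u x := (hZc u hu x hx).symm
    calc g * x ^ p * g⁻¹ = (g * x * g⁻¹) ^ p := by rw [conj_pow]
      _ = (u * x) ^ p := by simp [u]
      _ = x ^ p := by rw [c1.mul_pow, hZ.2 u hu, one_mul]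

end CfsgLib.LocalEven
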