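import Cfsg.Agent.Lib.LocalEven.JCompAct

/-!
Two subgroups with a common Sylow `2`-subgroup and quotient `S₃`, in both of which an elementary
abelian subgroup of largest order lies outside `O₂`: the two modules do not centralize each other,
and the two cores are elementary abelian.
-/

set_option autoImplicit false
set_option linter.style.haveILetI false
set_option linter.unusedSectionVars false

namespace CfsgLib.LocalEven.OffAmalgam

open Cfsg CfsgLib.PLocal
open scoped commutatorElement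

variable {G : Type*} [Group G] [Finite G]

/-- One of the two subgroups, by its data on the Sylow subgroup `T`. -/
structure Side (T Q W : Subgroup G) (z y : G) : Prop where
  hT : IsPGroup 2 T
  le : Q ≤ T
  lt : ¬ T ≤ Q
  index : ∀ s ∈ T, ∀ t ∈ T, s ∉ Q → t ∉ Q → s * t ∈ Q
  wq : W ≤ Q
  card_w : Nat.card W = 4
  w2 : IsElementaryAbelian 2 W
  cent : T ⊓ Subgroup.centralizer (W : Set G) = Q
  wT : T ≤ Subgroup.normalizer (W : Set G)
  z_mem : z ∈ W
  z_ne : z ≠ 1
  z_fix : ∀ t ∈ T, t * z = z * t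
  yQ : y ∈ Subgroup.normalizer (Q : Set G)
  yW : y ∈ Subgroup.normalizer (W : Set G)
  y3 : y ^ 3 ∈ Q
  yz : y * z * y⁻¹ ≠ z
  inv : ∀ a ∈ T, a ∉ Q → a * y * a⁻¹ * y ∈ Q

/-- Conjugation. -/
abbrev cj (g : G) (X : Subgroup G) : Subgroup G := X.map (MulAut.conj g).toMonoidHom

theorem mem_cj {g x : G} {X : Subgroup G} : x ∈ cj g X ↔ g⁻¹ * x * g ∈ X := by
  constructor
  · rintro ⟨w, hw, rfl⟩; simpa [mul_assoc] using hw
  · exact fun h => ⟨g⁻¹ * x * g, h, by simp [mul_assoc]⟩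

theorem cj_cj (g h : G) (X : Subgroup G) : cj g (cj h X) = cj (g * h) X := by
  rw [cj, cj, Subgroup.map_map]; congr 1; ext x; simp [mul_assoc]

theorem card_cj (g : G) (X : Subgroup G) : Nat.card ↥(cj g X) = Nat.card X :=
  Subgroup.card_map_of_injective (MulAut.conj g).injective

theorem cj_eq {g : G} {X : Subgroup G} (h : g ∈ Subgroup.normalizer (X : Set G)) : cj g X = X :=
  Subgroup.mem_normalizer_iff_map_conj_eq.1 h

theorem mem_normalizer_of_cj_eq {g : G} {X : Subgroup G} (h : cj g X = X) :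
    g ∈ Subgroup.normalizer (X : Set G) := Subgroup.mem_normalizer_iff_map_conj_eq.2 h

theorem cj_mono {g : G} {X Y : Subgroup G} (h : X ≤ Y) : cj g X ≤ cj g Y := Subgroup.map_mono h

theorem cj_inf (g : G) (X Y : Subgroup G) : cj g (X ⊓ Y) = cj g X ⊓ cj g Y :=
  Subgroup.map_inf _ _ _ (MulAut.conj g).injective

theorem cj_ea {g : G} {X : Subgroup G} (h : IsElementaryAbelian 2 X) : IsElementaryAbelian 2 (cj g X) :=
  isElementaryAbelian_map _ h

theorem cj_le_centralizer {g : G} {X Y : Subgroup G} (h : X ≤ Subgroup.centralizer (Y : Set G)) :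
    cj g X ≤ Subgroup.centralizer (cj g Y : Set G) := by
  rintro _ ⟨x, hx, rfl⟩ _ ⟨v, hv, rfl⟩
  rw [← map_mul, ← map_mul, h hx v hv]

theorem two_mul_le_of_lt {H K : Subgroup G} (h : H < K) : 2 * Nat.card H ≤ Nat.card K := by
  obtain ⟨m, hm⟩ := Subgroup.card_dvd_of_le h.le
  have : Nat.card H < Nat.card K := by
    by_contra hle
    exact h.ne (Subgroup.eq_of_le_of_card_ge h.le (Nat.not_lt.1 hle))
  rw [hm] at this ⊢
  have h2 : 2 ≤ m := by
    rcases m with _ | _ | m <;> simp_all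
  rw [mul_comm (Nat.card H)]
  exact Nat.mul_le_mul_right _ h2

/-- The action of a group on a four-group with a given fixed involution. -/
theorem four_values {W : Subgroup G} (hW : Nat.card W = 4) (hWe : IsElementaryAbelian 2 W) {w0 : G}
    (h0 : w0 ∈ W) (h01 : w0 ≠ 1) {s : G} (hs : s ∈ Subgroup.normalizer (W : Set G))
    (hfix : s * w0 = w0 * s) {v : G} (hv : v ∈ W) :
    s * v * s⁻¹ = v ∨ s * v * s⁻¹ = v * w0 := by
  have hw2 : w0 ^ 2 = 1 := hWe.2 w0 h0
  by_cases hvZ : v ∈ Subgroup.zpowers w0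
  · obtain ⟨i, rfl⟩ := hvZ
    exact Or.inl (by rw [← conj_zpow, mul_inv_eq_iff_eq_mul.2 hfix])
  have hsv : s * v * s⁻¹ ∈ W := (Subgroup.mem_normalizer_iff.1 hs v).1 hv
  have hsvZ : s * v * s⁻¹ ∉ Subgroup.zpowers w0 := fun ⟨i, hi⟩ => hvZ ⟨i, by
    have : s * (w0 ^ i) * s⁻¹ = w0 ^ i := by rw [← conj_zpow, mul_inv_eq_iff_eq_mul.2 hfix]
    exact mul_left_cancel (mul_right_cancel (this.trans hi))⟩
  have hc : Nat.card W = 2 * Nat.card (Subgroup.zpowers w0) := by
    rw [hW, Nat.card_zpowers, orderOf_eq_prime hw2 h01]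
  have h2 : ((Subgroup.zpowers w0).subgroupOf W).index = 2 := by
    have h := Subgroup.relIndex_mul_relIndex ⊥ (Subgroup.zpowers w0) W bot_le (Subgroup.zpowers_le.2 h0)
    simp only [Subgroup.relIndex_bot_left] at h
    exact Nat.eq_of_mul_eq_mul_left Nat.card_pos (h.trans (hc.trans (mul_comm 2 _)))
  have hm := (Subgroup.mul_mem_iff_of_index_two h2 (a := ⟨v, hv⟩) (b := ⟨_, hsv⟩)).2 (by
    simp only [Subgroup.mem_subgroupOf]; exact iff_of_false hvZ hsvZ)
  simp only [Subgroup.mem_subgroupOf, Subgroup.coe_mul] at hm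
  obtain ⟨i, hi⟩ := hm
  have hvv : v * v = 1 := by have := hWe.2 v hv; rwa [pow_two] at this
  rcases Int.even_or_odd i with ⟨k, rfl⟩ | ⟨k, rfl⟩
  · left
    have : (w0 : G) ^ (k + k) = 1 := by
      rw [← two_mul, zpow_mul, zpow_two, ← pow_two, hw2, one_zpow]
    have e : v * (s * v * s⁻¹) = 1 := hi.symm.trans this
    exact (mul_left_cancel (hvv.trans e.symm)).symm
  · right
    have : (w0 : G) ^ (2 * k + 1) = w0 := by
      rw [zpow_add_one, zpow_mul, zpow_two, ← pow_two, hw2, one_zpow, one_mul]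
    have e : v * (s * v * s⁻¹) = w0 := hi.symm.trans this
    rw [← e, ← mul_assoc, hvv, one_mul]

/-- The squares of the elements of a subgroup generate this subgroup. -/
def sq (X : Subgroup G) : Subgroup G := Subgroup.closure {g | ∃ x ∈ X, x * x = g}

theorem sq_le {X : Subgroup G} : sq X ≤ X :=
  (Subgroup.closure_le _).2 fun _ ⟨_, hx, e⟩ => e ▸ mul_mem hx hx

theorem cj_sq (g : G) (X : Subgroup G) : cj g (sq X) = sq (cj g X) := by
  rw [cj, sq, MonoidHom.map_closure, sq]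
  congr 1
  ext u
  constructor
  · rintro ⟨_, ⟨x, hx, rfl⟩, rfl⟩
    exact ⟨_, ⟨x, hx, rfl⟩, (map_mul _ x x).symm⟩
  · rintro ⟨_, ⟨x, hx, rfl⟩, rfl⟩
    exact ⟨x * x, ⟨x, hx, rfl⟩, map_mul _ x x⟩

theorem ea_of_sq {X : Subgroup G} (h : sq X = ⊥) : IsElementaryAbelian 2 X := by
  have h2 : ∀ x ∈ X, x * x = 1 := fun x hx =>
    Subgroup.mem_bot.1 (h ▸ (Subgroup.subset_closure ⟨x, hx, rfl⟩ : x * x ∈ sq X))
  refine ⟨⟨⟨fun a b => Subtype.ext ?_⟩⟩, fun x hx => by rw [pow_two]; exact h2 x hx⟩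
  show (a : G) * b = b * a
  calc (a : G) * b = (a : G) * ((a : G) * b * ((a : G) * b)) * b := by
        rw [h2 _ (mul_mem a.2 b.2), mul_one]
    _ = ((a : G) * a) * ((b : G) * a) * ((b : G) * b) := by group
    _ = b * a := by rw [h2 _ a.2, h2 _ b.2, one_mul, mul_one]

theorem cj_one (X : Subgroup G) : cj (1 : G) X = X := by ext; simp [cj]

theorem cj_centralizer (g : G) (X : Subgroup G) :
    cj g (Subgroup.centralizer (X : Set G)) = Subgroup.centralizer (cj g X : Set G) := by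
  ext v
  simp only [mem_cj, Subgroup.mem_centralizer_iff, SetLike.mem_coe]
  constructor
  · intro h x hx
    have := h _ hx
    calc x * v = g * ((g⁻¹ * x * g) * (g⁻¹ * v * g)) * g⁻¹ := by group
      _ = v * x := by rw [this]; group
  · intro h x hx
    have := h (g * x * g⁻¹) (by simpa [mul_assoc] using hx)
    calc x * (g⁻¹ * v * g) = g⁻¹ * (g * x * g⁻¹ * v) * g := by group
      _ = _ := by rw [this]; group

/-- Two four-groups acting on each other with different commutators centralize each other. -/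
theorem comm_of_actions {X Y : Subgroup G} (hX : IsElementaryAbelian 2 X)
    (hY : IsElementaryAbelian 2 Y) {c c' : G} (hc : c ∈ X) (hc' : c' ∈ Y) (hne : c ≠ c')
    (h1 : ∀ v ∈ Y, ∀ u ∈ X, v * u * v⁻¹ = u ∨ v * u * v⁻¹ = u * c)
    (h2 : ∀ u ∈ X, ∀ v ∈ Y, u * v * u⁻¹ = v ∨ u * v * u⁻¹ = v * c') :
    X ≤ Subgroup.centralizer (Y : Set G) := by
  intro u hu v hv
  rcases h2 u hu v hv with e | e
  · exact (mul_inv_eq_iff_eq_mul.1 e).symm
  rcases h1 v hv u hu with f | f
  · exact mul_inv_eq_iff_eq_mul.1 f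
  refine absurd ?_ hne
  have hcu : c * u = u * c := comm_of_mem hX.1 hc hu
  have hc'v : c' * v = v * c' := comm_of_mem hY.1 hc' hv
  have hcc : c⁻¹ = c := inv_eq_of_mul_eq_one_right (by have := hX.2 c hc; rwa [pow_two] at this)
  calc c = u * (u * c)⁻¹ := by rw [← hcu, hcc.symm]; group; simp [hcc]
    _ = u * v * u⁻¹ * v⁻¹ := by rw [← f]; group
    _ = c' := by rw [e, ← hc'v, mul_inv_cancel_right]

/-- An elementary abelian group of largest order against an abelian group it normalizes in part. -/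
theorem offender_count {T A V C : Subgroup G} (hA : A ∈ maxEAOf 2 T) (hVT : V ≤ T)
    (hV : IsElementaryAbelian 2 V) (hCA : C ≤ A) (hC : C ≤ Subgroup.centralizer (V : Set G)) :
    Nat.card V * Nat.card C ≤ Nat.card A * Nat.card ↥(V ⊓ Subgroup.centralizer (A : Set G)) := by
  have h1 := CfsgLib.Coprime.card_sup_mul_card_inf (H := C) (N := V)
    (hC.trans (Subgroup.centralizer_le_normalizer _))
  rw [mul_comm (Nat.card V), ← h1]
  refine Nat.mul_le_mul (hA.2.2 _ (sup_le (hCA.trans hA.1) hVT)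
    (isElementaryAbelian_sup (isElementaryAbelian_of_le hA.2.1 hCA) hV hC)) ?_
  exact Subgroup.card_le_of_le fun x hx =>
    ⟨hx.2, fun u hu => comm_of_mem hA.2.1.1 hu (hCA hx.1)⟩

/-- The fixed points of an element on an abelian group it normalizes. -/
theorem card_commutators {V : Subgroup G} (hV : IsMulCommutative V) {a : G}
    (ha : a ∈ Subgroup.normalizer (V : Set G)) {S : Subgroup G}
    (hS : ∀ s ∈ S, ∃ v ∈ V, ⁅v, a⁆ = s) :
    Nat.card S * Nat.card ↥(V ⊓ Subgroup.centralizer {a}) ≤ Nat.card V := by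
  set φ := commHom hV ha
  have hSr : S ≤ φ.range := fun s hs => by
    obtain ⟨v, hv, e⟩ := hS s hs
    exact ⟨⟨v, hv⟩, e⟩
  have hk : Nat.card ↥(V ⊓ Subgroup.centralizer {a}) ≤ Nat.card φ.ker := by
    refine Nat.card_le_card_of_injective
      (fun v => (⟨⟨v.1, v.2.1⟩, commutatorElement_eq_one_iff_mul_comm.2
        (Subgroup.mem_centralizer_singleton_iff.1 v.2.2)⟩ : φ.ker)) fun v w h => ?_
    exact Subtype.ext (congrArg (fun x : φ.ker => ((x : V) : G)) h)
  rw [← φ.ker.card_mul_index, Subgroup.index_ker φ, mul_comm (Nat.card φ.ker)]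
  exact Nat.mul_le_mul (Subgroup.card_le_of_le hSr) hk

/-- The counting behind all the exclusions. -/
theorem count {T A V₀ X R S₀ C₀ : Subgroup G} {a c' q x : G} {k : ℕ}
    (hA : A ∈ maxEAOf 2 T) (ha : a ∈ A)
    (hV₀T : V₀ ≤ T) (hV₀ : IsElementaryAbelian 2 V₀) (haV₀ : a ∈ Subgroup.normalizer (V₀ : Set G))
    (hRV₀ : R ≤ Subgroup.centralizer (V₀ : Set G)) (haR : ∀ r ∈ R, a * r * a⁻¹ ∈ R)
    (hXR : X ≤ R) (hRT : R ≤ T) (hX : IsElementaryAbelian 2 X) (hX4 : Nat.card X = 4)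
    (hRX : R ≤ Subgroup.normalizer (X : Set G))
    (hval : ∀ r ∈ R, ∀ u ∈ X, r * u * r⁻¹ = u ∨ r * u * r⁻¹ = u * c')
    (hc : c' ∈ X) (hc1 : c' ≠ 1) (hne : a * c' * a⁻¹ ≠ c')
    (hq : q ∈ R) (hx : x ∈ X) (hqx : q * x * q⁻¹ ≠ x)
    (hS₀R : R ≤ Subgroup.centralizer (S₀ : Set G)) (hS₀ : ∀ s ∈ S₀, ∃ v ∈ V₀, ⁅v, a⁆ = s)
    (hC₀A : C₀ ≤ A) (hC₀R : C₀ ≤ R) (hk : Nat.card A ≤ k * Nat.card C₀)
    (hkn : k < 2 * Nat.card S₀) : False := by
  classical
  have ha2 : a * a = 1 := by have := hA.2.1.2 a ha; rwa [pow_two] at this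
  have ha' : a⁻¹ = a := inv_eq_of_mul_eq_one_right ha2
  set X'' := cj a X with hX''
  have hX''R : X'' ≤ R := by rintro _ ⟨u, hu, rfl⟩; exact haR u (hXR hu)
  have hXX : X ≤ Subgroup.centralizer (X'' : Set G) := by
    refine comm_of_actions hX (cj_ea hX) hc ⟨c', hc, rfl⟩ hne.symm
      (fun v hv u hu => hval v (hX''R hv) u hu) ?_
    rintro r hr _ ⟨u, hu, rfl⟩
    show r * (a * u * a⁻¹) * r⁻¹ = a * u * a⁻¹ ∨ _
    have e : r * (a * u * a⁻¹) * r⁻¹ = a * ((a⁻¹ * r * a) * u * (a⁻¹ * r * a)⁻¹) * a⁻¹ := by group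
    have hh : a⁻¹ * r * a ∈ R := by
      have := haR r (hXR hr); rwa [ha'] at this ⊢
    rcases hval _ hh u hu with f | f
    · exact Or.inl (by rw [e, f])
    · refine Or.inr ?_
      show r * (a * u * a⁻¹) * r⁻¹ = a * u * a⁻¹ * (a * c' * a⁻¹)
      rw [e, f]; group
  set V := V₀ ⊔ X ⊔ X'' with hVdef
  have hVe : IsElementaryAbelian 2 V := by
    refine isElementaryAbelian_sup (isElementaryAbelian_sup hV₀ hX ?_) (cj_ea hX) ?_
    · exact Subgroup.le_centralizer_iff.1 (hXR.trans hRV₀)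
    · exact sup_le (Subgroup.le_centralizer_iff.1 (hX''R.trans hRV₀)) hXX
  have hVT : V ≤ T := sup_le (sup_le hV₀T (hXR.trans hRT)) (hX''R.trans hRT)
  have haV : a ∈ Subgroup.normalizer (V : Set G) := by
    refine mem_normalizer_of_cj_eq ?_
    rw [hVdef, cj, Subgroup.map_sup, Subgroup.map_sup]
    show cj a V₀ ⊔ cj a X ⊔ cj a X'' = V₀ ⊔ X ⊔ X''
    rw [cj_eq haV₀, hX'', cj_cj, ha2, cj_one, sup_right_comm]
  have hcomm : ∀ u ∈ V, ∀ v ∈ V, u * v = v * u := fun u hu v hv => comm_of_mem hVe.1 hu hv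
  have hXV : X ≤ V := le_sup_of_le_left le_sup_right
  have hX''V : X'' ≤ V := le_sup_right
  -- the moved element
  have hmove : ∀ h ∈ R, ∀ u ∈ X, h * u * h⁻¹ ≠ u → (a * h * a⁻¹ = h → True) →
      h * (u * (a * u * a⁻¹)) * h⁻¹ ≠ u * (a * u * a⁻¹) := by
    intro h hh u hu hhu _ e
    have e1 : h * u * h⁻¹ = u * c' := (hval h hh u hu).resolve_left hhu
    set h' := a * h * a⁻¹
    have hh' : h' ∈ R := haR h hh
    have e2 : h * (a * u * a⁻¹) * h⁻¹ = a * (h' * u * h'⁻¹) * a⁻¹ := by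
      simp only [h', mul_inv_rev, inv_inv, ha']
      calc h * (a * u * a) * h⁻¹ = (a * a) * h * (a * u * a) * h⁻¹ * (a * a) := by
            rw [ha2, one_mul, mul_one]
        _ = _ := by group
    rw [← conj_mul, e1, e2] at e
    have hcV : c' ∈ V := hXV hc
    have huu : a * u * a⁻¹ ∈ V := hX''V ⟨u, hu, rfl⟩
    rcases hval h' hh' u hu with f | f <;> rw [f] at e
    · rw [mul_assoc] at e
      exact hc1 (mul_eq_right.1 (mul_left_cancel e))
    · have hcc : a * c' * a⁻¹ ∈ V := hX''V ⟨c', hc, rfl⟩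
      have e' : u * (c' * (a * u * a⁻¹)) * (a * c' * a⁻¹) = u * (a * u * a⁻¹) := by
        rw [show u * (c' * (a * u * a⁻¹)) * (a * c' * a⁻¹) =
          u * c' * (a * (u * c') * a⁻¹) by group]
        exact e
      rw [hcomm c' hcV _ huu] at e'
      have hcc1 : c' * (a * c' * a⁻¹) = 1 := by
        refine mul_left_cancel (a := u * (a * u * a⁻¹)) (Eq.trans ?_ (e'.trans (mul_one _).symm))
        group
      have hcsq : c' * c' = 1 := by have := hX.2 c' hc; rwa [pow_two] at this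
      exact hne (mul_left_cancel (hcc1.trans hcsq.symm))
  set S := S₀ ⊔ Subgroup.zpowers ⁅x, a⁆
  have hτ : ⁅x, a⁆ ∉ S₀ := by
    intro h
    have e : q * ⁅x, a⁆ = ⁅x, a⁆ * q := (hS₀R hq _ h).symm
    refine hmove q hq x hx hqx (fun _ => trivial) ?_
    have hxinv : x⁻¹ = x := inv_eq_of_mul_eq_one_right (by have := hX.2 x hx; rwa [pow_two] at this)
    have e' : ⁅x, a⁆ = x * (a * x * a⁻¹) := by rw [commutatorElement_def, hxinv]; group
    rw [← e', e, mul_inv_cancel_right]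
  have hScard : 2 * Nat.card S₀ ≤ Nat.card S :=
    two_mul_le_of_lt (lt_of_le_of_ne le_sup_left fun e => hτ (e ▸ Subgroup.mem_sup_right
      (Subgroup.mem_zpowers _)))
  have hV₀V : V₀ ≤ V := le_sup_of_le_left le_sup_left
  have hScom : ∀ s ∈ S, ∃ v ∈ V, ⁅v, a⁆ = s := by
    have hle : S ≤ (commHom hVe.1 haV).range := by
      refine sup_le (fun s hs => ?_) (Subgroup.zpowers_le.2 ⟨⟨x, hXV hx⟩, rfl⟩)
      obtain ⟨v, hv, e⟩ := hS₀ s hs
      exact ⟨⟨v, hV₀V hv⟩, e⟩
    intro s hs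
    obtain ⟨v, e⟩ := hle hs
    exact ⟨v, v.2, e⟩
  have hfixA : V ⊓ Subgroup.centralizer (A : Set G) ≤ V ⊓ Subgroup.centralizer {a} :=
    inf_le_inf_left _ (Subgroup.centralizer_le (Set.singleton_subset_iff.2 ha))
  have hbase : 2 * Nat.card S₀ * Nat.card ↥(V ⊓ Subgroup.centralizer {a}) ≤ Nat.card V :=
    (Nat.mul_le_mul_right _ hScard).trans (card_commutators hVe.1 haV hScom)
  have hcentX'' : ∀ {C : Subgroup G}, C ≤ A → C ≤ Subgroup.centralizer (X : Set G) →
      C ≤ Subgroup.centralizer (X'' : Set G) := by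
    intro C hCA hCX g hg
    rintro _ ⟨u, hu, rfl⟩
    show a * u * a⁻¹ * g = g * (a * u * a⁻¹)
    have hga : g * a = a * g := comm_of_mem hA.2.1.1 (hCA hg) ha
    have hgu : u * g = g * u := hCX hg u hu
    calc a * u * a⁻¹ * g = a * (u * g) * a⁻¹ := by
          rw [ha']; simp only [mul_assoc, hga]
      _ = (a * g) * u * a⁻¹ := by rw [hgu]; group
      _ = _ := by rw [← hga]; group
  have hC₀V₀ : C₀ ≤ Subgroup.centralizer (V₀ : Set G) := hC₀R.trans hRV₀
  have hVcent : ∀ {C : Subgroup G}, C ≤ C₀ → C ≤ Subgroup.centralizer (X : Set G) →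
      C ≤ Subgroup.centralizer (V : Set G) := by
    intro C hC hCX
    rw [Subgroup.le_centralizer_iff]
    exact sup_le (sup_le (Subgroup.le_centralizer_iff.1 (hC.trans hC₀V₀))
      (Subgroup.le_centralizer_iff.1 hCX))
      (Subgroup.le_centralizer_iff.1 (hcentX'' (hC.trans hC₀A) hCX))
  by_cases hh : C₀ ≤ Subgroup.centralizer (X : Set G)
  · have h1 := offender_count hA hVT hVe hC₀A (hVcent le_rfl hh)
    have h2 : 2 * Nat.card S₀ * (Nat.card ↥(V ⊓ Subgroup.centralizer {a}) * Nat.card C₀) ≤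
        k * (Nat.card ↥(V ⊓ Subgroup.centralizer {a}) * Nat.card C₀) := by
      calc _ = 2 * Nat.card S₀ * Nat.card ↥(V ⊓ Subgroup.centralizer {a}) * Nat.card C₀ :=
            (mul_assoc _ _ _).symm
        _ ≤ Nat.card V * Nat.card C₀ := Nat.mul_le_mul_right _ hbase
        _ ≤ _ := h1
        _ ≤ k * Nat.card C₀ * Nat.card ↥(V ⊓ Subgroup.centralizer {a}) :=
            Nat.mul_le_mul hk (Subgroup.card_le_of_le hfixA)
        _ = _ := by ring
    exact absurd (Nat.le_of_mul_le_mul_right h2 (Nat.mul_pos Nat.card_pos Nat.card_pos))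
      (Nat.not_le.2 hkn)
  · obtain ⟨h, hhC, hhX⟩ := SetLike.not_le_iff_exists.1 hh
    obtain ⟨u, hu, huh⟩ : ∃ u ∈ X, h * u * h⁻¹ ≠ u := by
      by_contra hno
      push Not at hno
      exact hhX fun u hu => (mul_inv_eq_iff_eq_mul.1 (hno u hu)).symm
    set C := C₀ ⊓ Subgroup.centralizer (X : Set G)
    have hhalf : Nat.card C₀ ≤ 2 * Nat.card C :=
      JComp.card_le_two_mul (isPGroup_of_isElementaryAbelian (isElementaryAbelian_of_le hA.2.1 hC₀A))
        hX4 hX (hC₀R.trans hRX) le_rfl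
    have h1 := offender_count hA hVT hVe (inf_le_left.trans hC₀A) (hVcent inf_le_left inf_le_right)
    have hlt : V ⊓ Subgroup.centralizer (A : Set G) < V ⊓ Subgroup.centralizer {a} := by
      refine lt_of_le_of_ne hfixA fun e => ?_
      have hv : u * (a * u * a⁻¹) ∈ V ⊓ Subgroup.centralizer {a} := by
        refine ⟨mul_mem (hXV hu) (hX''V ⟨u, hu, rfl⟩), Subgroup.mem_centralizer_singleton_iff.2 ?_⟩
        have hu' : a * u * a⁻¹ ∈ V := hX''V ⟨u, hu, rfl⟩
        calc u * (a * u * a⁻¹) * a = (a * a) * u * a * u := by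
              rw [ha2, one_mul]; group
          _ = a * ((a * u * a⁻¹) * u) := by rw [ha']; group
          _ = _ := by rw [hcomm _ hu' u (hXV hu)]
      rw [← e] at hv
      refine hmove h (hC₀R hhC) u hu huh (fun _ => trivial) ?_
      exact mul_inv_eq_iff_eq_mul.2 (hv.2 h (hC₀A hhC))
    have h3 := two_mul_le_of_lt hlt
    have h4 : 4 * Nat.card S₀ * (Nat.card ↥(V ⊓ Subgroup.centralizer (A : Set G)) * Nat.card C) ≤
        2 * k * (Nat.card ↥(V ⊓ Subgroup.centralizer (A : Set G)) * Nat.card C) := by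
      calc _ = 2 * Nat.card S₀ * (2 * Nat.card ↥(V ⊓ Subgroup.centralizer (A : Set G))) * Nat.card C := by
            ring
        _ ≤ 2 * Nat.card S₀ * Nat.card ↥(V ⊓ Subgroup.centralizer {a}) * Nat.card C := by
            gcongr
        _ ≤ Nat.card V * Nat.card C := Nat.mul_le_mul_right _ hbase
        _ ≤ _ := h1
        _ ≤ k * (2 * Nat.card C) * Nat.card ↥(V ⊓ Subgroup.centralizer (A : Set G)) :=
            Nat.mul_le_mul_right _ (hk.trans (Nat.mul_le_mul_left _ hhalf))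
        _ = _ := by ring
    have := Nat.le_of_mul_le_mul_right h4 (Nat.mul_pos Nat.card_pos Nat.card_pos)
    omega

end CfsgLib.LocalEven.OffAmalgam
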