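import Cfsg.Agent.Lib.Classical.GL2

/-!
Modules for `SL₂(F)` on which the two unipotent fixed-point groups span and each root group moves
into its fixed points are sums of natural modules.
-/

set_option autoImplicit false
set_option linter.unusedSectionVars false

namespace CfsgLib.LocalEven.SL2Natural

open Matrix Matrix.SpecialLinearGroup CfsgLib.Classical

variable {F : Type*} [Field F]

local notation "SL₂" => Matrix.SpecialLinearGroup (Fin 2) F

/-- The monomial element `!![0, a; -a⁻¹, 0]`. -/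
def nSL (a : F) : SL₂ := uSL a * lSL (-a⁻¹) * uSL a

/-- The diagonal element `diag(a, a⁻¹)`. -/
def hSL (a : F) : SL₂ := nSL a * nSL (-1)

theorem nSL_coe {a : F} (ha : a ≠ 0) : (nSL a).1 = !![0, a; -a⁻¹, 0] := by
  simp only [nSL, coe_mul, uSL_coe, lSL_coe]
  ext i j
  fin_cases i <;> fin_cases j <;> simp [Matrix.mul_apply, Fin.sum_univ_two]
  all_goals field_simp
  all_goals simp [ha]

theorem hSL_coe {a : F} (ha : a ≠ 0) : (hSL a).1 = !![a, 0; 0, a⁻¹] := by
  rw [hSL, coe_mul, nSL_coe ha, nSL_coe (neg_ne_zero.2 one_ne_zero)]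
  ext i j
  fin_cases i <;> fin_cases j <;> simp [Matrix.mul_apply, Fin.sum_univ_two]

theorem uSL_add (a b : F) : (uSL (a + b) : SL₂) = uSL a * uSL b := transvection_add _ _ _

theorem uSL_zero : (uSL (0 : F) : SL₂) = 1 := transvection_coeff_zero _

theorem nSL_mul_neg {a : F} (ha : a ≠ 0) : (nSL a : SL₂) * nSL (-a) = 1 := by
  refine Subtype.ext ?_
  rw [coe_mul, nSL_coe ha, nSL_coe (neg_ne_zero.2 ha), coe_one]
  ext i j
  fin_cases i <;> fin_cases j <;> simp [Matrix.mul_apply, Fin.sum_univ_two, ha]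

theorem nSL_mul_lSL {a : F} (ha : a ≠ 0) (t : F) : (nSL a : SL₂) * lSL t = uSL (-(a ^ 2 * t)) * nSL a := by
  refine Subtype.ext ?_
  rw [coe_mul, coe_mul, nSL_coe ha, uSL_coe, lSL_coe]
  ext i j
  fin_cases i <;> fin_cases j <;> simp [Matrix.mul_apply, Fin.sum_univ_two] <;> field_simp

theorem nSL_mul_uSL {a : F} (ha : a ≠ 0) (t : F) : (nSL a : SL₂) * uSL t = lSL (-(t / a ^ 2)) * nSL a := by
  refine Subtype.ext ?_
  rw [coe_mul, coe_mul, nSL_coe ha, uSL_coe, lSL_coe]
  ext i j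
  fin_cases i <;> fin_cases j <;> simp [Matrix.mul_apply, Fin.sum_univ_two] <;> field_simp

theorem hSL_mul_uSL {a : F} (ha : a ≠ 0) (t : F) : (hSL a : SL₂) * uSL t = uSL (a ^ 2 * t) * hSL a := by
  refine Subtype.ext ?_
  rw [coe_mul, coe_mul, hSL_coe ha, uSL_coe, uSL_coe]
  ext i j
  fin_cases i <;> fin_cases j <;> simp [Matrix.mul_apply, Fin.sum_univ_two] <;> field_simp

theorem hSL_mul {a b : F} (ha : a ≠ 0) (hb : b ≠ 0) : (hSL a : SL₂) * hSL b = hSL (a * b) := by
  refine Subtype.ext ?_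
  rw [coe_mul, hSL_coe ha, hSL_coe hb, hSL_coe (mul_ne_zero ha hb)]
  ext i j
  fin_cases i <;> fin_cases j <;> simp [Matrix.mul_apply, Fin.sum_univ_two, mul_comm]

theorem nSL_neg_one_mul {a : F} (ha : a ≠ 0) : (nSL (-1) : SL₂) * nSL a = hSL a⁻¹ := by
  refine Subtype.ext ?_
  rw [coe_mul, nSL_coe ha, nSL_coe (neg_ne_zero.2 one_ne_zero), hSL_coe (inv_ne_zero ha)]
  ext i j
  fin_cases i <;> fin_cases j <;> simp [Matrix.mul_apply, Fin.sum_univ_two]

theorem nSL_mul_nSL_one {a : F} (ha : a ≠ 0) : (nSL a : SL₂) * nSL 1 = hSL (-a) := by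
  refine Subtype.ext ?_
  rw [coe_mul, nSL_coe ha, nSL_coe one_ne_zero, hSL_coe (neg_ne_zero.2 ha)]
  ext i j
  fin_cases i <;> fin_cases j <;> simp [Matrix.mul_apply, Fin.sum_univ_two]

theorem nSL_eq {a : F} (ha : a ≠ 0) : (nSL a : SL₂) = nSL 1 * hSL a⁻¹ := by
  refine Subtype.ext ?_
  rw [coe_mul, nSL_coe ha, nSL_coe one_ne_zero, hSL_coe (inv_ne_zero ha)]
  ext i j
  fin_cases i <;> fin_cases j <;> simp [Matrix.mul_apply, Fin.sum_univ_two]

theorem hSL_neg_one_comm (g : SL₂) : hSL (-1 : F) * g = g * hSL (-1) := by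
  refine Subtype.ext ?_
  rw [coe_mul, coe_mul, hSL_coe (neg_ne_zero.2 one_ne_zero)]
  ext i j
  fin_cases i <;> fin_cases j <;> simp [Matrix.mul_apply, Fin.sum_univ_two]

theorem eq_top {K : Subgroup SL₂} (hu : ∀ a, uSL a ∈ K) (hn : nSL 1 ∈ K) : K = ⊤ := by
  refine eq_top_of_transvection_mem K fun i j hij c => ?_
  match i, j, hij with
  | 0, 0, h => exact absurd rfl h
  | 1, 1, h => exact absurd rfl h
  | 0, 1, _ => exact hu c
  | 1, 0, _ =>
    have h := nSL_mul_uSL (F := F) one_ne_zero (-c)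
    simp only [one_pow, div_one, neg_neg] at h
    have : (lSL c : SL₂) = nSL 1 * uSL (-c) * (nSL 1)⁻¹ := by rw [h, mul_inv_cancel_right]
    show (lSL c : SL₂) ∈ K
    rw [this]
    exact mul_mem (mul_mem hn (hu _)) (inv_mem hn)

variable {M : Type*} [AddCommGroup M] [DistribMulAction (Matrix.SpecialLinearGroup (Fin 2) F) M]

variable (F M) in
/-- The fixed points of the upper unitriangular group. -/
def fixU : AddSubgroup M where
  carrier := {m | ∀ a : F, (uSL a : SL₂) • m = m}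
  zero_mem' := fun a => smul_zero _
  add_mem' := fun {x y} hx hy a => by rw [smul_add, hx, hy]
  neg_mem' := fun {x} hx a => by rw [smul_neg, hx]

variable (F M) in
/-- The fixed points of the lower unitriangular group. -/
def fixL : AddSubgroup M where
  carrier := {m | ∀ a : F, (lSL a : SL₂) • m = m}
  zero_mem' := fun a => smul_zero _
  add_mem' := fun {x y} hx hy a => by rw [smul_add, hx, hy]
  neg_mem' := fun {x} hx a => by rw [smul_neg, hx]

theorem nSL_smul_fixU {a : F} (ha : a ≠ 0) {m : M} (hm : m ∈ fixU F M) : (nSL a : SL₂) • m ∈ fixL F M :=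
  fun t => by
    have h := nSL_mul_uSL ha (-(t * a ^ 2))
    rw [show -(-(t * a ^ 2) / a ^ 2) = t by field_simp] at h
    rw [smul_smul, ← h, mul_smul, hm]

theorem nSL_smul_fixL {a : F} (ha : a ≠ 0) {m : M} (hm : m ∈ fixL F M) : (nSL a : SL₂) • m ∈ fixU F M :=
  fun t => by
    have h := nSL_mul_lSL ha (-(t / a ^ 2))
    rw [show -(a ^ 2 * -(t / a ^ 2)) = t by field_simp] at h
    rw [smul_smul, ← h, mul_smul, hm]

theorem hSL_smul_fixU {a : F} (ha : a ≠ 0) {m : M} (hm : m ∈ fixU F M) : (hSL a : SL₂) • m ∈ fixU F M := by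
  rw [hSL, mul_smul]
  exact nSL_smul_fixL ha (nSL_smul_fixU (neg_ne_zero.2 one_ne_zero) hm)

theorem hSL_smul_fixL {a : F} (ha : a ≠ 0) {m : M} (hm : m ∈ fixL F M) : (hSL a : SL₂) • m ∈ fixL F M := by
  rw [hSL, mul_smul]
  exact nSL_smul_fixU ha (nSL_smul_fixL (neg_ne_zero.2 one_ne_zero) hm)

/-- No nonzero vector is fixed by the whole group. -/
def NoFix (F : Type*) [Field F] (M : Type*) [AddCommGroup M]
    [DistribMulAction (Matrix.SpecialLinearGroup (Fin 2) F) M] : Prop :=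
  ∀ m : M, (∀ g : Matrix.SpecialLinearGroup (Fin 2) F, g • m = m) → m = 0

theorem smul_eq_self_of_gens {m : M} (hu : ∀ a : F, (uSL a : SL₂) • m = m) (hn : (nSL 1 : SL₂) • m = m)
    (g : SL₂) : g • m = m := by
  have : MulAction.stabilizer SL₂ m = ⊤ := eq_top hu hn
  exact MulAction.mem_stabilizer_iff.1 (this ▸ Subgroup.mem_top g)

theorem eq_zero_of_fixed (hno : NoFix F M) {m : M} (hu : m ∈ fixU F M) (hl : m ∈ fixL F M) : m = 0 :=
  hno m (smul_eq_self_of_gens hu (by rw [nSL, mul_smul, mul_smul, hu, hl, hu]))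

theorem eq_of_sum_eq (hno : NoFix F M) {w₁ w₂ v₁ v₂ : M} (hw₁ : w₁ ∈ fixU F M) (hw₂ : w₂ ∈ fixU F M)
    (hv₁ : v₁ ∈ fixL F M) (hv₂ : v₂ ∈ fixL F M) (h : w₁ + v₁ = w₂ + v₂) : w₁ = w₂ ∧ v₁ = v₂ := by
  have e : w₁ - w₂ = v₂ - v₁ := by rw [sub_eq_sub_iff_add_eq_add, h, add_comm]
  have h1 : w₁ - w₂ = 0 := eq_zero_of_fixed hno (sub_mem hw₁ hw₂) (e ▸ sub_mem hv₂ hv₁)
  exact ⟨sub_eq_zero.1 h1, (sub_eq_zero.1 (e ▸ h1)).symm⟩

/-- The key formula: a root element moves an opposite fixed vector by the monomial element. -/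
theorem uSL_smul_sub (hno : NoFix F M) {w : M} (hw : w ∈ fixL F M) {s : F} (hs : s ≠ 0)
    (h : (uSL s : SL₂) • w - w ∈ fixU F M) : (uSL s : SL₂) • w - w = (nSL s : SL₂) • w := by
  obtain ⟨d, hd⟩ : ∃ d, (uSL s : SL₂) • w - w = d := ⟨_, rfl⟩
  rw [hd] at h ⊢
  have hu : (uSL s : SL₂) • w = w + d := by rw [← hd, add_sub_cancel]
  have e1 : (nSL s : SL₂) • d = (uSL s : SL₂) • (lSL (-s⁻¹) : SL₂) • d := by
    rw [nSL, mul_smul, mul_smul, h]
  have e2 : (nSL s : SL₂) • w = w + d + (nSL s : SL₂) • d := by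
    rw [e1, nSL, mul_smul, mul_smul, hu, smul_add, hw, smul_add, hu]
  have e3 : (nSL s : SL₂) • w + 0 = d + (w + (nSL s : SL₂) • d) := by rw [add_zero, e2]; abel
  exact (eq_of_sum_eq hno (nSL_smul_fixL hs hw) h (zero_mem _)
    (add_mem hw (nSL_smul_fixU hs h)) e3).1.symm

/-- The two fixed-point groups span and root elements move them into their fixed points. -/
structure Split (F : Type*) [Field F] (M : Type*) [AddCommGroup M]
    [DistribMulAction (Matrix.SpecialLinearGroup (Fin 2) F) M] : Prop where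
  nofix : NoFix F M
  full : ∀ m : M, ∃ w ∈ fixU F M, ∃ v ∈ fixL F M, m = w + v
  quad : ∀ v ∈ fixL F M, ∀ a : F, (uSL a : Matrix.SpecialLinearGroup (Fin 2) F) • v - v ∈ fixU F M

namespace Split

variable (hS : Split F M)
include hS

theorem formula {v : M} (hv : v ∈ fixL F M) {a : F} (ha : a ≠ 0) :
    (uSL a : SL₂) • v - v = (nSL a : SL₂) • v :=
  uSL_smul_sub hS.nofix hv ha (hS.quad v hv a)

/-- Scalar multiplication on the opposite fixed points. -/
noncomputable def scalar : F →+* AddMonoid.End (fixL F M) where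
  toFun a := AddMonoidHom.mk'
    (fun v => ⟨(nSL (-1) : SL₂) • ((uSL a : SL₂) • (v : M) - v),
      nSL_smul_fixU (neg_ne_zero.2 one_ne_zero) (hS.quad v v.2 a)⟩)
    (fun v w => Subtype.ext (by
      show (nSL (-1) : SL₂) • ((uSL a : SL₂) • ((v : M) + w) - (v + w)) = _
      rw [smul_add, add_sub_add_comm, smul_add]
      rfl))
  map_zero' := AddMonoidHom.ext fun v => Subtype.ext (by
    show (nSL (-1) : SL₂) • ((uSL (0 : F) : SL₂) • (v : M) - v) = 0
    rw [uSL_zero, one_smul, sub_self, smul_zero])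
  map_add' a b := AddMonoidHom.ext fun v => Subtype.ext (by
    show (nSL (-1) : SL₂) • ((uSL (a + b) : SL₂) • (v : M) - v) =
      (nSL (-1) : SL₂) • ((uSL a : SL₂) • (v : M) - v) + (nSL (-1) : SL₂) • ((uSL b : SL₂) • (v : M) - v)
    rw [← smul_add]
    congr 1
    have hb : (uSL a : SL₂) • ((uSL b : SL₂) • (v : M) - v) = (uSL b : SL₂) • (v : M) - v :=
      hS.quad v v.2 b a
    rw [smul_sub] at hb
    rw [uSL_add, mul_smul, ← hb]
    abel)
  map_one' := AddMonoidHom.ext fun v => Subtype.ext (by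
    show (nSL (-1) : SL₂) • ((uSL (1 : F) : SL₂) • (v : M) - v) = v
    rw [hS.formula v.2 one_ne_zero, smul_smul]
    have := nSL_mul_neg (F := F) (neg_ne_zero.2 one_ne_zero)
    rw [neg_neg] at this
    rw [this, one_smul])
  map_mul' a b := AddMonoidHom.ext fun v => Subtype.ext (by
    have key : ∀ (c : F) (x : M), x ∈ fixL F M → c ≠ 0 →
        (nSL (-1) : SL₂) • ((uSL c : SL₂) • x - x) = (hSL c⁻¹ : SL₂) • x := fun c x hx hc => by
      rw [hS.formula hx hc, smul_smul, nSL_neg_one_mul hc]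
    show (nSL (-1) : SL₂) • ((uSL (a * b) : SL₂) • (v : M) - v) =
      (nSL (-1) : SL₂) • ((uSL a : SL₂) • ((nSL (-1) : SL₂) • ((uSL b : SL₂) • (v : M) - v)) -
        (nSL (-1) : SL₂) • ((uSL b : SL₂) • (v : M) - v))
    rcases eq_or_ne b 0 with rfl | hb
    · simp [uSL_zero]
    rcases eq_or_ne a 0 with rfl | ha
    · simp [uSL_zero]
    rw [key _ _ v.2 (mul_ne_zero ha hb), key _ _ v.2 hb,
      key _ _ (hSL_smul_fixL (inv_ne_zero hb) v.2) ha, smul_smul,
      hSL_mul (inv_ne_zero ha) (inv_ne_zero hb), mul_inv])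

theorem scalar_apply (a : F) (v : fixL F M) :
    ((hS.scalar a v : fixL F M) : M) = (nSL (-1) : SL₂) • ((uSL a : SL₂) • (v : M) - v) := rfl

theorem uSL_smul (a : F) (v : fixL F M) :
    (uSL a : SL₂) • (v : M) = (nSL 1 : SL₂) • ((hS.scalar a v : fixL F M) : M) + v := by
  rw [scalar_apply, smul_smul, nSL_mul_neg one_ne_zero, one_smul, sub_add_cancel]

theorem nSL_one_sq (v : fixL F M) : (nSL 1 : SL₂) • (nSL 1 : SL₂) • (v : M) = -(v : M) := by
  have h1 : ((hS.scalar (-1) v : fixL F M) : M) = -(v : M) := by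
    rw [RingHom.map_neg, map_one]; rfl
  rw [scalar_apply, hS.formula v.2 (neg_ne_zero.2 one_ne_zero), smul_smul,
    nSL_neg_one_mul (neg_ne_zero.2 one_ne_zero), inv_neg_one] at h1
  rw [smul_smul, nSL_mul_nSL_one one_ne_zero, h1]

/-- `M` is a sum of natural modules. -/
theorem exists_natural [Finite M] :
    ∃ (k : ℕ) (Φ : M ≃+ (Fin k → Fin 2 → F)), ∀ (g : SL₂) (m : M) i, Φ (g • m) i = g.1.mulVec (Φ m i) := by
  letI : Module F (fixL F M) := Module.compHom _ hS.scalar
  haveI : Module.Finite F (fixL F M) := Module.Finite.of_finite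
  let b := Module.finBasis F (fixL F M)
  let k := Module.finrank F (fixL F M)
  let E : (Fin k → Fin 2 → F) →+ M := AddMonoidHom.mk'
    (fun c => (nSL 1 : SL₂) • ((b.equivFun.symm fun i => c i 0 : fixL F M) : M) +
      ((b.equivFun.symm fun i => c i 1 : fixL F M) : M))
    (fun c d => by
      have e : ∀ j : Fin 2, (b.equivFun.symm fun i => (c + d) i j) =
          (b.equivFun.symm fun i => c i j) + b.equivFun.symm fun i => d i j := fun j => by
        rw [← map_add]; rfl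
      rw [e, e, AddSubgroup.coe_add, AddSubgroup.coe_add, smul_add, add_add_add_comm])
  have hbij : Function.Bijective E := by
    refine ⟨fun c d h => ?_, fun m => ?_⟩
    · obtain ⟨h0, h1⟩ := eq_of_sum_eq hS.nofix (nSL_smul_fixL one_ne_zero (SetLike.coe_mem _))
        (nSL_smul_fixL one_ne_zero (SetLike.coe_mem _)) (SetLike.coe_mem _) (SetLike.coe_mem _) h
      have h0' := b.equivFun.symm.injective (Subtype.ext (MulAction.injective (nSL 1 : SL₂) h0))
      have h1' := b.equivFun.symm.injective (Subtype.ext h1)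
      funext i j
      fin_cases j
      · exact congrFun h0' i
      · exact congrFun h1' i
    · obtain ⟨w, hw, v, hv, rfl⟩ := hS.full m
      let w' : fixL F M := ⟨(nSL (-1) : SL₂) • w, nSL_smul_fixU (neg_ne_zero.2 one_ne_zero) hw⟩
      refine ⟨fun i => ![b.equivFun w' i, b.equivFun ⟨v, hv⟩ i], ?_⟩
      show (nSL 1 : SL₂) • ((b.equivFun.symm fun i => b.equivFun w' i : fixL F M) : M) +
        ((b.equivFun.symm fun i => b.equivFun ⟨v, hv⟩ i : fixL F M) : M) = _
      rw [LinearEquiv.symm_apply_apply, LinearEquiv.symm_apply_apply]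
      show (nSL 1 : SL₂) • (nSL (-1) : SL₂) • w + v = w + v
      rw [smul_smul, nSL_mul_neg one_ne_zero, one_smul]
  let K : Subgroup SL₂ :=
    { carrier := {g | ∀ c, g • E c = E fun i => g.1.mulVec (c i)}
      one_mem' := fun c => by simp
      mul_mem' := fun {g h} hg hh c => by
        rw [mul_smul, hh, hg]
        refine congrArg E (funext fun i => ?_)
        rw [Matrix.mulVec_mulVec, coe_mul]
      inv_mem' := fun {g} hg c => by
        rw [inv_smul_eq_iff, hg]
        refine congrArg E (funext fun i => ?_)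
        rw [Matrix.mulVec_mulVec, ← coe_mul, mul_inv_cancel, coe_one, Matrix.one_mulVec] }
  have hE : ∀ c, E c = (nSL 1 : SL₂) • ((b.equivFun.symm fun i => c i 0 : fixL F M) : M) +
      ((b.equivFun.symm fun i => c i 1 : fixL F M) : M) := fun c => rfl
  have hK : K = ⊤ := by
    refine eq_top (fun a c => ?_) (fun c => ?_)
    · rw [hE, hE, smul_add, nSL_smul_fixL one_ne_zero (SetLike.coe_mem _) a, hS.uSL_smul, ← add_assoc,
        ← smul_add, ← AddSubgroup.coe_add]
      congr 3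
      · show b.equivFun.symm _ + a • b.equivFun.symm _ = _
        rw [← map_smul, ← map_add]
        refine congrArg b.equivFun.symm (funext fun i => ?_)
        simp [uSL_coe, Matrix.mulVec, dotProduct, Fin.sum_univ_two]
      · funext i
        simp [uSL_coe, Matrix.mulVec, dotProduct, Fin.sum_univ_two]
    · rw [hE, hE, smul_add, hS.nSL_one_sq, add_comm, ← AddSubgroup.coe_neg, ← map_neg]
      congr 4 <;> funext i <;> simp [nSL_coe, Matrix.mulVec, dotProduct, Fin.sum_univ_two]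
  refine ⟨k, (AddEquiv.ofBijective E hbij).symm, fun g m i => ?_⟩
  obtain ⟨c, rfl⟩ := (AddEquiv.ofBijective E hbij).surjective m
  have h : g • E c = E fun i => g.1.mulVec (c i) := (hK ▸ Subgroup.mem_top g : g ∈ K) c
  show (AddEquiv.ofBijective E hbij).symm (g • E c) i = _
  rw [h]
  show (AddEquiv.ofBijective E hbij).symm ((AddEquiv.ofBijective E hbij) _) i = _
  rw [AddEquiv.symm_apply_apply, AddEquiv.symm_apply_apply]

end Split

/-- A nonzero fixed vector of a `p`-group in an invariant section. -/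
theorem exists_fix_mod [Finite M] {p : ℕ} [Fact p.Prime] (hU : IsPGroup p (Multiplicative F))
    (hM : ∀ m : M, ∃ k, p ^ k • m = 0) {X Y : AddSubgroup M} (hXY : X ≤ Y) (hne : ¬ Y ≤ X)
    (hX : ∀ (a : F), ∀ x ∈ X, (uSL a : SL₂) • x ∈ X) (hY : ∀ (a : F), ∀ y ∈ Y, (uSL a : SL₂) • y ∈ Y) :
    ∃ m ∈ Y, m ∉ X ∧ ∀ a : F, (uSL a : SL₂) • m - m ∈ X := by
  let Q := Y.map (QuotientAddGroup.mk' X)
  let f : F → M ⧸ X →+ M ⧸ X := fun a =>
    QuotientAddGroup.map X X (DistribSMul.toAddMonoidHom M (uSL a : SL₂)) fun x hx => hX a x hx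
  letI : MulAction (Multiplicative F) Q :=
    { smul := fun a q => ⟨f a.toAdd q.1, by
        obtain ⟨y, hy, e⟩ := q.2
        exact ⟨_, hY a.toAdd y hy, by rw [← e]; rfl⟩⟩
      one_smul := fun q => Subtype.ext (by
        obtain ⟨q, hq⟩ := q
        induction q using QuotientAddGroup.induction_on with
        | _ m =>
          show QuotientAddGroup.mk' X ((uSL (0 : F) : SL₂) • m) = QuotientAddGroup.mk' X m
          rw [uSL_zero, one_smul])
      mul_smul := fun a b q => Subtype.ext (by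
        obtain ⟨q, hq⟩ := q
        induction q using QuotientAddGroup.induction_on with
        | _ m => exact congrArg (QuotientAddGroup.mk' X) (by
            show (uSL (a.toAdd + b.toAdd) : SL₂) • m = (uSL a.toAdd : SL₂) • (uSL b.toAdd : SL₂) • m
            rw [uSL_add, mul_smul])) }
  have hQ : IsPGroup p (Multiplicative Q) := by
    intro q
    obtain ⟨y, -, e⟩ := (Multiplicative.toAdd q).2
    obtain ⟨k, hk⟩ := hM y
    refine ⟨k, ?_⟩
    apply Multiplicative.toAdd.injective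
    rw [toAdd_pow, toAdd_one]
    refine Subtype.ext ?_
    rw [AddSubgroup.coe_nsmul, ← e, ← map_nsmul, hk, map_zero]
    rfl
  haveI : Nontrivial Q := by
    obtain ⟨y, hy, hyX⟩ := SetLike.not_le_iff_exists.1 hne
    exact ⟨⟨⟨_, y, hy, rfl⟩, 0, fun e => hyX ((QuotientAddGroup.eq_zero_iff y).1 (congrArg Subtype.val e))⟩⟩
  haveI : Nontrivial (Multiplicative Q) := Multiplicative.toAdd.nontrivial
  obtain ⟨k, hk0, hk⟩ := hQ.nontrivial_iff_card.1 inferInstance
  rw [Nat.card_congr Multiplicative.toAdd] at hk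
  obtain ⟨q, hq, hq0⟩ := hU.exists_fixed_point_of_prime_dvd_card_of_fixed_point Q
    (hk ▸ dvd_pow_self p hk0.ne') (a := (0 : Q)) (fun a => Subtype.ext (map_zero _))
  obtain ⟨m, hm, e⟩ := q.2
  refine ⟨m, hm, fun h => hq0 (Subtype.ext ?_), fun a => ?_⟩
  · rw [← e]; exact ((QuotientAddGroup.eq_zero_iff m).2 h).symm
  · have := congrArg Subtype.val (hq (Multiplicative.ofAdd a))
    change f a q.1 = q.1 at this
    rw [← e] at this
    exact QuotientAddGroup.eq_iff_sub_mem.1 this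

theorem isPGroup_mul (F : Type*) [Field F] [Finite F] (p : ℕ) [Fact p.Prime] [CharP F p] :
    IsPGroup p (Multiplicative F) := fun a => ⟨1, by
  apply Multiplicative.toAdd.injective
  rw [toAdd_pow, toAdd_one, pow_one, nsmul_eq_mul, CharP.cast_eq_zero, zero_mul]⟩

theorem nSL_one_mem {X : AddSubgroup M}
    (hu : ∀ (a : F), ∀ x ∈ X, (uSL a : SL₂) • x ∈ X) (hn : ∀ x ∈ X, (nSL 1 : SL₂) • x ∈ X)
    (hnn : ∀ x ∈ X, (nSL (-1) : SL₂) • x ∈ X) (g : SL₂) : ∀ x ∈ X, g • x ∈ X := by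
  let K : Subgroup SL₂ :=
    { carrier := {g | (∀ x ∈ X, g • x ∈ X) ∧ ∀ x ∈ X, g⁻¹ • x ∈ X}
      one_mem' := ⟨fun x hx => by rwa [one_smul], fun x hx => by rwa [inv_one, one_smul]⟩
      mul_mem' := fun {g h} hg hh => ⟨fun x hx => by rw [mul_smul]; exact hg.1 _ (hh.1 _ hx),
        fun x hx => by rw [_root_.mul_inv_rev, mul_smul]; exact hh.2 _ (hg.2 _ hx)⟩
      inv_mem' := fun {g} hg => ⟨hg.2, fun x hx => by rw [inv_inv]; exact hg.1 _ hx⟩ }
  have hK : K = ⊤ := eq_top
    (fun a => ⟨hu a, fun x hx => by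
      rw [inv_eq_of_mul_eq_one_right (show (uSL a : SL₂) * uSL (-a) = 1 by
        rw [← uSL_add, add_neg_cancel, uSL_zero])]
      exact hu _ x hx⟩)
    ⟨hn, fun x hx => by rw [inv_eq_of_mul_eq_one_right (nSL_mul_neg one_ne_zero)]; exact hnn x hx⟩
  exact (hK ▸ Subgroup.mem_top g : g ∈ K).1

/-- An irreducible module that is quadratic, or small for the fixed points of a Sylow group, is natural. -/
theorem split_of_irreducible [Finite F] [Finite M] {p : ℕ} [Fact p.Prime] [CharP F p]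
    (hM : ∀ m : M, p • m = 0)
    (hirr : ∀ X : AddSubgroup M, (∀ (g : SL₂), ∀ x ∈ X, g • x ∈ X) → X = ⊥ ∨ X = ⊤)
    (hnt : ∃ (g : SL₂) (m : M), g • m ≠ m)
    (hyp : (∀ (a b : F) (m : M), (uSL a : SL₂) • ((uSL b : SL₂) • m - m) = (uSL b : SL₂) • m - m) ∨
      Nat.card M ≤ Nat.card (fixU F M) ^ 2) : Split F M := by
  have h1 : (nSL (-1) : SL₂) * nSL 1 = 1 := by simpa using nSL_mul_neg (F := F) (neg_ne_zero.2 one_ne_zero)
  have hno : NoFix F M := fun m hm => by
    obtain ⟨g, x, hx⟩ := hnt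
    let X : AddSubgroup M :=
      { carrier := {m | ∀ g : SL₂, g • m = m}
        zero_mem' := fun g => smul_zero g
        add_mem' := fun {x y} hx hy g => by rw [smul_add, hx, hy]
        neg_mem' := fun {x} hx g => by rw [smul_neg, hx] }
    rcases hirr X (fun g x hx h => by rw [smul_smul, hx]; exact (hx g).symm) with h | h
    · exact (AddSubgroup.mem_bot).1 (h ▸ hm : m ∈ (⊥ : AddSubgroup M))
    · exact absurd ((h ▸ AddSubgroup.mem_top x : x ∈ X) g) hx
  rcases hyp with hq | hc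
  · let S := AddSubgroup.closure {y : M | ∃ (a : F) (m : M), y = (uSL a : SL₂) • m - m}
    have hSW : S ≤ fixU F M := (AddSubgroup.closure_le _).2 (by rintro _ ⟨a, m, rfl⟩ b; exact hq b a m)
    have hS1 : ∀ x ∈ S, (hSL (-1 : F) : SL₂) • x ∈ S := by
      intro x hx
      induction hx using AddSubgroup.closure_induction with
      | mem y hy =>
        obtain ⟨a, m, rfl⟩ := hy
        refine AddSubgroup.subset_closure ⟨a, (hSL (-1 : F) : SL₂) • m, ?_⟩
        rw [smul_sub, smul_smul, smul_smul, hSL_neg_one_comm]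
      | zero => rw [smul_zero]; exact zero_mem _
      | add y z _ _ hy hz => rw [smul_add]; exact add_mem hy hz
      | neg y _ hy => rw [smul_neg]; exact neg_mem hy
    let X := S ⊔ S.map (DistribSMul.toAddMonoidHom M (nSL 1 : SL₂))
    have hmem : ∀ x ∈ X, ∃ s ∈ S, ∃ t ∈ S, x = s + (nSL 1 : SL₂) • t := fun x hx => by
      obtain ⟨s, hs, _, ⟨t, ht, rfl⟩, rfl⟩ := AddSubgroup.mem_sup.1 hx
      exact ⟨s, hs, t, ht, rfl⟩
    have hu : ∀ (a : F), ∀ x ∈ X, (uSL a : SL₂) • x ∈ X := fun a x hx => by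
      obtain ⟨s, hs, t, ht, rfl⟩ := hmem x hx
      have e : (uSL a : SL₂) • (s + (nSL 1 : SL₂) • t) =
          (s + ((uSL a : SL₂) • ((nSL 1 : SL₂) • t) - (nSL 1 : SL₂) • t)) + (nSL 1 : SL₂) • t := by
        rw [smul_add, hSW hs a]; abel
      rw [e]
      exact add_mem (AddSubgroup.mem_sup_left (add_mem hs (AddSubgroup.subset_closure ⟨a, _, rfl⟩)))
        (AddSubgroup.mem_sup_right ⟨t, ht, rfl⟩)
    have hnn : ∀ x ∈ X, (nSL 1 : SL₂) • x ∈ X := fun x hx => by
      obtain ⟨s, hs, t, ht, rfl⟩ := hmem x hx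
      rw [smul_add, smul_smul, nSL_mul_nSL_one one_ne_zero]
      exact add_mem (AddSubgroup.mem_sup_right ⟨s, hs, rfl⟩) (AddSubgroup.mem_sup_left (hS1 t ht))
    have hn' : ∀ x ∈ X, (nSL (-1) : SL₂) • x ∈ X := fun x hx => by
      have e : (nSL (-1 : F) : SL₂) = nSL 1 * nSL 1 * nSL 1 := by
        refine Subtype.ext ?_
        rw [coe_mul, coe_mul, nSL_coe one_ne_zero, nSL_coe (neg_ne_zero.2 one_ne_zero)]
        ext i j
        fin_cases i <;> fin_cases j <;> simp [Matrix.mul_apply, Fin.sum_univ_two]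
      rw [e, mul_smul, mul_smul]
      exact hnn _ (hnn _ (hnn _ hx))
    rcases hirr X (nSL_one_mem hu hnn hn') with hX | hX
    · exfalso
      obtain ⟨g, x, hx⟩ := hnt
      have hu1 : ∀ (a : F) (m : M), (uSL a : SL₂) • m = m := fun a m => by
        have : (uSL a : SL₂) • m - m ∈ X := AddSubgroup.mem_sup_left (AddSubgroup.subset_closure ⟨a, m, rfl⟩)
        rw [hX, AddSubgroup.mem_bot] at this
        exact sub_eq_zero.1 this
      refine hx (smul_eq_self_of_gens (fun a => hu1 a x) ?_ g)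
      have hl : ∀ (a : F) (m : M), (lSL a : SL₂) • m = m := fun a m => by
        have h := nSL_mul_uSL (F := F) one_ne_zero (-a)
        simp only [one_pow, div_one, neg_neg] at h
        have e : (lSL a : SL₂) = nSL 1 * uSL (-a) * nSL (-1) := by
          rw [h, mul_assoc, nSL_mul_neg one_ne_zero, mul_one]
        rw [e, mul_smul, mul_smul, hu1, smul_smul, nSL_mul_neg one_ne_zero, one_smul]
      rw [nSL, mul_smul, mul_smul, hu1, hl, hu1]
    · refine ⟨hno, fun m => ?_, fun v _ a b => hq b a v⟩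
      obtain ⟨s, hs, t, ht, rfl⟩ := hmem m (hX ▸ AddSubgroup.mem_top m)
      exact ⟨s, hSW hs, _, nSL_smul_fixU one_ne_zero (hSW ht), rfl⟩
  · have hfull : ∀ m : M, ∃ w ∈ fixU F M, ∃ v ∈ fixL F M, m = w + v := by
      let f : fixU F M × fixU F M → M := fun q => (q.1 : M) + (nSL 1 : SL₂) • (q.2 : M)
      have hf : Function.Injective f := fun q r h => by
        obtain ⟨e1, e2⟩ := eq_of_sum_eq hno q.1.2 r.1.2 (nSL_smul_fixU one_ne_zero q.2.2)
          (nSL_smul_fixU one_ne_zero r.2.2) h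
        exact Prod.ext (Subtype.ext e1) (Subtype.ext (MulAction.injective _ e2))
      intro m
      obtain ⟨q, hq⟩ := (hf.bijective_of_nat_card_le (by rw [Nat.card_prod, ← pow_two]; exact hc)).2 m
      exact ⟨_, q.1.2, _, nSL_smul_fixU one_ne_zero q.2.2, hq.symm⟩
    let T : AddSubgroup M :=
      { carrier := {v | v ∈ fixL F M ∧ ∀ a : F, (uSL a : SL₂) • v - v ∈ fixU F M}
        zero_mem' := ⟨zero_mem _, fun a => by rw [smul_zero, sub_zero]; exact zero_mem _⟩
        add_mem' := fun {x y} hx hy => ⟨add_mem hx.1 hy.1, fun a => by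
          rw [smul_add, add_sub_add_comm]; exact add_mem (hx.2 a) (hy.2 a)⟩
        neg_mem' := fun {x} hx => ⟨neg_mem hx.1, fun a => by
          rw [smul_neg, neg_sub_neg, ← neg_sub]; exact neg_mem (hx.2 a)⟩ }
    have hT : T ≠ ⊥ := by
      intro hT
      by_cases hW : fixU F M = ⊤
      · obtain ⟨g, x, hx⟩ := hnt
        refine hx ?_
        have hx0 : ∀ m : M, m = 0 := fun m => by
          obtain ⟨-, -, v, hv, -⟩ := hfull m
          have := eq_zero_of_fixed hno (hW ▸ AddSubgroup.mem_top ((nSL 1 : SL₂) • m) : (nSL 1 : SL₂) • m ∈ fixU F M)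
            (nSL_smul_fixU one_ne_zero (hW ▸ AddSubgroup.mem_top m))
          rwa [smul_eq_zero_iff_eq] at this
        rw [hx0 x, smul_zero]
      obtain ⟨m, -, hmW, hm⟩ := exists_fix_mod (isPGroup_mul F p) (fun m => ⟨1, by rw [pow_one]; exact hM m⟩)
        (le_top : fixU F M ≤ ⊤) (fun h => hW (top_le_iff.1 h)) (fun a x hx => by rw [hx a]; exact hx)
        (fun a y _ => AddSubgroup.mem_top _)
      obtain ⟨w, hw, v, hv, rfl⟩ := hfull m
      have hvT : v ∈ T := ⟨hv, fun a => by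
        have := hm a
        rw [smul_add, hw a, add_sub_add_left_eq_sub] at this
        exact this⟩
      rw [hT, AddSubgroup.mem_bot] at hvT
      exact hmW (by rw [hvT, add_zero]; exact hw)
    have hh : ∀ {c : F}, c ≠ 0 → ∀ x ∈ T, (hSL c : SL₂) • x ∈ T := fun {c} hc x hx =>
      ⟨hSL_smul_fixL hc hx.1, fun a => by
        have e := hSL_mul_uSL hc (a / c ^ 2)
        rw [mul_div_cancel₀ a (pow_ne_zero 2 hc)] at e
        rw [smul_smul, ← e, mul_smul, ← smul_sub]
        exact hSL_smul_fixU hc (hx.2 _)⟩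
    let X := T ⊔ T.map (DistribSMul.toAddMonoidHom M (nSL 1 : SL₂))
    have hmem : ∀ x ∈ X, ∃ s ∈ T, ∃ t ∈ T, x = s + (nSL 1 : SL₂) • t := fun x hx => by
      obtain ⟨s, hs, _, ⟨t, ht, rfl⟩, rfl⟩ := AddSubgroup.mem_sup.1 hx
      exact ⟨s, hs, t, ht, rfl⟩
    have hu : ∀ (a : F), ∀ x ∈ X, (uSL a : SL₂) • x ∈ X := fun a x hx => by
      obtain ⟨s, hs, t, ht, rfl⟩ := hmem x hx
      rw [smul_add, nSL_smul_fixL one_ne_zero ht.1 a]
      refine add_mem ?_ (AddSubgroup.mem_sup_right ⟨t, ht, rfl⟩)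
      rcases eq_or_ne a 0 with rfl | ha
      · rw [uSL_zero, one_smul]; exact AddSubgroup.mem_sup_left hs
      have e := uSL_smul_sub hno hs.1 ha (hs.2 a)
      rw [sub_eq_iff_eq_add] at e
      rw [e, nSL_eq ha, mul_smul]
      exact add_mem (AddSubgroup.mem_sup_right ⟨_, hh (inv_ne_zero ha) s hs, rfl⟩) (AddSubgroup.mem_sup_left hs)
    have hn2 : ∀ t ∈ T, (nSL 1 : SL₂) • (nSL 1 : SL₂) • t ∈ T := fun t ht => by
      rw [smul_smul, nSL_mul_nSL_one one_ne_zero]; exact hh (neg_ne_zero.2 one_ne_zero) t ht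
    have hnn : ∀ x ∈ X, (nSL 1 : SL₂) • x ∈ X := fun x hx => by
      obtain ⟨s, hs, t, ht, rfl⟩ := hmem x hx
      rw [smul_add]
      exact add_mem (AddSubgroup.mem_sup_right ⟨s, hs, rfl⟩) (AddSubgroup.mem_sup_left (hn2 t ht))
    have hn' : ∀ x ∈ X, (nSL (-1) : SL₂) • x ∈ X := fun x hx => by
      have e : (nSL (-1 : F) : SL₂) = nSL 1 * nSL 1 * nSL 1 := by
        refine Subtype.ext ?_
        rw [coe_mul, coe_mul, nSL_coe one_ne_zero, nSL_coe (neg_ne_zero.2 one_ne_zero)]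
        ext i j
        fin_cases i <;> fin_cases j <;> simp [Matrix.mul_apply, Fin.sum_univ_two]
      rw [e, mul_smul, mul_smul]
      exact hnn _ (hnn _ (hnn _ hx))
    rcases hirr X (nSL_one_mem hu hnn hn') with hX | hX
    · exact absurd (le_bot_iff.1 (le_sup_left.trans hX.le)) hT
    · refine ⟨hno, hfull, fun v hv => ?_⟩
      obtain ⟨s, hs, t, ht, rfl⟩ := hmem v (hX ▸ AddSubgroup.mem_top v)
      have := eq_of_sum_eq hno (nSL_smul_fixL one_ne_zero ht.1) (zero_mem _) hs.1 hv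
        (by rw [zero_add, add_comm])
      rw [this.1, add_zero]
      exact hs.2

end CfsgLib.LocalEven.SL2Natural
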