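import Cfsg.Agent.Lib.LocalEven.JAbel
import Cfsg.Agent.Lib.LocalEven.CharP
import Cfsg.Agent.Lib.PGroups.Basic

/-!
Products over orbits of an abelian subgroup of largest order on an abelian normal `p`-subgroup.
-/

set_option autoImplicit false

namespace CfsgLib.LocalEven

open Cfsg
open scoped IsMulCommutative

universe u

variable {G : Type u} [Group G] [Finite G] {p : ℕ} [Fact p.Prime]

/-- A subgroup of index `p` above a proper subgroup of an abelian `p`-group, with a transversal. -/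
theorem exists_index_p {A A₀ : Subgroup G} (hA : IsPGroup p A) (h : A₀ < A) :
    ∃ A₁ : Subgroup G, A₀ ≤ A₁ ∧ A₁ ≤ A ∧ Nat.card A = p * Nat.card A₁ ∧ ∃ b ∈ A, b ∉ A₁ ∧
      b ^ p ∈ A₁ ∧ (∀ a ∈ A, ∃ i < p, (b ^ i)⁻¹ * a ∈ A₁) ∧ ∀ i < p, b ^ i ∈ A₁ → i = 0 := by
  classical
  have hp : p.Prime := Fact.out
  have hne : A₀.subgroupOf A ≠ ⊤ := fun e => h.not_ge (Subgroup.subgroupOf_eq_top.1 e)
  obtain ⟨M, hM, hle⟩ := (eq_top_or_exists_le_coatom (A₀.subgroupOf A)).resolve_left hne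
  have hidx := CfsgLib.PGroups.index_eq_of_isCoatom hA hM
  have hn := CfsgLib.PGroups.normal_of_isCoatom hA hM
  obtain ⟨b, -, hb⟩ := SetLike.exists_of_lt hM.1.lt_top
  have hq : Nat.card (A ⧸ M) = p := by rw [← Subgroup.index_eq_card, hidx]
  have hbq : orderOf (b : A ⧸ M) = p :=
    orderOf_eq_prime (by rw [← hq]; exact pow_card_eq_one')
      (fun e => hb ((QuotientGroup.eq_one_iff b).1 e))
  have htop : Subgroup.zpowers (b : A ⧸ M) = ⊤ :=
    Subgroup.eq_top_of_card_eq _ (by rw [Nat.card_zpowers, hbq, hq])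
  refine ⟨M.map A.subtype, fun a ha => ⟨⟨a, h.le ha⟩, hle ha, rfl⟩, Subgroup.map_subtype_le _, ?_,
    b, b.2, fun ⟨c, hc, e⟩ => hb (Subtype.ext e ▸ hc), ?_, fun a ha => ?_, fun i hi hmem => ?_⟩
  · rw [Subgroup.card_map_of_injective A.subtype_injective, ← hidx, mul_comm, Subgroup.card_mul_index]
  · exact ⟨b ^ p, (QuotientGroup.eq_one_iff _).1 (by
      rw [QuotientGroup.mk_pow, ← hbq, pow_orderOf_eq_one]), by simp⟩
  · have hmem : ((⟨a, ha⟩ : A) : A ⧸ M) ∈ Subgroup.zpowers (b : A ⧸ M) := htop ▸ Subgroup.mem_top _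
    rw [← mem_powers_iff_mem_zpowers, mem_powers_iff_mem_range_orderOf, Finset.mem_image] at hmem
    obtain ⟨i, hi, hia⟩ := hmem
    rw [hbq, Finset.mem_range] at hi
    rw [← QuotientGroup.mk_pow] at hia
    exact ⟨i, hi, _, QuotientGroup.eq.1 hia, by simp⟩
  · obtain ⟨c, hc, e⟩ := hmem
    have hbi : (b ^ i : A) ∈ M := by
      have : c = b ^ i := Subtype.ext (by simpa using e)
      exact this ▸ hc
    have := (QuotientGroup.eq_one_iff _).2 hbi
    rw [QuotientGroup.mk_pow, ← orderOf_dvd_iff_pow_eq_one, hbq] at this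
    exact Nat.eq_zero_of_dvd_of_lt this hi

variable (V : Subgroup G) [V.Normal] [IsMulCommutative V]

/-- The orbit of `w` under conjugation by `A`, as a finite set. -/
noncomputable def orb (A : Subgroup G) (w : V) : Finset V :=
  (Set.finite_range fun a : A => MulAut.conjNormal (a : G) w).toFinset

variable {V}

theorem mem_orb {A : Subgroup G} {w u : V} :
    u ∈ orb V A w ↔ ∃ a ∈ A, MulAut.conjNormal a w = u := by
  simp [orb]

theorem mem_orb_self {A : Subgroup G} (w : V) : w ∈ orb V A w :=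
  mem_orb.2 ⟨1, A.one_mem, by simp⟩

theorem conjNormal_mem_orb {A : Subgroup G} {w u : V} {a : G} (ha : a ∈ A) (hu : u ∈ orb V A w) :
    MulAut.conjNormal a u ∈ orb V A w := by
  obtain ⟨c, hc, rfl⟩ := mem_orb.1 hu
  exact mem_orb.2 ⟨a * c, A.mul_mem ha hc, by simp [map_mul]⟩

theorem conjNormal_eq_self_iff {g : G} {w : V} :
    MulAut.conjNormal g w = w ↔ g ∈ Subgroup.centralizer ({(w : G)} : Set G) := by
  rw [Subgroup.mem_centralizer_singleton_iff, Subtype.ext_iff, MulAut.conjNormal_apply,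
    mul_inv_eq_iff_eq_mul]

/-- A product over an invariant set lies in `D` if all orbit products do. -/
theorem prod_mem_of_orbits {A : Subgroup G} {D : Subgroup V} (s : Finset V)
    (hs : ∀ a ∈ A, ∀ w ∈ s, MulAut.conjNormal a w ∈ s)
    (h : ∀ w ∈ s, ∏ u ∈ orb V A w, u ∈ D) : ∏ u ∈ s, u ∈ D := by
  classical
  induction s using Finset.strongInduction with
  | _ s ih =>
    rcases s.eq_empty_or_nonempty with rfl | ⟨w, hw⟩
    · simp
    have hsub : orb V A w ⊆ s := fun u hu => by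
      obtain ⟨a, ha, rfl⟩ := mem_orb.1 hu
      exact hs a ha w hw
    rw [← Finset.prod_sdiff hsub]
    refine D.mul_mem (ih _ (Finset.sdiff_ssubset hsub ⟨w, mem_orb_self w⟩) ?_ ?_) (h w hw)
    · intro a ha u hu
      rw [Finset.mem_sdiff] at hu ⊢
      refine ⟨hs a ha u hu.1, fun hm => hu.2 ?_⟩
      have := conjNormal_mem_orb (A.inv_mem ha) hm
      rwa [← MulAut.mul_apply, ← map_mul, inv_mul_cancel, map_one, MulAut.one_apply] at this
    · exact fun u hu => h u (Finset.mem_sdiff.1 hu).1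

theorem conjNormal_pow_apply {b : G} {u t : V} (hbu : MulAut.conjNormal b u = t * u)
    (hbt : MulAut.conjNormal b t = t) (i : ℕ) :
    MulAut.conjNormal (b ^ i) u = t ^ i * u := by
  induction i with
  | zero => simp
  | succ i ih =>
    rw [pow_succ', map_mul, MulAut.mul_apply, ih, map_mul, map_pow, hbt, hbu, pow_succ]
    rw [← mul_assoc]

theorem prod_conj_range {b : G} {u t : V} (hbu : MulAut.conjNormal b u = t * u)
    (hbt : MulAut.conjNormal b t = t) (n : ℕ) :
    ∏ i ∈ Finset.range n, MulAut.conjNormal (b ^ i) u = t ^ (n * (n - 1) / 2) * u ^ n := by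
  simp_rw [conjNormal_pow_apply hbu hbt]
  rw [Finset.prod_mul_distrib, Finset.prod_pow_eq_pow_sum, Finset.prod_const, Finset.card_range,
    Finset.sum_range_id]

variable {R A : Subgroup G}

theorem conjNormal_prod_orb {A₁ : Subgroup G} {a : G} (ha : a ∈ A₁) (w : V) :
    MulAut.conjNormal a (∏ u ∈ orb V A₁ w, u) = ∏ u ∈ orb V A₁ w, u := by
  classical
  rw [map_prod]
  refine Finset.prod_bij (fun u _ => MulAut.conjNormal a u) (fun u hu => conjNormal_mem_orb ha hu)
    (fun u _ u' _ e => (MulAut.conjNormal a).injective e) (fun u hu => ?_) fun _ _ => rfl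
  exact ⟨_, conjNormal_mem_orb (A₁.inv_mem ha) hu,
    by rw [← MulAut.mul_apply, ← map_mul MulAut.conjNormal, mul_inv_cancel, map_one, MulAut.one_apply]⟩

theorem prod_orb_pow {A₁ : Subgroup G} {w : V} {n : ℕ}
    (hfix : ∀ a ∈ A₁, MulAut.conjNormal a (w ^ n) = w ^ n) :
    (∏ u ∈ orb V A₁ w, u) ^ n = (w ^ n) ^ (orb V A₁ w).card := by
  rw [← Finset.prod_pow]
  refine Finset.prod_eq_pow_card fun u hu => ?_
  obtain ⟨a, ha, rfl⟩ := mem_orb.1 hu
  rw [← map_pow, hfix a ha]

/-- The orbit under `A` is the union of the translates of an orbit under a subgroup of index `p`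
containing the stabilizer. -/
theorem prod_orb_eq {A₁ : Subgroup G} {b : G} {w : V} (hc : IsMulCommutative A) (hA₁ : A₁ ≤ A)
    (hstab : A ⊓ Subgroup.centralizer ({(w : G)} : Set G) ≤ A₁) (hb : b ∈ A)
    (hcov : ∀ a ∈ A, ∃ i < p, (b ^ i)⁻¹ * a ∈ A₁) (hfree : ∀ i < p, b ^ i ∈ A₁ → i = 0) :
    ∏ u ∈ orb V A w, u =
      ∏ i ∈ Finset.range p, MulAut.conjNormal (b ^ i) (∏ u ∈ orb V A₁ w, u) := by
  classical
  simp_rw [map_prod]
  have heq : orb V A w =
      (Finset.range p).biUnion fun i => (orb V A₁ w).image (MulAut.conjNormal (b ^ i)) := by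
    ext u
    simp only [Finset.mem_biUnion, Finset.mem_range, Finset.mem_image]
    constructor
    · intro hu
      obtain ⟨a, ha, rfl⟩ := mem_orb.1 hu
      obtain ⟨i, hi, h1⟩ := hcov a ha
      exact ⟨i, hi, _, mem_orb.2 ⟨_, h1, rfl⟩,
        by rw [← MulAut.mul_apply, ← map_mul MulAut.conjNormal, mul_inv_cancel_left]⟩
    · rintro ⟨i, -, v, hv, rfl⟩
      obtain ⟨a, ha, rfl⟩ := mem_orb.1 hv
      exact mem_orb.2 ⟨_, A.mul_mem (A.pow_mem hb i) (hA₁ ha), by rw [map_mul, MulAut.mul_apply]⟩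
  rw [heq, Finset.prod_biUnion, Finset.prod_congr rfl fun i _ => ?_]
  · rw [Finset.prod_image fun x _ y _ e => (MulAut.conjNormal (b ^ i)).injective e]
  intro i hi j hj hij
  rw [Function.onFun, Finset.disjoint_left]
  intro u hu hu'
  simp only [Finset.mem_image] at hu hu'
  obtain ⟨v, hv, rfl⟩ := hu
  obtain ⟨v', hv', e⟩ := hu'
  obtain ⟨a, ha, rfl⟩ := mem_orb.1 hv
  obtain ⟨a', ha', rfl⟩ := mem_orb.1 hv'
  simp only [Finset.coe_range, Set.mem_Iio] at hi hj
  refine hij ?_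
  have hmem : (b ^ i * a)⁻¹ * (b ^ j * a') ∈ A₁ := by
    refine hstab ⟨A.mul_mem (A.inv_mem (A.mul_mem (A.pow_mem hb i) (hA₁ ha)))
      (A.mul_mem (A.pow_mem hb j) (hA₁ ha')), conjNormal_eq_self_iff.1 ?_⟩
    rw [map_mul MulAut.conjNormal _ (b ^ j * a'), MulAut.mul_apply,
      map_mul MulAut.conjNormal (b ^ j) a', MulAut.mul_apply, e,
      ← MulAut.mul_apply, ← map_mul MulAut.conjNormal, ← MulAut.mul_apply,
      ← map_mul MulAut.conjNormal, mul_assoc _ (b ^ i) a, inv_mul_cancel, map_one, MulAut.one_apply]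
  have h2 : (b ^ i)⁻¹ * b ^ j ∈ A₁ := by
    have h := A₁.mul_mem (A₁.mul_mem ha hmem) (A₁.inv_mem ha')
    rwa [show a * ((b ^ i * a)⁻¹ * (b ^ j * a')) * a'⁻¹ = (b ^ i)⁻¹ * b ^ j by group] at h
  rcases Nat.le_total i j with hle | hle
  · rw [show b ^ j = b ^ i * b ^ (j - i) by rw [← pow_add, Nat.add_sub_cancel' hle],
      inv_mul_cancel_left] at h2
    have := hfree (j - i) (lt_of_le_of_lt (Nat.sub_le j i) hj) h2
    omega
  · have h3 := A₁.inv_mem h2
    rw [mul_inv_rev, inv_inv, show b ^ i = b ^ j * b ^ (i - j) by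
      rw [← pow_add, Nat.add_sub_cancel' hle], inv_mul_cancel_left] at h3
    have := hfree (i - j) (lt_of_le_of_lt (Nat.sub_le i j) hi) h3
    omega

omit [Fact p.Prime] in
theorem mem_centralizer_of_conjNormal {A₁ : Subgroup G} {v : V}
    (h : ∀ a ∈ A₁, MulAut.conjNormal a v = v) : (v : G) ∈ Subgroup.centralizer (A₁ : Set G) :=
  fun a ha => Subgroup.mem_centralizer_singleton_iff.1 (conjNormal_eq_self_iff.1 (h a ha))

/-- In the top step of an orbit product the correction term is `b`-fixed and of order `p`. -/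
theorem step_commutator (hA : A ∈ maxAb R) (hRp : IsPGroup p R) (hVR : V ≤ R)
    {A₁ : Subgroup G} (hA₁ : A₁ ≤ A) (hcard : Nat.card A = p * Nat.card A₁) {b : G} (hb : b ∈ A)
    (hcov : ∀ a ∈ A, ∃ i < p, (b ^ i)⁻¹ * a ∈ A₁) {u : V}
    (hu : ∀ a ∈ A₁, MulAut.conjNormal a u = u) :
    MulAut.conjNormal b (MulAut.conjNormal b u * u⁻¹) = MulAut.conjNormal b u * u⁻¹ ∧
      (MulAut.conjNormal b u * u⁻¹) ^ p = 1 := by
  have hp : p.Prime := Fact.out
  obtain ⟨hAR, hc, -⟩ := mem_maxAb.1 hA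
  set C := V ⊓ Subgroup.centralizer (A : Set G)
  set U₁ := V ⊓ Subgroup.centralizer (A₁ : Set G)
  have hU : Nat.card U₁ ≤ p * Nat.card C := by
    have := card_offender hA ‹IsMulCommutative V› hVR hA₁
    rw [hcard, mul_comm p, mul_assoc] at this
    exact Nat.le_of_mul_le_mul_left this Nat.card_pos
  let ψ : V →* V := MonoidHom.mk' (fun v => MulAut.conjNormal b v * v⁻¹) fun x y => by
    rw [map_mul, mul_inv, mul_mul_mul_comm]
  set Us : Subgroup V := U₁.subgroupOf V
  set I := Us.map ψ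
  have hker : Nat.card ↥(ψ.ker.subgroupOf Us) ≤ Nat.card C := by
    refine Nat.card_le_card_of_injective
      (fun v => (⟨(((v : Us) : V) : G), ⟨(v : Us).1.2, ?_⟩⟩ : C))
      fun x y e => Subtype.ext (Subtype.ext (Subtype.ext (congrArg (Subtype.val : C → G) e)))
    have hv : MulAut.conjNormal b ((v : Us) : V) = (v : Us) := mul_inv_eq_one.1 v.2
    have hv1 : ((v : Us) : V).1 ∈ Subgroup.centralizer (A₁ : Set G) := (v : Us).2.2
    refine mem_centralizer_of_conjNormal fun a ha => ?_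
    obtain ⟨i, -, h1⟩ := hcov a ha
    have h2 : MulAut.conjNormal ((b ^ i)⁻¹ * a) ((v : Us) : V) = (v : Us) :=
      conjNormal_eq_self_iff.2 (Subgroup.mem_centralizer_singleton_iff.2 (hv1 _ h1))
    have h3 : ∀ k : ℕ, MulAut.conjNormal (b ^ k) ((v : Us) : V) = (v : Us) := by
      intro k
      induction k with
      | zero => simp
      | succ k ih => rw [pow_succ, map_mul, MulAut.mul_apply, hv, ih]
    rw [show a = b ^ i * ((b ^ i)⁻¹ * a) by group, map_mul, MulAut.mul_apply, h2, h3]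
  have hI : Nat.card I ≤ p := by
    have h1 : Nat.card ↥(ψ.ker.subgroupOf Us) * Nat.card I = Nat.card Us := by
      have h2 := Subgroup.card_mul_index (ψ.comp Us.subtype).ker
      rw [Subgroup.index_ker, MonoidHom.range_comp, Subgroup.range_subtype, ← MonoidHom.comap_ker] at h2
      exact h2
    have h3 : Nat.card Us = Nat.card U₁ :=
      Nat.card_congr (Subgroup.subgroupOfEquivOfLe inf_le_left).toEquiv
    have h4 : Nat.card U₁ = Nat.card C * (Nat.card U₁ / Nat.card C) :=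
      (Nat.mul_div_cancel' (Subgroup.card_dvd_of_le (inf_le_inf_left _
        (Subgroup.centralizer_le (SetLike.coe_subset_coe.2 hA₁))))).symm
    have hCker : Nat.card C ≤ Nat.card ↥(ψ.ker.subgroupOf Us) := by
      refine Nat.card_le_card_of_injective (fun v : C =>
        (⟨⟨⟨v.1, v.2.1⟩, ⟨v.2.1, Subgroup.centralizer_le (SetLike.coe_subset_coe.2 hA₁) v.2.2⟩⟩,
          ?_⟩ : ψ.ker.subgroupOf Us)) fun x y e => ?_
      · rw [Subgroup.mem_subgroupOf, MonoidHom.mem_ker]
        show MulAut.conjNormal b (⟨v.1, v.2.1⟩ : V) * (⟨v.1, v.2.1⟩ : V)⁻¹ = 1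
        rw [mul_inv_eq_one]
        exact conjNormal_eq_self_iff.2 (Subgroup.mem_centralizer_singleton_iff.2 (v.2.2 b hb))
      · exact Subtype.ext (congrArg (fun z : ψ.ker.subgroupOf Us => ((z.1 : V) : G)) e)
    refine Nat.le_of_mul_le_mul_left ?_ (Nat.card_pos (α := C))
    calc Nat.card C * Nat.card I ≤ Nat.card ↥(ψ.ker.subgroupOf Us) * Nat.card I :=
          Nat.mul_le_mul_right _ hCker
      _ = Nat.card U₁ := h1.trans h3
      _ ≤ Nat.card C * p := by rw [mul_comm]; exact hU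
  set t : V := MulAut.conjNormal b u * u⁻¹
  have htI : t ∈ I := ⟨u, ⟨u.2, mem_centralizer_of_conjNormal hu⟩, rfl⟩
  have hVp : IsPGroup p V := hRp.to_le hVR
  by_cases ht : t = 1
  · rw [ht]; simp
  obtain ⟨k, hk⟩ := IsPGroup.iff_card.1 (hVp.to_subgroup I)
  have hIp : Nat.card I = p := by
    rcases k with _ | _ | k
    · rw [pow_zero] at hk
      exact absurd (Subgroup.mem_bot.1 (Subgroup.eq_bot_of_card_eq I hk ▸ htI)) ht
    · simpa using hk
    · exfalso
      have : p < Nat.card I := hk ▸ lt_self_pow₀ hp.one_lt (by omega)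
      omega
  have htp : t ^ p = 1 := by
    have h0 : (⟨t, htI⟩ : I) ^ Nat.card I = 1 := pow_card_eq_one'
    rw [hIp] at h0
    simpa using congrArg Subtype.val h0
  refine ⟨?_, htp⟩
  -- `A` normalizes the image and so centralizes it
  set IG := I.map V.subtype
  have hIn : A ≤ Subgroup.normalizer (IG : Set G) := by
    intro a ha
    refine mem_normalizer_of_conj (Subgroup.eq_of_le_of_card_ge ?_
      (le_of_eq (Subgroup.card_map_of_injective (MulAut.conj a).injective).symm))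
    rintro _ ⟨_, ⟨_, ⟨v, hv, rfl⟩, rfl⟩, rfl⟩
    refine ⟨ψ (MulAut.conjNormal a v), ⟨_, ⟨(MulAut.conjNormal a v).2, ?_⟩, rfl⟩, ?_⟩
    · intro c hc'
      have h1 : c * a = a * c := le_centralizer_of_isMulCommutative hc ha c (hA₁ hc')
      have h2 := hv.2 c hc'
      simp only [Subgroup.subtype_apply, MulAut.conjNormal_apply]
      calc c * (a * (v : G) * a⁻¹) = a * (c * (v : G)) * a⁻¹ := by simp only [← mul_assoc, h1]
        _ = a * ((v : G) * c) * a⁻¹ := by rw [show c * (v : G) = (v : G) * c from h2]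
        _ = a * (v : G) * a⁻¹ * c := by
          have h3 : c * a⁻¹ = a⁻¹ * c := le_centralizer_of_isMulCommutative hc (A.inv_mem ha) c (hA₁ hc')
          simp only [mul_assoc, h3]
    · have h1 : b * a = a * b := le_centralizer_of_isMulCommutative hc ha b hb
      have hh : MulAut.conjNormal b (MulAut.conjNormal a v) * (MulAut.conjNormal a v)⁻¹ =
          MulAut.conjNormal a (MulAut.conjNormal b v * v⁻¹) := by
        rw [map_mul (MulAut.conjNormal a), map_inv, ← MulAut.mul_apply, ← map_mul MulAut.conjNormal,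
          h1, map_mul MulAut.conjNormal, MulAut.mul_apply]
      exact congrArg Subtype.val hh
  have hIGp : IsPGroup p IG := (hVp.to_subgroup I).map _
  obtain ⟨z, hz, hzp, hzc⟩ := exists_orderOf_eq_prime_central
    ((hRp.to_le hAR).to_sup_of_normal_right' hIGp hIn) (le_sup_right : IG ≤ A ⊔ IG)
    (sup_le hIn Subgroup.le_normalizer) (fun e => ht (by
      have : (t : G) ∈ IG := ⟨t, htI, rfl⟩
      rw [e, Subgroup.mem_bot] at this
      exact Subtype.ext this))
  have hgen : Subgroup.zpowers z = IG := Subgroup.eq_of_le_of_card_ge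
    (Subgroup.zpowers_le.2 hz) (le_of_eq (by
      rw [Nat.card_zpowers, hzp, Subgroup.card_map_of_injective V.subtype_injective, hIp]))
  obtain ⟨j, hj⟩ := Subgroup.mem_zpowers_iff.1
    (hgen.ge (⟨t, htI, rfl⟩ : (t : G) ∈ IG))
  refine conjNormal_eq_self_iff.2 (Subgroup.mem_centralizer_singleton_iff.2 ?_)
  rw [← hj]
  exact (Commute.zpow_right (show Commute b z from
    Subgroup.mem_centralizer_singleton_iff.1 (hzc ((le_sup_left : A ≤ A ⊔ IG) hb))) j).eq

/-- The product over a moved orbit, first step. -/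
theorem orbit_step (hA : A ∈ maxAb R) (hRp : IsPGroup p R) (hVR : V ≤ R) {w : V}
    (hw : ¬ A ≤ Subgroup.centralizer ({(w : G)} : Set G)) :
    ∃ (A₁ : Subgroup G) (b : G) (t : V), A ⊓ Subgroup.centralizer ({(w : G)} : Set G) ≤ A₁ ∧
      A₁ ≤ A ∧ Nat.card A = p * Nat.card A₁ ∧ b ∈ A ∧ b ∉ A₁ ∧ b ^ p ∈ A₁ ∧
      (∀ a ∈ A, ∃ i < p, (b ^ i)⁻¹ * a ∈ A₁) ∧
      t = MulAut.conjNormal b (∏ u ∈ orb V A₁ w, u) * (∏ u ∈ orb V A₁ w, u)⁻¹ ∧ t ^ p = 1 ∧
      (p ≠ 2 → ∏ u ∈ orb V A w, u = (∏ u ∈ orb V A₁ w, u) ^ p) ∧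
      (p = 2 → ∏ u ∈ orb V A w, u = t * (∏ u ∈ orb V A₁ w, u) ^ p) := by
  have hp : p.Prime := Fact.out
  obtain ⟨hAR, hc, -⟩ := mem_maxAb.1 hA
  obtain ⟨A₁, h0, h1, hcard, b, hb, hb1, hbp, hcov, hfree⟩ := exists_index_p (hRp.to_le hAR)
    (show A ⊓ Subgroup.centralizer ({(w : G)} : Set G) < A from
      lt_of_le_of_ne inf_le_left fun e => hw (e.ge.trans inf_le_right))
  obtain ⟨hfix, htp⟩ := step_commutator hA hRp hVR h1 hcard hb hcov
    (u := ∏ u ∈ orb V A₁ w, u) fun a ha => conjNormal_prod_orb ha w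
  set P := ∏ u ∈ orb V A₁ w, u
  set t := MulAut.conjNormal b P * P⁻¹
  have hprod : ∏ u ∈ orb V A w, u = t ^ (p * (p - 1) / 2) * P ^ p := by
    rw [prod_orb_eq hc h1 h0 hb hcov hfree]
    exact prod_conj_range (inv_mul_cancel_right (MulAut.conjNormal b P) P).symm hfix p
  refine ⟨A₁, b, t, h0, h1, hcard, hb, hb1, hbp, hcov, rfl, htp, fun hne => ?_, fun h2 => ?_⟩
  · have hdvd : p ∣ p * (p - 1) / 2 := by
      obtain ⟨k, hk⟩ := hp.odd_of_ne_two hne
      refine ⟨k, ?_⟩
      rw [hk, Nat.add_sub_cancel, show (2 * k + 1) * (2 * k) = (2 * k + 1) * k * 2 by ring,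
        Nat.mul_div_cancel _ (by norm_num)]
    obtain ⟨k, hk⟩ := hdvd
    rw [hprod, hk, pow_mul, htp, one_pow, one_mul]
  · rw [hprod, h2]; norm_num; rfl

/-- The product over a moved orbit when the `p`-th power of `w` is central. -/
theorem orbit_prod (hA : A ∈ maxAb R) (hRp : IsPGroup p R) (hVR : V ≤ R) {w : V}
    (hw : ¬ A ≤ Subgroup.centralizer ({(w : G)} : Set G))
    (hcent : ∀ g : G, MulAut.conjNormal g (w ^ p) = w ^ p) :
    (∏ u ∈ orb V A w, u ∈ Subgroup.zpowers (w ^ p)) ∨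
      (p = 2 ∧ Nat.card A = 2 * Nat.card ↥(A ⊓ Subgroup.centralizer ({(w : G)} : Set G))) := by
  have hp : p.Prime := Fact.out
  obtain ⟨hAR, hc, -⟩ := mem_maxAb.1 hA
  obtain ⟨A₁, b, t, h0, h1, hcard, hb, hb1, hbp, hcov, ht, htp, hodd, heven⟩ :=
    orbit_step hA hRp hVR hw
  have hpow : ∀ (X : Subgroup G) (n : ℕ), ((∏ u ∈ orb V X w, u) ^ p) ^ n ∈ Subgroup.zpowers (w ^ p) :=
    fun X n => by
      rw [prod_orb_pow fun a _ => hcent a]
      exact Subgroup.pow_mem _ (Subgroup.pow_mem _ (Subgroup.mem_zpowers _) _) _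
  by_cases h2 : p = 2
  swap
  · left; rw [hodd h2]; simpa using hpow A₁ 1
  subst h2
  by_cases heq : A₁ = A ⊓ Subgroup.centralizer ({(w : G)} : Set G)
  · exact Or.inr ⟨rfl, heq ▸ hcard⟩
  left
  have ht1 : t = 1 := by
    -- a second step
    obtain ⟨A₂, g0, g1, gcard, c, hcA₁, hc1, hcp, gcov, gfree⟩ := exists_index_p
      ((hRp.to_le hAR).to_le h1) (lt_of_le_of_ne h0 (Ne.symm heq))
    set u := ∏ v ∈ orb V A₂ w, v with hu
    have hw' : A₁ ⊓ Subgroup.centralizer ({(w : G)} : Set G) ≤ A₂ :=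
      le_trans (inf_le_inf_right _ h1) g0
    have hdec : ∏ v ∈ orb V A₁ w, v = u * MulAut.conjNormal c u := by
      rw [prod_orb_eq (p := 2) (isMulCommutative_of_le_centralizer
        ((h1.trans (le_centralizer_of_isMulCommutative hc)).trans
          (Subgroup.centralizer_le (SetLike.coe_subset_coe.2 h1)))) g1 hw' hcA₁ gcov gfree]
      simp [Finset.prod_range_succ, u]
    have hu2 : ∀ g : G, MulAut.conjNormal g (u ^ 2) = u ^ 2 := fun g => by
      rw [hu, prod_orb_pow fun a _ => hcent a, map_pow, hcent]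
    set t₁ := MulAut.conjNormal c u * u⁻¹ with ht₁
    have hcu : MulAut.conjNormal c u = t₁ * u := (inv_mul_cancel_right _ u).symm
    have ht₁2 : t₁ ^ 2 = 1 := by rw [mul_pow, ← map_pow, hu2, inv_pow, mul_inv_cancel]
    have hfix2 : ∀ a ∈ A₂, MulAut.conjNormal a u = u := fun a ha => conjNormal_prod_orb ha w
    have hct : MulAut.conjNormal c t₁ = t₁ := by
      rw [ht₁, map_mul, map_inv, ← MulAut.mul_apply, ← map_mul MulAut.conjNormal, ← pow_two, hfix2 _ hcp, ← ht₁]
      have h3 : t₁⁻¹ = t₁ := inv_eq_of_mul_eq_one_right (by rw [← pow_two, ht₁2])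
      rw [← h3, ht₁, mul_inv, inv_inv, mul_comm]
    have hA₁fix : ∀ a ∈ A₁, MulAut.conjNormal a t₁ = t₁ := by
      intro a ha
      obtain ⟨i, -, h4⟩ := gcov a ha
      have hA2t : MulAut.conjNormal ((c ^ i)⁻¹ * a) t₁ = t₁ := by
        have hcomm : (c ^ i)⁻¹ * a * c = c * ((c ^ i)⁻¹ * a) :=
          (le_centralizer_of_isMulCommutative hc (h1 hcA₁) _ (h1 (g1 h4)))
        rw [ht₁, map_mul, map_inv, ← MulAut.mul_apply, ← map_mul MulAut.conjNormal, hcomm, map_mul, MulAut.mul_apply,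
          hfix2 _ h4]
      have hci : ∀ k : ℕ, MulAut.conjNormal (c ^ k) t₁ = t₁ := by
        intro k
        induction k with
        | zero => simp
        | succ k ih => rw [pow_succ, map_mul MulAut.conjNormal, MulAut.mul_apply, hct, ih]
      rw [show a = c ^ i * ((c ^ i)⁻¹ * a) by group, map_mul MulAut.conjNormal, MulAut.mul_apply, hA2t, hci]
    have htt : t = MulAut.conjNormal b t₁ * t₁⁻¹ := by
      rw [ht, hdec, hcu, show u * (t₁ * u) = u ^ 2 * t₁ by
        rw [pow_two, mul_left_comm, mul_comm], map_mul, hu2, mul_inv]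
      rw [mul_mul_mul_comm, mul_inv_cancel, one_mul]
    rw [htt, mul_inv_eq_one]
    by_contra hbt
    set C := V ⊓ Subgroup.centralizer (A : Set G)
    set U₁ := V ⊓ Subgroup.centralizer (A₁ : Set G)
    set U₂ := V ⊓ Subgroup.centralizer (A₂ : Set G)
    have hCU : C ≤ U₁ := inf_le_inf_left _ (Subgroup.centralizer_le (SetLike.coe_subset_coe.2 h1))
    have hU12 : U₁ ≤ U₂ := inf_le_inf_left _ (Subgroup.centralizer_le (SetLike.coe_subset_coe.2 g1))
    have hCne : C < U₁ := lt_of_le_of_ne hCU fun e => hbt (conjNormal_eq_self_iff.2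
      (Subgroup.mem_centralizer_singleton_iff.2
        ((e.ge ⟨t₁.2, mem_centralizer_of_conjNormal hA₁fix⟩).2 b hb)))
    have h2C : 2 * Nat.card C ≤ Nat.card U₁ := by
      have hl : Nat.card C < Nat.card U₁ :=
        lt_of_le_of_ne (Subgroup.card_le_of_le hCU) fun e =>
          hCne.ne (Subgroup.eq_of_le_of_card_ge hCU e.ge)
      obtain ⟨m, hm⟩ := Subgroup.card_dvd_of_le hCU
      rw [hm] at hl ⊢
      rcases m with _ | _ | m
      · simp at hl
      · simp at hl
      · rw [mul_comm 2]; exact Nat.mul_le_mul_left _ (by omega)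
    have h4C : Nat.card U₂ ≤ 4 * Nat.card C := by
      have := card_offender hA ‹IsMulCommutative V› hVR (g1.trans h1)
      rw [hcard, gcard, show 2 * (2 * Nat.card A₂) * Nat.card C = Nat.card A₂ * (4 * Nat.card C) by
        ring] at this
      exact Nat.le_of_mul_le_mul_left this Nat.card_pos
    have hidx : U₁.relIndex U₂ ≤ 2 := by
      have h5 := Subgroup.relIndex_mul_relIndex ⊥ U₁ U₂ bot_le hU12
      rw [Subgroup.relIndex_bot_left, Subgroup.relIndex_bot_left] at h5
      by_contra h6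
      have h7 : Nat.card U₁ * 3 ≤ Nat.card U₂ := by rw [← h5]; exact Nat.mul_le_mul_left _ (by omega)
      have h8 : 0 < Nat.card U₁ := Nat.card_pos
      omega
    -- `b` moves `u` inside `U₁`
    have hbu₂ : (MulAut.conjNormal b u : G) ∈ U₂ := by
      refine ⟨(MulAut.conjNormal b u).2, mem_centralizer_of_conjNormal fun a ha => ?_⟩
      rw [← MulAut.mul_apply, ← map_mul MulAut.conjNormal,
        le_centralizer_of_isMulCommutative hc hb a (h1 (g1 ha)), map_mul, MulAut.mul_apply, hfix2 a ha]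
    have hs : ((MulAut.conjNormal b u * u⁻¹ : V) : G) ∈ U₁ := by
      have hiff : ((MulAut.conjNormal b u : V) : G) ∈ U₁ ↔ (u : G) ∈ U₁ := by
        constructor <;> intro h <;> refine ⟨SetLike.coe_mem _, mem_centralizer_of_conjNormal fun a ha => ?_⟩
        · have := conjNormal_eq_self_iff.2 (Subgroup.mem_centralizer_singleton_iff.2 (h.2 a ha))
          rw [← MulAut.mul_apply, ← map_mul MulAut.conjNormal, le_centralizer_of_isMulCommutative hc hb a (h1 ha),
            map_mul, MulAut.mul_apply] at this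
          exact (MulAut.conjNormal b).injective this
        · rw [← MulAut.mul_apply, ← map_mul MulAut.conjNormal, le_centralizer_of_isMulCommutative hc hb a (h1 ha),
            map_mul, MulAut.mul_apply,
            conjNormal_eq_self_iff.2 (Subgroup.mem_centralizer_singleton_iff.2 (h.2 a ha))]
      have hu₂ : (u : G) ∈ U₂ := ⟨u.2, mem_centralizer_of_conjNormal hfix2⟩
      by_cases hu1 : (u : G) ∈ U₁
      · exact U₁.mul_mem (hiff.2 hu1) (U₁.inv_mem hu1)
      have h2 : (U₁.subgroupOf U₂).index = 2 := by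
        refine le_antisymm hidx ?_
        by_contra h6
        have h7 : (U₁.subgroupOf U₂).index ≠ 0 := Subgroup.index_ne_zero_of_finite
        have h9 : (U₁.subgroupOf U₂).index = 1 := by omega
        exact hu1 (Subgroup.mem_subgroupOf.1
          (show (⟨u, hu₂⟩ : U₂) ∈ U₁.subgroupOf U₂ from Subgroup.index_eq_one.1 h9 ▸ Subgroup.mem_top _))
      exact (Subgroup.mul_mem_iff_of_index_two h2 (a := ⟨_, hbu₂⟩) (b := (⟨u, hu₂⟩ : U₂)⁻¹)).2
        (by simp only [Subgroup.mem_subgroupOf, inv_mem_iff]; exact hiff)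
    set s := MulAut.conjNormal b u * u⁻¹ with hsdef
    have hbu : MulAut.conjNormal b u = s * u := (inv_mul_cancel_right _ u).symm
    have hcs : MulAut.conjNormal c s = s := conjNormal_eq_self_iff.2
      (Subgroup.mem_centralizer_singleton_iff.2 (hs.2 c hcA₁))
    have h6 : MulAut.conjNormal b (MulAut.conjNormal c u) = MulAut.conjNormal c (MulAut.conjNormal b u) := by
      rw [← MulAut.mul_apply, ← map_mul MulAut.conjNormal, ← MulAut.mul_apply, ← map_mul,
        le_centralizer_of_isMulCommutative hc (h1 hcA₁) b hb]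
    rw [hcu, map_mul (MulAut.conjNormal b) t₁ u, hbu, map_mul (MulAut.conjNormal c) s u, hcs, hcu,
      mul_left_comm s t₁ u] at h6
    exact hbt (mul_right_cancel h6)
  rw [heven rfl, ht1, one_mul]
  simpa using hpow A₁ 1

/-- The square of the product over a moved orbit, for `p = 2`. -/
theorem orbit_prod_sq (hA : A ∈ maxAb R) (hRp : IsPGroup p R) (hp2 : p = 2) (hVR : V ≤ R) {w : V}
    (hw : ¬ A ≤ Subgroup.centralizer ({(w : G)} : Set G))
    (hcent : ∀ g : G, MulAut.conjNormal g (w ^ 4) = w ^ 4) :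
    (∏ u ∈ orb V A w, u) ^ 2 ∈ Subgroup.zpowers (w ^ 4) := by
  obtain ⟨A₁, b, t, -, -, -, -, -, -, -, -, htp, -, heven⟩ := orbit_step hA hRp hVR hw
  rw [heven hp2, mul_pow, ← pow_mul, hp2]
  rw [hp2] at htp
  rw [htp, one_mul, show 2 * 2 = 4 from rfl, prod_orb_pow fun a _ => hcent a]
  exact Subgroup.pow_mem _ (Subgroup.mem_zpowers _) _

end CfsgLib.LocalEven
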