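import Mathlib
import Cfsg.Agent.Lib.Components.Basic
import Cfsg.Agent.Lib.Chars.Burnside

/-!
# Offenders and components: the general setting

An elementary abelian `p`-group `A` acting, together with a quasisimple subgroup `K` which commutes
with its conjugates under `A`, on a vector space over `ZMod p`.
-/

set_option autoImplicit false
set_option linter.unusedSectionVars false

namespace CfsgLib.PGV

open Cfsg
open scoped commutatorElement

variable {G : Type*} [Group G] [Finite G] {p : ℕ} [Fact p.Prime]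
variable {W : Type*} [AddCommGroup W] [Module (ZMod p) W]

/-- `σ a - 1` -/
abbrev dl (σ : G →* Module.End (ZMod p) W) (a : G) : Module.End (ZMod p) W := σ a - 1

structure Setting (σ : G →* Module.End (ZMod p) W) (A K : Subgroup G) : Prop where
  commA : ∀ a ∈ A, ∀ b ∈ A, Commute a b
  powA : ∀ a ∈ A, a ^ p = 1
  qs : IsQuasisimple K
  dist : ∀ a ∈ A, a ∉ Subgroup.normalizer (K : Set G) → ∀ k ∈ K, ∀ z ∈ K,
    Commute k (a * z * a⁻¹)
  nt : ∃ k ∈ K, σ k ≠ 1

namespace Setting

variable {σ : G →* Module.End (ZMod p) W} {A K : Subgroup G}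

/-- A property closed under products, conjugation and true at a noncentral element holds on `K`. -/
theorem forall_of_noncentral (h : Setting σ A K) (P : G → Prop) (h1 : P 1)
    (hmul : ∀ x ∈ K, ∀ y ∈ K, P x → P y → P (x * y))
    (hconj : ∀ x ∈ K, ∀ z ∈ K, P x → P (z * x * z⁻¹))
    {k : G} (hk : k ∈ K) (hPk : P k) (hnc : ¬ ∀ z ∈ K, k * z = z * k) : ∀ x ∈ K, P x := by
  let S : Submonoid ↥K :=
    { carrier := {x | P x}
      one_mem' := h1
      mul_mem' := fun {a b} ha hb => hmul a a.2 b b.2 ha hb }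
  let T : Subgroup ↥K :=
    { S with
      inv_mem' := fun {a} ha => by
        have hmem : a ^ (orderOf a - 1) ∈ S := S.pow_mem ha _
        have he : a⁻¹ = a ^ (orderOf a - 1) := by
          have hpos := orderOf_pos a
          refine inv_eq_of_mul_eq_one_right ?_
          rw [← pow_succ', Nat.sub_add_cancel hpos, pow_orderOf_eq_one]
        rw [he]
        exact hmem }
  haveI : T.Normal := ⟨fun x hx z => hconj x x.2 z z.2 hx⟩
  rcases CfsgLib.Components.quasisimple_normal_eq_top_or_le_center h.qs T with ht | ht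
  · intro x hx
    have : (⟨x, hx⟩ : ↥K) ∈ T := by rw [ht]; trivial
    exact this
  · refine absurd (fun z hz => ?_) hnc
    have := Subgroup.mem_center_iff.1 (ht (x := ⟨k, hk⟩) hPk) ⟨z, hz⟩
    exact (congrArg Subtype.val this).symm

/-- A property closed under products, inverses and true on commutators holds on `K`. -/
theorem forall_of_commutator (h : Setting σ A K) (P : G → Prop) (h1 : P 1)
    (hmul : ∀ x ∈ K, ∀ y ∈ K, P x → P y → P (x * y))
    (hcomm : ∀ x ∈ K, ∀ y ∈ K, P ⁅x, y⁆) : ∀ x ∈ K, P x := by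
  let S : Submonoid ↥K :=
    { carrier := {x | P x}
      one_mem' := h1
      mul_mem' := fun {a b} ha hb => hmul a a.2 b b.2 ha hb }
  let T : Subgroup ↥K :=
    { S with
      inv_mem' := fun {a} ha => by
        have hmem : a ^ (orderOf a - 1) ∈ S := S.pow_mem ha _
        have he : a⁻¹ = a ^ (orderOf a - 1) := by
          have hpos := orderOf_pos a
          refine inv_eq_of_mul_eq_one_right ?_
          rw [← pow_succ', Nat.sub_add_cancel hpos, pow_orderOf_eq_one]
        rw [he]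
        exact hmem }
  have hp := h.qs.1
  have hT : (⊤ : Subgroup ↥K) ≤ T := by
    rw [← Group.IsPerfect.commutator_eq_top (G := ↥K), commutator_def, Subgroup.commutator_le]
    intro x _ y _
    show P ((⁅x, y⁆ : ↥K) : G)
    have he : ((⁅x, y⁆ : ↥K) : G) = ⁅(x : G), (y : G)⁆ := by
      simp [commutatorElement_def]
    rw [he]
    exact hcomm x x.2 y y.2
  intro x hx
  exact hT (Subgroup.mem_top (⟨x, hx⟩ : ↥K))

/-- An additive function on a perfect group with values in an abelian group vanishes. -/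
theorem additive_eq_zero (h : Setting σ A K) {B : Type*} [AddCommGroup B] (f : G → B)
    (hadd : ∀ x ∈ K, ∀ y ∈ K, f (x * y) = f x + f y) : ∀ x ∈ K, f x = 0 := by
  have h1 : f 1 = 0 := by
    have := hadd 1 K.one_mem 1 K.one_mem
    rw [mul_one] at this
    exact left_eq_add.1 this
  have hinv : ∀ x ∈ K, f x⁻¹ = - f x := by
    intro x hx
    have := hadd x hx x⁻¹ (K.inv_mem hx)
    rw [mul_inv_cancel, h1] at this
    exact (neg_eq_of_add_eq_zero_right this.symm).symm
  refine h.forall_of_commutator (fun x => f x = 0) h1 ?_ ?_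
  · intro x hx y hy hfx hfy
    rw [hadd x hx y hy, hfx, hfy, add_zero]
  · intro x hx y hy
    show f ⁅x, y⁆ = 0
    rw [commutatorElement_def,
      hadd _ (K.mul_mem (K.mul_mem hx hy) (K.inv_mem hx)) _ (K.inv_mem hy),
      hadd _ (K.mul_mem hx hy) _ (K.inv_mem hx), hadd _ hx _ hy, hinv x hx, hinv y hy]
    abel

theorem not_comm (h : Setting σ A K) : ¬ ∀ x ∈ K, ∀ y ∈ K, x * y = y * x := fun hc =>
  CfsgLib.Components.quasisimple_not_isMulCommutative h.qs
    ⟨⟨fun a b => Subtype.ext (hc a a.2 b b.2)⟩⟩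

/-- A noncentral element of `K` has a noncentral commutator. -/
theorem exists_noncentral_commutator (h : Setting σ A K) {k : G} (hk : k ∈ K)
    (hnc : ¬ ∀ z ∈ K, k * z = z * k) :
    ∃ z ∈ K, ¬ ∀ y ∈ K, ⁅k, z⁆ * y = y * ⁅k, z⁆ := by
  by_contra hc
  push Not at hc
  -- all commutators with `k` are central, so the elements with central commutators exhaust `K`
  have hall : ∀ x ∈ K, ∀ z ∈ K, ∀ y ∈ K, ⁅x, z⁆ * y = y * ⁅x, z⁆ := by
    refine h.forall_of_noncentral (fun x => ∀ z ∈ K, ∀ y ∈ K, ⁅x, z⁆ * y = y * ⁅x, z⁆) ?_ ?_ ?_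
      hk hc hnc
    · intro z _ y _
      simp [commutatorElement_def]
    · intro a ha b hb hPa hPb z hz y hy
      have hb' := hPb z hz
      have : ⁅a * b, z⁆ = ⁅b, z⁆ * ⁅a, z⁆ := by
        calc ⁅a * b, z⁆ = a * ⁅b, z⁆ * a⁻¹ * ⁅a, z⁆ := by
              simp only [commutatorElement_def]; group
          _ = _ := by
              rw [← hb' a ha]; group
      rw [this, mul_assoc, hPa z hz y hy, ← mul_assoc, hb' y hy, mul_assoc]
    · intro x hx g hg hPx z hz y hy
      have he : ⁅g * x * g⁻¹, z⁆ = g * ⁅x, g⁻¹ * z * g⁆ * g⁻¹ := by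
        simp only [commutatorElement_def]; group
      have h2 := hPx (g⁻¹ * z * g) (K.mul_mem (K.mul_mem (K.inv_mem hg) hz) hg)
      rw [he, ← h2 g hg, mul_inv_cancel_right]
      exact h2 y hy
  have hcen : ∀ x ∈ K, ∀ y ∈ K, x * y = y * x := by
    refine h.forall_of_commutator (fun x => ∀ y ∈ K, x * y = y * x) (fun y _ => by simp) ?_ ?_
    · intro a _ b _ ha hb y hy
      rw [mul_assoc, hb y hy, ← mul_assoc, ha y hy, mul_assoc]
    · exact hall
  exact h.not_comm hcen

/-- On an invariant subspace where `K` acts nontrivially, it acts with centre `Z(K)`. -/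
theorem central_of_commute_on (h : Setting σ A K) (U : Submodule (ZMod p) W)
    (hUK : ∀ k ∈ K, ∀ u ∈ U, σ k u ∈ U) (hUnt : ¬ ∀ k ∈ K, ∀ u ∈ U, σ k u = u)
    {k : G} (hk : k ∈ K) (hc : ∀ z ∈ K, ∀ u ∈ U, σ k (σ z u) = σ z (σ k u)) :
    ∀ z ∈ K, k * z = z * k := by
  by_contra hnc
  have hall : ∀ x ∈ K, ∀ z ∈ K, ∀ u ∈ U, σ x (σ z u) = σ z (σ x u) := by
    refine h.forall_of_noncentral (fun x => ∀ z ∈ K, ∀ u ∈ U, σ x (σ z u) = σ z (σ x u))
      ?_ ?_ ?_ hk hc hnc
    · intro z _ u _
      simp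
    · intro a _ b hb ha' hb' z hz u hu
      rw [map_mul, Module.End.mul_apply, Module.End.mul_apply, hb' z hz u hu,
        ha' z hz _ (hUK b hb u hu)]
    · intro x hx g hg hPx z hz u hu
      have hgx : ∀ v ∈ U, σ (g * x * g⁻¹) v = σ x v := by
        intro v hv
        rw [map_mul, map_mul, Module.End.mul_apply, Module.End.mul_apply,
          ← hPx g hg _ (hUK _ (K.inv_mem hg) v hv), ← Module.End.mul_apply (σ g) (σ g⁻¹), ← map_mul,
          mul_inv_cancel, map_one, Module.End.one_apply]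
      rw [hgx _ (hUK z hz u hu), hgx u hu]
      exact hPx z hz u hu
  refine hUnt (h.forall_of_commutator (fun x => ∀ u ∈ U, σ x u = u) (fun u _ => by simp) ?_ ?_)
  · intro a _ b _ ha hb u hu
    rw [map_mul, Module.End.mul_apply, hb u hu, ha u hu]
  · intro a ha b hb u hu
    have h1 := hall a ha b hb _ (hUK _ (K.inv_mem ha) _ (hUK _ (K.inv_mem hb) u hu))
    rw [commutatorElement_def, map_mul, map_mul, map_mul, Module.End.mul_apply,
      Module.End.mul_apply, Module.End.mul_apply, h1]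
    simp only [← Module.End.mul_apply, ← map_mul]
    simp

/-- An element of `K` whose image commutes with the image of `K` is central in `K`. -/
theorem central_of_commute (h : Setting σ A K) {k : G} (hk : k ∈ K)
    (hc : ∀ z ∈ K, Commute (σ k) (σ z)) : ∀ z ∈ K, k * z = z * k := by
  refine h.central_of_commute_on ⊤ (fun _ _ _ _ => trivial) ?_ hk ?_
  · intro ht
    obtain ⟨k', hk', hne⟩ := h.nt
    exact hne (LinearMap.ext fun v => ht k' hk' v trivial)
  · intro z hz u _
    exact LinearMap.congr_fun (hc z hz).eq u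

theorem mem_normalizer_conj {a : G} (ha : a ∈ Subgroup.normalizer (K : Set G)) {k : G}
    (hk : k ∈ K) : a * k * a⁻¹ ∈ K :=
  (Subgroup.mem_normalizer_iff.1 ha k).1 hk

theorem dist₂ (h : Setting σ A K) {a b : G} (ha : a ∈ A) (hb : b ∈ A)
    (hab : a⁻¹ * b ∉ Subgroup.normalizer (K : Set G)) {k z : G} (hk : k ∈ K) (hz : z ∈ K) :
    Commute (a * k * a⁻¹) (b * z * b⁻¹) := by
  have h1 := h.dist _ (A.mul_mem (A.inv_mem ha) hb) hab k hk z hz
  have h2 := h1.map (MulAut.conj a).toMonoidHom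
  simp only [MulEquiv.coe_toMonoidHom, MulAut.conj_apply] at h2
  convert h2 using 1
  group

theorem inv_notMem_normalizer {a : G} (ha : a ∉ Subgroup.normalizer (K : Set G)) :
    a⁻¹ ∉ Subgroup.normalizer (K : Set G) := fun h => ha (by simpa using Subgroup.inv_mem _ h)

/-- An element of `A` centralising `K` modulo the action commutes with it. -/
theorem exists_commutator_noncentral (h : Setting σ A K) {b : G}
    (hb : b ∈ Subgroup.normalizer (K : Set G)) {k : G} (hk : k ∈ K)
    (hne : ¬ Commute (σ b) (σ k)) :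
    ∃ x ∈ K, ¬ ∀ z ∈ K, ⁅x, b⁆ * z = z * ⁅x, b⁆ := by
  by_contra hc
  push Not at hc
  refine hne ?_
  have hbmem : ∀ x ∈ K, ⁅x, b⁆ ∈ K := by
    intro x hx
    have : ⁅x, b⁆ = x * (b * x⁻¹ * b⁻¹) := by
      simp only [commutatorElement_def]; group
    rw [this]
    exact K.mul_mem hx (mem_normalizer_conj hb (K.inv_mem hx))
  have hmul : ∀ x ∈ K, ∀ y ∈ K, ⁅x * y, b⁆ = ⁅y, b⁆ * ⁅x, b⁆ := by
    intro x hx y hy
    calc ⁅x * y, b⁆ = x * ⁅y, b⁆ * x⁻¹ * ⁅x, b⁆ := by
          simp only [commutatorElement_def]; group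
      _ = _ := by
          rw [← hc y hy x hx]; group
  have hone : ⁅(1 : G), b⁆ = 1 := commutatorElement_one_left b
  have hinv : ∀ x ∈ K, ⁅x⁻¹, b⁆ = ⁅x, b⁆⁻¹ := by
    intro x hx
    have := hmul x hx x⁻¹ (K.inv_mem hx)
    rw [mul_inv_cancel, hone] at this
    exact eq_inv_of_mul_eq_one_left this.symm
  have hall : ∀ x ∈ K, ⁅x, b⁆ = 1 := by
    refine h.forall_of_commutator (fun x => ⁅x, b⁆ = 1) hone ?_ ?_
    · intro x hx y hy h1 h2
      rw [hmul x hx y hy, h1, h2, one_mul]
    · intro x hx y hy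
      show ⁅⁅x, y⁆, b⁆ = 1
      rw [commutatorElement_def x y,
        hmul _ (K.mul_mem (K.mul_mem hx hy) (K.inv_mem hx)) _ (K.inv_mem hy),
        hmul _ (K.mul_mem hx hy) _ (K.inv_mem hx), hmul _ hx _ hy, hinv x hx, hinv y hy]
      have hcm := hc x hx _ (hbmem y hy)
      calc ⁅y, b⁆⁻¹ * (⁅x, b⁆⁻¹ * (⁅y, b⁆ * ⁅x, b⁆))
          = ⁅y, b⁆⁻¹ * (⁅x, b⁆⁻¹ * (⁅x, b⁆ * ⁅y, b⁆)) := by rw [hcm]
        _ = 1 := by group
  have := (commutatorElement_eq_one_iff_mul_comm.1 (hall k hk))
  exact (show Commute b k from this.symm).map σ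

end Setting

end CfsgLib.PGV
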