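import Cfsg.Agent.Lib.LocalEven.PGVBase

/-!
# The diagonal of the conjugates of a component under an element of order `p`
-/

set_option autoImplicit false
set_option linter.unusedSectionVars false

namespace CfsgLib.PGV

open Cfsg
open scoped commutatorElement

variable {G : Type*} [Group G] [Finite G] {p : ℕ} [Fact p.Prime]
variable {W : Type*} [AddCommGroup W] [Module (ZMod p) W]

/-- `k * ᶜk * ⋯ * ᶜ⁽ⁿ⁻¹⁾k` -/
def dg (c : G) (n : ℕ) (k : G) : G := (k * c) ^ n * (c ^ n)⁻¹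

theorem dg_succ (c : G) (n : ℕ) (k : G) :
    dg c (n + 1) k = dg c n k * (c ^ n * k * (c ^ n)⁻¹) := by
  unfold dg
  rw [pow_succ, pow_succ]
  group

namespace Setting

variable {σ : G →* Module.End (ZMod p) W} {A K : Subgroup G}

theorem pow_notMem (h : Setting σ A K) {c : G} (hc : c ∈ A)
    (hcN : c ∉ Subgroup.normalizer (K : Set G)) {j : ℕ} (h0 : 0 < j) (hj : j < p) :
    c ^ j ∉ Subgroup.normalizer (K : Set G) := by
  intro hm
  have hne : c ≠ 1 := fun h1 => hcN (h1 ▸ Subgroup.one_mem _)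
  have ho : orderOf c = p := orderOf_eq_prime (h.powA c hc) hne
  have hcop : j.Coprime (orderOf c) := by
    rw [ho, Nat.coprime_comm, (Fact.out : p.Prime).coprime_iff_not_dvd]
    exact fun hd => absurd (Nat.le_of_dvd h0 hd) (by omega)
  obtain ⟨m, hm'⟩ := exists_pow_eq_self_of_coprime hcop
  exact hcN (hm' ▸ Subgroup.pow_mem _ hm m)

theorem commute_conj_pow (h : Setting σ A K) {c : G} (hc : c ∈ A)
    (hcN : c ∉ Subgroup.normalizer (K : Set G)) {i j : ℕ} (hij : i < j) (hj : j < p) {k z : G}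
    (hk : k ∈ K) (hz : z ∈ K) :
    Commute (c ^ i * k * (c ^ i)⁻¹) (c ^ j * z * (c ^ j)⁻¹) := by
  refine h.dist₂ (A.pow_mem hc i) (A.pow_mem hc j) ?_ hk hz
  obtain ⟨d, rfl⟩ := Nat.exists_eq_add_of_le hij.le
  rw [pow_add, ← mul_assoc, inv_mul_cancel, one_mul]
  exact h.pow_notMem hc hcN (by omega) (by omega)

theorem commute_dg (h : Setting σ A K) {c : G} (hc : c ∈ A)
    (hcN : c ∉ Subgroup.normalizer (K : Set G)) {k z : G} (hk : k ∈ K) (hz : z ∈ K) :
    ∀ {n j : ℕ}, n ≤ j → j < p → Commute (c ^ j * k * (c ^ j)⁻¹) (dg c n z) := by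
  intro n
  induction n with
  | zero => intro j _ _; simp [dg]
  | succ n ih =>
    intro j hn hj
    rw [dg_succ]
    exact (ih (by omega) hj).mul_right (h.commute_conj_pow hc hcN (by omega) hj hz hk).symm

theorem dg_mul (h : Setting σ A K) {c : G} (hc : c ∈ A)
    (hcN : c ∉ Subgroup.normalizer (K : Set G)) {k z : G} (hk : k ∈ K) (hz : z ∈ K) :
    ∀ {n : ℕ}, n ≤ p → dg c n (k * z) = dg c n k * dg c n z := by
  intro n
  induction n with
  | zero => intro _; simp [dg]
  | succ n ih =>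
    intro hn
    have h1 : Commute (c ^ n * k * (c ^ n)⁻¹) (dg c n z) :=
      h.commute_dg hc hcN hk hz le_rfl (by omega)
    rw [dg_succ, dg_succ, dg_succ, ih (by omega)]
    calc dg c n k * dg c n z * (c ^ n * (k * z) * (c ^ n)⁻¹)
        = dg c n k * (dg c n z * (c ^ n * k * (c ^ n)⁻¹)) * (c ^ n * z * (c ^ n)⁻¹) := by group
      _ = _ := by rw [← h1.eq]; group

theorem dg_one_arg (c : G) (n : ℕ) : dg c n 1 = 1 := by simp [dg]

theorem dg_inv (h : Setting σ A K) {c : G} (hc : c ∈ A)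
    (hcN : c ∉ Subgroup.normalizer (K : Set G)) {k : G} (hk : k ∈ K) :
    dg c p k⁻¹ = (dg c p k)⁻¹ := by
  have := h.dg_mul hc hcN hk (K.inv_mem hk) le_rfl
  rw [mul_inv_cancel, dg_one_arg] at this
  exact eq_inv_of_mul_eq_one_right this.symm

theorem dg_comm_arg (h : Setting σ A K) {c : G} (hc : c ∈ A)
    (hcN : c ∉ Subgroup.normalizer (K : Set G)) {k z : G} (hk : k ∈ K) (hz : z ∈ K) :
    dg c p ⁅k, z⁆ = ⁅dg c p k, dg c p z⁆ := by
  rw [commutatorElement_def, commutatorElement_def,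
    h.dg_mul hc hcN (K.mul_mem (K.mul_mem hk hz) (K.inv_mem hk)) (K.inv_mem hz) le_rfl,
    h.dg_mul hc hcN (K.mul_mem hk hz) (K.inv_mem hk) le_rfl, h.dg_mul hc hcN hk hz le_rfl,
    h.dg_inv hc hcN hk, h.dg_inv hc hcN hz]

theorem dg_conj_arg {c b : G} (hbc : Commute b c) (n : ℕ) (k : G) :
    dg c n (b * k * b⁻¹) = b * dg c n k * b⁻¹ := by
  have h1 : b * k * b⁻¹ * c = b * (k * c) * b⁻¹ := by
    calc b * k * b⁻¹ * c = b * k * (b⁻¹ * c) := by group
      _ = b * k * (c * b⁻¹) := by rw [(hbc.inv_left).eq]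
      _ = _ := by group
  unfold dg
  rw [h1, conj_pow]
  calc b * (k * c) ^ n * b⁻¹ * (c ^ n)⁻¹ = b * (k * c) ^ n * (b⁻¹ * (c ^ n)⁻¹) := by group
    _ = b * (k * c) ^ n * ((c ^ n)⁻¹ * b⁻¹) := by
        rw [((hbc.pow_right n).inv_right.inv_left).eq]
    _ = _ := by group

theorem commute_dg_first (h : Setting σ A K) {c : G} (hc : c ∈ A)
    (hcN : c ∉ Subgroup.normalizer (K : Set G)) {k z : G} (hk : k ∈ K) (hz : z ∈ K) :
    ∀ {n : ℕ}, 1 ≤ n → n ≤ p → Commute z (k⁻¹ * dg c n k) := by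
  intro n hn
  induction n, hn using Nat.le_induction with
  | base => intro _; simp [dg]
  | succ n hn ih =>
    intro hnp
    rw [dg_succ, ← mul_assoc]
    have := h.commute_conj_pow hc hcN (i := 0) (j := n) (by omega) (by omega) hz hk
    rw [pow_zero, one_mul, inv_one, mul_one] at this
    exact (ih (by omega)).mul_right this

theorem dg_p_eq (h : Setting σ A K) {c : G} (hc : c ∈ A) (k : G) : dg c p k = (k * c) ^ p := by
  simp [dg, h.powA c hc]

theorem commute_dg_self (h : Setting σ A K) {c : G} (hc : c ∈ A)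
    (hcN : c ∉ Subgroup.normalizer (K : Set G)) {k : G} (hk : k ∈ K) :
    Commute c (dg c p k) := by
  have h1 := h.commute_dg_first hc hcN hk hk (Fact.out : p.Prime).one_le le_rfl
  have h2 : Commute k (dg c p k) := by
    have := (Commute.refl k).mul_right h1
    rwa [mul_inv_cancel_left] at this
  have h3 : Commute (k * c) (dg c p k) := by
    rw [h.dg_p_eq hc]; exact Commute.self_pow _ _
  have := (h2.inv_left).mul_left h3
  rwa [inv_mul_cancel_left] at this

theorem commute_dg_dl (h : Setting σ A K) {c : G} (hc : c ∈ A)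
    (hcN : c ∉ Subgroup.normalizer (K : Set G)) {k : G} (hk : k ∈ K) :
    Commute (dl σ c) (σ (dg c p k)) :=
  ((h.commute_dg_self hc hcN hk).map σ).sub_left (Commute.one_left _)

/-- The diagonal of `k` acts trivially on `[W, c]`. -/
def Triv (σ : G →* Module.End (ZMod p) W) (c : G) (k : G) : Prop :=
  σ (dg c p k) * dl σ c = dl σ c

theorem triv_all_of_noncentral (h : Setting σ A K) {c : G} (hc : c ∈ A)
    (hcN : c ∉ Subgroup.normalizer (K : Set G)) {k : G} (hk : k ∈ K) (ht : Triv σ c k)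
    (hnc : ¬ ∀ z ∈ K, k * z = z * k) : ∀ x ∈ K, Triv σ c x := by
  refine h.forall_of_noncentral (Triv σ c) ?_ ?_ ?_ hk ht hnc
  · show σ (dg c p 1) * dl σ c = dl σ c
    rw [dg_one_arg, map_one, one_mul]
  · intro x hx y hy h1 h2
    unfold Triv at h1 h2 ⊢
    rw [h.dg_mul hc hcN hx hy le_rfl, map_mul, mul_assoc, h2, h1]
  · intro x hx z hz h1
    unfold Triv at h1 ⊢
    rw [h.dg_mul hc hcN (K.mul_mem hz hx) (K.inv_mem hz) le_rfl, h.dg_mul hc hcN hz hx le_rfl,
      map_mul, map_mul, mul_assoc, (h.commute_dg_dl hc hcN (K.inv_mem hz)).symm.eq, mul_assoc,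
      ← mul_assoc (σ (dg c p x)), h1, ← mul_assoc, (h.commute_dg_dl hc hcN hz).symm.eq,
      mul_assoc, ← map_mul, ← h.dg_mul hc hcN hz (K.inv_mem hz) le_rfl, mul_inv_cancel,
      dg_one_arg, map_one, mul_one]

/-- An element normalising `K`, nontrivial on it and annihilating `[W, c]`. -/
theorem triv_of_normalizing (h : Setting σ A K) {c b : G} (hc : c ∈ A)
    (hcN : c ∉ Subgroup.normalizer (K : Set G)) (hb : b ∈ A)
    (hbN : b ∈ Subgroup.normalizer (K : Set G)) (hbK : ∃ k ∈ K, ¬ Commute (σ b) (σ k))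
    (hbc : dl σ b * dl σ c = 0) : ∀ x ∈ K, Triv σ c x := by
  obtain ⟨k, hk, hne⟩ := hbK
  obtain ⟨x, hx, hxnc⟩ := h.exists_commutator_noncentral hbN hk hne
  have hxb : ⁅x, b⁆ = x * (b * x⁻¹ * b⁻¹) := by
    simp only [commutatorElement_def]; group
  have hmem : ⁅x, b⁆ ∈ K := by
    rw [hxb]; exact K.mul_mem hx (mem_normalizer_conj hbN (K.inv_mem hx))
  refine h.triv_all_of_noncentral hc hcN hmem ?_ hxnc
  have hfix : σ b * dl σ c = dl σ c := by
    rw [← sub_eq_zero, show σ b * dl σ c - dl σ c = dl σ b * dl σ c by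
      simp only [dl]; noncomm_ring]
    exact hbc
  have hfix' : σ b⁻¹ * dl σ c = dl σ c := by
    conv_lhs => rw [← hfix, ← mul_assoc, ← map_mul, inv_mul_cancel, map_one, one_mul]
  unfold Triv
  rw [hxb, h.dg_mul hc hcN hx (mem_normalizer_conj hbN (K.inv_mem hx)) le_rfl,
    dg_conj_arg (h.commA b hb c hc), map_mul, map_mul, map_mul, mul_assoc, mul_assoc, hfix',
    mul_assoc, (h.commute_dg_dl hc hcN (K.inv_mem hx)).symm.eq, ← mul_assoc (σ b), hfix,
    ← mul_assoc, (h.commute_dg_dl hc hcN hx).symm.eq, mul_assoc, ← map_mul,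
    ← h.dg_mul hc hcN hx (K.inv_mem hx) le_rfl, mul_inv_cancel, dg_one_arg, map_one, mul_one]

end Setting

end CfsgLib.PGV
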