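import Cfsg.Agent.Lib.LocalEven.PGVDiag

/-!
# The prime two: moving elements
-/

set_option autoImplicit false
set_option linter.unusedSectionVars false

namespace CfsgLib.PGV

open Cfsg
open scoped commutatorElement

variable {G : Type*} [Group G] [Finite G]
variable {W : Type*} [AddCommGroup W] [Finite W] [Module (ZMod 2) W]

theorem card_ann_mul (U : Type*) [AddCommGroup U] [Finite U] [Module (ZMod 2) U]
    (X : Submodule (ZMod 2) U) :
    Nat.card X.dualAnnihilator * Nat.card X = Nat.card U := by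
  have h := Subspace.finrank_add_finrank_dualAnnihilator_eq (K := ZMod 2) (W := X)
  rw [Module.natCard_eq_pow_finrank (K := ZMod 2), Module.natCard_eq_pow_finrank (K := ZMod 2) (V := X),
    Module.natCard_eq_pow_finrank (K := ZMod 2) (V := U), ← pow_add, ← h, add_comm]

theorem add_self_zero {V : Type*} [AddCommGroup V] [Module (ZMod 2) V] (v : V) : v + v = 0 :=
  ZModModule.add_self v

/-- The product of two transvections with the same hyperplane-index has order dividing `12`. -/
theorem transvection_pow {U : Type*} [AddCommGroup U] [Module (ZMod 2) U]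
    (F G' : Module.End (ZMod 2) U) (hFF : ∀ u, F (F u) = 0) (hGG : ∀ u, G' (G' u) = 0)
    (hF : ∀ u u', F u ≠ 0 → F u' ≠ 0 → F u = F u')
    (hG : ∀ u u', G' u ≠ 0 → G' u' ≠ 0 → G' u = G' u') :
    ((1 + G') * (1 + F)) ^ 12 = 1 := by
  have hF2 : F * F = 0 := LinearMap.ext hFF
  have hG2 : G' * G' = 0 := LinearMap.ext hGG
  have h2 : ∀ X : Module.End (ZMod 2) U, X + X = 0 := fun X => LinearMap.ext fun u =>
    add_self_zero (X u)
  by_cases hA : ∃ u, F (G' (F u)) ≠ 0
  · obtain ⟨u, hu⟩ := hA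
    have hFu : F u ≠ 0 := fun h => hu (by rw [h, map_zero, map_zero])
    have hw : G' (F u) ≠ 0 := fun h => hu (by rw [h, map_zero])
    have hFGF : F * G' * F = F := by
      refine LinearMap.ext fun v => ?_
      show F (G' (F v)) = F v
      by_cases hv : F v = 0
      · rw [hv, map_zero, map_zero]
      · rw [hF v u hv hFu]; exact hF _ _ hu hFu
    have hGFG : G' * F * G' = G' := by
      refine LinearMap.ext fun v => ?_
      show G' (F (G' v)) = G' v
      by_cases hv : G' v = 0
      · rw [hv, map_zero, map_zero]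
      · rw [hG v (F u) hv hw]
        exact congrArg G' (hF _ _ hu hFu)
    have hs : (1 + G') * (1 + G') = 1 := by
      rw [show (1 + G') * (1 + G') = 1 + (G' + G') + G' * G' by noncomm_ring, h2, hG2, add_zero,
        add_zero]
    have ht : (1 + F) * (1 + F) = 1 := by
      rw [show (1 + F) * (1 + F) = 1 + (F + F) + F * F by noncomm_ring, h2, hF2, add_zero, add_zero]
    have hb : (1 + G') * (1 + F) * (1 + G') = (1 + F) * (1 + G') * (1 + F) := by
      rw [show (1 + G') * (1 + F) * (1 + G')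
          = 1 + F + (G' + G') + G' * G' + F * G' + G' * F + G' * F * G' by noncomm_ring,
        show (1 + F) * (1 + G') * (1 + F)
          = 1 + G' + (F + F) + F * F + F * G' + G' * F + F * G' * F by noncomm_ring,
        h2, h2, hF2, hG2, hFGF, hGFG]
      abel
    have h3 : ((1 + G') * (1 + F)) ^ 3 = 1 := by
      generalize (1 + G') = s at hs hb ⊢
      generalize (1 + F) = t at ht hb ⊢
      calc (s * t) ^ 3 = s * t * s * (t * s * t) := by
            simp only [pow_succ, pow_zero, one_mul, mul_assoc]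
        _ = t * s * t * (t * s * t) := by rw [hb]
        _ = t * (s * (t * t) * s) * t := by simp only [mul_assoc]
        _ = 1 := by rw [ht, mul_one, hs, mul_one, ht]
    rw [show 12 = 3 * 4 from rfl, pow_mul, h3, one_pow]
  · push Not at hA
    have hFGF : F * G' * F = 0 := LinearMap.ext fun v => hA v
    have hGFG : G' * F * G' = 0 := by
      refine LinearMap.ext fun v => ?_
      show G' (F (G' v)) = 0
      by_contra hne
      have hGv : G' v ≠ 0 := fun h => hne (by rw [h, map_zero, map_zero])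
      have h1 : G' (F (G' v)) = G' v := hG _ _ hne hGv
      have h2' := hA (G' v)
      rw [h1] at h2'
      exact hne (by rw [h2', map_zero])
    have h4 : ((1 + G') * (1 + F)) ^ 4 = 1 := by
      let H := F + G' + G' * F
      have hH : H * H = F * G' + G' * F := by
        rw [show H * H = F * F + G' * G' + F * G' + G' * F + F * G' * F + G' * (G' * F)
            + G' * (F * F) + G' * F * G' + G' * F * G' * F by simp only [H]; noncomm_ring,
          ← mul_assoc G' G' F, hF2, hG2, hFGF, hGFG]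
        simp
      have hH4 : (H * H) * (H * H) = 0 := by
        rw [hH, show (F * G' + G' * F) * (F * G' + G' * F)
          = F * G' * F * G' + F * (G' * G') * F + G' * (F * F) * G' + G' * F * G' * F
            by noncomm_ring, hF2, hG2, hFGF, hGFG]
        simp
      have he : (1 + G') * (1 + F) = 1 + H := by simp only [H]; noncomm_ring
      have hsq : ∀ X : Module.End (ZMod 2) U, (1 + X) * (1 + X) = 1 + X * X := by
        intro X
        rw [show (1 + X) * (1 + X) = 1 + (X + X) + X * X by noncomm_ring, h2, add_zero]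
      rw [he, show 4 = 2 * 2 from rfl, pow_mul, pow_two, pow_two, hsq, hsq, hH4, add_zero]
    rw [show 12 = 4 * 3 from rfl, pow_mul, h4, one_pow]

namespace Setting

variable {σ : G →* Module.End (ZMod 2) W} {A K : Subgroup G}

/-- No element moving `K` acts as a transvection on an invariant subspace on which `K` acts. -/
theorem false_of_index_two (h : Setting σ A K) {c : G} (hc : c ∈ A)
    (hcN : c ∉ Subgroup.normalizer (K : Set G)) (U : Submodule (ZMod 2) W)
    (hUc : ∀ u ∈ U, σ c u ∈ U) (hUK : ∀ k ∈ K, ∀ u ∈ U, σ k u ∈ U)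
    (hUnt : ¬ ∀ k ∈ K, ∀ u ∈ U, σ k u = u)
    (hrank : ∀ u ∈ U, ∀ u' ∈ U, dl σ c u ≠ 0 → dl σ c u' ≠ 0 → dl σ c u = dl σ c u') : False := by
  have hci : c⁻¹ = c := inv_eq_of_mul_eq_one_right (by rw [← pow_two]; exact h.powA c hc)
  have hmulapp : ∀ (x y : G) (w : W), σ (x * y) w = σ x (σ y w) := fun x y w => by
    rw [map_mul, Module.End.mul_apply]
  have hNN : ∀ u, dl σ c (dl σ c u) = 0 := by
    intro u
    have hd : ∀ w, dl σ c w = σ c w + w := fun w => by
      show σ c w - w = _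
      rw [ZModModule.sub_eq_add]
    rw [hd, hd, map_add, ← hmulapp, ← pow_two, h.powA c hc, map_one, Module.End.one_apply]
    rw [show u + σ c u + (σ c u + u) = (u + σ c u) + (u + σ c u) by abel]
    exact add_self_zero _
  -- exponent `12` modulo the centre
  have hexp : ∀ k ∈ K, ∀ z ∈ K, k ^ 12 * z = z * k ^ 12 := by
    intro k hk
    have hk' := K.inv_mem hk
    have hconjU : ∀ g ∈ K, ∀ u ∈ U, σ (c * g * c⁻¹) u ∈ U := by
      intro g hg u hu
      rw [hci, hmulapp, hmulapp]
      exact hUc _ (hUK g hg _ (hUc u hu))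
    let F : Module.End (ZMod 2) U := (dl σ c).restrict (p := U) (q := U)
      (fun u hu => U.sub_mem (hUc u hu) hu)
    have hGmem : ∀ u ∈ U, σ k (dl σ c (σ k⁻¹ u)) ∈ U := fun u hu =>
      hUK k hk _ (U.sub_mem (hUc _ (hUK _ hk' u hu)) (hUK _ hk' u hu))
    let G' : Module.End (ZMod 2) U :=
      (σ k * dl σ c * σ k⁻¹).restrict (p := U) (q := U) hGmem
    have hkk : ∀ w, σ k⁻¹ (σ k w) = w := fun w => by
      rw [← hmulapp, inv_mul_cancel, map_one, Module.End.one_apply]
    have hkk' : ∀ w, σ k (σ k⁻¹ w) = w := fun w => by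
      rw [← hmulapp, mul_inv_cancel, map_one, Module.End.one_apply]
    have h12 := transvection_pow F G'
      (fun u => Subtype.ext (hNN u))
      (fun u => Subtype.ext (by
        show σ k (dl σ c (σ k⁻¹ (σ k (dl σ c (σ k⁻¹ u))))) = 0
        rw [hkk, hNN, map_zero]))
      (fun u u' hu hu' => Subtype.ext (hrank u u.2 u' u'.2 (fun e => hu (Subtype.ext e))
        (fun e => hu' (Subtype.ext e))))
      (fun u u' hu hu' => Subtype.ext (congrArg (σ k) (hrank _ (hUK _ hk' u u.2) _
        (hUK _ hk' u' u'.2)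
        (fun e => hu (Subtype.ext ((congrArg (σ k) e).trans (map_zero _))))
        (fun e => hu' (Subtype.ext ((congrArg (σ k) e).trans (map_zero _)))))))
    let x := k * c * k⁻¹ * c
    have hx1 : ∀ u : U, (((1 + G') * (1 + F)) u : W) = σ x u := by
      intro u
      show (u : W) + dl σ c u + σ k (dl σ c (σ k⁻¹ ((u : W) + dl σ c u))) = σ x u
      rw [show (u : W) + dl σ c u = σ c u by simp [dl]]
      simp only [x, hmulapp, dl, LinearMap.sub_apply, Module.End.one_apply, map_sub, hkk']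
      abel
    have hxn : ∀ (n : ℕ) (u : U), ((((1 + G') * (1 + F)) ^ n) u : W) = σ (x ^ n) u := by
      intro n
      induction n with
      | zero => intro u; simp
      | succ n ih =>
        intro u
        rw [pow_succ, pow_succ, Module.End.mul_apply, ih, hmulapp, hx1]
    have hfix : ∀ u ∈ U, σ (x ^ 12) u = u := by
      intro u hu
      have := hxn 12 ⟨u, hu⟩
      rw [h12] at this
      exact this.symm
    have hx12 : x ^ 12 = k ^ 12 * (c * (k⁻¹) ^ 12 * c⁻¹) := by
      have hcomm : Commute k (c * k⁻¹ * c⁻¹) := h.dist c hc hcN k hk k⁻¹ hk'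
      calc x ^ 12 = (k * (c * k⁻¹ * c⁻¹)) ^ 12 := by rw [hci]; simp only [x, mul_assoc]
        _ = _ := by rw [hcomm.mul_pow, conj_pow]
    have hk12 : k ^ 12 ∈ K := K.pow_mem hk 12
    refine h.central_of_commute_on U hUK hUnt hk12 fun z hz u hu => ?_
    have heq : ∀ v ∈ U, σ (k ^ 12) v = σ (c * k ^ 12 * c⁻¹) v := by
      intro v hv
      have h1 := hfix _ (hconjU _ hk12 v hv)
      rw [hx12, hmulapp, ← hmulapp (c * (k⁻¹) ^ 12 * c⁻¹)] at h1
      rw [show c * (k⁻¹) ^ 12 * c⁻¹ * (c * k ^ 12 * c⁻¹) = 1 by rw [inv_pow]; group, map_one,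
        Module.End.one_apply] at h1
      exact h1
    rw [heq _ (hUK z hz u hu), heq u hu, ← hmulapp, ← hmulapp,
      (h.dist c hc hcN z hz _ hk12).eq]
  -- hence `K` is solvable
  haveI hsolv : Group.IsSolvable (↥K ⧸ Subgroup.center ↥K) := by
    refine CfsgLib.Chars.isSolvable_of_primeFactors_pair 2 3 fun r hr hd => ?_
    haveI := Fact.mk hr
    obtain ⟨q, hq⟩ := exists_prime_orderOf_dvd_card' r hd
    obtain ⟨g, rfl⟩ := QuotientGroup.mk_surjective q
    have h12 : ((g : ↥K ⧸ Subgroup.center ↥K)) ^ 12 = 1 := by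
      rw [← QuotientGroup.mk_pow, QuotientGroup.eq_one_iff, Subgroup.mem_center_iff]
      exact fun z => Subtype.ext (hexp g g.2 z z.2).symm
    have hdvd : r ∣ 12 := hq ▸ orderOf_dvd_of_pow_eq_one h12
    have hle : r ≤ 12 := Nat.le_of_dvd (by norm_num) hdvd
    have h2 := hr.two_le
    interval_cases r <;> simp_all (config := { decide := true })
  haveI : Group.IsSolvable ↥(Subgroup.center ↥K) := Group.isSolvable_of_comm fun a b =>
    Subtype.ext ((Subgroup.mem_center_iff.1 a.2 (b : ↥K)).symm)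
  exact CfsgLib.Components.quasisimple_not_isSolvable h.qs
    (Group.isSolvable_of_ker_le_range (Subgroup.center ↥K).subtype
      (QuotientGroup.mk' (Subgroup.center ↥K)) (by simp))

/-- An element of a regularly acting four group kills the diagonal on `[W, c]`. -/
theorem triv_of_regular (h : Setting σ A K) {c e : G} (hc : c ∈ A)
    (hcN : c ∉ Subgroup.normalizer (K : Set G)) (he : e ∈ A)
    (heN : e ∉ Subgroup.normalizer (K : Set G)) (hceN : c⁻¹ * e ∉ Subgroup.normalizer (K : Set G))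
    (hec : dl σ e * dl σ c = 0) : ∀ x ∈ K, Triv σ c x := by
  have hee : e * e = 1 := by rw [← pow_two]; exact h.powA e he
  have hei : e⁻¹ = e := inv_eq_of_mul_eq_one_right hee
  have hcc : c * c = 1 := by rw [← pow_two]; exact h.powA c hc
  have hci : c⁻¹ = c := inv_eq_of_mul_eq_one_right hcc
  have hfix : σ e * dl σ c = dl σ c := by
    rw [← sub_eq_zero, show σ e * dl σ c - dl σ c = dl σ e * dl σ c by
      simp only [dl]; noncomm_ring]
    exact hec
  obtain ⟨k, hk, hknc⟩ : ∃ k ∈ K, ¬ ∀ z ∈ K, k * z = z * k := by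
    by_contra hcon
    push Not at hcon
    exact h.not_comm hcon
  obtain ⟨z, hz, hznc⟩ := h.exists_noncentral_commutator hk hknc
  have hd : ∀ x : G, dg c 2 x = x * (c * x * c⁻¹) := by
    intro x
    rw [dg_succ, dg_succ]
    simp [dg]
  have hcomm : Commute (dg c 2 k) (e * dg c 2 z * e⁻¹) := by
    rw [hd, hd]
    have e1 : e * (z * (c * z * c⁻¹)) * e⁻¹ = (e * z * e⁻¹) * (e * c * z * (e * c)⁻¹) := by group
    rw [e1]
    have hec' : e * c ∉ Subgroup.normalizer (K : Set G) := by
      rw [(h.commA e he c hc).eq]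
      rwa [hci] at hceN
    have hce : c⁻¹ * (e * c) ∉ Subgroup.normalizer (K : Set G) := by
      rw [(h.commA e he c hc).eq, inv_mul_cancel_left]
      exact heN
    refine Commute.mul_left (Commute.mul_right ?_ ?_) (Commute.mul_right ?_ ?_)
    · simpa using h.dist e he heN k hk z hz
    · simpa using h.dist (e * c) (A.mul_mem he hc) hec' k hk z hz
    · exact h.dist₂ hc he hceN hk hz
    · exact h.dist₂ hc (A.mul_mem he hc) hce hk hz
  have hde : Commute (dl σ c) (σ (dg c 2 z)) := h.commute_dg_dl hc hcN hz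
  have hdz : σ (dg c 2 z) * dl σ c = σ (e * dg c 2 z * e⁻¹) * dl σ c := by
    rw [hei, map_mul, map_mul, mul_assoc, hfix, mul_assoc, ← hde.eq, ← mul_assoc, hfix, hde.eq]
  have hkz : σ (dg c 2 k) * σ (dg c 2 z) * dl σ c = σ (dg c 2 z) * σ (dg c 2 k) * dl σ c := by
    rw [mul_assoc, hdz, ← mul_assoc, ← map_mul, hcomm.eq, map_mul, mul_assoc,
      ← (h.commute_dg_dl hc hcN hk).eq, ← mul_assoc, ← hdz, mul_assoc,
      (h.commute_dg_dl hc hcN hk).eq, ← mul_assoc]
  have hmem : ⁅k, z⁆ ∈ K := by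
    rw [commutatorElement_def]
    exact K.mul_mem (K.mul_mem (K.mul_mem hk hz) (K.inv_mem hk)) (K.inv_mem hz)
  refine h.triv_all_of_noncentral hc hcN hmem ?_ hznc
  show σ (dg c 2 ⁅k, z⁆) * dl σ c = dl σ c
  have hi : Commute (dl σ c) (σ ((dg c 2 k)⁻¹ * (dg c 2 z)⁻¹)) :=
    (((h.commute_dg_self hc hcN hk).inv_right.mul_right
      (h.commute_dg_self hc hcN hz).inv_right).map σ).sub_left (Commute.one_left _)
  rw [h.dg_comm_arg hc hcN hk hz, commutatorElement_def, mul_assoc (dg c 2 k * dg c 2 z), map_mul,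
    mul_assoc, ← hi.eq, map_mul, ← mul_assoc, hkz, mul_assoc, hi.eq, ← mul_assoc, ← map_mul,
    ← map_mul]
  simp [mul_assoc]

/-- The counting argument. -/
theorem false_of_triv_two (h : Setting σ A K)
    (hfaith : ∀ a ∈ A, (∀ k ∈ K, Commute (σ a) (σ k)) → σ a = 1)
    (C : Submodule (ZMod 2) W) (hC : ∀ w ∈ C, ∀ a ∈ A, σ a w = w)
    (hbound : Nat.card {a : G // a ∈ A ∧ σ a = 1} * Nat.card W ≤ Nat.card A * Nat.card C)
    (htriv : ∀ c ∈ A, c ∉ Subgroup.normalizer (K : Set G) → ∀ x ∈ K, Triv σ c x)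
    {c₀ : G} (hc₀ : c₀ ∈ A) (hc₀N : c₀ ∉ Subgroup.normalizer (K : Set G)) : False := by
  classical
  have hmulapp : ∀ (x y : G) (w : W), σ (x * y) w = σ x (σ y w) := fun x y w => by
    rw [map_mul, Module.End.mul_apply]
  let U : Submodule (ZMod 2) W :=
    ⨆ y : ↥A × ↥K, LinearMap.range (dl σ ((y.1 : G) * y.2 * (y.1 : G)⁻¹))
  have hUmem : ∀ b ∈ A, ∀ k ∈ K, ∀ w, σ (b * k * b⁻¹) w - w ∈ U := fun b hb k hk w =>
    le_iSup (fun y : ↥A × ↥K => LinearMap.range (dl σ ((y.1 : G) * y.2 * (y.1 : G)⁻¹)))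
      (⟨b, hb⟩, ⟨k, hk⟩) ⟨w, rfl⟩
  have hUH : ∀ b ∈ A, ∀ k ∈ K, ∀ u ∈ U, σ (b * k * b⁻¹) u ∈ U := fun b hb k hk u hu => by
    simpa using U.add_mem (hUmem b hb k hk u) hu
  have hUA : ∀ a ∈ A, ∀ u ∈ U, σ a u ∈ U := by
    intro a ha u hu
    refine Submodule.iSup_induction _ (motive := fun u => σ a u ∈ U) hu ?_ ?_ ?_
    · rintro ⟨⟨b, hb⟩, ⟨k, hk⟩⟩ _ ⟨w, rfl⟩
      show σ a (σ (b * k * b⁻¹) w - w) ∈ U
      rw [map_sub, ← hmulapp,
        show a * (b * k * b⁻¹) = (a * b) * k * (a * b)⁻¹ * a by group, hmulapp]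
      exact hUmem _ (A.mul_mem ha hb) k hk _
    · simp
    · intro x y hx hy; rw [map_add]; exact U.add_mem hx hy
  have hUK : ∀ k ∈ K, ∀ u ∈ U, σ k u ∈ U := fun k hk u hu => by
    simpa using hUH 1 A.one_mem k hk u hu
  have hKW : ∀ k ∈ K, (∀ w, σ k w - w ∈ U) := fun k hk w => by
    simpa using hUmem 1 A.one_mem k hk w
  have hUnt : ¬ ∀ k ∈ K, ∀ u ∈ U, σ k u = u := by
    intro hfix
    obtain ⟨k, hk, hne⟩ := h.nt
    refine hne (LinearMap.ext fun w => ?_)
    have := h.additive_eq_zero (fun g => σ g w - w) (fun x hx y hy => by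
      show σ (x * y) w - w = σ x w - w + (σ y w - w)
      have := hfix x hx _ (hKW y hy w)
      rw [map_sub] at this
      rw [hmulapp, ← this]
      abel) k hk
    exact sub_eq_zero.1 this
  -- invariance of a functional
  let Fix : (W →ₗ[ZMod 2] ZMod 2) → G → Prop := fun ψ g =>
    (∀ u ∈ U, σ g u ∈ U) ∧ ∀ u ∈ U, ψ (σ g u) = ψ u
  have fix_mul : ∀ ψ x y, Fix ψ x → Fix ψ y → Fix ψ (x * y) := by
    rintro ψ x y ⟨hx1, hx2⟩ ⟨hy1, hy2⟩
    refine ⟨fun u hu => ?_, fun u hu => ?_⟩ <;> rw [hmulapp]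
    · exact hx1 _ (hy1 u hu)
    · rw [hx2 _ (hy1 u hu), hy2 u hu]
  have fix_inv : ∀ ψ x, Fix ψ x → Fix ψ x⁻¹ := by
    intro ψ x hx
    have hpos := orderOf_pos x
    have he : x⁻¹ = x ^ (orderOf x - 1) := by
      refine inv_eq_of_mul_eq_one_right ?_
      rw [← pow_succ', Nat.sub_add_cancel hpos, pow_orderOf_eq_one]
    rw [he]
    generalize orderOf x - 1 = n
    induction n with
    | zero => exact ⟨fun u hu => by simpa using hu, fun u _ => by simp⟩
    | succ n ih => rw [pow_succ]; exact fix_mul ψ _ _ ih hx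
  let X : G → Submodule (ZMod 2) U := fun c => (LinearMap.ker (dl σ c)).comap U.subtype
  -- functionals killing the fixed points of `c` are invariant under the diagonals
  have hSfix : ∀ c ∈ A, c ∉ Subgroup.normalizer (K : Set G) → ∀ φ ∈ (X c).dualAnnihilator,
      ∀ ψ : W →ₗ[ZMod 2] ZMod 2, ψ ∘ₗ U.subtype = φ → ∀ b ∈ A, ∀ k ∈ K,
      Fix ψ (b * k * b⁻¹ * (c * b * k * (c * b)⁻¹)) := by
    intro c hc hcN φ hφ ψ hψ b hb k hk
    have hd : dg c 2 k = k * (c * k * c⁻¹) := by
      rw [dg_succ, dg_succ]; simp [dg]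
    have he : b * k * b⁻¹ * (c * b * k * (c * b)⁻¹) = b * dg c 2 k * b⁻¹ := by
      rw [hd]
      calc b * k * b⁻¹ * (c * b * k * (c * b)⁻¹) = b * k * b⁻¹ * (b * c * k * (b * c)⁻¹) := by
            rw [(h.commA c hc b hb).eq]
        _ = _ := by group
    have hUg : ∀ u ∈ U, σ (b * k * b⁻¹ * (c * b * k * (c * b)⁻¹)) u ∈ U := fun u hu => by
      rw [hmulapp]
      exact hUH b hb k hk _ (hUH _ (A.mul_mem hc hb) k hk u hu)
    refine ⟨hUg, fun u hu => ?_⟩
    have hN : dl σ c (σ (b * k * b⁻¹ * (c * b * k * (c * b)⁻¹)) u - u) = 0 := by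
      have hcb : Commute (dl σ c) (σ b) := ((h.commA c hc b hb).map σ).sub_left (Commute.one_left _)
      have hcb' : Commute (dl σ c) (σ b⁻¹) :=
        (((h.commA c hc b hb).inv_right).map σ).sub_left (Commute.one_left _)
      have h1 : dl σ c * σ (b * dg c 2 k * b⁻¹) = dl σ c := by
        have ht : σ (dg c 2 k) * dl σ c = dl σ c := htriv c hc hcN k hk
        rw [map_mul, map_mul, ← mul_assoc, ← mul_assoc, hcb.eq, mul_assoc (σ b) (dl σ c),
          (h.commute_dg_dl hc hcN hk).eq, ht, mul_assoc, hcb'.eq, ← mul_assoc, ← map_mul,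
          mul_inv_cancel, map_one, one_mul]
      rw [he, map_sub, ← Module.End.mul_apply, h1, sub_self]
    have h0 := (Submodule.mem_dualAnnihilator φ).1 hφ ⟨_, U.sub_mem (hUg u hu) hu⟩ hN
    rw [← hψ] at h0
    simpa [sub_eq_zero] using h0
  -- an invariant functional vanishes
  have hzero : ∀ ψ : W →ₗ[ZMod 2] ZMod 2, (∀ b ∈ A, ∀ k ∈ K, Fix ψ (b * k * b⁻¹)) →
      ∀ u ∈ U, ψ u = 0 := by
    intro ψ hψ u hu
    refine Submodule.iSup_induction _ (motive := fun u => ψ u = 0) hu ?_ ?_ ?_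
    · rintro ⟨⟨b, hb⟩, ⟨k, hk⟩⟩ _ ⟨w, rfl⟩
      refine h.additive_eq_zero (fun g => ψ (σ (b * g * b⁻¹) w - w)) (fun x hx y hy => ?_) k hk
      have h1 := (hψ b hb x hx).2 _ (hUmem b hb y hy w)
      show ψ (σ (b * (x * y) * b⁻¹) w - w) = _
      rw [show b * (x * y) * b⁻¹ = b * x * b⁻¹ * (b * y * b⁻¹) by group, hmulapp, map_sub, map_sub,
        map_sub]
      rw [map_sub, map_sub, map_sub] at h1
      linear_combination h1
    · exact map_zero ψ
    · intro x y hx hy; rw [map_add, hx, hy, add_zero]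
  -- distinct images give independent annihilators
  have hdisj : ∀ c ∈ A, c ∉ Subgroup.normalizer (K : Set G) → ∀ c' ∈ A,
      c' ∉ Subgroup.normalizer (K : Set G) → ∀ φ, φ ∈ (X c).dualAnnihilator →
      φ ∈ (X c').dualAnnihilator → φ ≠ 0 → σ (c⁻¹ * c') = 1 := by
    intro c hc hcN c' hc' hc'N φ hφ hφ' hne
    obtain ⟨ψ, hψ⟩ := LinearMap.exists_extend φ
    by_contra hn
    refine hne (LinearMap.ext fun u => ?_)
    rw [LinearMap.zero_apply, ← hψ]
    refine hzero ψ ?_ u u.2
    have r1 := fun b hb k hk => hSfix c hc hcN φ hφ ψ hψ b hb k hk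
    have r2 := fun b hb k hk => hSfix c' hc' hc'N φ hφ' ψ hψ b hb k hk
    let n := c⁻¹ * c'
    have hnA : n ∈ A := A.mul_mem (A.inv_mem hc) hc'
    by_cases hnN : n ∈ Subgroup.normalizer (K : Set G)
    · obtain ⟨k, hk, hknc⟩ : ∃ k ∈ K, ¬ Commute (σ n) (σ k) := by
        by_contra hcon
        push Not at hcon
        exact hn (hfaith n hnA hcon)
      obtain ⟨x, hx, hxnc⟩ := h.exists_commutator_noncentral hnN hk hknc
      intro b hb g hg
      -- move to the conjugate of `b` under `c`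
      have hb' : c⁻¹ * b ∈ A := A.mul_mem (A.inv_mem hc) hb
      revert g
      refine h.forall_of_noncentral (fun g => Fix ψ (b * g * b⁻¹))
        ⟨fun u hu => by simpa using hu, fun u _ => by simp⟩ ?_ ?_ (k := ⁅x, n⁆) ?_ ?_ hxnc
      · intro g _ g' _ h1 h2
        have := fix_mul ψ _ _ h1 h2
        simpa [mul_assoc] using this
      · intro g hg z hz h1
        have hL := r1 b hb z hz
        have hc1 : Commute (c * b * z * (c * b)⁻¹) (b * g * b⁻¹) := by
          refine (h.dist₂ hb (A.mul_mem hc hb) ?_ hg hz).symm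
          rw [(h.commA c hc b hb).eq, inv_mul_cancel_left]
          exact hcN
        have := fix_mul ψ _ _ (fix_mul ψ _ _ hL h1) (fix_inv ψ _ hL)
        convert this using 1
        generalize hy : c * b * z * (c * b)⁻¹ = y at hc1
        calc b * (z * g * z⁻¹) * b⁻¹ = b * z * b⁻¹ * (b * g * b⁻¹) * (b * z * b⁻¹)⁻¹ := by group
          _ = b * z * b⁻¹ * (y * (b * g * b⁻¹) * y⁻¹) * (b * z * b⁻¹)⁻¹ := by
              rw [hc1.eq, mul_inv_cancel_right]
          _ = _ := by group
      · have : ⁅x, n⁆ = x * (n * x⁻¹ * n⁻¹) := by simp only [commutatorElement_def]; group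
        rw [this]
        exact K.mul_mem hx (mem_normalizer_conj hnN (K.inv_mem hx))
      · have e1 := r1 (c⁻¹ * b) hb' x⁻¹ (K.inv_mem hx)
        have e2 := r2 (c⁻¹ * b) hb' x⁻¹ (K.inv_mem hx)
        have := fix_mul ψ _ _ (fix_inv ψ _ e1) e2
        convert this using 1
        have hnb : n * b = b * n := (h.commA n hnA b hb).eq
        have e3 : c' * (c⁻¹ * b) = b * n := by
          rw [← mul_assoc, (h.commA c' hc' c⁻¹ (A.inv_mem hc)).eq]
          exact hnb
        rw [mul_inv_cancel_left, e3]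
        simp only [commutatorElement_def]
        group
    · intro b hb g hg
      have hb' : c⁻¹ * b ∈ A := A.mul_mem (A.inv_mem hc) hb
      revert g
      refine h.forall_of_commutator (fun g => Fix ψ (b * g * b⁻¹))
        ⟨fun u hu => by simpa using hu, fun u _ => by simp⟩ ?_ ?_
      · intro g _ g' _ h1 h2
        have := fix_mul ψ _ _ h1 h2
        simpa [mul_assoc] using this
      · intro x hx y hy
        -- the elements `k₁⁻¹ k₂` fix the functional
        have hR : ∀ k ∈ K, Fix ψ ((b * k * b⁻¹)⁻¹ * (b * n * k * (b * n)⁻¹)) := by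
          intro k hk
          have := fix_mul ψ _ _ (fix_inv ψ _ (r1 (c⁻¹ * b) hb' k hk)) (r2 (c⁻¹ * b) hb' k hk)
          convert this using 1
          have e3 : c' * (c⁻¹ * b) = b * n := by
            rw [← mul_assoc, (h.commA c' hc' c⁻¹ (A.inv_mem hc)).eq]
            exact (h.commA n hnA b hb).eq
          rw [mul_inv_cancel_left, e3]
          group
        have hcm : ∀ k ∈ K, ∀ k' ∈ K, Commute (b * k * b⁻¹) (b * n * k' * (b * n)⁻¹) := fun k hk
            k' hk' => h.dist₂ hb (A.mul_mem hb hnA) (by rwa [inv_mul_cancel_left]) hk hk'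
        have hp1 := fix_mul ψ _ _ (hR x⁻¹ (K.inv_mem hx)) (hR y⁻¹ (K.inv_mem hy))
        have hp2 := hR (x⁻¹ * y⁻¹) (K.mul_mem (K.inv_mem hx) (K.inv_mem hy))
        have := fix_mul ψ _ _ hp1 (fix_inv ψ _ hp2)
        convert this using 1
        have hc2 := hcm y (hy) x⁻¹ (K.inv_mem hx)
        generalize hX : b * n * x⁻¹ * (b * n)⁻¹ = X at hc2
        symm
        calc (b * x⁻¹ * b⁻¹)⁻¹ * X * ((b * y⁻¹ * b⁻¹)⁻¹ * (b * n * y⁻¹ * (b * n)⁻¹)) *
              ((b * (x⁻¹ * y⁻¹) * b⁻¹)⁻¹ * (b * n * (x⁻¹ * y⁻¹) * (b * n)⁻¹))⁻¹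
            = b * x * b⁻¹ * (X * (b * y * b⁻¹)) * X⁻¹ * (b * (x⁻¹ * y⁻¹) * b⁻¹) := by
              rw [← hX]; group
          _ = _ := by
              rw [← hc2.eq, commutatorElement_def]; group
  -- counting
  let T : Submodule (ZMod 2) (Module.Dual (ZMod 2) U) := (C.comap U.subtype).dualAnnihilator
  let A0 := {a : G // a ∈ A ∧ σ a = 1}
  have hST : ∀ c ∈ A, (X c).dualAnnihilator ≤ T := fun c hc =>
    Submodule.dualAnnihilator_anti fun u hu => by
      show dl σ c (u : W) = 0
      simp [dl, hC (u : W) hu c hc]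
  have hTbound : Nat.card A0 * Nat.card T ≤ Nat.card A := by
    have h1 : Nat.card T * Nat.card C ≤ Nat.card W := by
      have hf := Submodule.finrank_sup_add_finrank_inf_eq U C
      have hle : Module.finrank (ZMod 2) ↥(U ⊔ C) ≤ Module.finrank (ZMod 2) W :=
        Submodule.finrank_le _
      have heq : Module.finrank (ZMod 2) ↥(C.comap U.subtype)
          = Module.finrank (ZMod 2) ↥(U ⊓ C) :=
        LinearEquiv.finrank_eq ((Submodule.equivMapOfInjective U.subtype
          Subtype.val_injective _).trans (LinearEquiv.ofEq _ _ (Submodule.map_comap_subtype U C)))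
      have hann := Subspace.finrank_add_finrank_dualAnnihilator_eq (K := ZMod 2)
        (W := C.comap U.subtype)
      rw [Module.natCard_eq_pow_finrank (K := ZMod 2),
        Module.natCard_eq_pow_finrank (K := ZMod 2) (V := C),
        Module.natCard_eq_pow_finrank (K := ZMod 2) (V := W), ← pow_add]
      refine Nat.pow_le_pow_right Nat.card_pos ?_
      show Module.finrank (ZMod 2) ↥((C.comap U.subtype).dualAnnihilator) + _ ≤ _
      omega
    have h2 := (Nat.mul_le_mul_left (Nat.card A0) h1).trans hbound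
    rw [← mul_assoc] at h2
    exact Nat.le_of_mul_le_mul_right h2 Nat.card_pos
  let M := {c : G // c ∈ A ∧ c ∉ Subgroup.normalizer (K : Set G)}
  haveI : Finite (Module.Dual (ZMod 2) U) := Module.finite_of_finite (ZMod 2)
  by_cases hbig : ∀ c : M, 4 ≤ Nat.card (X c.1).dualAnnihilator
  · let Pair := (c : M) × {φ : (X c.1).dualAnnihilator // φ ≠ 0}
    let rep : Module.Dual (ZMod 2) U → M := fun φ =>
      @Classical.epsilon M ⟨⟨c₀, hc₀, hc₀N⟩⟩ (fun c => φ ∈ (X c.1).dualAnnihilator)
    have hrep : ∀ (c : M) (φ : Module.Dual (ZMod 2) U), φ ∈ (X c.1).dualAnnihilator → φ ≠ 0 →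
        (rep φ).1⁻¹ * c.1 ∈ A ∧ σ ((rep φ).1⁻¹ * c.1) = 1 := by
      intro c φ hφ hne
      have hs : φ ∈ (X (rep φ).1).dualAnnihilator :=
        @Classical.epsilon_spec M (fun c => φ ∈ (X c.1).dualAnnihilator) ⟨c, hφ⟩
      exact ⟨A.mul_mem (A.inv_mem (rep φ).2.1) c.2.1,
        hdisj _ (rep φ).2.1 (rep φ).2.2 _ c.2.1 c.2.2 φ hs hφ hne⟩
    let f : Pair → A0 × {φ : T // φ ≠ 0} := fun q =>
      (⟨_, hrep q.1 q.2.1.1 q.2.1.2 (fun e => q.2.2 (Subtype.ext e))⟩,
        ⟨⟨q.2.1.1, hST _ q.1.2.1 q.2.1.2⟩, fun e => q.2.2 (Subtype.ext (congrArg Subtype.val e :))⟩)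
    have hf : Function.Injective f := by
      rintro ⟨c, ⟨φ, hφ⟩, h1⟩ ⟨c', ⟨φ', hφ'⟩, h1'⟩ hq
      simp only [f, Prod.mk.injEq, Subtype.mk.injEq] at hq
      obtain ⟨e1, e2⟩ := hq
      subst e2
      have : c = c' := Subtype.ext (mul_left_cancel (congrArg Subtype.val e1 :))
      subst this
      rfl
    have hcnt : Nat.card Pair ≤ Nat.card A0 * Nat.card {φ : T // φ ≠ 0} := by
      rw [← Nat.card_prod]; exact Nat.card_le_card_of_injective f hf
    haveI := Fintype.ofFinite M
    have hpair : Nat.card Pair = ∑ c : M, Nat.card {φ : (X c.1).dualAnnihilator // φ ≠ 0} :=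
      Nat.card_sigma
    have h3 : ∀ c : M, 3 ≤ Nat.card {φ : (X c.1).dualAnnihilator // φ ≠ 0} := by
      intro c
      have hc4 := hbig c
      rw [← Nat.card_congr (Equiv.sumCompl (fun φ : (X c.1).dualAnnihilator => φ = 0)),
        Nat.card_sum] at hc4
      have : Nat.card {φ : (X c.1).dualAnnihilator // φ = 0} = 1 := by simp
      simp only [ne_eq]
      omega
    have hTlt : Nat.card {φ : T // φ ≠ 0} < Nat.card T := by
      rw [← Nat.card_congr (Equiv.sumCompl (fun φ : T => φ = 0)), Nat.card_sum]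
      have : Nat.card {φ : T // φ = 0} = 1 := by simp
      simp only [ne_eq]
      omega
    have h4 : 3 * Nat.card M ≤ Nat.card Pair := by
      rw [hpair, Nat.card_eq_fintype_card, Fintype.card, mul_comm, ← smul_eq_mul,
        ← Finset.sum_const]
      exact Finset.sum_le_sum fun c _ => h3 c
    have h5 : Nat.card A ≤ 2 * Nat.card M := by
      let g : {a : A // (a : G) ∈ Subgroup.normalizer (K : Set G)} → M := fun a =>
        ⟨c₀ * (a.1 : G), A.mul_mem hc₀ a.1.2, fun hm => hc₀N (by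
          simpa using Subgroup.mul_mem _ hm (Subgroup.inv_mem _ a.2))⟩
      have hg : Function.Injective g := fun a a' haa => Subtype.ext (Subtype.ext
        (mul_left_cancel (congrArg Subtype.val haa :)))
      have e : {a : A // ¬ (a : G) ∈ Subgroup.normalizer (K : Set G)} ≃ M :=
        { toFun := fun a => ⟨a.1, a.1.2, a.2⟩
          invFun := fun m => ⟨⟨m.1, m.2.1⟩, m.2.2⟩
          left_inv := fun a => rfl
          right_inv := fun m => rfl }
      rw [← Nat.card_congr (Equiv.sumCompl (fun a : A => (a : G) ∈ Subgroup.normalizer (K : Set G))),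
        Nat.card_sum, Nat.card_congr e]
      have := Nat.card_le_card_of_injective g hg
      omega
    haveI : Nonempty A0 := ⟨⟨1, A.one_mem, map_one σ⟩⟩
    have h6 := Nat.mul_lt_mul_of_pos_left hTlt (Nat.card_pos (α := A0))
    have h7 : 0 < Nat.card A := Nat.card_pos
    omega
  · push Not at hbig
    obtain ⟨⟨c, hc, hcN⟩, hsmall⟩ := hbig
    refine h.false_of_index_two hc hcN U (hUA c hc) hUK hUnt fun u hu u' hu' h1 h2 => ?_
    have hr : Module.finrank (ZMod 2) (X c).dualAnnihilator ≤ 1 := by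
      by_contra hgt
      have h4 : 2 ^ 2 ≤ 2 ^ Module.finrank (ZMod 2) (X c).dualAnnihilator :=
        Nat.pow_le_pow_right (by norm_num) (by omega)
      have h5 := Module.natCard_eq_pow_finrank (K := ZMod 2) (V := ↥((X c).dualAnnihilator))
      rw [Nat.card_zmod] at h5
      simp only at hsmall
      omega
    have hq : Module.finrank (ZMod 2) (↥U ⧸ X c) ≤ 1 := by
      have e1 := Submodule.finrank_quotient_add_finrank (X c)
      have e2 := Subspace.finrank_add_finrank_dualAnnihilator_eq (K := ZMod 2) (W := X c)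
      omega
    haveI : Finite (↥U ⧸ X c) := Module.finite_of_finite (ZMod 2)
    have hcardq : Nat.card (↥U ⧸ X c) ≤ 2 := by
      rw [Module.natCard_eq_pow_finrank (K := ZMod 2), Nat.card_zmod]
      calc 2 ^ Module.finrank (ZMod 2) (↥U ⧸ X c) ≤ 2 ^ 1 := Nat.pow_le_pow_right (by norm_num) hq
        _ = 2 := by norm_num
    have hmem : ((⟨u, hu⟩ : U) - ⟨u', hu'⟩) ∈ X c := by
      rw [← Submodule.Quotient.eq]
      by_contra hne
      haveI := Fintype.ofFinite (↥U ⧸ X c)
      rw [Nat.card_eq_fintype_card] at hcardq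
      have h3 : ({0, Submodule.Quotient.mk ⟨u, hu⟩, Submodule.Quotient.mk ⟨u', hu'⟩} :
          Finset (↥U ⧸ X c)).card ≤ 2 := (Finset.card_le_univ _).trans hcardq
      rw [Finset.card_eq_three.2 ⟨_, _, _, ?_, ?_, hne, rfl⟩] at h3
      · omega
      · intro e; exact h1 ((Submodule.Quotient.mk_eq_zero _).1 e.symm)
      · intro e; exact h2 ((Submodule.Quotient.mk_eq_zero _).1 e.symm)
    have h3 : dl σ c (u - u') = 0 := hmem
    rw [map_sub, sub_eq_zero] at h3
    exact h3

end Setting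

end CfsgLib.PGV
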