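import Cfsg.Agent.Lib.LocalEven.PGVOdd
import Cfsg.Agent.Lib.LocalEven.PGVTwo
import Cfsg.Agent.Lib.PLocal.Quadratic

/-!
# An offender normalises every component

Timmesfeld's replacement and the reduction to the cases of `PGVOdd` and `PGVTwo`.
-/

set_option autoImplicit false
set_option linter.unusedSectionVars false
set_option linter.style.haveILetI false

namespace CfsgLib.PGV

open Cfsg
open scoped commutatorElement

variable {G : Type*} [Group G] [Finite G] {p : ℕ} [Fact p.Prime]
variable {W : Type*} [AddCommGroup W] [Finite W] [Module (ZMod p) W]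
variable (σ : G →* Module.End (ZMod p) W)

/-- The fixed points of a subgroup. -/
def fixS (B : Subgroup G) : Submodule (ZMod p) W where
  carrier := {w | ∀ b ∈ B, σ b w = w}
  zero_mem' := fun b _ => map_zero _
  add_mem' := fun hx hy b hb => by rw [map_add, hx b hb, hy b hb]
  smul_mem' := fun r x hx b hb => by rw [map_smul, hx b hb]

theorem mem_fixS {B : Subgroup G} {w : W} : w ∈ fixS σ B ↔ ∀ b ∈ B, σ b w = w := Iff.rfl

theorem fixS_anti {B B' : Subgroup G} (h : B ≤ B') : fixS σ B' ≤ fixS σ B :=
  fun _ hw b hb => hw b (h hb)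

theorem dl_pow_eq_zero {a : G} (ha : a ^ p = 1) : dl σ a ^ p = 0 := by
  have h := congrArg (Polynomial.aeval (σ a))
    (sub_pow_char (R := Polynomial (ZMod p)) (p := p) Polynomial.X 1)
  simp only [map_pow, map_sub, map_one, Polynomial.aeval_X, one_pow] at h
  rw [dl, h, ← map_pow, ha, map_one, sub_self]

theorem card_sup_mul_inf (X Y : Submodule (ZMod p) W) :
    Nat.card ↥(X ⊔ Y) * Nat.card ↥(X ⊓ Y) = Nat.card X * Nat.card Y := by
  rw [Module.natCard_eq_pow_finrank (K := ZMod p),
    Module.natCard_eq_pow_finrank (K := ZMod p) (V := ↥(X ⊓ Y)),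
    Module.natCard_eq_pow_finrank (K := ZMod p) (V := X),
    Module.natCard_eq_pow_finrank (K := ZMod p) (V := Y), ← pow_add, ← pow_add,
    Submodule.finrank_sup_add_finrank_inf_eq]

variable {A : Subgroup G}

/-- The elements of `A` centralising `[v, A]`. -/
def centOf (A : Subgroup G) (v : W) : Subgroup G where
  carrier := {a | a ∈ A ∧ ∀ b ∈ A, σ a (dl σ b v) = dl σ b v}
  one_mem' := ⟨A.one_mem, fun b _ => by rw [map_one, Module.End.one_apply]⟩
  mul_mem' := fun {x y} hx hy => ⟨A.mul_mem hx.1 hy.1, fun b hb => by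
    rw [map_mul, Module.End.mul_apply, hy.2 b hb, hx.2 b hb]⟩
  inv_mem' := fun {x} hx => ⟨A.inv_mem hx.1, fun b hb => by
    conv_lhs => rw [← hx.2 b hb]
    rw [← Module.End.mul_apply, ← map_mul, inv_mul_cancel, map_one, Module.End.one_apply]⟩

theorem centOf_step (hcomm : ∀ a ∈ A, ∀ b ∈ A, Commute a b) (v : W)
    (hμ : ∀ B : Subgroup G, B ≤ A →
      Nat.card B * Nat.card (fixS σ B) ≤ Nat.card A * Nat.card (fixS σ A)) :
    Nat.card A * Nat.card (fixS σ A) ≤ Nat.card (centOf σ A v) * Nat.card (fixS σ (centOf σ A v)) ∧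
      fixS σ (centOf σ A v) ≤ fixS σ A ⊔ ⨆ a : A, LinearMap.range (dl σ (a : G)) := by
  set B := centOf σ A v
  set C := fixS σ A
  have hBA : B ≤ A := fun a ha => ha.1
  have hfib : ∀ a a' : A, dl σ (a : G) v - dl σ (a' : G) v ∈ C → (a' : G)⁻¹ * a ∈ B := by
    intro a a' hmem
    refine ⟨A.mul_mem (A.inv_mem a'.2) a.2, fun b hb => ?_⟩
    set n := (a' : G)⁻¹ * a with hn
    have hnA : n ∈ A := A.mul_mem (A.inv_mem a'.2) a.2
    have hd : dl σ (a : G) v - dl σ (a' : G) v = σ (a' : G) (dl σ n v) := by
      simp only [dl, LinearMap.sub_apply, Module.End.one_apply, map_sub]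
      rw [← Module.End.mul_apply (σ (a' : G)), ← map_mul, hn, mul_inv_cancel_left]
      abel
    rw [hd] at hmem
    have h1 : σ b (dl σ n v) = dl σ n v := by
      have h2 := hmem b hb
      rw [← Module.End.mul_apply, ← map_mul, (hcomm b hb _ a'.2).eq, map_mul,
        Module.End.mul_apply] at h2
      have hinj : ∀ w, σ (a' : G)⁻¹ (σ (a' : G) w) = w := fun w => by
        rw [← Module.End.mul_apply, ← map_mul, inv_mul_cancel, map_one, Module.End.one_apply]
      have := congrArg (σ (a' : G)⁻¹) h2
      rwa [hinj, hinj] at this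
    have e : σ n (σ b v) = σ b (σ n v) := by
      rw [← Module.End.mul_apply, ← Module.End.mul_apply, ← map_mul, ← map_mul,
        (hcomm n hnA b hb).eq]
    simp only [dl, LinearMap.sub_apply, Module.End.one_apply, map_sub] at h1 ⊢
    rw [e, sub_eq_sub_iff_add_eq_add]
    rw [sub_eq_sub_iff_add_eq_add] at h1
    rw [h1, add_comm]
  have hin : ∀ (a : A) (w : C), dl σ (a : G) v + (w : W) ∈ fixS σ B := fun a w b hb => by
    rw [map_add, hb.2 a a.2, w.2 b (hBA hb)]
  let r : W → A := fun y => @Classical.epsilon A ⟨1⟩ (fun a : A => y - dl σ (a : G) v ∈ C)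
  have hr : ∀ (a : A) (w : C), (r (dl σ (a : G) v + w) : G)⁻¹ * a ∈ B := by
    intro a w
    have hs : dl σ (a : G) v + (w : W) - dl σ (r (dl σ (a : G) v + w) : G) v ∈ C :=
      @Classical.epsilon_spec A (fun x : A => dl σ (a : G) v + (w : W) - dl σ (x : G) v ∈ C)
        ⟨a, by simp⟩
    refine hfib a _ ?_
    have := C.sub_mem hs w.2
    convert this using 1
    abel
  let f : A × C → B × fixS σ B := fun q =>
    (⟨_, hr q.1 q.2⟩, ⟨_, hin q.1 q.2⟩)
  have hf : Function.Injective f := by
    rintro ⟨a, w⟩ ⟨a', w'⟩ hq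
    simp only [f, Prod.mk.injEq, Subtype.mk.injEq] at hq
    obtain ⟨h1, h2⟩ := hq
    rw [h2] at h1
    have ha : a = a' := Subtype.ext (mul_left_cancel h1)
    subst ha
    exact Prod.ext rfl (Subtype.ext (add_left_cancel h2))
  have h1 : Nat.card (A × C) ≤ Nat.card (B × fixS σ B) := Nat.card_le_card_of_injective f hf
  have h2 : Nat.card (B × fixS σ B) ≤ Nat.card (A × C) := by
    rw [Nat.card_prod, Nat.card_prod]; exact hμ B hBA
  refine ⟨by rwa [Nat.card_prod, Nat.card_prod] at h1, fun y hy => ?_⟩
  have hbij : Function.Bijective f := hf.bijective_of_nat_card_le h2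
  obtain ⟨⟨a, w⟩, he⟩ := hbij.2 (1, ⟨y, hy⟩)
  have hy' : dl σ (a : G) v + (w : W) = y := congrArg (fun q => ((q.2 : fixS σ B) : W)) he
  rw [← hy']
  exact Submodule.add_mem _
    (Submodule.mem_sup_right (le_iSup (fun a : A => LinearMap.range (dl σ (a : G))) a ⟨v, rfl⟩))
    (Submodule.mem_sup_left w.2)

/-- Timmesfeld replacement: the centraliser of `[W, A]` in `A` is again a maximiser. -/
theorem replacement (hcomm : ∀ a ∈ A, ∀ b ∈ A, Commute a b)
    (hμ : ∀ B : Subgroup G, B ≤ A →
      Nat.card B * Nat.card (fixS σ B) ≤ Nat.card A * Nat.card (fixS σ A)) :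
    ∃ I : Subgroup G, I ≤ A ∧ (∀ b ∈ I, ∀ a ∈ A, dl σ b * dl σ a = 0) ∧
      Nat.card A * Nat.card (fixS σ A) ≤ Nat.card I * Nat.card (fixS σ I) ∧
      fixS σ I ≤ fixS σ A ⊔ ⨆ a : A, LinearMap.range (dl σ (a : G)) := by
  classical
  haveI := Fintype.ofFinite W
  let R : Submodule (ZMod p) W := fixS σ A ⊔ ⨆ a : A, LinearMap.range (dl σ (a : G))
  suffices h : ∀ S : Finset W, ∃ I : Subgroup G, I ≤ A ∧
      (∀ b ∈ I, ∀ v ∈ S, ∀ a ∈ A, dl σ b (dl σ a v) = 0) ∧
      Nat.card A * Nat.card (fixS σ A) ≤ Nat.card I * Nat.card (fixS σ I) ∧ fixS σ I ≤ R by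
    obtain ⟨I, h1, h2, h3, h4⟩ := h Finset.univ
    exact ⟨I, h1, fun b hb a ha => LinearMap.ext fun v => h2 b hb v (Finset.mem_univ v) a ha, h3,
      h4⟩
  intro S
  induction S using Finset.induction with
  | empty => exact ⟨A, le_rfl, fun _ _ v hv => absurd hv (Finset.notMem_empty v), le_rfl, le_sup_left⟩
  | @insert v S hv ih =>
    obtain ⟨B, hBA, hB, hBmax, hBR⟩ := ih
    obtain ⟨hvmax, hvR⟩ := centOf_step σ hcomm v hμ
    set B' := centOf σ A v
    have hB'A : B' ≤ A := fun a ha => ha.1
    set M := Nat.card A * Nat.card (fixS σ A)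
    refine ⟨B ⊓ B', inf_le_left.trans hBA, ?_, ?_⟩
    · intro b hb w hw a ha
      rcases Finset.mem_insert.1 hw with rfl | hw
      · simp only [dl, LinearMap.sub_apply, Module.End.one_apply]
        rw [sub_eq_zero]
        exact hb.2.2 a ha
      · exact hB b hb.1 w hw a ha
    have hsub : fixS σ B ⊔ fixS σ B' ≤ fixS σ (B ⊓ B') :=
      sup_le (fixS_anti σ inf_le_left) (fixS_anti σ inf_le_right)
    have hJfix : fixS σ B ⊓ fixS σ B' ≤ fixS σ (B ⊔ B') := by
      intro w hw b hb
      rw [Subgroup.sup_eq_closure] at hb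
      induction hb using Subgroup.closure_induction'' with
      | mem x hx => exact hx.elim (fun h => hw.1 x h) (fun h => hw.2 x h)
      | inv_mem x hx =>
        exact hx.elim (fun h => hw.1 _ (B.inv_mem h)) (fun h => hw.2 _ (B'.inv_mem h))
      | one => simp
      | mul x y _ _ hx hy => rw [map_mul, Module.End.mul_apply, hy, hx]
    have hnorm : B ≤ Subgroup.normalizer (B' : Set G) := by
      intro x hx
      rw [Subgroup.mem_normalizer_iff]
      intro y
      constructor
      · intro hy
        rwa [(hcomm x (hBA hx) y (hB'A hy)).eq, mul_inv_cancel_right]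
      · intro hy
        have hyA : y ∈ A := by
          have := A.mul_mem (A.mul_mem (A.inv_mem (hBA hx)) (hB'A hy)) (hBA hx)
          simpa [mul_assoc] using this
        rwa [(hcomm x (hBA hx) y hyA).eq, mul_inv_cancel_right] at hy
    have hg := CfsgLib.PLocal.card_sup_mul_card_inf B B' hnorm
    have hm := card_sup_mul_inf (fixS σ B) (fixS σ B')
    have hJ : Nat.card ↥(B ⊔ B') * Nat.card ↥(fixS σ B ⊓ fixS σ B') ≤ M :=
      (Nat.mul_le_mul_left _ (Nat.card_le_card_of_injective _
        (Submodule.inclusion_injective hJfix))).trans (hμ _ (sup_le hBA hB'A))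
    have hprod : M * M ≤ Nat.card ↥(B ⊓ B') * Nat.card ↥(fixS σ B ⊔ fixS σ B') * M := by
      calc M * M ≤ (Nat.card B * Nat.card (fixS σ B)) * (Nat.card B' * Nat.card (fixS σ B')) :=
            Nat.mul_le_mul hBmax hvmax
        _ = (Nat.card B * Nat.card B') * (Nat.card (fixS σ B) * Nat.card (fixS σ B')) := by ring
        _ = Nat.card ↥(B ⊓ B') * Nat.card ↥(fixS σ B ⊔ fixS σ B')
              * (Nat.card ↥(B ⊔ B') * Nat.card ↥(fixS σ B ⊓ fixS σ B')) := by
            rw [← hg, ← hm]; ring
        _ ≤ _ := Nat.mul_le_mul_left _ hJ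
    have hMpos : 0 < M := Nat.mul_pos Nat.card_pos Nat.card_pos
    have hlow : M ≤ Nat.card ↥(B ⊓ B') * Nat.card ↥(fixS σ B ⊔ fixS σ B') :=
      Nat.le_of_mul_le_mul_right hprod hMpos
    have hinj := Nat.card_le_card_of_injective _ (Submodule.inclusion_injective hsub)
    refine ⟨hlow.trans (Nat.mul_le_mul_left _ hinj), ?_⟩
    have hup : Nat.card ↥(fixS σ (B ⊓ B')) ≤ Nat.card ↥(fixS σ B ⊔ fixS σ B') :=
      Nat.le_of_mul_le_mul_left ((hμ _ (inf_le_left.trans hBA)).trans hlow) Nat.card_pos
    intro y hy
    obtain ⟨⟨z, hz⟩, hzy⟩ :=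
      ((Submodule.inclusion_injective hsub).bijective_of_nat_card_le hup).2 ⟨y, hy⟩
    have he : z = y := congrArg Subtype.val hzy
    exact he ▸ sup_le hBR hvR hz

/-- A unipotent commutative family `X ≤ [X, A]` is trivial. -/
theorem eq_bot_of_le_commutator {T : Finset G} (hpow : ∀ a ∈ T, dl σ a ^ p = 0)
    (hcomm : ∀ a ∈ T, ∀ b ∈ T, Commute a b) :
    ∀ X : Submodule (ZMod p) W, X ≤ T.sup (fun a => X.map (dl σ a)) → X = ⊥ := by
  classical
  induction T using Finset.induction with
  | empty => intro X hX; simpa using hX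
  | @insert a T ha ih =>
    intro X hX
    have hih := ih (fun b hb => hpow b (Finset.mem_insert_of_mem hb))
      (fun b hb c hc => hcomm b (Finset.mem_insert_of_mem hb) c (Finset.mem_insert_of_mem hc))
    have hj : ∀ i, X.map (dl σ a ^ (p - i)) = ⊥ := by
      intro i
      induction i with
      | zero => rw [Nat.sub_zero, hpow a (Finset.mem_insert_self a T), Submodule.map_zero]
      | succ i hi =>
        by_cases hip : p ≤ i
        · rw [Nat.sub_eq_zero_of_le hip] at hi
          rwa [Nat.sub_eq_zero_of_le (by omega)]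
        refine hih _ ?_
        set j := p - (i + 1)
        have hji : p - i = j + 1 := by omega
        set N := dl σ a ^ j with hN
        calc X.map N ≤ (Finset.sup (insert a T) fun b => X.map (dl σ b)).map N :=
              Submodule.map_mono hX
          _ ≤ T.sup (fun b => (X.map N).map (dl σ b)) := by
              rw [Finset.apply_sup_eq_sup_comp (Submodule.map N) (fun x y => Submodule.map_sup x y N)
                (Submodule.map_bot N)]
              refine Finset.sup_le fun b hb => ?_
              show (X.map (dl σ b)).map N ≤ _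
              rw [← Submodule.map_comp, ← Module.End.mul_eq_comp]
              rcases Finset.mem_insert.1 hb with rfl | hb'
              · rw [hN, ← pow_succ, ← hji, hi]
                exact bot_le
              · have hc : Commute (dl σ b) N :=
                  ((((hcomm b hb a (Finset.mem_insert_self a T)).map σ).sub_left
                    (Commute.one_left _)).sub_right (Commute.one_right _)).pow_right j
                rw [← hc.eq, Module.End.mul_eq_comp, Submodule.map_comp]
                exact Finset.le_sup (f := fun b => (X.map N).map (dl σ b)) hb'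
    have := hj p
    rwa [Nat.sub_self, pow_zero, Module.End.one_eq_id, Submodule.map_id] at this

variable {σ} {K : Subgroup G}

theorem Setting.false_of_trivial (h : Setting σ A K) {c : G} (hc : c ∈ A)
    (hcN : c ∉ Subgroup.normalizer (K : Set G)) (h1 : σ c = 1) : False := by
  refine h.not_comm fun k hk z hz => h.central_of_commute hk (fun y hy => ?_) z hz
  have hc' : σ c⁻¹ = 1 := by
    calc σ c⁻¹ = σ c⁻¹ * σ c := by rw [h1, mul_one]
      _ = 1 := by rw [← map_mul, inv_mul_cancel, map_one]
  have := (h.dist c hc hcN y hy k hk).map σ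
  rw [map_mul, map_mul, h1, hc', one_mul, mul_one] at this
  exact this.symm

/-- The theorem for a faithful setting. -/
theorem Setting.normalizes (h : Setting σ A K)
    (hfaith : ∀ a ∈ A, (∀ k ∈ K, Commute (σ a) (σ k)) → σ a = 1)
    (hμ : ∀ B : Subgroup G, B ≤ A →
      Nat.card B * Nat.card (fixS σ B) ≤ Nat.card A * Nat.card (fixS σ A)) :
    A ≤ Subgroup.normalizer (K : Set G) := by
  classical
  intro c₀ hc₀
  by_contra hc₀N
  haveI := Fintype.ofFinite G
  obtain ⟨I, hIA, hquad, hImax, hIR⟩ := replacement σ h.commA hμ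
  obtain ⟨b, hbI, hb1⟩ : ∃ b ∈ I, σ b ≠ 1 := by
    by_contra hall
    push Not at hall
    have htop : (⊤ : Submodule (ZMod p) W) ≤ fixS σ A ⊔ ⨆ a : A, LinearMap.range (dl σ (a : G)) := by
      refine le_trans ?_ hIR
      intro w _ b hb
      rw [hall b hb, Module.End.one_apply]
    let X := ⨆ a : A, LinearMap.range (dl σ (a : G))
    have hX : X ≤ (Finset.univ.filter (· ∈ A)).sup (fun a => X.map (dl σ a)) := by
      refine iSup_le fun a => ?_
      rintro _ ⟨w, rfl⟩
      obtain ⟨u, hu, x, hx, rfl⟩ := Submodule.mem_sup.1 (htop (Submodule.mem_top (x := w)))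
      have hu' : dl σ (a : G) u = 0 := sub_eq_zero.2 (hu a a.2)
      rw [map_add, hu', zero_add]
      exact (Finset.le_sup (f := fun b => X.map (dl σ b))
        (show (a : G) ∈ Finset.univ.filter (· ∈ A) by simp)) ⟨x, hx, rfl⟩
    have hX0 := eq_bot_of_le_commutator σ
      (fun a ha => dl_pow_eq_zero σ (h.powA a (by simpa using ha)))
      (fun a ha b hb => h.commA a (by simpa using ha) b (by simpa using hb)) X hX
    refine h.false_of_trivial hc₀ hc₀N (sub_eq_zero.1 (LinearMap.ext fun w => ?_))
    have : dl σ c₀ w ∈ X := le_iSup (fun a : A => LinearMap.range (dl σ (a : G))) ⟨c₀, hc₀⟩ ⟨w, rfl⟩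
    rw [hX0, Submodule.mem_bot] at this
    exact this
  have hbA := hIA hbI
  have key : ∀ c ∈ A, c ∉ Subgroup.normalizer (K : Set G) → ∀ x ∈ K, Setting.Triv σ c x := by
    by_cases hi : ∃ e ∈ I, e ∈ Subgroup.normalizer (K : Set G) ∧ σ e ≠ 1
    · obtain ⟨e, heI, heN, he1⟩ := hi
      obtain ⟨k, hk, hne⟩ : ∃ k ∈ K, ¬ Commute (σ e) (σ k) := by
        by_contra hcon
        push Not at hcon
        exact he1 (hfaith e (hIA heI) hcon)
      exact fun c hc hcN => h.triv_of_normalizing hc hcN (hIA heI) heN ⟨k, hk, hne⟩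
        (hquad e heI c hc)
    push Not at hi
    have hbN : b ∉ Subgroup.normalizer (K : Set G) := fun hm => hb1 (hi b hbI hm)
    by_cases hp : p = 2
    · subst hp
      by_cases htwo : ∃ b' ∈ I, σ b' ≠ 1 ∧ σ b' ≠ σ b
      · obtain ⟨b', hb'I, hb'1, hb'b⟩ := htwo
        have hb'N : b' ∉ Subgroup.normalizer (K : Set G) := fun hm => hb'1 (hi b' hb'I hm)
        have hdiff : b⁻¹ * b' ∉ Subgroup.normalizer (K : Set G) := by
          intro hm
          refine hb'b ?_
          have := hi _ (I.mul_mem (I.inv_mem hbI) hb'I) hm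
          rw [← mul_inv_cancel_left b b', map_mul, this, mul_one]
        intro c hc hcN
        by_cases hcb : c⁻¹ * b ∈ Subgroup.normalizer (K : Set G)
        · refine h.triv_of_regular hc hcN (hIA hb'I) hb'N (fun hm => hdiff ?_) (hquad b' hb'I c hc)
          have := Subgroup.mul_mem _ (Subgroup.inv_mem _ hcb) hm
          rwa [mul_inv_rev, inv_inv, mul_assoc, mul_inv_cancel_left] at this
        · exact h.triv_of_regular hc hcN hbA hbN hcb (hquad b hbI c hc)
      · push Not at htwo
        exfalso
        -- `b` is a transvection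
        let I0 : Subgroup G := I ⊓ (MonoidHom.ker σ)
        have hI : Nat.card I ≤ 2 * Nat.card I0 := by
          have e : ∀ x : I, σ (x : G) ≠ 1 → b⁻¹ * (x : G) ∈ I0 := by
            intro x hx
            refine ⟨I.mul_mem (I.inv_mem hbI) x.2, ?_⟩
            show σ (b⁻¹ * (x : G)) = 1
            rw [map_mul, htwo x x.2 hx, ← map_mul,
              inv_mul_cancel, map_one]
          let f : I → Bool × I0 := fun x =>
            if hx : σ (x : G) = 1 then (false, ⟨x, x.2, hx⟩) else (true, ⟨_, e x hx⟩)
          have hf : Function.Injective f := by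
            intro x y hxy
            simp only [f] at hxy
            split_ifs at hxy with h1 h2 h2
            · exact Subtype.ext (congrArg (fun q : Bool × I0 => (q.2 : G)) hxy :)
            · exact absurd (congrArg Prod.fst hxy) (by simp)
            · exact absurd (congrArg Prod.fst hxy) (by simp)
            · exact Subtype.ext (mul_left_cancel (congrArg (fun q : Bool × I0 => (q.2 : G)) hxy :))
          have := Nat.card_le_card_of_injective f hf
          simpa [Nat.card_prod] using this
        have hI0 : fixS σ I0 = ⊤ := eq_top_iff.2 fun w _ b' hb' => by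
          rw [(MonoidHom.mem_ker.1 hb'.2 :), Module.End.one_apply]
        have h1 := (hμ I0 (inf_le_left.trans hIA)).trans hImax
        rw [hI0, show Nat.card (⊤ : Submodule (ZMod 2) W) = Nat.card W from
          Nat.card_congr (Equiv.Set.univ W)] at h1
        have hker : fixS σ I ≤ LinearMap.ker (dl σ b) := fun w hw => sub_eq_zero.2 (hw b hbI)
        have h2 : Nat.card W ≤ 2 * Nat.card (LinearMap.ker (dl σ b)) := by
          have h3 : Nat.card (fixS σ I) ≤ Nat.card (LinearMap.ker (dl σ b)) :=
            Nat.card_le_card_of_injective _ (Submodule.inclusion_injective hker)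
          have h4 : Nat.card I0 * Nat.card W ≤ Nat.card I0 * (2 * Nat.card (LinearMap.ker (dl σ b))) := by
            refine h1.trans ((Nat.mul_le_mul hI h3).trans (le_of_eq ?_))
            ring
          exact Nat.le_of_mul_le_mul_left h4 Nat.card_pos
        have hrange : Nat.card (LinearMap.range (dl σ b)) ≤ 2 := by
          have h5 := LinearMap.finrank_range_add_finrank_ker (dl σ b)
          rw [Module.natCard_eq_pow_finrank (K := ZMod 2) (V := W), ← h5, pow_add,
            ← Module.natCard_eq_pow_finrank, ← Module.natCard_eq_pow_finrank] at h2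
          exact Nat.le_of_mul_le_mul_right h2 Nat.card_pos
        refine h.false_of_index_two hbA hbN ⊤ (fun _ _ => trivial) (fun _ _ _ _ => trivial) ?_ ?_
        · intro ht
          obtain ⟨k, hk, hne⟩ := h.nt
          exact hne (LinearMap.ext fun w => ht k hk w trivial)
        · intro u _ u' _ hu hu'
          by_contra hne
          haveI := Fintype.ofFinite (LinearMap.range (dl σ b))
          rw [Nat.card_eq_fintype_card] at hrange
          have h3 : ({0, ⟨_, u, rfl⟩, ⟨_, u', rfl⟩} : Finset (LinearMap.range (dl σ b))).card ≤ 2 :=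
            (Finset.card_le_univ _).trans hrange
          rw [Finset.card_eq_three.2 ⟨_, _, _, ?_, ?_, ?_, rfl⟩] at h3
          · omega
          · intro e; exact hu (congrArg Subtype.val e.symm)
          · intro e; exact hu' (congrArg Subtype.val e.symm)
          · intro e; exact hne (congrArg Subtype.val e :)
    · exact (h.false_of_quadratic hp hbA hbN (hquad b hbI b hbA)).elim
  by_cases hp : p = 2
  · subst hp
    refine h.false_of_triv_two hfaith (fixS σ A) (fun w hw a ha => hw a ha) ?_ key hc₀ hc₀N
    let A0 : Subgroup G := A ⊓ MonoidHom.ker σ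
    have hA0 : fixS σ A0 = ⊤ := eq_top_iff.2 fun w _ b' hb' => by
      rw [(MonoidHom.mem_ker.1 hb'.2 :), Module.End.one_apply]
    have h1 := hμ A0 inf_le_left
    rw [hA0, show Nat.card (⊤ : Submodule (ZMod 2) W) = Nat.card W from
      Nat.card_congr (Equiv.Set.univ W)] at h1
    exact h1
  · exact h.false_of_triv_odd hp hc₀ hc₀N (key c₀ hc₀ hc₀N)

/-- If `K` fixes the common fixed points of a commuting unipotent family, it acts trivially. -/
theorem Setting.trivial_of_fix (h : Setting σ A K) {T : Finset G}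
    (hpow : ∀ a ∈ T, dl σ a ^ p = 0) (hT : ∀ a ∈ T, ∀ b ∈ T, Commute a b)
    (hK : ∀ a ∈ T, ∀ k ∈ K, Commute a k)
    (hfix : ∀ w, (∀ a ∈ T, dl σ a w = 0) → ∀ k ∈ K, σ k w = w) :
    ∀ w, ∀ k ∈ K, σ k w = w := by
  classical
  induction T using Finset.induction with
  | empty => exact fun w => hfix w (by simp)
  | @insert a T ha ih =>
    refine ih (fun b hb => hpow b (Finset.mem_insert_of_mem hb))
      (fun b hb c hc => hT b (Finset.mem_insert_of_mem hb) c (Finset.mem_insert_of_mem hc))
      (fun b hb => hK b (Finset.mem_insert_of_mem hb)) fun w hw => ?_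
    have hcm : ∀ g : G, Commute a g → ∀ v, dl σ a (σ g v) = σ g (dl σ a v) := fun g hg v =>
      LinearMap.congr_fun ((hg.map σ).sub_left (Commute.one_left _)).eq v
    have main : ∀ j : ℕ, ∀ v, (∀ b ∈ T, dl σ b v = 0) → (dl σ a ^ j) v = 0 →
        ∀ k ∈ K, σ k v = v := by
      intro j
      induction j with
      | zero => intro v _ hv k _; rw [pow_zero, Module.End.one_apply] at hv; simp [hv]
      | succ j ihj =>
        intro v hvT hv
        rw [pow_succ, Module.End.mul_apply] at hv
        have hNv : ∀ b ∈ T, dl σ b (dl σ a v) = 0 := by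
          intro b hb
          have hc := ((((hT b (Finset.mem_insert_of_mem hb) a (Finset.mem_insert_self a T)).map σ).sub_left
            (Commute.one_left _)).sub_right (Commute.one_right _))
          rw [← Module.End.mul_apply, hc.eq, Module.End.mul_apply, hvT b hb, map_zero]
        have hfx := ihj _ hNv hv
        have hd : ∀ k ∈ K, ∀ g ∈ K, σ g (σ k v - v) = σ k v - v := by
          intro k hk
          refine hfix _ fun b hb => ?_
          rcases Finset.mem_insert.1 hb with rfl | hb'
          · rw [map_sub, hcm k (hK b hb k hk), hfx k hk, sub_self]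
          · have : dl σ b (σ k v) = σ k (dl σ b v) :=
              LinearMap.congr_fun (((hK b hb k hk).map σ).sub_left (Commute.one_left _)).eq v
            rw [map_sub, this, hvT b hb', map_zero, sub_zero]
        intro k hk
        refine sub_eq_zero.1 (h.additive_eq_zero (fun g => σ g v - v) (fun x hx y hy => ?_) k hk)
        show σ (x * y) v - v = σ x v - v + (σ y v - v)
        have h1 := hd y hy x hx
        rw [map_sub] at h1
        rw [map_mul, Module.End.mul_apply, ← h1]
        abel
    exact main p w hw (by rw [hpow a (Finset.mem_insert_self a T), LinearMap.zero_apply])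

end CfsgLib.PGV
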