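import Cfsg.Agent.Lib.LocalEven.PGVDiag

/-!
# Odd primes: moving elements
-/

set_option autoImplicit false
set_option linter.unusedSectionVars false

namespace CfsgLib.PGV

open Cfsg
open scoped commutatorElement

variable {G : Type*} [Group G] [Finite G] {p : ℕ} [Fact p.Prime]
variable {W : Type*} [AddCommGroup W] [Module (ZMod p) W]

namespace Setting

variable {σ : G →* Module.End (ZMod p) W} {A K : Subgroup G}

theorem two_isUnit (hp : p ≠ 2) : IsUnit (2 : ZMod p) := by
  have h1 : ((2 : ℕ) : ZMod p) ≠ 0 := by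
    rw [Ne, ZMod.natCast_eq_zero_iff]
    exact fun hd => hp ((Nat.prime_dvd_prime_iff_eq Fact.out Nat.prime_two).1 hd)
  exact isUnit_iff_ne_zero.2 (by simpa using h1)

/-- A quadratically acting element of odd order normalises `K`. -/
theorem false_of_quadratic (h : Setting σ A K) (hp : p ≠ 2) {b : G} (hb : b ∈ A)
    (hbN : b ∉ Subgroup.normalizer (K : Set G)) (hq : dl σ b * dl σ b = 0) : False := by
  let N := dl σ b
  have hNN : N * N = 0 := hq
  have hσb : σ b = 1 + N := by simp [N, dl]
  have hσb' : σ b⁻¹ = 1 - N := by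
    have h1 : σ b * (1 - N) = 1 := by
      rw [hσb, add_mul, one_mul, mul_sub, mul_one, hNN, sub_zero, sub_add_cancel]
    calc σ b⁻¹ = σ b⁻¹ * (σ b * (1 - N)) := by rw [h1, mul_one]
      _ = _ := by rw [← mul_assoc, ← map_mul, inv_mul_cancel, map_one, one_mul]
  have hplus : ∀ k ∈ K, ∀ z ∈ K, σ (b * k * b⁻¹) * σ z = σ z * σ (b * k * b⁻¹) :=
    fun k hk z hz => ((h.dist b hb hbN z hz k hk).symm.map σ).eq
  have hminus : ∀ k ∈ K, ∀ z ∈ K, σ (b⁻¹ * k * b) * σ z = σ z * σ (b⁻¹ * k * b) := by
    intro k hk z hz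
    have := h.dist b⁻¹ (A.inv_mem hb) (inv_notMem_normalizer hbN) z hz k hk
    rw [inv_inv] at this
    exact (this.symm.map σ).eq
  let X : G → Module.End (ZMod p) W := fun k => N * σ k - σ k * N
  have hXc : ∀ k ∈ K, ∀ z ∈ K, X k * σ z = σ z * X k := by
    intro k hk z hz
    have h1 := hplus k hk z hz
    have h2 := hminus k hk z hz
    rw [map_mul, map_mul, hσb, hσb'] at h1 h2
    have h3 : (2 : ZMod p) • (X k * σ z) = (2 : ZMod p) • (σ z * X k) := by
      have h4 : (1 + N) * σ k * (1 - N) * σ z - (1 - N) * σ k * (1 + N) * σ z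
          = σ z * ((1 + N) * σ k * (1 - N)) - σ z * ((1 - N) * σ k * (1 + N)) := by rw [h1, h2]
      rw [two_smul, two_smul]
      calc X k * σ z + X k * σ z
          = (1 + N) * σ k * (1 - N) * σ z - (1 - N) * σ k * (1 + N) * σ z := by
            simp only [X]; noncomm_ring
        _ = _ := h4
        _ = _ := by simp only [X]; noncomm_ring
    exact (two_isUnit hp).smul_left_cancel.1 h3
  have hder : ∀ k z : G, X (k * z) = X k * σ z + σ k * X z := by
    intro k z; simp only [X, map_mul]; noncomm_ring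
  have hkill : ∀ k ∈ K, ∀ z ∈ K, (σ z * σ k - σ k * σ z) * X z = 0 := by
    intro k hk z hz
    have h1 := hXc (k * z) (K.mul_mem hk hz) z hz
    rw [hder] at h1
    have h2 := hXc k hk z hz
    have h3 := hXc z hz z hz
    have h4 : σ z * (X k * σ z + σ k * X z) - (X k * σ z + σ k * X z) * σ z = 0 := by
      rw [h1, sub_self]
    calc (σ z * σ k - σ k * σ z) * X z
        = σ z * (X k * σ z + σ k * X z) - (X k * σ z + σ k * X z) * σ z
          + ((X k * σ z - σ z * X k) * σ z + σ k * (X z * σ z - σ z * X z)) := by noncomm_ring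
      _ = 0 := by rw [h4, h2, h3]; noncomm_ring
  have hfix : ∀ z ∈ K, (¬ ∀ y ∈ K, z * y = y * z) → ∀ k ∈ K, σ k * X z = X z := by
    intro z hz hnc
    obtain ⟨k, hk, hknc⟩ := h.exists_noncentral_commutator hz hnc
    have hcm : ⁅z, k⁆ ∈ K := by
      rw [commutatorElement_def]
      exact K.mul_mem (K.mul_mem (K.mul_mem hz hk) (K.inv_mem hz)) (K.inv_mem hk)
    refine h.forall_of_noncentral (fun g => σ g * X z = X z) (by simp) ?_ ?_ hcm ?_ hknc
    · intro a _ c _ ha hc
      rw [map_mul, mul_assoc, hc, ha]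
    · intro a ha g hg he
      rw [map_mul, map_mul, mul_assoc, ← hXc z hz g⁻¹ (K.inv_mem hg), mul_assoc,
        ← mul_assoc (σ a), he, ← mul_assoc, ← hXc z hz g hg, mul_assoc, ← map_mul,
        mul_inv_cancel, map_one, mul_one]
    · -- `z k` and `k z` agree on the image of `X z`
      have h1 := hkill (z⁻¹ * k⁻¹ * z) (K.mul_mem (K.mul_mem (K.inv_mem hz) (K.inv_mem hk)) hz) z hz
      have h2 := hkill k⁻¹ (K.inv_mem hk) z hz
      have h3 : σ (z * k⁻¹) * X z = σ (k⁻¹ * z) * X z := by
        rw [map_mul, map_mul, ← sub_eq_zero, ← sub_mul]; exact h2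
      have h4 : σ (⁅z, k⁆) * X z = σ (z * k * z⁻¹) * (σ k⁻¹ * X z) := by
        rw [commutatorElement_def, map_mul, mul_assoc]
      have h5 : σ k⁻¹ * X z = σ (z⁻¹ * k⁻¹ * z) * X z := by
        calc σ k⁻¹ * X z = σ z⁻¹ * (σ (z * k⁻¹) * X z) := by
              rw [← mul_assoc, ← map_mul, inv_mul_cancel_left]
          _ = _ := by rw [h3, ← mul_assoc, ← map_mul, mul_assoc z⁻¹]
      show σ ⁅z, k⁆ * X z = X z
      rw [h4, h5, ← mul_assoc, ← map_mul]
      rw [show z * k * z⁻¹ * (z⁻¹ * k⁻¹ * z) = z * k * z⁻¹ * z⁻¹ * k⁻¹ * z by group] at *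
      -- use once more that `z` commutes with `k` on the image
      have h6 : σ (k * z⁻¹) * X z = σ (z⁻¹ * k) * X z := by
        have h7 := hkill k hk z hz
        have h8 : σ (z * k) * X z = σ (k * z) * X z := by
          rw [map_mul, map_mul, ← sub_eq_zero, ← sub_mul]; exact h7
        calc σ (k * z⁻¹) * X z = σ z⁻¹ * (σ (z * k) * X z) * σ z⁻¹ := by
              rw [mul_assoc (σ z⁻¹), mul_assoc (σ (z * k)), hXc z hz z⁻¹ (K.inv_mem hz),
                ← mul_assoc, ← mul_assoc, ← map_mul, ← map_mul]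
              congr 2; group
          _ = σ z⁻¹ * (σ (k * z) * X z) * σ z⁻¹ := by rw [h8]
          _ = _ := by
              rw [mul_assoc (σ z⁻¹), mul_assoc (σ (k * z)), hXc z hz z⁻¹ (K.inv_mem hz),
                ← mul_assoc, ← mul_assoc, ← map_mul, ← map_mul]
              congr 2; group
      calc σ (z * k * z⁻¹ * z⁻¹ * k⁻¹ * z) * X z
          = σ z * (σ (k * z⁻¹) * X z) * σ (z⁻¹ * k⁻¹ * z) := by
            rw [mul_assoc (σ z), mul_assoc (σ (k * z⁻¹)),
              hXc z hz (z⁻¹ * k⁻¹ * z) (K.mul_mem (K.mul_mem (K.inv_mem hz) (K.inv_mem hk)) hz),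
              ← mul_assoc, ← mul_assoc, ← map_mul, ← map_mul]
            congr 2; group
        _ = σ z * (σ (z⁻¹ * k) * X z) * σ (z⁻¹ * k⁻¹ * z) := by rw [h6]
        _ = X z := by
            rw [mul_assoc (σ z), mul_assoc (σ (z⁻¹ * k)),
              hXc z hz (z⁻¹ * k⁻¹ * z) (K.mul_mem (K.mul_mem (K.inv_mem hz) (K.inv_mem hk)) hz),
              ← mul_assoc, ← mul_assoc, ← map_mul, ← map_mul,
              show z * (z⁻¹ * k) * (z⁻¹ * k⁻¹ * z) = k * z⁻¹ * k⁻¹ * z by group]
            have h9 : σ (k⁻¹ * z) * X z = σ (z * k⁻¹) * X z := h3.symm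
            rw [show k * z⁻¹ * k⁻¹ * z = k * z⁻¹ * (k⁻¹ * z) by group, map_mul, mul_assoc, h9,
              ← mul_assoc, ← map_mul, show k * z⁻¹ * (z * k⁻¹) = 1 by group, map_one, one_mul]
  have hfixall : ∀ z ∈ K, ∀ k ∈ K, σ k * X z = X z := by
    intro z hz k hk
    by_cases hnc : ∀ y ∈ K, z * y = y * z
    · obtain ⟨g, hg, hgnc⟩ : ∃ g ∈ K, ¬ ∀ y ∈ K, g * y = y * g := by
        by_contra hc
        push Not at hc
        exact h.not_comm hc
      have hzg : ¬ ∀ y ∈ K, (z * g⁻¹) * y = y * (z * g⁻¹) := by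
        intro hc
        refine hgnc fun y hy => ?_
        have h2 : Commute (z * g⁻¹) y := hc y hy
        have h1 : Commute z y := hnc y hy
        have h3 : Commute g⁻¹ y := by
          have := h1.inv_left.mul_left h2
          rwa [inv_mul_cancel_left] at this
        have := h3.inv_left
        rw [inv_inv] at this
        exact this.eq
      have h1 := hfix _ (K.mul_mem hz (K.inv_mem hg)) hzg
      have h2 := hfix g hg hgnc
      have he : X z = X (z * g⁻¹) * σ g + σ (z * g⁻¹) * X g := by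
        rw [← hder, inv_mul_cancel_right]
      rw [he, h2 _ (K.mul_mem hz (K.inv_mem hg)), mul_add, ← mul_assoc, h1 k hk, h2 k hk]
    · exact hfix z hz hnc k hk
  have hadd : ∀ k ∈ K, ∀ z ∈ K, X (k * z) = X k + X z := by
    intro k hk z hz
    rw [hder, hfixall z hz k hk, hXc k hk z hz, hfixall k hk z hz]
  have hzero := h.additive_eq_zero X hadd
  have hcomm : ∀ k ∈ K, σ (b * k * b⁻¹) = σ k := by
    intro k hk
    have h1 : N * σ k = σ k * N := sub_eq_zero.1 (hzero k hk)
    rw [map_mul, map_mul, hσb, hσb', add_mul, one_mul, h1,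
      show (σ k + σ k * N) * (1 - N) = σ k - σ k * (N * N) by noncomm_ring, hNN, mul_zero, sub_zero]
  refine h.not_comm fun k hk z hz => h.central_of_commute hk (fun y hy => ?_) z hz
  rw [← hcomm k hk]
  exact (h.dist b hb hbN y hy k hk).symm.map σ

theorem exists_coprime_noncentral (h : Setting σ A K) :
    ∃ k ∈ K, ¬ p ∣ orderOf k ∧ ¬ ∀ z ∈ K, k * z = z * k := by
  by_contra hc
  push Not at hc
  have hG : IsPGroup p (↥K ⧸ Subgroup.center ↥K) := by
    intro q
    obtain ⟨x, rfl⟩ := QuotientGroup.mk_surjective q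
    obtain ⟨e, m, hm, he⟩ := Nat.exists_eq_pow_mul_and_not_dvd (orderOf_pos x).ne' p
      (Fact.out : p.Prime).ne_one
    refine ⟨e, ?_⟩
    rw [← QuotientGroup.mk_pow, QuotientGroup.eq_one_iff, Subgroup.mem_center_iff]
    intro z
    have ho : orderOf (x ^ p ^ e) = m := by
      rw [orderOf_pow, he, Nat.gcd_mul_right_left, Nat.mul_div_cancel_left]
      exact Nat.pow_pos (Fact.out : p.Prime).pos
    have := hc (x ^ p ^ e : ↥K) (x ^ p ^ e).2 (by rwa [Subgroup.orderOf_coe, ho]) z z.2
    exact Subtype.ext this.symm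
  haveI := hG.isNilpotent
  haveI : Group.IsSolvable (↥K ⧸ Subgroup.center ↥K) := IsNilpotent.to_isSolvable
  haveI : Group.IsSolvable ↥(Subgroup.center ↥K) := Group.isSolvable_of_comm fun a b =>
    Subtype.ext ((Subgroup.mem_center_iff.1 a.2 (b : ↥K)).symm)
  exact CfsgLib.Components.quasisimple_not_isSolvable h.qs
    (Group.isSolvable_of_ker_le_range (Subgroup.center ↥K).subtype
      (QuotientGroup.mk' (Subgroup.center ↥K)) (by simp))

/-- If the diagonals act trivially on `[W, c]` then `p = 2`. -/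
theorem false_of_triv_odd (h : Setting σ A K) (hp : p ≠ 2) {c : G} (hc : c ∈ A)
    (hcN : c ∉ Subgroup.normalizer (K : Set G)) (htriv : ∀ k ∈ K, Triv σ c k) : False := by
  have hp3 : 3 ≤ p := by
    have := (Fact.out : p.Prime).two_le
    omega
  obtain ⟨k, hk, hkp, hknc⟩ := h.exists_coprime_noncentral
  let cj : ℕ → G → G := fun i z => c ^ i * z * (c ^ i)⁻¹
  let E := σ (dg c p k)
  -- the order of the diagonal is prime to `p`
  have hdpow : ∀ n : ℕ, dg c p (k ^ n) = (dg c p k) ^ n := by
    intro n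
    induction n with
    | zero => simp [dg_one_arg]
    | succ n ih => rw [pow_succ, pow_succ, h.dg_mul hc hcN (K.pow_mem hk n) hk le_rfl, ih]
  let m := orderOf k
  have hEm : E ^ m = 1 := by
    rw [← map_pow, ← hdpow, pow_orderOf_eq_one, dg_one_arg, map_one]
  have hm : ((m : ℕ) : ZMod p) ≠ 0 := by
    rwa [Ne, ZMod.natCast_eq_zero_iff]
  let P : Module.End (ZMod p) W := ((m : ℕ) : ZMod p)⁻¹ • ∑ j ∈ Finset.range m, E ^ j
  have hEP : E * P = P := by
    have h1 : E * (∑ j ∈ Finset.range m, E ^ j) = ∑ j ∈ Finset.range m, E ^ j := by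
      have := mul_geom_sum E m
      rw [hEm, sub_self, sub_mul, one_mul, sub_eq_zero] at this
      exact this
    show E * (_ • _) = _
    rw [mul_smul_comm, h1]
  have hPfix : ∀ x : W, E x = x → P x = x := by
    intro x hx
    have hj : ∀ j : ℕ, (E ^ j) x = x := by
      intro j
      induction j with
      | zero => simp
      | succ j ih => rw [pow_succ, Module.End.mul_apply, hx, ih]
    show ((m : ZMod p)⁻¹ • ∑ j ∈ Finset.range m, E ^ j) x = x
    rw [LinearMap.smul_apply, LinearMap.sum_apply, Finset.sum_congr rfl fun j _ => hj j,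
      Finset.sum_const, Finset.card_range, ← Nat.cast_smul_eq_nsmul (ZMod p), smul_smul,
      inv_mul_cancel₀ hm, one_smul]
  have hPU : P * (E - 1) = 0 := by
    have h1 : (∑ j ∈ Finset.range m, E ^ j) * (E - 1) = 0 := by
      rw [geom_sum_mul, hEm, sub_self]
    show (_ • _) * _ = _
    rw [smul_mul_assoc, h1, smul_zero]
  let U : Submodule (ZMod p) W := LinearMap.range (E - 1)
  have hU_of : ∀ w, w - P w ∈ U := by
    intro w
    have h1 : ∀ j : ℕ, (E ^ j) w - w ∈ U := by
      intro j
      refine ⟨(∑ i ∈ Finset.range j, E ^ i) w, ?_⟩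
      rw [← Module.End.mul_apply, mul_geom_sum]
      simp
    have h2 : P w - w = ((m : ZMod p)⁻¹) • ∑ j ∈ Finset.range m, ((E ^ j) w - w) := by
      rw [Finset.sum_sub_distrib, smul_sub, Finset.sum_const, Finset.card_range,
        ← Nat.cast_smul_eq_nsmul (ZMod p), smul_smul, inv_mul_cancel₀ hm, one_smul]
      simp [P, LinearMap.sum_apply]
    rw [← neg_sub, h2]
    exact U.neg_mem (U.smul_mem _ (U.sum_mem fun j _ => h1 j))
  have hPzero : ∀ u ∈ U, P u = 0 := by
    rintro _ ⟨w, rfl⟩
    rw [← Module.End.mul_apply, hPU, LinearMap.zero_apply]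
  have hU_mem : ∀ w, P w = 0 → w ∈ U := fun w hw => by simpa [hw] using hU_of w
  have hU_sq : ∀ u ∈ U, ∃ v ∈ U, (E - 1) v = u := by
    rintro _ ⟨w, rfl⟩
    refine ⟨w - P w, hU_of w, ?_⟩
    have : (E - 1) (P w) = 0 := by
      rw [← Module.End.mul_apply, sub_mul, one_mul, hEP, sub_self, LinearMap.zero_apply]
    rw [map_sub, this, sub_zero]
  -- commutation
  have hcE : Commute (σ c) E := (h.commute_dg_self hc hcN hk).map σ
  have hkE : ∀ i < p, Commute (σ (cj i k)) E := by
    intro i hi
    have h0 : Commute k (dg c p k) := by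
      have := (Commute.refl k).mul_right
        (h.commute_dg_first hc hcN hk hk (Fact.out : p.Prime).one_le le_rfl)
      rwa [mul_inv_cancel_left] at this
    have h1 := ((h.commute_dg_self hc hcN hk).pow_left i)
    exact ((h1.mul_left h0).mul_left h1.inv_left).map σ
  have hcomm_P : ∀ f : Module.End (ZMod p) W, Commute f E → Commute f P := by
    intro f hf
    exact (Commute.sum_right _ _ _ fun j _ => hf.pow_right j).smul_right _
  have hUinv : ∀ f : Module.End (ZMod p) W, Commute f E → ∀ u ∈ U, f u ∈ U := by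
    rintro f hf _ ⟨w, rfl⟩
    exact ⟨f w, (LinearMap.congr_fun ((hf.sub_right (Commute.one_right f)).eq) w).symm⟩
  have hcU : ∀ u ∈ U, σ c u = u := by
    rintro _ ⟨w, rfl⟩
    have h1 : dl σ c * (E - 1) = 0 := by
      rw [mul_sub, mul_one, (h.commute_dg_dl hc hcN hk).eq, sub_eq_zero]
      exact htriv k hk
    have h2 := LinearMap.congr_fun h1 w
    simpa [dl, sub_eq_zero] using h2
  have hciU : ∀ i : ℕ, ∀ u ∈ U, σ (c ^ i) u = u := by
    intro i u hu
    induction i with
    | zero => simp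
    | succ i ih => rw [pow_succ, map_mul, Module.End.mul_apply, hcU u hu, ih]
  have hciU' : ∀ i : ℕ, ∀ u ∈ U, σ (c ^ i)⁻¹ u = u := by
    intro i u hu
    conv_lhs => rw [← hciU i u hu]
    rw [← Module.End.mul_apply, ← map_mul, inv_mul_cancel, map_one, Module.End.one_apply]
  have hk0 : cj 0 k = k := by simp [cj]
  have hk0U : ∀ u ∈ U, σ k u ∈ U := fun u hu => hUinv _ (hk0 ▸ hkE 0 (by omega)) u hu
  have hkiU : ∀ i : ℕ, ∀ u ∈ U, σ (cj i k) u = σ k u := by
    intro i u hu
    show σ (c ^ i * k * (c ^ i)⁻¹) u = _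
    rw [map_mul, map_mul, Module.End.mul_apply, Module.End.mul_apply, hciU' i u hu,
      hciU i _ (hk0U u hu)]
  have hkP : ∀ i < p, ∀ w, σ (cj i k) (P w) = P (σ (cj i k) w) := fun i hi w =>
    LinearMap.congr_fun (hcomm_P _ (hkE i hi)).eq w
  have hkz : ∀ i < p, ∀ j < p, i ≠ j → ∀ z ∈ K, ∀ w,
      σ (cj i k) (σ (cj j z) w) = σ (cj j z) (σ (cj i k) w) := by
    intro i hi j hj hij z hz w
    have : Commute (cj i k) (cj j z) := by
      rcases lt_or_gt_of_ne hij with hl | hl
      · exact h.commute_conj_pow hc hcN hl hj hk hz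
      · exact (h.commute_conj_pow hc hcN hl hi hz hk).symm
    exact LinearMap.congr_fun (this.map σ).eq w
  have hinv_apply : ∀ (x : G) (w : W), σ x (σ x⁻¹ w) = w ∧ σ x⁻¹ (σ x w) = w := by
    intro x w
    rw [← Module.End.mul_apply, ← Module.End.mul_apply, ← map_mul, ← map_mul, mul_inv_cancel,
      inv_mul_cancel, map_one, Module.End.one_apply]
    exact ⟨rfl, rfl⟩
  have hk'U : ∀ u ∈ U, σ k⁻¹ u ∈ U := by
    have h0 : Commute k (dg c p k) := by
      have := (Commute.refl k).mul_right
        (h.commute_dg_first hc hcN hk hk (Fact.out : p.Prime).one_le le_rfl)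
      rwa [mul_inv_cancel_left] at this
    exact hUinv _ (h0.inv_left.map σ)
  have hkpow : ∀ (n : ℕ), ∀ u ∈ U, σ (k ^ n) u ∈ U := by
    intro n
    induction n with
    | zero => intro u hu; simpa using hu
    | succ n ih => intro u hu; rw [pow_succ, map_mul, Module.End.mul_apply]; exact ih _ (hk0U u hu)
  have hDU : ∀ n : ℕ, ∀ v ∈ U, σ (dg c n k) v = σ (k ^ n) v := by
    intro n
    induction n with
    | zero => intro v _; simp [dg]
    | succ n ih =>
      intro v hv
      rw [dg_succ, map_mul, Module.End.mul_apply]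
      show σ (dg c n k) (σ (cj n k) v) = _
      rw [hkiU n v hv, ih _ (hk0U v hv), pow_succ, map_mul, Module.End.mul_apply]
  -- first step: `K` preserves `U`
  have hzU : ∀ z ∈ K, ∀ u ∈ U, σ z u ∈ U := by
    intro z hz
    let f : W → W := fun u => P (σ z u)
    have hz0 : cj 0 z = z := by simp [cj]
    -- behaviour of the `k_i` on `P z U`
    have hX1 : ∀ i, 1 ≤ i → i < p → ∀ u ∈ U, σ (cj i k) (f u) = f (σ k u) := by
      intro i h1 h2 u hu
      show σ (cj i k) (P (σ z u)) = P (σ z (σ k u))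
      rw [hkP i h2]
      congr 1
      have := hkz i h2 0 (by omega) (by omega) z hz u
      rw [hz0] at this
      rw [this, hkiU i u hu]
    have hX2 : ∀ i, 2 ≤ i → i < p → ∀ g ∈ K, ∀ u ∈ U,
        σ (cj i k) (σ (cj 1 g) (f u)) = σ (cj 1 g) (f (σ k u)) := by
      intro i h1 h2 g hg u hu
      rw [hkz i h2 1 (by omega) (by omega) g hg, hX1 i (by omega) h2 u hu]
    have hk2 : ∀ n : ℕ, ∀ v ∈ U, σ (cj 2 k ^ n) (f v) = f (σ (k ^ n) v) := by
      intro n
      induction n with
      | zero => simp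
      | succ n ih =>
        intro v hv
        rw [pow_succ, map_mul, Module.End.mul_apply, hX1 2 (by omega) (by omega) v hv,
          ih _ (hk0U v hv), pow_succ, map_mul, Module.End.mul_apply]
    have hD : ∀ n : ℕ, 1 ≤ n → n ≤ p → ∀ u ∈ U,
        σ (dg c n k) (f u) = σ k (f (σ (k ^ (n - 1)) u)) := by
      intro n hn
      induction n, hn using Nat.le_induction with
      | base => intro _ u _; simp [dg]
      | succ n hn ih =>
        intro hnp u hu
        rw [dg_succ, map_mul, Module.End.mul_apply]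
        show σ (dg c n k) (σ (cj n k) (f u)) = _
        rw [hX1 n hn (by omega) u hu, ih (by omega) _ (hk0U u hu), Nat.add_sub_cancel,
          ← Module.End.mul_apply (σ (k ^ (n - 1))), ← map_mul, ← pow_succ, Nat.sub_add_cancel hn]
    have hXrel : ∀ u ∈ U, σ k (f (σ (k ^ (p - 1)) u)) = f u := by
      intro u hu
      rw [← hD p (Fact.out : p.Prime).one_le le_rfl u hu]
      show E (P (σ z u)) = _
      rw [← Module.End.mul_apply, hEP]
    have hstep : ∀ g ∈ K, ∀ u ∈ U, E (σ (cj 1 g) (f u)) = σ (cj 1 g) (f u) := by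
      intro g hg u hu
      let w := σ (cj 1 g) (f u)
      let y := w - P w
      have hy : y ∈ U := hU_of _
      -- `k₀ k₂^(p-1)` fixes `f u` and commutes with the conjugates and with `P`
      let T := σ (k * cj 2 k ^ (p - 1))
      have hTx : T (f u) = f u := by
        show σ (k * cj 2 k ^ (p - 1)) (f u) = f u
        rw [map_mul, Module.End.mul_apply, hk2 _ u hu]; exact hXrel u hu
      have hTg : Commute T (σ (cj 1 g)) := by
        have h0 : Commute (cj 0 k) (cj 1 g) :=
          h.commute_conj_pow hc hcN (i := 0) (j := 1) (by omega) (by omega) hk hg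
        rw [hk0] at h0
        exact (h0.mul_left ((h.commute_conj_pow hc hcN (i := 1) (j := 2) (by omega) (by omega)
          hg hk).symm.pow_left _)).map σ
      have hTP : Commute T P := by
        show Commute (σ (k * cj 2 k ^ (p - 1))) P
        rw [map_mul, map_pow]
        exact (hcomm_P _ (hk0 ▸ hkE 0 (by omega))).mul_left
          ((hcomm_P _ (hkE 2 (by omega))).pow_left _)
      have e1 : T w = w := by
        rw [← Module.End.mul_apply, hTg.eq, Module.End.mul_apply, hTx]
      have e2 : T (P w) = P w := by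
        rw [← Module.End.mul_apply, hTP.eq, Module.End.mul_apply, e1]
      have hTy : T y = y := by rw [map_sub, e1, e2]
      have hk2U : ∀ n : ℕ, ∀ v ∈ U, σ (cj 2 k ^ n) v = σ (k ^ n) v := by
        intro n
        induction n with
        | zero => simp
        | succ n ih =>
          intro v hv
          rw [pow_succ, map_mul, Module.End.mul_apply, hkiU 2 v hv, ih _ (hk0U v hv), pow_succ,
            map_mul, Module.End.mul_apply]
      have hEy : E y = y := by
        show σ (dg c p k) y = y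
        have hpe : k ^ p = k * k ^ (p - 1) := by
          rw [← pow_succ', Nat.sub_add_cancel (Fact.out : p.Prime).one_le]
        rw [hDU p y hy, hpe, map_mul, Module.End.mul_apply, ← hk2U _ y hy,
          ← Module.End.mul_apply, ← map_mul]
        exact hTy
      have hy0 : w - P w = 0 := by
        show y = 0
        rw [← hPfix y hEy, hPzero y hy]
      rw [sub_eq_zero] at hy0
      show E w = w
      rw [hy0, ← Module.End.mul_apply, hEP]
    -- on these vectors `k₁` acts like `k₂`
    have h12 : ∀ g ∈ K, ∀ v ∈ U,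
        σ (cj 1 k) (σ (cj 1 g) (f v)) = σ (cj 1 g) (σ (cj 1 k) (f v)) := by
      intro g hg v hv
      rw [hX1 1 le_rfl (by omega) v hv]
      have hDw : ∀ n : ℕ, 2 ≤ n → n ≤ p → ∀ v ∈ U, σ (dg c n k) (σ (cj 1 g) (f v))
          = σ k (σ (cj 1 k) (σ (cj 1 g) (f (σ (k ^ (n - 2)) v)))) := by
        intro n hn
        induction n, hn using Nat.le_induction with
        | base =>
          intro _ v _
          have e : dg c 2 k = k * cj 1 k := by
            rw [dg_succ, dg_succ]; simp [dg, cj]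
          rw [e, map_mul, Module.End.mul_apply]
          simp
        | succ n hn ih =>
          intro hnp v hv
          rw [dg_succ, map_mul, Module.End.mul_apply]
          show σ (dg c n k) (σ (cj n k) (σ (cj 1 g) (f v))) = _
          rw [hX2 n hn (by omega) g hg v hv, ih (by omega) _ (hk0U v hv),
            ← Module.End.mul_apply (σ (k ^ (n - 2))), ← map_mul, ← pow_succ,
            show n - 2 + 1 = n + 1 - 2 by omega]
      -- choose `u` with `k^(p-2) u = v`
      have hu : σ (k⁻¹ ^ (p - 2)) v ∈ U := by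
        generalize p - 2 = n
        induction n with
        | zero => simpa using hv
        | succ n ih => rw [pow_succ', map_mul, Module.End.mul_apply]; exact hk'U _ ih
      have huv : σ (k ^ (p - 2)) (σ (k⁻¹ ^ (p - 2)) v) = v := by
        rw [inv_pow]; exact (hinv_apply _ v).1
      generalize σ (k⁻¹ ^ (p - 2)) v = u at hu huv
      have e1 := hstep g hg u hu
      rw [show E = σ (dg c p k) from rfl, hDw p (by omega) le_rfl u hu, huv] at e1
      have e2 : σ k (σ (cj 1 g) (f (σ k v))) = σ (cj 1 g) (f u) := by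
        have h0 := hkz 0 (by omega) 1 (by omega) (by omega) g hg (f (σ k v))
        rw [hk0] at h0
        rw [h0, ← huv, ← Module.End.mul_apply (σ k) (σ (k ^ (p - 2))), ← map_mul, ← pow_succ',
          show p - 2 + 1 = p - 1 by omega, hXrel u hu]
      have := congrArg (σ k⁻¹) (e1.trans e2.symm)
      rwa [(hinv_apply k _).2, (hinv_apply k _).2] at this
    -- hence `ᶜK` fixes these vectors
    have hcj_mul : ∀ a b : G, cj 1 (a * b) = cj 1 a * cj 1 b := fun a b => by
      simp only [cj]; group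
    have hcomY : ∀ a ∈ K, ∀ g ∈ K, ∀ v ∈ U, σ (cj 1 k) (σ (cj 1 a) (σ (cj 1 g) (f v)))
        = σ (cj 1 a) (σ (cj 1 k) (σ (cj 1 g) (f v))) := by
      intro a ha g hg v hv
      rw [← Module.End.mul_apply (σ (cj 1 a)), ← map_mul, ← hcj_mul, h12 _ (K.mul_mem ha hg) v hv,
        hcj_mul, map_mul, Module.End.mul_apply, ← h12 g hg v hv]
    have hmulapp : ∀ (x y : G) (w : W), σ (x * y) w = σ x (σ y w) := fun x y w => by
      rw [map_mul, Module.End.mul_apply]
    have hcjapp : ∀ (x y : G) (w : W), σ (cj 1 (x * y)) w = σ (cj 1 x) (σ (cj 1 y) w) := by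
      intro x y w
      rw [hcj_mul]
      exact hmulapp _ _ w
    obtain ⟨a, ha, hanc⟩ := h.exists_noncentral_commutator hk hknc
    have hcm : ⁅k, a⁆ ∈ K := by
      rw [commutatorElement_def]
      exact K.mul_mem (K.mul_mem (K.mul_mem hk ha) (K.inv_mem hk)) (K.inv_mem ha)
    have hfix : ∀ x ∈ K, ∀ g ∈ K, ∀ v ∈ U,
        σ (cj 1 x) (σ (cj 1 g) (f v)) = σ (cj 1 g) (f v) := by
      refine h.forall_of_noncentral
        (fun x => ∀ g ∈ K, ∀ v ∈ U, σ (cj 1 x) (σ (cj 1 g) (f v)) = σ (cj 1 g) (f v))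
        ?_ ?_ ?_ hcm ?_ hanc
      · intro g _ v _; simp [cj]
      · intro x _ y _ hx hy g hg v hv
        rw [hcj_mul, map_mul, Module.End.mul_apply, hy g hg v hv, hx g hg v hv]
      · intro x _ b hb hx g hg v hv
        have h1 := hx (b⁻¹ * g) (K.mul_mem (K.inv_mem hb) hg) v hv
        rw [hcjapp b⁻¹] at h1
        rw [hcjapp, hcjapp, h1, ← hcjapp, mul_inv_cancel]
        simp [cj]
      · intro g hg v hv
        have e : cj 1 ⁅k, a⁆ = cj 1 k * (cj 1 a * ((cj 1 k)⁻¹ * cj 1 a⁻¹)) := by
          simp only [cj, commutatorElement_def]; group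
        have h1 := hcomY a⁻¹ (K.inv_mem ha) g hg v hv
        have h2 : σ (cj 1 k)⁻¹ (σ (cj 1 a⁻¹) (σ (cj 1 g) (f v)))
            = σ (cj 1 a⁻¹) (σ (cj 1 k)⁻¹ (σ (cj 1 g) (f v))) := by
          have hw : ∀ g' ∈ K, ∀ v' ∈ U, σ (cj 1 k)⁻¹ (σ (cj 1 g') (f v'))
              = σ (cj 1 g') (f (σ k⁻¹ v')) := by
            intro g' hg' v' hv'
            have := h12 g' hg' _ (hk'U v' hv')
            rw [hX1 1 le_rfl (by omega) _ (hk'U v' hv'), (hinv_apply k v').1] at this
            rw [← this, (hinv_apply _ _).2]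
          rw [← Module.End.mul_apply (σ (cj 1 a⁻¹)), ← map_mul, ← hcj_mul,
            hw _ (K.mul_mem (K.inv_mem ha) hg) v hv, hw g hg v hv, hcj_mul, map_mul,
            Module.End.mul_apply]
        rw [e, hmulapp (cj 1 k), hmulapp (cj 1 a), hmulapp (cj 1 k)⁻¹, h2, ← hcjapp a a⁻¹, mul_inv_cancel,
          show cj 1 (1 : G) = 1 by simp [cj], map_one, Module.End.one_apply,
          (hinv_apply _ _).1]
    have hfk : ∀ v ∈ U, f (σ k v) = f v := by
      intro v hv
      have := hfix k hk 1 K.one_mem v hv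
      rwa [show cj 1 (1 : G) = 1 by simp [cj], map_one, Module.End.one_apply,
        hX1 1 le_rfl (by omega) v hv] at this
    intro u hu
    refine hU_mem _ ?_
    show f u = 0
    obtain ⟨v, hv, hvu⟩ := hU_sq u hu
    have hpv : ∀ n : ℕ, f (σ (k ^ n) v) = f v := by
      intro n
      induction n with
      | zero => simp
      | succ n ih => rw [pow_succ', map_mul, Module.End.mul_apply, hfk _ (hkpow n v hv), ih]
    have he : u = σ (k ^ p) v - v := by
      rw [← hDU p v hv, ← hvu]
      rfl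
    have hsub : ∀ a b : W, f (a - b) = f a - f b := fun a b => by simp [f]
    rw [he, hsub, hpv p, sub_self]
  -- second step: `K` commutes on `U`, so fixes it
  have hcomm : ∀ g ∈ K, ∀ z ∈ K, ∀ u ∈ U, σ z (σ g u) = σ g (σ z u) := by
    intro g hg z hz u hu
    have hgU : ∀ v ∈ U, σ (cj 1 g) v = σ g v := by
      intro v hv
      show σ (c ^ 1 * g * (c ^ 1)⁻¹) v = _
      rw [map_mul, map_mul, Module.End.mul_apply, Module.End.mul_apply, hciU' 1 v hv,
        hciU 1 _ (hzU g hg v hv)]
    have h0 := LinearMap.congr_fun ((h.commute_conj_pow hc hcN (i := 0) (j := 1) (by omega)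
      (by omega) hz hg).map σ).eq u
    simp only [Module.End.mul_apply, pow_zero, one_mul, inv_one, mul_one] at h0
    rw [← hgU u hu, ← hgU _ (hzU z hz u hu)]
    exact h0
  have hKU : ∀ g ∈ K, ∀ u ∈ U, σ g u = u := by
    refine h.forall_of_commutator (fun g => ∀ u ∈ U, σ g u = u) (fun u _ => by simp) ?_ ?_
    · intro x _ y _ hx hy u hu
      rw [map_mul, Module.End.mul_apply, hy u hu, hx u hu]
    · intro x hx y hy u hu
      rw [commutatorElement_def, map_mul, map_mul, map_mul, Module.End.mul_apply,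
        Module.End.mul_apply, Module.End.mul_apply,
        hcomm y hy x hx _ (hzU _ (K.inv_mem hx) _ (hzU _ (K.inv_mem hy) u hu)),
        (hinv_apply x _).1, (hinv_apply y _).1]
  have hE1 : E = 1 := by
    refine LinearMap.ext fun w => ?_
    have hmem : (E - 1) w ∈ U := ⟨w, rfl⟩
    have h2 : E ((E - 1) w) = (E - 1) w := by
      show σ (dg c p k) ((E - 1) w) = _
      rw [hDU p _ hmem, hKU _ (K.pow_mem hk p) _ hmem]
    have h3 : (E - 1) w = 0 := by rw [← hPfix _ h2, hPzero _ hmem]
    simpa [sub_eq_zero] using h3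
  refine hknc (h.central_of_commute hk fun z hz => ?_)
  have h1 := ((h.commute_dg_first hc hcN hk hz (Fact.out : p.Prime).one_le le_rfl).map σ).symm
  rw [map_mul, show σ (dg c p k) = 1 from hE1, mul_one] at h1
  have h2 : Commute (σ k) (σ z) := by
    show σ k * σ z = σ z * σ k
    calc σ k * σ z = σ k * (σ z * σ k⁻¹) * σ k := by
          rw [mul_assoc (σ k), mul_assoc (σ z), ← map_mul σ k⁻¹, inv_mul_cancel, map_one, mul_one]
      _ = σ k * (σ k⁻¹ * σ z) * σ k := by rw [h1.eq]
      _ = σ z * σ k := by rw [← mul_assoc (σ k), ← map_mul, mul_inv_cancel, map_one, one_mul]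
  exact h2

end Setting

end CfsgLib.PGV
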