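import Mathlib
import Cfsg.Agent.Lib.LocalEven.PMinimalStructure
import Cfsg.Agent.Lib.LocalEven.SubnormalSylow
import Cfsg.Agent.Lib.Components.LocalLayer
import Cfsg.Agent.Lib.Components.FStar

/-!
# A component of a `p`-minimal group with trivial `O_p`
-/

set_option linter.style.haveILetI false
set_option linter.unusedSectionVars false
set_option autoImplicit false

namespace CfsgLib.LocalEven.PMin

open Cfsg Subgroup
open scoped Pointwise commutatorElement

universe u

variable {P : Type u} [Group P] [Finite P] {p : ℕ} [Fact p.Prime]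

theorem finset_sup_inf_le {ι : Type*} (f : ι → Subgroup P) (h : ∀ i, (f i).IsSubnormal)
    (S : Sylow p P) (s : Finset ι) :
    s.sup f ⊓ (S : Subgroup P) ≤ ⨆ i, f i ⊓ (S : Subgroup P) := by
  classical
  induction s using Finset.induction_on with
  | empty => simp
  | insert a s _ ih =>
    rw [Finset.sup_insert]
    exact (SubSyl.sup_inf_le (h a) (isSubnormal_finset_sup f h s) S).trans
      (sup_le (le_iSup (fun i => f i ⊓ (S : Subgroup P)) a) ih)

theorem iSup_inf_le {ι : Type*} [Finite ι] (f : ι → Subgroup P) (h : ∀ i, (f i).IsSubnormal)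
    (S : Sylow p P) : (⨆ i, f i) ⊓ (S : Subgroup P) ≤ ⨆ i, f i ⊓ (S : Subgroup P) := by
  haveI := Fintype.ofFinite ι
  rw [← Finset.sup_univ_eq_iSup]
  exact finset_sup_inf_le f h S _

variable (hP : Cfsg.IsPMinimal p P) (hOp : Cfsg.pCore p P = ⊥) (S : Sylow p P)
  {M : Subgroup P} (hM : IsCoatom M) (hSM : (S : Subgroup P) ≤ M)
  {K : Subgroup P} (hK : Cfsg.IsComponent K)

include hP hOp hM hSM hK

theorem not_le_of_normal {N : Subgroup P} [N.Normal] (hKN : K ≤ N) : ¬ N ≤ M := fun h => by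
  haveI := nilpotent_of_le hP hOp S hM hSM N h
  exact CfsgLib.Components.component_not_le_of_isSolvable hK inferInstance hKN

theorem residual_eq_layer : Cfsg.pResidual p P = Cfsg.layer P := by
  haveI := CfsgLib.Components.layer_normal (G := P)
  refine le_antisymm ((normal_dichotomy hP S hM hSM _).resolve_right
    (not_le_of_normal hP hOp S hM hSM hK (CfsgLib.Components.component_le_layer hK))) ?_
  exact CfsgLib.Components.le_of_perfect_of_pPrime_elements
    CfsgLib.Components.layer_commutator_self fun q _ hq => CfsgLib.Transfer.mem_pResidual_of_coprime hq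

theorem fitting_le_layer : Cfsg.fittingSubgroup P ≤ Cfsg.layer P := by
  haveI hFn : (Cfsg.fittingSubgroup P).Normal := Subgroup.sSup_normal _ fun _ h => h.1
  have hsol : Group.IsSolvable ↥(Cfsg.fittingSubgroup P) := CfsgLib.Components.isSolvable_fitting
  have hFM : Cfsg.fittingSubgroup P ≤ M := by
    refine (normal_dichotomy hP S hM hSM _).resolve_left fun h => ?_
    refine CfsgLib.Components.component_not_le_of_isSolvable hK hsol ?_
    exact ((CfsgLib.Components.component_le_layer hK).trans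
      (residual_eq_layer hP hOp S hM hSM hK).ge).trans h
  intro x hx
  rw [← residual_eq_layer hP hOp S hM hSM hK]
  obtain ⟨a, ha, b, hb, hab, hpa, hcb⟩ := CfsgLib.Transfer.exists_pPart_mul (p := p) x
  have ha' : a = 1 := by
    have haF : a ∈ Cfsg.fittingSubgroup P := by
      exact (Subgroup.zpowers_le.2 hx) ha
    obtain ⟨k, hk⟩ := hpa
    obtain ⟨j, -, hj⟩ := (Nat.dvd_prime_pow (Fact.out : p.Prime)).1 hk
    have hZ : IsPGroup p ↥(Subgroup.zpowers a) := IsPGroup.of_card (n := j)
      (by rw [Nat.card_zpowers, hj])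
    obtain ⟨T, hT⟩ := hZ.exists_le_sylow
    obtain ⟨g, hg⟩ := MulAction.exists_smul_eq P T S
    have hgS : g * a * g⁻¹ ∈ (S : Subgroup P) ⊓ Cfsg.fittingSubgroup P := by
      refine ⟨?_, hFn.conj_mem a haF g⟩
      rw [← hg, Sylow.coe_subgroup_smul]
      exact ⟨a, hT (Subgroup.mem_zpowers a), rfl⟩
    have := normal_inf_sylow_le hP S hM hSM _ hFM hgS
    rw [hOp, Subgroup.mem_bot] at this
    exact conj_eq_one_iff.mp this
  rw [ha', one_mul] at hab
  rw [← hab]
  exact CfsgLib.Transfer.mem_pResidual_of_coprime hcb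

theorem layer_eq_orbitJoin :
    Cfsg.layer P = CfsgLib.Components.orbitJoin (S : Subgroup P) K := by
  set L := CfsgLib.Components.orbitJoin (S : Subgroup P) K with hL
  haveI hLn : L.Normal := by
    refine Subgroup.normalizer_eq_top_iff.1 (top_le_iff.1 ?_)
    refine (CfsgLib.Transfer.sup_pResidual_eq_top S).ge.trans
      (sup_le (CfsgLib.Components.le_normalizer_orbitJoin _ _) ?_)
    rw [residual_eq_layer hP hOp S hM hSM hK]
    exact CfsgLib.Components.layer_le_normalizer_orbitJoin hK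
  refine le_antisymm ?_ (CfsgLib.Components.orbitJoin_le_layer hK)
  rw [← residual_eq_layer hP hOp S hM hSM hK]
  exact (normal_dichotomy hP S hM hSM L).resolve_right
    (not_le_of_normal hP hOp S hM hSM hK (CfsgLib.Components.le_orbitJoin _ K))

theorem component_not_le : ¬ K ≤ M := by
  intro h
  haveI := CfsgLib.Components.layer_normal (G := P)
  refine not_le_of_normal hP hOp S hM hSM hK (CfsgLib.Components.component_le_layer hK) ?_
  rw [layer_eq_orbitJoin hP hOp S hM hSM hK]
  refine iSup_le fun s => ?_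
  rintro _ ⟨x, hx, rfl⟩
  exact M.mul_mem (M.mul_mem (hSM s.2) (h hx)) (M.inv_mem (hSM s.2))

theorem inf_sylow_not_central :
    ¬ K ⊓ (S : Subgroup P) ≤ Subgroup.centralizer (K : Set P) := by
  intro hc
  have hres : Cfsg.pResidual p ↥K = ⊤ := CfsgLib.Components.pResidual_eq_top_of_perfect hK.2.1
  let SK : Sylow p ↥K := (S.2.comap_of_injective K.subtype K.subtype_injective).toSylow
    (CfsgLib.Components.not_dvd_relIndex_of_isSubnormal S hK.1)
  have hSKc : (SK : Subgroup ↥K) ≤ Subgroup.center ↥K := by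
    intro x hx
    refine Subgroup.mem_center_iff.2 fun y => Subtype.ext ?_
    exact Subgroup.mem_centralizer_iff.1 (hc ⟨x.2, hx⟩) y y.2
  have h1 := SubSyl.mem_of_central SK hres (N := Subgroup.center ↥K) (T := ⊥) le_rfl bot_le
    (hSKc.trans le_sup_right)
  rw [inf_eq_right.2 hSKc, le_bot_iff] at h1
  have hb : K ⊓ (S : Subgroup P) = ⊥ := by
    rw [Subgroup.eq_bot_iff_forall]
    intro x hx
    have : (⟨x, hx.1⟩ : ↥K) ∈ (SK : Subgroup ↥K) := hx.2
    rw [h1, Subgroup.mem_bot] at this
    exact congrArg Subtype.val this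
  have hRS : Cfsg.pResidual p P ⊓ (S : Subgroup P) = ⊥ := by
    rw [residual_eq_layer hP hOp S hM hSM hK, layer_eq_orbitJoin hP hOp S hM hSM hK,
      CfsgLib.Components.orbitJoin, ← le_bot_iff]
    refine (iSup_inf_le (fun s : ↥(S : Subgroup P) => K.map (MulAut.conj (s : P)).toMonoidHom)
      (fun s => hK.1.map (f := (MulAut.conj (s : P)).toMonoidHom) (MulAut.conj (s : P)).surjective) S).trans
      (iSup_le fun s => ?_)
    rintro _ ⟨⟨x, hx, rfl⟩, hxS⟩
    have hxS' : x ∈ (S : Subgroup P) := by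
      have := (S : Subgroup P).mul_mem ((S : Subgroup P).mul_mem ((S : Subgroup P).inv_mem s.2) hxS) s.2
      simpa [mul_assoc] using this
    have : x ∈ K ⊓ (S : Subgroup P) := ⟨hx, hxS'⟩
    rw [hb, Subgroup.mem_bot] at this
    simp [this]
  have hcl : ∀ T : Sylow p ↥(Cfsg.pResidual p P),
      (T : Subgroup ↥(Cfsg.pResidual p P)).Normal := by
    haveI hRn : (Cfsg.pResidual p P).Normal := CfsgLib.Transfer.pResidual_normal
    have hnd : ¬ p ∣ Nat.card ↥(Cfsg.pResidual p P) := by
      have h := SubSyl.not_dvd_inf S hRn.isSubnormal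
      rwa [hRS, Subgroup.relIndex_bot_left] at h
    intro T
    have hT : (T : Subgroup ↥(Cfsg.pResidual p P)) = ⊥ := by
      rw [← Subgroup.card_eq_one]
      obtain ⟨k, hk⟩ := IsPGroup.iff_card.1 T.2
      rcases k with _ | k
      · simpa using hk
      · exact absurd ((dvd_pow_self p k.succ_ne_zero).trans (hk ▸ Subgroup.card_subgroup_dvd_card _))
          hnd
    rw [hT]; infer_instance
  have h2 := two_primes hP S hM hSM hcl
  have hpP : p ∈ (Nat.card P).primeFactors := by
    refine Nat.mem_primeFactors.2 ⟨Fact.out, ?_, Nat.card_pos.ne'⟩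
    by_contra hd
    refine (hP S).1 ?_
    have : (S : Subgroup P) = ⊥ := by
      rw [← Subgroup.card_eq_one]
      obtain ⟨k, hk⟩ := IsPGroup.iff_card.1 S.2
      rcases k with _ | k
      · simpa using hk
      · exact absurd ((dvd_pow_self p k.succ_ne_zero).trans (hk ▸ Subgroup.card_subgroup_dvd_card _))
          hd
    rw [this]; infer_instance
  have hpK : ¬ p ∣ Nat.card K := by
    have h := SubSyl.not_dvd_inf S hK.1
    rwa [hb, Subgroup.relIndex_bot_left] at h
  have hK1 : Nat.card K ≠ 1 := fun h =>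
    CfsgLib.Components.component_ne_bot hK (Subgroup.card_eq_one.1 h)
  obtain ⟨t, ht, htd⟩ := Nat.exists_prime_and_dvd hK1
  haveI := Fact.mk ht
  have htp : t ≠ p := fun h => hpK (h ▸ htd)
  have hpg : IsPGroup t ↥K := by
    refine IsPGroup.of_card (Nat.eq_prime_pow_of_unique_prime_dvd (n := Nat.card K) (p := t)
      Nat.card_pos.ne' fun {d} hd hdd => ?_)
    by_contra hne
    have hsub : ({p, t, d} : Finset ℕ) ⊆ (Nat.card P).primeFactors := by
      intro q hq
      simp only [Finset.mem_insert, Finset.mem_singleton] at hq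
      rcases hq with rfl | rfl | rfl
      · exact hpP
      · exact Nat.mem_primeFactors.2 ⟨ht, htd.trans (Subgroup.card_subgroup_dvd_card K), Nat.card_pos.ne'⟩
      · exact Nat.mem_primeFactors.2 ⟨hd, hdd.trans (Subgroup.card_subgroup_dvd_card K), Nat.card_pos.ne'⟩
    have h3 := (Finset.card_le_card hsub).trans h2
    have hdp : d ≠ p := fun h => hpK (h ▸ hdd)
    rw [Finset.card_eq_three.2 ⟨p, t, d, htp.symm, hdp.symm, fun h => hne h.symm, rfl⟩] at h3
    omega
  exact CfsgLib.Components.quasisimple_not_isNilpotent hK.2 hpg.isNilpotent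

theorem inf_le_M (X : Subgroup P)
    (hS1X : (S : Subgroup P) ⊓ normalizer (K : Set P) ≤ X) (hX : ¬ K ≤ X) : K ⊓ X ≤ M := by
  set A := K ⊓ X with hA
  set Y := CfsgLib.Components.orbitJoin (S : Subgroup P) A with hY
  by_cases htop : (S : Subgroup P) ⊔ Y = ⊤
  swap
  · exact ((CfsgLib.Components.le_orbitJoin _ A).trans le_sup_right).trans
      (le_unique hP S hM hSM htop le_sup_left)
  exfalso
  set C := Subgroup.centralizer (K : Set P) with hC
  have hEL := layer_eq_orbitJoin hP hOp S hM hSM hK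
  have hYE : Y ≤ Cfsg.layer P := by
    rw [hEL]
    exact iSup_mono fun s => Subgroup.map_mono inf_le_left
  have hSA : (S : Subgroup P) ⊓ normalizer (K : Set P) ≤ normalizer (A : Set P) := by
    refine le_trans (le_inf inf_le_right ?_) Subgroup.inf_normalizer_le_normalizer_inf
    exact hS1X.trans le_normalizer
  -- conjugates of `A` and of `K ⊓ S` by `S` lie in `A ⊔ C`
  have hpieces : ∀ (s : ↥(S : Subgroup P)) (B : Subgroup P), B ≤ K →
      (∀ g ∈ (S : Subgroup P) ⊓ normalizer (K : Set P), g ∈ normalizer (B : Set P)) → B ≤ A →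
      B.map (MulAut.conj (s : P)).toMonoidHom ≤ A ⊔ C := by
    intro s B hBK hBn hBA
    by_cases hs : K.map (MulAut.conj (s : P)).toMonoidHom = K
    · have hsn : (s : P) ∈ (S : Subgroup P) ⊓ normalizer (K : Set P) :=
        ⟨s.2, CfsgLib.Base.map_conj_eq_self_iff.1 hs⟩
      rw [CfsgLib.Base.map_conj_eq_self_iff.2 (hBn _ hsn)]
      exact hBA.trans le_sup_left
    · refine (Subgroup.map_mono hBK).trans (le_trans ?_ le_sup_right)
      refine Subgroup.le_centralizer_iff.1 ?_
      rw [← Subgroup.commutator_eq_bot_iff_le_centralizer]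
      exact CfsgLib.Components.components_commute hK
        (CfsgLib.Components.isComponent_conj hK _) (fun h => hs h.symm)
  have hES : Cfsg.layer P ⊓ (S : Subgroup P) ≤ A ⊔ C := by
    rw [hEL, CfsgLib.Components.orbitJoin]
    refine (iSup_inf_le (fun s : ↥(S : Subgroup P) => K.map (MulAut.conj (s : P)).toMonoidHom)
      (fun s => hK.1.map (f := (MulAut.conj (s : P)).toMonoidHom) (MulAut.conj (s : P)).surjective) S).trans
      (iSup_le fun s => ?_)
    have hKS : K.map (MulAut.conj (s : P)).toMonoidHom ⊓ (S : Subgroup P) =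
        (K ⊓ (S : Subgroup P)).map (MulAut.conj (s : P)).toMonoidHom := by
      rw [Subgroup.map_inf _ _ _ (MulAut.conj (s : P)).injective,
        CfsgLib.Base.map_conj_eq_self_iff.2 (le_normalizer s.2)]
    rw [hKS]
    refine hpieces s _ inf_le_left (fun g hg => ?_) (le_inf inf_le_left ?_)
    · exact Subgroup.inf_normalizer_le_normalizer_inf ⟨hg.2, le_normalizer hg.1⟩
    · exact le_trans (le_inf inf_le_right (inf_le_left.trans le_normalizer)) hS1X
  have hYAC : Y ≤ A ⊔ C := iSup_le fun s => hpieces s A inf_le_left (fun g hg => hSA hg) le_rfl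
  have hE : Cfsg.layer P ≤ A ⊔ C := by
    intro x hx
    obtain ⟨s, hs, y, hy, rfl⟩ : ∃ s ∈ (S : Subgroup P), ∃ y ∈ Y, s * y = x := by
      have hmem : x ∈ ((S : Subgroup P) : Set P) * (Y : Set P) := by
        rw [← Subgroup.coe_mul_of_left_le_normalizer_right (S : Subgroup P) Y
          (CfsgLib.Components.le_normalizer_orbitJoin _ _), htop]
        trivial
      obtain ⟨s, hs, y, hy, e⟩ := Set.mem_mul.1 hmem
      exact ⟨s, hs, y, hy, e⟩
    have hsE : s ∈ Cfsg.layer P := by
      have := (Cfsg.layer P).mul_mem hx ((Cfsg.layer P).inv_mem (hYE hy))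
      simpa using this
    exact Subgroup.mul_mem _ (hES ⟨hsE, hs⟩) (hYAC hy)
  have hKC : K ≤ normalizer (C : Set P) :=
    le_normalizer.trans (CfsgLib.LocalEven.normalizer_le_normalizer_centralizer _)
  have hAn : K ≤ normalizer (A : Set P) := by
    intro k hk
    have hk' : k ∈ A ⊔ C := hE (CfsgLib.Components.component_le_layer hK hk)
    rw [← SetLike.mem_coe, Subgroup.coe_mul_of_left_le_normalizer_right A C
      (inf_le_left.trans hKC)] at hk'
    obtain ⟨a, ha, c, hc, rfl⟩ := Set.mem_mul.1 hk'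
    refine (normalizer (A : Set P)).mul_mem (le_normalizer ha) ?_
    refine Subgroup.centralizer_le_normalizer _ ?_
    exact Subgroup.centralizer_le (fun z hz => (inf_le_left : A ≤ K) hz) hc
  haveI hAN : (A.subgroupOf K).Normal := normal_subgroupOf_of_le_normalizer hAn
  rcases CfsgLib.Components.quasisimple_normal_eq_top_or_le_center hK.2 (A.subgroupOf K) with h | h
  · exact hX ((subgroupOf_eq_top.1 h).trans inf_le_right)
  · refine CfsgLib.Components.quasisimple_center_ne_top hK.2 (top_le_iff.1 fun k _ => ?_)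
    have hk' : (k : P) ∈ A ⊔ C := hE (CfsgLib.Components.component_le_layer hK k.2)
    rw [← SetLike.mem_coe, Subgroup.coe_mul_of_left_le_normalizer_right A C
      (inf_le_left.trans hKC)] at hk'
    obtain ⟨a, ha, c, hc, e⟩ := Set.mem_mul.1 hk'
    have haC : a ∈ C := by
      refine Subgroup.mem_centralizer_iff.2 fun z hz => ?_
      have hak : (⟨a, (inf_le_left : A ≤ K) ha⟩ : ↥K) ∈ Subgroup.center ↥K := h ha
      exact congrArg Subtype.val (Subgroup.mem_center_iff.1 hak ⟨z, hz⟩)
    have hkC : (k : P) ∈ C := e ▸ C.mul_mem haC hc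
    exact Subgroup.mem_center_iff.2 fun y => Subtype.ext (Subgroup.mem_centralizer_iff.1 hkC y y.2)

omit hK in
theorem isPMinimal_component (hK : Cfsg.IsComponent K) :
    Cfsg.IsPMinimal p ↥(K ⊔ ((S : Subgroup P) ⊓ normalizer (K : Set P))) := by
  set S₁ := (S : Subgroup P) ⊓ normalizer (K : Set P) with hS₁
  set H := K ⊔ S₁ with hH
  have hKS₁ : K ⊓ (S : Subgroup P) ≤ S₁ := le_inf inf_le_right (inf_le_left.trans le_normalizer)
  have hmem : ∀ x ∈ H, ∃ k ∈ K, ∃ s ∈ S₁, k * s = x := by
    intro x hx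
    have : x ∈ (K : Set P) * (S₁ : Set P) := by
      rw [← Subgroup.coe_mul_of_right_le_normalizer_left K S₁ inf_le_right]; exact hx
    simpa [Set.mem_mul] using this
  have hpg : IsPGroup p ↥(S₁.subgroupOf H) :=
    ((S.2.to_le inf_le_left : IsPGroup p ↥S₁)).comap_of_injective H.subtype H.subtype_injective
  obtain ⟨T₁, hT₁⟩ := hpg.exists_le_sylow
  have hT₁eq : (T₁ : Subgroup ↥H) = S₁.subgroupOf H := by
    refine le_antisymm (fun x hx => ?_) hT₁
    obtain ⟨k, hk, s, hs, e⟩ := hmem x x.2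
    show (x : P) ∈ S₁
    rw [← e]
    refine S₁.mul_mem ?_ hs
    have hkH : k ∈ H := le_sup_left (a := K) hk
    have hkT : (⟨k, hkH⟩ : ↥H) ∈ (T₁ : Subgroup ↥H) := by
      have := (T₁ : Subgroup ↥H).mul_mem hx
        ((T₁ : Subgroup ↥H).inv_mem (hT₁ (show (⟨s, le_sup_right (a := K) hs⟩ : ↥H) ∈ S₁.subgroupOf H from hs)))
      convert this using 1
      exact Subtype.ext (by simp [← e])
    have heq : K ⊓ (S : Subgroup P) = K ⊓ (T₁ : Subgroup ↥H).map H.subtype := by
      refine SubSyl.eq_of_le_of_not_dvd (le_inf inf_le_left ?_)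
        ((T₁.2.map H.subtype).to_le inf_le_right) ?_
      · intro z hz
        exact ⟨⟨z, le_sup_right (a := K) (hKS₁ hz)⟩, hT₁ (hKS₁ hz), rfl⟩
      · intro hd
        exact SubSyl.not_dvd_inf S hK.1 (hd.trans (dvd_of_mul_right_eq _
          (relIndex_mul_relIndex _ _ K (le_inf inf_le_left (fun z hz =>
            ⟨⟨z, le_sup_right (a := K) (hKS₁ hz)⟩, hT₁ (hKS₁ hz), rfl⟩)) inf_le_left)))
    exact hKS₁ (heq.ge ⟨hk, ⟨_, hkT, rfl⟩⟩)
  have hnn : ¬ (T₁ : Subgroup ↥H).Normal := by
    intro hn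
    rw [hT₁eq] at hn
    have hKn : K ≤ normalizer (S₁ : Set P) :=
      le_sup_left.trans ((normal_subgroupOf_iff_le_normalizer le_sup_right).1 hn)
    have hKB : K ≤ normalizer ((K ⊓ S₁ : Subgroup P) : Set P) :=
      (le_inf le_normalizer hKn).trans Subgroup.inf_normalizer_le_normalizer_inf
    haveI hBn : ((K ⊓ S₁).subgroupOf K).Normal := normal_subgroupOf_of_le_normalizer hKB
    rcases CfsgLib.Components.quasisimple_normal_eq_top_or_le_center hK.2 ((K ⊓ S₁).subgroupOf K)
      with h | h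
    · refine component_not_le hP hOp S hM hSM hK ?_
      exact ((subgroupOf_eq_top.1 h).trans inf_le_right).trans (inf_le_left.trans hSM)
    · refine inf_sylow_not_central hP hOp S hM hSM hK fun x hx => ?_
      refine Subgroup.mem_centralizer_iff.2 fun z hz => ?_
      have hxc : (⟨x, hx.1⟩ : ↥K) ∈ Subgroup.center ↥K := h ⟨hx.1, hKS₁ hx⟩
      exact congrArg Subtype.val (Subgroup.mem_center_iff.1 hxc ⟨z, hz⟩)
  have hbase : ∀ X : Subgroup ↥H, X ≠ ⊤ → (T₁ : Subgroup ↥H) ≤ X → X ≤ M.subgroupOf H := by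
    intro X hX hTX x hx
    set XP := X.map H.subtype with hXP
    have hS₁X : S₁ ≤ XP := fun z hz =>
      ⟨⟨z, le_sup_right (a := K) hz⟩, hTX (hT₁ hz), rfl⟩
    have hKX : ¬ K ≤ XP := fun h => hX (by
      refine top_le_iff.1 fun y _ => ?_
      have : (y : P) ∈ XP := (sup_le h hS₁X : H ≤ XP) y.2
      obtain ⟨w, hw, hwy⟩ := this
      exact Subtype.ext hwy ▸ hw)
    have hAM := inf_le_M hP hOp S hM hSM hK XP hS₁X hKX
    obtain ⟨k, hk, s, hs, e⟩ := hmem x x.2
    show (x : P) ∈ M
    rw [← e]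
    refine M.mul_mem (hAM ⟨hk, ?_⟩) (hSM hs.1)
    have hxs : (x : P) * s⁻¹ ∈ XP := XP.mul_mem ⟨x, hx, rfl⟩ (XP.inv_mem (hS₁X hs))
    rwa [← e, mul_inv_cancel_right] at hxs
  have hMne : M.subgroupOf H ≠ ⊤ := fun h =>
    component_not_le hP hOp S hM hSM hK (le_sup_left.trans (subgroupOf_eq_top.1 h))
  have hT₁M : (T₁ : Subgroup ↥H) ≤ M.subgroupOf H := by
    rw [hT₁eq]; exact fun z hz => hSM hz.1
  obtain ⟨Z, hZ, hMZ⟩ := (eq_top_or_exists_le_coatom (M.subgroupOf H)).resolve_left hMne
  have huniq : ∀ X : Subgroup ↥H, IsCoatom X → (T₁ : Subgroup ↥H) ≤ X → X = M.subgroupOf H := by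
    intro X hX hTX
    have h1 := hbase X hX.1 hTX
    by_contra hne
    exact hMne (hX.2 _ (lt_of_le_of_ne h1 hne))
  intro T
  obtain ⟨g, hg⟩ := MulAction.exists_smul_eq ↥H T₁ T
  let e : ↥H ≃* ↥H := MulAut.conj g
  have hTe : (T : Subgroup ↥H) = (T₁ : Subgroup ↥H).map e.toMonoidHom := by
    rw [← hg, Sylow.coe_subgroup_smul]; rfl
  refine ⟨fun hn => hnn ?_, (M.subgroupOf H).map e.toMonoidHom, ⟨?_, ?_⟩, fun X ⟨hX, hTX⟩ => ?_⟩
  · rw [hTe] at hn
    have h := hn.comap e.toMonoidHom
    rwa [Subgroup.comap_map_eq_self_of_injective e.injective] at h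
  · have hMc : IsCoatom (M.subgroupOf H) := huniq Z hZ (hT₁M.trans hMZ) ▸ hZ
    exact ((e.mapSubgroup).isCoatom_iff _).2 hMc
  · rw [hTe]; exact Subgroup.map_mono hT₁M
  · have hXc : IsCoatom (X.map e.symm.toMonoidHom) := ((e.symm.mapSubgroup).isCoatom_iff _).2 hX
    have hle : (T₁ : Subgroup ↥H) ≤ X.map e.symm.toMonoidHom := by
      intro z hz
      exact ⟨e z, hTX (hTe ▸ ⟨z, hz, rfl⟩), e.symm_apply_apply z⟩
    rw [← huniq _ hXc hle, Subgroup.map_map]
    ext z
    simp

end CfsgLib.LocalEven.PMin
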