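import Mathlib
import Cfsg.Prelude.Def_Classical

/-!
# The signed translation matrices over `ℤ/3`
-/

set_option linter.style.haveILetI false
set_option linter.unusedSectionVars false
set_option autoImplicit false

namespace CfsgLib.LocalEven.Pauli

open Finset

variable {n : ℕ}

/-- The coordinate space. -/
abbrev W (n : ℕ) : Type := Fin n ⊕ Fin n → ZMod 2

/-- The index space of the matrices. -/
abbrev V (n : ℕ) : Type := Fin n → ZMod 2

/-- Matrices of degree `2ⁿ`. -/
abbrev Mat (n : ℕ) : Type := Matrix (V n) (V n) (ZMod 3)

/-- The left half. -/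
def lpart (z : W n) : V n := fun i => z (.inl i)

/-- The right half. -/
def rpart (z : W n) : V n := fun i => z (.inr i)

/-- The sign character. -/
def chi (x : ZMod 2) : ZMod 3 := if x = 0 then 1 else -1

theorem chi_zero : chi 0 = 1 := rfl

theorem chi_add : ∀ x y : ZMod 2, chi (x + y) = chi x * chi y := by decide

theorem chi_sq : ∀ x : ZMod 2, chi x * chi x = 1 := by decide

theorem chi_pm : ∀ x : ZMod 2, chi x = 1 ∨ chi x = -1 := by decide

theorem chi_inj : ∀ x y : ZMod 2, chi x = chi y → x = y := by decide

/-- The cocycle. -/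
def coc (z w : W n) : ZMod 2 := ∑ i, w (.inr i) * z (.inl i)

theorem coc_add_left (z z' w : W n) : coc (z + z') w = coc z w + coc z' w := by
  simp [coc, mul_add, Finset.sum_add_distrib]

theorem coc_add_right (z w w' : W n) : coc z (w + w') = coc z w + coc z w' := by
  simp [coc, add_mul, Finset.sum_add_distrib]

theorem coc_smul_left (a : ZMod 2) (z w : W n) : coc (a • z) w = a * coc z w := by
  simp [coc, Finset.mul_sum, mul_left_comm]

theorem coc_smul_right (a : ZMod 2) (z w : W n) : coc z (a • w) = a * coc z w := by
  simp [coc, Finset.mul_sum, mul_assoc]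

theorem coc_self (z : W n) : coc z z = Cfsg.quadFormPlus n (ZMod 2) z := by
  simp [coc, Cfsg.quadFormPlus, mul_comm]

theorem coc_zero_left (w : W n) : coc 0 w = 0 := by simp [coc]

/-- The commutation form. -/
def form (z w : W n) : ZMod 2 := coc z w + coc w z

theorem form_nondeg {z : W n} (h : ∀ w, form z w = 0) : z = 0 := by
  funext s
  rcases s with i | i
  · have := h (Pi.single (.inr i) 1)
    simpa [form, coc, Pi.single_apply, Finset.sum_ite_eq'] using this
  · have := h (Pi.single (.inl i) 1)
    simpa [form, coc, Pi.single_apply, Finset.sum_ite_eq'] using this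

/-- The signed translation. -/
def M (z : W n) : Mat n := fun x y =>
  if y = x + lpart z then chi (∑ i, rpart z i * x i) else 0

theorem lpart_add (z w : W n) : lpart (z + w) = lpart z + lpart w := rfl

theorem rpart_add (z w : W n) : rpart (z + w) = rpart z + rpart w := rfl

theorem M_mul (z w : W n) : M z * M w = chi (coc z w) • M (z + w) := by
  ext x y
  rw [Matrix.mul_apply, Finset.sum_eq_single (x + lpart z)]
  · have e : x + lpart z + lpart w = x + lpart (z + w) := by rw [lpart_add, add_assoc]
    simp only [M, Matrix.smul_apply, smul_eq_mul]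
    by_cases hy : y = x + lpart (z + w)
    · rw [if_pos True.intro, if_pos (hy.trans e.symm), if_pos hy, ← chi_add, ← chi_add]
      congr 1
      simp only [coc, rpart, lpart, Pi.add_apply, mul_add, add_mul, Finset.sum_add_distrib]
      ring
    · rw [if_pos True.intro, if_neg (fun h => hy (h.trans e)), if_neg hy, mul_zero, mul_zero]
  · intro b _ hb
    simp [M, hb]
  · simp

theorem M_zero : (M 0 : Mat n) = 1 := by
  ext x y
  have h : lpart (0 : W n) = 0 := rfl
  simp [M, h, rpart, chi_zero, Matrix.one_apply, eq_comm]

theorem add_self (z : W n) : z + z = 0 := by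
  funext s
  show z s + z s = 0
  generalize z s = a
  revert a
  decide

theorem M_sq (z : W n) : M z * M z = chi (coc z z) • (1 : Mat n) := by
  rw [M_mul, add_self, M_zero]

theorem M_comm (z w : W n) : M z * M w = chi (form z w) • (M w * M z) := by
  rw [M_mul, M_mul, smul_smul, add_comm w z, form, chi_add, mul_assoc, chi_sq, mul_one]

theorem add_left_cancel' (x : V n) {a b : V n} : x + a = x + b ↔ a = b := add_right_inj x

theorem sum_chi (x : V n) :
    ∑ c : V n, chi (∑ i, c i * x i) = if x = 0 then (2 : ZMod 3) ^ n else 0 := by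
  classical
  split_ifs with h
  · simp [h, chi_zero]
  · obtain ⟨i, hi⟩ := Function.ne_iff.1 h
    have hi' : x i = 1 := (show ∀ a : ZMod 2, a ≠ 0 → a = 1 by decide) _ (by simpa using hi)
    set S := ∑ c : V n, chi (∑ j, c j * x j) with hS
    have h1 : S = -S := by
      rw [hS, ← Finset.sum_neg_distrib]
      refine Fintype.sum_equiv (Equiv.addRight (Pi.single i 1)) _ _ fun c => ?_
      simp only [Equiv.coe_addRight, Pi.add_apply, add_mul, Finset.sum_add_distrib, chi_add]
      rw [show (∑ j, (Pi.single i (1 : ZMod 2) : V n) j * x j) = 1 by simp [Pi.single_apply, hi']]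
      simp [chi]
    revert h1
    generalize S = a
    revert a
    decide

theorem two_ne : (2 : ZMod 3) ≠ 0 := by decide

theorem pm_ne : (1 : ZMod 3) ≠ 0 ∧ (-1 : ZMod 3) ≠ 0 := by decide

theorem pm_cases : ∀ a : ZMod 3, a ≠ 0 → a = 1 ∨ a = -1 := by decide

theorem sign_coeff : ∀ (a : ZMod 3) (b c ε : ZMod 2), a ≠ 0 →
    a * chi b - chi ε * (a * chi c) = 0 → b + c = ε := by decide

theorem two_pow_ne : (2 : ZMod 3) ^ n ≠ 0 := by
  haveI : Fact (Nat.Prime 3) := ⟨Nat.prime_three⟩
  exact pow_ne_zero n two_ne

/-- Pairs of halves. -/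
def split (n : ℕ) : W n ≃ V n × V n := Equiv.sumArrowEquivProdArrow _ _ _

theorem lpart_split (a c : V n) : lpart ((split n).symm (a, c)) = a := rfl

theorem rpart_split (a c : V n) : rpart ((split n).symm (a, c)) = c := rfl

/-- The translations are linearly independent. -/
theorem M_indep {lam : W n → ZMod 3} (h : ∑ z, lam z • M z = 0) : lam = 0 := by
  classical
  haveI : Fact (Nat.Prime 3) := ⟨Nat.prime_three⟩
  have key : ∀ a c : V n, (2 : ZMod 3) ^ n * lam ((split n).symm (a, c)) = 0 := by
    intro a c
    have hx : ∀ x : V n, ∑ b : V n, lam ((split n).symm (a, b)) * chi (∑ i, b i * x i) = 0 := by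
      intro x
      have h1 := congrFun (congrFun h x) (x + a)
      rw [Matrix.sum_apply, ← (split n).symm.sum_comp, Fintype.sum_prod_type,
        Finset.sum_eq_single a] at h1
      · simpa [M, lpart_split, rpart_split] using h1
      · intro a' _ ha'
        refine Finset.sum_eq_zero fun b _ => ?_
        have : ¬ (x + a = x + lpart ((split n).symm (a', b))) := fun e => ha' (by
          have := (add_right_inj x).1 e
          rw [this]; rfl)
        simp [M, this]
      · simp
    have h2 : ∑ x : V n, (∑ b : V n, lam ((split n).symm (a, b)) * chi (∑ i, b i * x i)) *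
        chi (∑ i, c i * x i) = 0 := by simp [hx]
    simp only [Finset.sum_mul] at h2
    rw [Finset.sum_comm] at h2
    simp only [mul_assoc, ← chi_add, ← Finset.sum_add_distrib, ← add_mul] at h2
    simp only [← Finset.mul_sum] at h2
    have h3 : ∀ b : V n, (∑ x : V n, chi (∑ i, (b i + c i) * x i)) =
        if b = c then (2 : ZMod 3) ^ n else 0 := by
      intro b
      have hswap : ∀ x : V n, (∑ i, (b i + c i) * x i) = ∑ i, x i * (b + c) i := fun x => by
        simp [mul_comm]
      simp only [hswap]
      rw [sum_chi (b + c)]
      refine if_congr ?_ rfl rfl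
      constructor
      · intro e
        funext i
        have := congrFun e i
        simp only [Pi.add_apply, Pi.zero_apply] at this
        revert this
        generalize b i = u; generalize c i = v
        revert u v; decide
      · rintro rfl
        funext i
        show b i + b i = 0
        generalize b i = u
        revert u; decide
    simp only [h3, mul_ite, mul_zero, Finset.sum_ite_eq', Finset.mem_univ, if_true] at h2
    rw [mul_comm]; exact h2
  funext z
  have := key ((split n) z).1 ((split n) z).2
  rw [Prod.mk.eta, Equiv.symm_apply_apply] at this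
  exact (mul_eq_zero.1 this).resolve_left two_pow_ne

/-- Every matrix unit is a combination of translations. -/
theorem single_eq (x y : V n) :
    (2 : ZMod 3) ^ n • Matrix.single x y (1 : ZMod 3) =
      ∑ c : V n, chi (∑ i, c i * x i) • M ((split n).symm (x + y, c)) := by
  classical
  ext u v
  rw [Matrix.sum_apply]
  by_cases hv : v = u + (x + y)
  · have h : ∀ c : V n, (chi (∑ i, c i * x i) • M ((split n).symm (x + y, c))) u v =
        chi (∑ i, c i * (x i + u i)) := fun c => by
      have e : v = u + lpart ((split n).symm (x + y, c)) := hv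
      rw [Matrix.smul_apply, smul_eq_mul, M, if_pos e, ← chi_add]
      congr 1
      simp [rpart, split, Equiv.sumArrowEquivProdArrow, mul_add, Finset.sum_add_distrib]
    simp only [h]
    have := sum_chi (x + u)
    simp only [Pi.add_apply] at this
    rw [this, Matrix.smul_apply, Matrix.single_apply]
    have e : x + u = 0 ↔ x = u ∧ y = v := by
      constructor
      · intro hxu
        have hux : x = u := by
          funext i
          have := congrFun hxu i
          simp only [Pi.add_apply, Pi.zero_apply] at this
          revert this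
          generalize x i = a; generalize u i = b
          revert a b; decide
        refine ⟨hux, ?_⟩
        rw [hv, ← hux]
        funext i
        show y i = x i + (x i + y i)
        generalize x i = a; generalize y i = b
        revert a b; decide
      · rintro ⟨rfl, -⟩
        funext i
        show x i + x i = 0
        generalize x i = a
        revert a; decide
    by_cases hc : x = u ∧ y = v
    · rw [if_pos hc, if_pos (e.2 hc)]; simp
    · rw [if_neg hc, if_neg (fun h => hc (e.1 h))]; simp
  · have h : ∀ c : V n, (chi (∑ i, c i * x i) • M ((split n).symm (x + y, c))) u v = 0 := fun c => by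
      have e : ¬ (v = u + lpart ((split n).symm (x + y, c))) := hv
      simp [M, e]
    simp only [h, Finset.sum_const_zero]
    rw [Matrix.smul_apply, Matrix.single_apply, if_neg, smul_zero]
    rintro ⟨rfl, rfl⟩
    apply hv
    funext i
    show y i = x i + (x i + y i)
    generalize x i = a; generalize y i = b
    revert a b; decide

/-- An alternating symmetric bilinear form is a coboundary. -/
theorem exists_refinement (D : W n →ₗ[ZMod 2] W n →ₗ[ZMod 2] ZMod 2) (hself : ∀ u, D u u = 0) :
    ∃ t : W n → ZMod 2, ∀ u v, t (u + v) = t u + t v + D u v := by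
  classical
  have hsymm : ∀ u v, D u v = D v u := by
    intro u v
    have h := hself (u + v)
    simp only [map_add, LinearMap.add_apply, hself, zero_add, add_zero] at h
    revert h
    generalize D u v = a; generalize D v u = b
    revert a b; decide
  let ord := Fintype.equivFin (Fin n ⊕ Fin n)
  let b := Pi.basisFun (ZMod 2) (Fin n ⊕ Fin n)
  let Ef : W n →ₗ[ZMod 2] W n →ₗ[ZMod 2] ZMod 2 :=
    b.constr ℕ fun i => b.constr ℕ fun j => if ord i < ord j then D (b i) (b j) else 0
  have hE : Ef + Ef.flip = D := by
    refine b.ext fun i => b.ext fun j => ?_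
    simp only [LinearMap.add_apply, LinearMap.flip_apply, Ef, Module.Basis.constr_basis]
    rcases lt_trichotomy (ord i) (ord j) with h | h | h
    · rw [if_pos h, if_neg h.not_gt, add_zero]
    · obtain rfl := ord.injective h
      simp [hself]
    · rw [if_neg h.not_gt, if_pos h, zero_add, hsymm]
  refine ⟨fun u => Ef u u, fun u v => ?_⟩
  have := congrArg (fun f => f u v) hE
  simp only [LinearMap.add_apply, LinearMap.flip_apply] at this
  simp only [map_add, LinearMap.add_apply]
  rw [← this]
  ring

/-- Isometries of the standard form are realised by conjugation. -/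
theorem exists_intertwiner (σ : W n ≃ₗ[ZMod 2] W n) (hσ : ∀ z, coc (σ z) (σ z) = coc z z) :
    ∃ g : (Mat n)ˣ, ∀ z, (g : Mat n) * M z = M (σ z) * g ∨ (g : Mat n) * M z = -(M (σ z) * g) := by
  classical
  haveI : Fact (Nat.Prime 3) := ⟨Nat.prime_three⟩
  let D : W n →ₗ[ZMod 2] W n →ₗ[ZMod 2] ZMod 2 :=
    LinearMap.mk₂ (ZMod 2) (fun u v => coc (σ u) (σ v) + coc u v)
      (fun u u' v => by rw [map_add, coc_add_left, coc_add_left]; ring)
      (fun a u v => by rw [map_smul, coc_smul_left, coc_smul_left, smul_eq_mul]; ring)
      (fun u v v' => by rw [map_add, coc_add_right, coc_add_right]; ring)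
      (fun a u v => by rw [map_smul, coc_smul_right, coc_smul_right, smul_eq_mul]; ring)
  obtain ⟨t, ht⟩ := exists_refinement D fun u => by
    show coc (σ u) (σ u) + coc u u = 0
    rw [hσ]
    generalize coc u u = a
    revert a; decide
  let P : W n → Mat n := fun z => chi (t z) • M (σ z)
  let N : W n → Mat n := fun z => chi (coc z z) • M z
  have hP : ∀ u v, P u * P v = chi (coc u v) • P (u + v) := by
    intro u v
    simp only [P, Matrix.smul_mul, Matrix.mul_smul, M_mul, smul_smul, map_add, ← chi_add]
    congr 2
    rw [ht u v]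
    show _ = coc u v + (t u + t v + (coc (σ u) (σ v) + coc u v))
    generalize coc u v = c; generalize coc (σ u) (σ v) = d; generalize t u = a; generalize t v = b
    revert a b c d; decide
  have hN : ∀ u v, N u = chi (coc v u) • (N (v + u) * M v) := by
    intro u v
    simp only [N, Matrix.smul_mul, M_mul, smul_smul, ← chi_add]
    have e1 : v + u + v = u := by rw [add_comm v u, add_assoc, add_self, add_zero]
    rw [e1]
    congr 2
    rw [coc_add_left v u (v + u), coc_add_right, coc_add_right, coc_add_left v u v]
    generalize coc v v = a; generalize coc v u = b; generalize coc u v = c; generalize coc u u = d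
    revert a b c d; decide
  let G : Mat n → Mat n := fun E => ∑ u, P u * E * N u
  have hG : ∀ E v, P v * G E = G E * M v := by
    intro E v
    simp only [G, Finset.mul_sum, Finset.sum_mul]
    refine Fintype.sum_equiv (Equiv.addLeft v) _ _ fun u => ?_
    simp only [Equiv.coe_addLeft]
    rw [hN u v, ← Matrix.mul_assoc, ← Matrix.mul_assoc, hP]
    simp only [Matrix.smul_mul, Matrix.mul_smul, smul_smul, chi_sq, one_smul, Matrix.mul_assoc]
  obtain ⟨E, hE⟩ : ∃ E, G E ≠ 0 := by
    by_contra hcon
    push Not at hcon
    have hlam : ∀ x y, (fun u => P u x y * chi (coc u u)) = 0 := by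
      intro x y
      refine M_indep ?_
      ext z w
      have := congrFun (congrFun (hcon (Matrix.single y z 1)) x) w
      simp only [G, Matrix.sum_apply, Matrix.zero_apply] at this
      rw [Matrix.sum_apply, Matrix.zero_apply, ← this]
      refine Finset.sum_congr rfl fun u _ => ?_
      rw [Matrix.smul_apply, smul_eq_mul, Matrix.mul_apply, Finset.sum_eq_single z]
      · rw [Matrix.mul_single_apply_same, mul_one]
        simp [N, mul_assoc]
      · intro b _ hb
        rw [Matrix.mul_single_apply_of_ne _ _ _ _ _ hb, zero_mul]
      · simp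
    have h0 := congrFun (hlam 0 0) 0
    simp only [P, map_zero, M_zero, Matrix.smul_apply, Matrix.one_apply_eq, coc_zero_left, chi_zero,
      mul_one, smul_eq_mul, Pi.zero_apply] at h0
    rcases chi_pm (t 0) with h | h <;> rw [h] at h0
    · exact pm_ne.1 h0
    · exact pm_ne.2 h0
  set g := G E with hg
  have hcomm : ∀ v, g * M v = chi (t v) • (M (σ v) * g) := fun v => by
    rw [hg, ← hG]; simp [P]
  clear_value g
  have hinj : Function.Injective g.mulVec := by
    intro a b hab
    by_contra hne
    have hker : g.mulVec (a - b) = 0 := by rw [Matrix.mulVec_sub, hab, sub_self]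
    obtain ⟨w, hw⟩ := Function.ne_iff.1 (sub_ne_zero.2 hne)
    apply hE
    ext p q
    have h1 : g.mulVec ((((2 : ZMod 3) ^ n) • Matrix.single q w (1 : ZMod 3)).mulVec (a - b)) = 0 := by
      rw [single_eq, Matrix.mulVec_mulVec, Finset.mul_sum, Matrix.sum_mulVec]
      refine Finset.sum_eq_zero fun c _ => ?_
      rw [Matrix.mul_smul, hcomm, Matrix.smul_mulVec, Matrix.smul_mulVec,
        ← Matrix.mulVec_mulVec, hker, Matrix.mulVec_zero, smul_zero, smul_zero]
    have h2 := congrFun h1 p
    rw [Matrix.smul_mulVec, Matrix.mulVec_smul, Pi.smul_apply, smul_eq_mul] at h2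
    have h3 := (mul_eq_zero.1 h2).resolve_left two_pow_ne
    simp [Matrix.mulVec, dotProduct, Matrix.single_apply, ite_and] at h3
    exact h3.resolve_right (by simpa [sub_eq_zero] using hw)
  obtain ⟨gu, hgu⟩ := Matrix.mulVec_injective_iff_isUnit.1 hinj
  refine ⟨gu, fun z => ?_⟩
  rw [hgu, hcomm]
  rcases chi_pm (t z) with h | h <;> rw [h]
  · exact Or.inl (one_smul _ _)
  · exact Or.inr (by rw [neg_smul, one_smul])

/-- Only signed translations preserve all translations up to sign. -/
theorem eq_pm_M {g : (Mat n)ˣ}
    (hg : ∀ z, (g : Mat n) * M z = M z * (g : Mat n) ∨ (g : Mat n) * M z = -(M z * (g : Mat n))) :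
    ∃ v, (g : Mat n) = M v ∨ (g : Mat n) = -M v := by
  classical
  haveI : Fact (Nat.Prime 3) := ⟨Nat.prime_three⟩
  have hspan : ∀ A : Mat n, ∃ lam : W n → ZMod 3, A = ∑ z, lam z • M z := by
    have hinj : Function.Injective (fun lam : W n → ZMod 3 => ∑ z, lam z • M z) := by
      intro a b h
      refine sub_eq_zero.1 (M_indep ?_)
      simp only [Pi.sub_apply, sub_smul, Finset.sum_sub_distrib]
      exact sub_eq_zero.2 h
    have hbij := (Fintype.bijective_iff_injective_and_card _).2 ⟨hinj, by
      simp only [Fintype.card_fun, Matrix, ZMod.card, Fintype.card_sum, Fintype.card_fin,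
        ← pow_mul]
      congr 1
      rw [← pow_add]⟩
    intro A
    obtain ⟨lam, h⟩ := hbij.2 A
    exact ⟨lam, h.symm⟩
  obtain ⟨lam, hlam⟩ := hspan g
  obtain ⟨v, hv⟩ : ∃ v, lam v ≠ 0 := by
    by_contra h
    push Not at h
    have : (g : Mat n) = 0 := by rw [hlam]; simp [h]
    exact g.ne_zero this
  have hsupp : ∀ w, lam w ≠ 0 → w = v := by
    intro w hw
    by_contra hne
    have hwv : w + v ≠ 0 := fun e => hne (by
      have := congrArg (· + v) e
      simpa [add_assoc, add_self] using this)
    obtain ⟨z, hz⟩ := not_forall.1 fun h => hwv (form_nondeg h)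
    obtain ⟨ε, hε⟩ : ∃ ε : ZMod 2, (g : Mat n) * M z = chi ε • (M z * g) := by
      rcases hg z with h | h
      · exact ⟨0, by rw [chi_zero, one_smul, h]⟩
      · exact ⟨1, by rw [show chi 1 = -1 from rfl, neg_smul, one_smul, h]⟩
    rw [hlam] at hε
    simp only [Finset.sum_mul, Finset.mul_sum, Finset.smul_sum, Matrix.smul_mul, Matrix.mul_smul,
      M_mul, smul_smul] at hε
    have h0 : ∑ u, (lam (u + z) * chi (coc (u + z) z) - chi ε * (lam (u + z) * chi (coc z (u + z)))) •
        M u = 0 := by
      simp only [sub_smul, Finset.sum_sub_distrib, sub_eq_zero]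
      refine Eq.trans ?_ (hε.trans ?_)
      · refine Fintype.sum_equiv (Equiv.addRight z) _ _ fun u => ?_
        simp [add_assoc, add_self]
      · refine Fintype.sum_equiv (Equiv.addRight z) _ _ fun u => ?_
        simp [add_assoc, add_self, add_comm z u]
    have h1 : ∀ u, lam u ≠ 0 → form u z = ε := by
      intro u hu
      have := congrFun (M_indep h0) (u + z)
      simp only [add_assoc, add_self, add_zero, Pi.zero_apply] at this
      exact sign_coeff _ _ _ _ hu this
    apply hz
    have e : form (w + v) z = form w z + form v z := by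
      simp only [form, coc_add_left, coc_add_right]; ring
    rw [e, h1 w hw, h1 v hv]
    generalize ε = a
    revert a; decide
  have hg' : (g : Mat n) = lam v • M v := by
    rw [hlam, Finset.sum_eq_single v (fun u _ hu => by
      rw [not_not.1 fun h => hu (hsupp u h), zero_smul]) (by simp)]
  refine ⟨v, ?_⟩
  rcases pm_cases _ hv with h | h
  · exact Or.inl (by rw [hg', h, one_smul])
  · exact Or.inr (by rw [hg', h, neg_smul, one_smul])

theorem M_pm_inj {u v : W n} (h : M u = M v ∨ M u = -M v) : u = v := by
  classical
  by_contra hne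
  obtain ⟨s, hs, h'⟩ : ∃ s : ZMod 3, s ≠ 0 ∧ M u = s • M v := by
    rcases h with h | h
    · exact ⟨1, by decide, by rw [one_smul, h]⟩
    · exact ⟨-1, by decide, by rw [neg_smul, one_smul, h]⟩
  have h0 : ∑ z, ((if z = u then (1 : ZMod 3) else 0) - if z = v then s else 0) • M z = 0 := by
    simp [sub_smul, Finset.sum_sub_distrib, ite_smul, h']
  have := congrFun (M_indep h0) u
  simp [hne] at this

theorem M_ne_neg (v : W n) : M v ≠ -M v := by
  intro h
  have h1 := congrFun (congrFun h 0) (0 + lpart v)
  simp only [M, if_true, Matrix.neg_apply] at h1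
  revert h1
  generalize (∑ i, rpart v i * (0 : V n) i) = a
  revert a; decide

/-- The translation as a unit. -/
def Mu (z : W n) : (Mat n)ˣ :=
  ⟨M z, chi (coc z z) • M z, by rw [Matrix.mul_smul, M_sq, smul_smul, chi_sq, one_smul],
    by rw [Matrix.smul_mul, M_sq, smul_smul, chi_sq, one_smul]⟩

theorem coe_Mu (z : W n) : ((Mu z : (Mat n)ˣ) : Mat n) = M z := rfl

end CfsgLib.LocalEven.Pauli
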