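import Mathlib
import Cfsg.Agent.Lib.LocalEven.PauliGroup
import Cfsg.Agent.Lib.Geometry.HypBasis
import Cfsg.Agent.Lib.ThreeTransp.LargeQuotient

/-!
# An extension of a linear group by an extraspecial group
-/

set_option linter.style.haveILetI false
set_option linter.unusedSectionVars false
set_option autoImplicit false

namespace CfsgLib.LocalEven.Pauli

open Matrix

variable {n : ℕ}

/-- Pairs of a linear map and a matrix realising it. -/
def lift (S : Subgroup (W n ≃ₗ[ZMod 2] W n)) : Subgroup ((W n ≃ₗ[ZMod 2] W n) × (Mat n)ˣ) where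
  carrier := {r | r.1 ∈ S ∧ ∀ z, (r.2 : Mat n) * M z = M (r.1 z) * (r.2 : Mat n) ∨
    (r.2 : Mat n) * M z = -(M (r.1 z) * (r.2 : Mat n))}
  one_mem' := ⟨S.one_mem, fun z => Or.inl (by simp)⟩
  mul_mem' := by
    rintro ⟨σ, g⟩ ⟨τ, h⟩ ⟨hσ, hg⟩ ⟨hτ, hh⟩
    refine ⟨S.mul_mem hσ hτ, fun z => ?_⟩
    simp only [Prod.mk_mul_mk, Units.val_mul]
    rw [show (σ * τ) z = σ (τ z) from rfl]
    simp only at hg hh
    rcases hh z with h1 | h1 <;> rcases hg (τ z) with h2 | h2
    · left; rw [Matrix.mul_assoc, h1, ← Matrix.mul_assoc, h2, Matrix.mul_assoc]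
    · right; rw [Matrix.mul_assoc, h1, ← Matrix.mul_assoc, h2, Matrix.neg_mul, Matrix.mul_assoc]
    · right
      rw [Matrix.mul_assoc, h1, Matrix.mul_neg, ← Matrix.mul_assoc, h2, Matrix.mul_assoc]
    · left
      rw [Matrix.mul_assoc, h1, Matrix.mul_neg, ← Matrix.mul_assoc, h2, Matrix.neg_mul, neg_neg,
        Matrix.mul_assoc]
  inv_mem' := by
    rintro ⟨σ, g⟩ ⟨hσ, hg⟩
    refine ⟨S.inv_mem hσ, fun z => ?_⟩
    simp only [Prod.inv_mk]
    have hs : σ (σ⁻¹ z) = z := σ.apply_symm_apply z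
    simp only at hg
    have h := hg (σ⁻¹ z)
    rw [hs] at h
    rcases h with h | h
    · left
      have := congrArg (fun A => ((g⁻¹ : (Mat n)ˣ) : Mat n) * A * ((g⁻¹ : (Mat n)ˣ) : Mat n)) h
      simpa [Matrix.mul_assoc] using this.symm
    · right
      have := congrArg (fun A => ((g⁻¹ : (Mat n)ˣ) : Mat n) * A * ((g⁻¹ : (Mat n)ˣ) : Mat n)) h
      rw [eq_neg_iff_add_eq_zero, add_comm, ← eq_neg_iff_add_eq_zero]
      simpa [Matrix.mul_assoc] using this

theorem exists_extension {K : Type*} [Group K] (hn1 : 1 ≤ n) (θ : K →* (W n ≃ₗ[ZMod 2] W n))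
    (hθ : Function.Injective θ) (hq : ∀ k z, coc (θ k z) (θ k z) = coc z z) :
    ∃ (R : Type) (_ : Group R) (_ : Finite R) (Q : Subgroup R) (hN : Q.Normal) (e : R ⧸ Q ≃* K)
      (χ : ↥Q →* Multiplicative (W n)),
      Cfsg.IsExtraspecial 2 ↥Q ∧ Nat.card ↥Q = 2 ^ (2 * n + 1) ∧ Function.Surjective χ ∧
      χ.ker = Subgroup.center ↥Q ∧
      (∀ (r : R) (a : ↥Q), χ ⟨r * a * r⁻¹, hN.conj_mem (a : R) a.2 r⟩ =
        Multiplicative.ofAdd (θ (e (r : R ⧸ Q)) (Multiplicative.toAdd (χ a)))) ∧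
      ∀ a : ↥Q, a * a = 1 ↔ coc (Multiplicative.toAdd (χ a)) (Multiplicative.toAdd (χ a)) = 0 := by
  classical
  haveI : Fact (Nat.Prime 3) := ⟨Nat.prime_three⟩
  haveI : Finite (W n ≃ₗ[ZMod 2] W n) :=
    Finite.of_injective (fun σ => (σ : W n → W n)) DFunLike.coe_injective
  let R := ↥(lift θ.range)
  let ι := MonoidHom.ofInjective hθ
  let proj : R →* K := ι.symm.toMonoidHom.comp
    (((MonoidHom.fst _ _).comp (lift θ.range).subtype).codRestrict θ.range fun r => r.2.1)
  have hproj : ∀ r : R, θ (proj r) = r.1.1 := fun r =>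
    congrArg Subtype.val (ι.apply_symm_apply ⟨r.1.1, r.2.1⟩)
  have hsurj : Function.Surjective proj := by
    intro k
    obtain ⟨g, hg⟩ := exists_intertwiner (θ k) (hq k)
    refine ⟨⟨(θ k, g), ⟨k, rfl⟩, hg⟩, hθ ?_⟩
    rw [hproj]
  set Q := proj.ker with hQdef
  have hN : Q.Normal := inferInstance
  have hmemQ : ∀ r : R, r ∈ Q ↔ r.1.1 = 1 := fun r => by
    rw [hQdef, MonoidHom.mem_ker, ← hproj]
    exact ⟨fun h => by rw [h, map_one], fun h => hθ (h.trans (map_one θ).symm)⟩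
  have hQsh : ∀ a : ↥Q, ∃ v, ((a : R).1.2 : Mat n) = M v ∨ ((a : R).1.2 : Mat n) = -M v := by
    intro a
    refine eq_pm_M fun z => ?_
    have h := (a : R).2.2 z
    rw [(hmemQ a).1 a.2] at h
    exact h
  choose vv hvv using hQsh
  have huniq : ∀ (a : ↥Q) (v : W n),
      (((a : R).1.2 : Mat n) = M v ∨ ((a : R).1.2 : Mat n) = -M v) → vv a = v := by
    intro a v h
    refine M_pm_inj ?_
    rcases hvv a with h1 | h1 <;> rcases h with h2 | h2
    · exact Or.inl (h1.symm.trans h2)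
    · exact Or.inr (h1.symm.trans h2)
    · exact Or.inr (neg_eq_iff_eq_neg.1 (h1.symm.trans h2))
    · exact Or.inl (neg_inj.1 (h1.symm.trans h2))
  have hscal : ∀ (x : ZMod 2) (v : W n), chi x • M v = M v ∨ chi x • M v = -M v := fun x v => by
    rcases chi_pm x with h | h <;> rw [h]
    · exact Or.inl (one_smul _ _)
    · exact Or.inr (by rw [neg_smul, one_smul])
  have hmul : ∀ a b : ↥Q, vv (a * b) = vv a + vv b := by
    intro a b
    refine huniq _ _ ?_
    show (((a : R).1.2 * (b : R).1.2 : (Mat n)ˣ) : Mat n) = M (vv a + vv b) ∨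
      (((a : R).1.2 * (b : R).1.2 : (Mat n)ˣ) : Mat n) = -M (vv a + vv b)
    rw [Units.val_mul]
    have h := hscal (coc (vv a) (vv b)) (vv a + vv b)
    rw [← M_mul] at h
    rcases hvv a with h1 | h1 <;> rcases hvv b with h2 | h2 <;> rw [h1, h2] <;>
      (try simp only [Matrix.neg_mul, Matrix.mul_neg, neg_neg]) <;> rcases h with h | h <;> simp [h]
  have h1v : vv 1 = 0 := huniq 1 0 (Or.inl (by rw [M_zero]; rfl))
  let χ : ↥Q →* Multiplicative (W n) :=
    { toFun := fun a => Multiplicative.ofAdd (vv a)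
      map_one' := by rw [h1v]; rfl
      map_mul' := fun a b => by rw [hmul]; rfl }
  -- realising every translation
  have hMem : ∀ v, ((1, Mu v) : (W n ≃ₗ[ZMod 2] W n) × (Mat n)ˣ) ∈ lift θ.range := fun v =>
    ⟨⟨1, map_one θ⟩, fun z => by
      show M v * M z = M z * M v ∨ M v * M z = -(M z * M v)
      rw [M_comm]
      rcases chi_pm (form v z) with h | h <;> rw [h]
      · exact Or.inl (one_smul _ _)
      · exact Or.inr (by rw [neg_smul, one_smul])⟩
  let el : W n → ↥Q := fun v => ⟨⟨(1, Mu v), hMem v⟩, (hmemQ _).2 rfl⟩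
  have hel : ∀ v, vv (el v) = v := fun v => huniq _ _ (Or.inl rfl)
  have hchis : Function.Surjective χ := fun v =>
    ⟨el (Multiplicative.toAdd v), by show Multiplicative.ofAdd (vv _) = v; rw [hel]; rfl⟩
  have hnegmem : ((1, -1) : (W n ≃ₗ[ZMod 2] W n) × (Mat n)ˣ) ∈ lift θ.range :=
    ⟨⟨1, map_one θ⟩, fun z => Or.inl (by
      show ((-1 : (Mat n)ˣ) : Mat n) * M z = M z * ((-1 : (Mat n)ˣ) : Mat n)
      simp)⟩
  let zR : R := ⟨(1, -1), hnegmem⟩
  have hext : ∀ {a b : ↥Q}, ((a : R).1.2 : Mat n) = ((b : R).1.2 : Mat n) → a = b := by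
    intro a b h
    refine Subtype.ext (Subtype.ext (Prod.ext ?_ (Units.ext h)))
    rw [(hmemQ a).1 a.2, (hmemQ b).1 b.2]
  let zQ : ↥Q := ⟨zR, (hmemQ _).2 rfl⟩
  have hzc : ∀ a : ↥Q, a * zQ = zQ * a := fun a => hext (by
    show (((a : R).1.2 * (-1) : (Mat n)ˣ) : Mat n) = (((-1) * (a : R).1.2 : (Mat n)ˣ) : Mat n)
    simp)
  have hone : (1 : Mat n) ≠ -1 := M_zero (n := n) ▸ M_ne_neg 0
  have hz1 : zQ ≠ 1 := fun h => hone (by
    have := congrArg (fun a : ↥Q => (((a : R).1.2 : (Mat n)ˣ) : Mat n)) h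
    simpa [zQ, zR] using this.symm)
  have hker : ∀ a : ↥Q, vv a = 0 → a = 1 ∨ a = zQ := by
    intro a ha
    rcases hvv a with h | h <;> rw [ha, M_zero] at h
    · exact Or.inl (hext (h.trans rfl))
    · exact Or.inr (hext (h.trans (by show -(1 : Mat n) = ((-1 : (Mat n)ˣ) : Mat n); simp)))
  have hzv : vv zQ = 0 := huniq _ _ (Or.inr (by
    show ((-1 : (Mat n)ˣ) : Mat n) = -M 0
    rw [M_zero]; simp))
  have hsq : ∀ a : ↥Q, a * a = 1 ↔ coc (vv a) (vv a) = 0 := by
    intro a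
    have hval : (((a * a : ↥Q) : R).1.2 : Mat n) = chi (coc (vv a) (vv a)) • 1 := by
      show (((a : R).1.2 * (a : R).1.2 : (Mat n)ˣ) : Mat n) = _
      rw [Units.val_mul]
      rcases hvv a with h | h <;> rw [h] <;> simp [M_sq]
    constructor
    · intro h
      rw [h] at hval
      refine chi_inj _ _ ?_
      rcases chi_pm (coc (vv a) (vv a)) with h1 | h1
      · rw [h1, chi_zero]
      · exfalso
        rw [h1, neg_smul, one_smul] at hval
        exact hone (by simpa using hval)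
    · intro h
      rw [h, chi_zero, one_smul] at hval
      exact hext (hval.trans rfl)
  have hcommQ : ∀ a b : ↥Q, (a * b = b * a ↔ form (vv a) (vv b) = 0) := by
    intro a b
    have hab : (((a * b : ↥Q) : R).1.2 : Mat n) = chi (form (vv a) (vv b)) • (((b * a : ↥Q) : R).1.2 : Mat n) := by
      show (((a : R).1.2 * (b : R).1.2 : (Mat n)ˣ) : Mat n) =
        chi (form (vv a) (vv b)) • (((b : R).1.2 * (a : R).1.2 : (Mat n)ˣ) : Mat n)
      rw [Units.val_mul, Units.val_mul]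
      rcases hvv a with h1 | h1 <;> rcases hvv b with h2 | h2 <;> rw [h1, h2] <;>
        simp [Matrix.neg_mul, Matrix.mul_neg, M_comm (vv a) (vv b), smul_neg]
    constructor
    · intro h
      rw [h] at hab
      refine chi_inj _ _ ?_
      rcases chi_pm (form (vv a) (vv b)) with h1 | h1
      · rw [h1, chi_zero]
      · exfalso
        rw [h1, neg_smul, one_smul] at hab
        have h3 := congrArg (fun A => A * ((((b * a : ↥Q) : R).1.2)⁻¹ : (Mat n)ˣ).val) hab
        simp only [Matrix.neg_mul, Units.mul_inv] at h3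
        exact hone h3
    · intro h
      rw [h, chi_zero, one_smul] at hab
      exact hext hab
  obtain ⟨i0⟩ : Nonempty (Fin n) := ⟨⟨0, hn1⟩⟩
  have hkereq : χ.ker = Subgroup.center ↥Q := by
    ext a
    rw [MonoidHom.mem_ker, Subgroup.mem_center_iff]
    constructor
    · intro h b
      have : vv a = 0 := Multiplicative.ofAdd.injective h
      exact ((hcommQ b a).2 (by rw [this]; simp [form, coc]))
    · intro h
      have : vv a = 0 := form_nondeg fun w => by
        have := (hcommQ a (el w)).1 (h (el w)).symm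
        rwa [hel] at this
      show Multiplicative.ofAdd (vv a) = 1
      rw [this]; rfl
  have hcard : Nat.card ↥Q = 2 ^ (2 * n + 1) := by
    have h := χ.ker.card_mul_index
    have hk : Nat.card ↥χ.ker = 2 := by
      rw [Nat.card_eq_two_iff' (1 : χ.ker)]
      refine ⟨⟨zQ, by rw [MonoidHom.mem_ker]; show Multiplicative.ofAdd (vv zQ) = 1; rw [hzv]; rfl⟩,
        fun e => hz1 (congrArg Subtype.val e), fun y hy => ?_⟩
      have : vv y.1 = 0 := Multiplicative.ofAdd.injective y.2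
      exact Subtype.ext ((hker _ this).resolve_left fun e => hy (Subtype.ext e))
    rw [Subgroup.index_ker, MonoidHom.range_eq_top.2 hchis, Subgroup.card_top, hk] at h
    rw [← h, pow_succ, mul_comm]
    congr 1
    rw [Nat.card_congr (Multiplicative.toAdd (α := W n))]
    simp [Nat.card_eq_fintype_card, two_mul]
  have hEx : Cfsg.IsExtraspecial 2 ↥Q := by
    refine (CfsgLib.ThreeTransp.isExtraspecial_of Q (z := zR) (IsPGroup.of_card hcard) zQ.2
      (fun h => hz1 (Subtype.ext h)) ?_ (fun e he => congrArg Subtype.val (hzc ⟨e, he⟩)) ?_ ?_ ?_ ?_).1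
    · exact congrArg Subtype.val (hext (a := zQ * zQ) (b := 1) (by
        show (((-1 : (Mat n)ˣ) * (-1)) : (Mat n)ˣ).val = _
        simp))
    · intro a ha b hb
      have := hker (⟨a, ha⟩ * ⟨b, hb⟩ * (⟨a, ha⟩ : ↥Q)⁻¹ * (⟨b, hb⟩ : ↥Q)⁻¹) (by
        have hx : χ (⟨a, ha⟩ * ⟨b, hb⟩ * (⟨a, ha⟩ : ↥Q)⁻¹ * (⟨b, hb⟩ : ↥Q)⁻¹) = 1 := by
          rw [map_mul, map_mul, map_mul, map_inv, map_inv, mul_comm (χ ⟨a, ha⟩) (χ ⟨b, hb⟩),
            mul_inv_cancel_right, mul_inv_cancel]
        exact Multiplicative.ofAdd.injective hx)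
      rcases this with h | h
      · exact Or.inl (congrArg Subtype.val h)
      · exact Or.inr (congrArg Subtype.val h)
    · intro a ha
      have := hker (⟨a, ha⟩ * ⟨a, ha⟩) (by rw [hmul]; exact add_self _)
      rcases this with h | h
      · exact Or.inl (congrArg Subtype.val h)
      · exact Or.inr (congrArg Subtype.val h)
    · intro d hd hc
      have hdc : (⟨d, hd⟩ : ↥Q) ∈ χ.ker := by
        rw [hkereq, Subgroup.mem_center_iff]
        exact fun e => Subtype.ext (hc e e.2)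
      rcases hker _ (Multiplicative.ofAdd.injective hdc) with h | h
      · exact Or.inl (congrArg Subtype.val h)
      · exact Or.inr (congrArg Subtype.val h)
    · refine ⟨el (Pi.single (.inl i0) 1), (el _).2, el (Pi.single (.inr i0) 1), (el _).2, fun h => ?_⟩
      have := (hcommQ (el (Pi.single (.inl i0) 1)) (el (Pi.single (.inr i0) 1))).1 (Subtype.ext h)
      rw [hel, hel] at this
      simp [form, coc, Pi.single_apply] at this
  refine ⟨R, inferInstance, inferInstance, Q, hN, QuotientGroup.quotientKerEquivOfSurjective proj hsurj,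
    χ, hEx, hcard, hchis, hkereq, fun r a => ?_, hsq⟩
  show Multiplicative.ofAdd (vv _) = Multiplicative.ofAdd (θ (proj r) (vv a))
  rw [hproj]
  congr 1
  refine huniq _ _ ?_
  show ((r.1.2 * (a : R).1.2 * (r.1.2)⁻¹ : (Mat n)ˣ) : Mat n) = M (r.1.1 (vv a)) ∨
    ((r.1.2 * (a : R).1.2 * (r.1.2)⁻¹ : (Mat n)ˣ) : Mat n) = -M (r.1.1 (vv a))
  simp only [Units.val_mul]
  rcases hvv a with h1 | h1 <;> rcases r.2.2 (vv a) with h2 | h2 <;>
    simp [h1, h2, Matrix.mul_assoc, Matrix.neg_mul, Matrix.mul_neg]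

theorem exists_frame {U : Type*} [AddCommGroup U] [Module (ZMod 2) U] [Module.Finite (ZMod 2) U]
    (m : ℕ) (hn : Module.finrank (ZMod 2) U = 2 * m) (q : QuadraticForm (ZMod 2) U)
    (hnd : (QuadraticMap.polarBilin q).Nondegenerate)
    (hplus : ∃ S : Submodule (ZMod 2) U, Module.finrank (ZMod 2) ↥S = m ∧ ∀ w ∈ S, q w = 0) :
    ∃ E : W m ≃ₗ[ZMod 2] U, ∀ z, q (E z) = coc z z := by
  haveI : Fact (Nat.Prime 2) := ⟨Nat.prime_two⟩
  obtain ⟨S, hS, hS0⟩ := hplus
  let b := Module.finBasisOfFinrankEq (ZMod 2) ↥S hS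
  obtain ⟨E, hE, -⟩ := CfsgLib.Geometry.exists_hyperbolic_basis q hnd hn (fun i => (b i : U))
    (b.linearIndependent.map' S.subtype S.ker_subtype) (fun i => hS0 _ (b i).2) (fun i j => by
      rw [QuadraticMap.polar, hS0 _ (S.add_mem (b i).2 (b j).2), hS0 _ (b i).2, hS0 _ (b j).2]
      simp)
  exact ⟨E, fun z => (hE z).trans (coc_self z).symm⟩

end CfsgLib.LocalEven.Pauli
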