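import Mathlib
import Cfsg.Prelude.Def_Transfer
import Cfsg.Agent.Lib.PGroups.Extraspecial

/-!
# Elements of order four in an extraspecial two-group of plus type
-/

set_option linter.style.haveILetI false
set_option autoImplicit false

namespace CfsgLib.LocalEven.PlusType

open scoped commutatorElement

variable {E : Type*} [Group E] [Finite E]

theorem count (m : ℕ) (hE : Cfsg.IsExtraspecial 2 E) (hcard : Nat.card E = 2 ^ (2 * m + 1))
    (hplus : ∃ A : Subgroup E, Cfsg.IsElementaryAbelian 2 A ∧ Nat.card A = 2 ^ (m + 1)) :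
    Nat.card {x : E // x ^ 2 ≠ 1} = 2 ^ (2 * m) - 2 ^ m := by
  classical
  haveI : Fact (Nat.Prime 2) := ⟨Nat.prime_two⟩
  haveI := Fintype.ofFinite E
  obtain ⟨A, ⟨hAab, hA2⟩, hA⟩ := hplus
  have hcomm : ∀ a ∈ A, ∀ b ∈ A, a * b = b * a := fun a ha b hb =>
    congrArg Subtype.val (hAab.is_comm.comm ⟨a, ha⟩ ⟨b, hb⟩)
  set Z := Subgroup.center E with hZdef
  have hsupab : A ⊔ Z ≤ Subgroup.centralizer ((A ⊔ Z : Subgroup E) : Set E) := by
    refine sup_le ?_ (Subgroup.center_le_centralizer _)
    rw [Subgroup.le_centralizer_iff]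
    exact sup_le (fun a ha b hb => hcomm b hb a ha) (Subgroup.center_le_centralizer _)
  have hle := CfsgLib.PGroups.Extraspecial.card_le_of_abelian hE hsupab hcard
  have hZA : Z ≤ A := by
    have := Subgroup.eq_of_le_of_card_ge (le_sup_left : A ≤ A ⊔ Z) (hle.trans hA.ge)
    exact le_sup_right.trans this.ge
  have hself : Subgroup.centralizer (A : Set E) = A := by
    have e := CfsgLib.PGroups.Extraspecial.card_mul_card_centralizer hE hZA
    have hAC : A ≤ Subgroup.centralizer (A : Set E) := fun a ha b hb => hcomm b hb a ha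
    refine (Subgroup.eq_of_le_of_card_ge hAC ?_).symm
    rw [hA, hcard, show 2 ^ (2 * m + 1) * 2 = 2 ^ (m + 1) * 2 ^ (m + 1) by ring] at e
    rw [hA, Nat.eq_of_mul_eq_mul_left (by positivity) e]
  obtain ⟨z, hz1, hz⟩ : ∃ z ∈ Z, z ≠ 1 ∧ ∀ w ∈ Z, w = 1 ∨ w = z := by
    obtain ⟨⟨z, hzm⟩, hne, huniq⟩ := (Nat.card_eq_two_iff' (1 : Z)).mp hE.2
    refine ⟨z, hzm, fun h => hne (Subtype.ext h), fun w hw => ?_⟩
    by_cases h : (⟨w, hw⟩ : Z) = 1
    · exact Or.inl (congrArg Subtype.val h)
    · exact Or.inr (congrArg Subtype.val (huniq _ h))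
  obtain ⟨hzne, hzcases⟩ := hz
  have hconj : ∀ x a : E, x⁻¹ * a * x * a⁻¹ ∈ Z := by
    intro x a
    have := CfsgLib.PGroups.Extraspecial.commutator_mem_center hE x⁻¹ a
    rwa [commutatorElement_def, inv_inv] at this
  have hcoset : ∀ x : E, x ∉ A → Nat.card {a : A // (x * a) ^ 2 ≠ 1} = 2 ^ m := by
    intro x hx
    have hinv : ∀ a ∈ A, a⁻¹ = a := fun a ha =>
      inv_eq_of_mul_eq_one_right (by rw [← sq]; exact hA2 a ha)
    have hmem : ∀ a ∈ A, x⁻¹ * a * x ∈ A := by
      intro a ha
      have := A.mul_mem (hZA (hconj x a)) ha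
      simpa [mul_assoc] using this
    let f : A →* Z :=
      { toFun := fun a => ⟨x⁻¹ * a * x * a, by
          have := hconj x a
          rwa [hinv _ a.2] at this⟩
        map_one' := Subtype.ext (by simp)
        map_mul' := fun a b => Subtype.ext (by
          show x⁻¹ * ((a : E) * b) * x * ((a : E) * b) =
            x⁻¹ * a * x * a * (x⁻¹ * b * x * b)
          have h1 := hcomm (a : E) a.2 _ (hmem (b : E) b.2)
          calc x⁻¹ * ((a : E) * b) * x * ((a : E) * b)
              = (x⁻¹ * a * x) * ((x⁻¹ * b * x) * a) * b := by group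
            _ = (x⁻¹ * a * x) * ((a : E) * (x⁻¹ * b * x)) * b := by rw [h1]
            _ = _ := by group) }
    have hsq : ∀ a : A, (x * a) ^ 2 = x ^ 2 * (f a : E) := fun a => by
      show (x * (a : E)) ^ 2 = x ^ 2 * (x⁻¹ * a * x * a)
      rw [sq, sq]; group
    have hnt : f ≠ 1 := by
      intro h
      refine hx (hself.le fun a ha => ?_)
      have h1 : x⁻¹ * a * x * a = 1 := congrArg Subtype.val (DFunLike.congr_fun h ⟨a, ha⟩)
      rw [mul_eq_one_iff_eq_inv, hinv a ha, mul_assoc, inv_mul_eq_iff_eq_mul] at h1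
      exact h1
    have hker : Nat.card f.ker = 2 ^ m := by
      have h1 : f.ker.index = 2 := by
        rw [Subgroup.index_ker]
        have h2 : Nat.card f.range ≤ 2 := (Subgroup.card_le_card_group _).trans_eq hE.2
        have h3 : 1 < Nat.card f.range := by
          rw [Finite.one_lt_card_iff_nontrivial, Subgroup.nontrivial_iff_ne_bot]
          exact fun h => hnt (MonoidHom.range_eq_bot_iff.mp h)
        omega
      have := f.ker.card_mul_index
      rw [h1, hA, pow_succ] at this
      omega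
    have hxsq : x ^ 2 ∈ Z := CfsgLib.PGroups.Extraspecial.pow_mem_center hE x
    rcases hzcases _ hxsq with h | h
    · have e : Nat.card {a : A // (x * a) ^ 2 ≠ 1} = Nat.card A - Nat.card f.ker := by
        rw [Nat.card_eq_fintype_card, Nat.card_eq_fintype_card, Nat.card_eq_fintype_card,
          ← Fintype.card_subtype_compl]
        refine Fintype.card_congr (Equiv.subtypeEquivRight fun a => ?_)
        rw [hsq, h, one_mul, MonoidHom.mem_ker, ne_eq, OneMemClass.coe_eq_one]
      rw [e, hA, hker, pow_succ]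
      omega
    · have e : Nat.card {a : A // (x * a) ^ 2 ≠ 1} = Nat.card f.ker := by
        refine Nat.card_congr (Equiv.subtypeEquivRight fun a => ?_)
        rw [hsq, h, MonoidHom.mem_ker]
        constructor
        · intro hne
          rcases hzcases _ (f a).2 with h1 | h1
          · exact Subtype.ext h1
          · exact absurd (by rw [h1, ← sq]; exact (CfsgLib.PGroups.pow_eq_one_of_mem_center_of_special
              hE.1 hz1)) hne
        · intro h1
          rw [h1, OneMemClass.coe_one, mul_one]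
          exact hzne
      rw [e, hker]
  -- double counting
  have hbij : Nat.card (Σ x : {x : E // x ∉ A}, {a : A // (x.1 * a) ^ 2 ≠ 1}) =
      Nat.card ({y : E // y ^ 2 ≠ 1} × A) := by
    refine Nat.card_congr
      { toFun := fun q => (⟨q.1.1 * q.2.1, q.2.2⟩, q.2.1)
        invFun := fun q => ⟨⟨q.1.1 * (q.2 : E)⁻¹, fun h => q.1.2 (hA2 _ (by
          simpa using A.mul_mem h q.2.2))⟩, ⟨q.2, by simpa using q.1.2⟩⟩
        left_inv := ?_
        right_inv := ?_ }
    · rintro ⟨⟨x, hx⟩, ⟨a, ha⟩⟩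
      apply Sigma.subtype_ext <;> simp
    · rintro ⟨⟨y, hy⟩, a⟩
      simp
  rw [Nat.card_prod, Nat.card_sigma, Finset.sum_congr rfl (fun x _ => hcoset x.1 x.2),
    Finset.sum_const, Finset.card_univ, smul_eq_mul] at hbij
  have hout : Fintype.card {x : E // x ∉ A} = 2 ^ (2 * m + 1) - 2 ^ (m + 1) := by
    rw [Fintype.card_subtype_compl, ← Nat.card_eq_fintype_card, hcard,
      ← Nat.card_eq_fintype_card]
    exact congrArg _ hA
  rw [hout, hA] at hbij
  have e : (2 ^ (2 * m + 1) - 2 ^ (m + 1)) * 2 ^ m = (2 ^ (2 * m) - 2 ^ m) * 2 ^ (m + 1) := by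
    rw [Nat.sub_mul, Nat.sub_mul]
    congr 1 <;> ring
  exact Nat.eq_of_mul_eq_mul_right (by positivity) (hbij.symm.trans e)

theorem orderOf_four_iff (hE : Cfsg.IsExtraspecial 2 E) (x : E) : orderOf x = 4 ↔ x ^ 2 ≠ 1 := by
  haveI : Fact (Nat.Prime 2) := ⟨Nat.prime_two⟩
  constructor
  · intro h h2
    have := orderOf_dvd_of_pow_eq_one h2
    rw [h] at this
    norm_num at this
  · intro h
    have h4 : x ^ 2 ^ 2 = 1 := by
      rw [show (2 : ℕ) ^ 2 = 2 * 2 from rfl, pow_mul]
      exact CfsgLib.PGroups.pow_eq_one_of_mem_center_of_special hE.1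
        (CfsgLib.PGroups.Extraspecial.pow_mem_center hE x)
    exact orderOf_eq_prime_pow (n := 1) (by rw [pow_one]; exact h) h4

end CfsgLib.LocalEven.PlusType
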