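import Mathlib

/-!
Powers of a non-abelian simple group: automorphisms permute the coordinates, and subdirect
subgroups are products of diagonals.
-/

set_option autoImplicit false
set_option linter.style.haveILetI false

namespace CfsgLib.LocalEven.PowerSimple

variable {T : Type*} [Group T] [IsSimpleGroup T] {ι : Type*}

theorem center_eq_one (hT : ¬ IsMulCommutative T) {z : T} (hz : ∀ t, t * z = z * t) : z = 1 := by
  rcases IsSimpleGroup.eq_bot_or_eq_top_of_normal (Subgroup.center T) inferInstance with h | h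
  · exact Subgroup.mem_bot.1 (h ▸ Subgroup.mem_center_iff.2 hz)
  · exact absurd ⟨⟨fun x y => Subgroup.mem_center_iff.1 (h ▸ Subgroup.mem_top y) x⟩⟩ hT

theorem commutator_eq_top (hT : ¬ IsMulCommutative T) : commutator T = ⊤ := by
  refine (IsSimpleGroup.eq_bot_or_eq_top_of_normal _ inferInstance).resolve_left fun h => hT ?_
  refine ⟨⟨fun x y => commutatorElement_eq_one_iff_mul_comm.1 (Subgroup.mem_bot.1 ?_)⟩⟩
  rw [← h, commutator_def]
  exact Subgroup.commutator_mem_commutator (Subgroup.mem_top x) (Subgroup.mem_top y)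

/-- An automorphism of a power of a non-abelian simple group permutes the coordinates. -/
theorem auto_perm [Finite ι] (hT : ¬ IsMulCommutative T) (φ : (ι → T) ≃* (ι → T)) :
    ∃ π : Equiv.Perm ι, ∀ f i, φ f (π i) = 1 ↔ f i = 1 := by
  classical
  have key : ∀ j, ∃ i, ∀ f, φ f j = 1 ↔ f i = 1 := by
    intro j
    let g : (ι → T) →* T := (Pi.evalMonoidHom (fun _ => T) j).comp φ.toMonoidHom
    have hg : Function.Surjective g := fun t => by
      obtain ⟨f, hf⟩ := φ.surjective (fun _ => t)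
      exact ⟨f, by simp [g, hf]⟩
    have hex : ∃ i t, g (Pi.mulSingle i t) ≠ 1 := by
      by_contra h
      simp only [ne_eq, not_exists, not_not] at h
      obtain ⟨t, ht⟩ := exists_ne (1 : T)
      obtain ⟨f, rfl⟩ := hg t
      exact ht (g.mem_ker.1 (Subgroup.pi_mem_of_mulSingle_mem f fun i => g.mem_ker.2 (h i _)))
    obtain ⟨i, t₀, ht₀⟩ := hex
    let ψ : T →* T := g.comp (MonoidHom.mulSingle (fun _ => T) i)
    have hψi : Function.Injective ψ := by
      rw [← MonoidHom.ker_eq_bot_iff]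
      refine (IsSimpleGroup.eq_bot_or_eq_top_of_normal _ inferInstance).resolve_right fun h => ht₀ ?_
      exact MonoidHom.mem_ker.1 (show t₀ ∈ ψ.ker from h ▸ Subgroup.mem_top t₀)
    have hn : ψ.range.Normal := by
      refine ⟨fun x hx u => ?_⟩
      obtain ⟨t, rfl⟩ := hx
      obtain ⟨f, rfl⟩ := hg u
      refine ⟨f i * t * (f i)⁻¹, ?_⟩
      show g (Pi.mulSingle i (f i * t * (f i)⁻¹)) = g f * g (Pi.mulSingle i t) * (g f)⁻¹
      rw [← map_inv, ← map_mul, ← map_mul]
      congr 1
      funext k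
      rcases eq_or_ne k i with rfl | hk
      · simp
      · simp [Pi.mulSingle_eq_of_ne hk]
    have hψs : Function.Surjective ψ := by
      rw [← MonoidHom.range_eq_top]
      refine (IsSimpleGroup.eq_bot_or_eq_top_of_normal _ hn).resolve_left fun h => ht₀ ?_
      exact Subgroup.mem_bot.1 (h ▸ ⟨t₀, rfl⟩)
    have hsplit : ∀ f : ι → T, g f = ψ (f i) := by
      intro f
      have h1 : g (f * (Pi.mulSingle i (f i))⁻¹) = 1 := by
        refine center_eq_one hT fun u => ?_
        obtain ⟨t, rfl⟩ := hψs u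
        show g (Pi.mulSingle i t) * g _ = g _ * g (Pi.mulSingle i t)
        rw [← map_mul, ← map_mul]
        congr 1
        funext k
        rcases eq_or_ne k i with rfl | hk
        · simp
        · simp [Pi.mulSingle_eq_of_ne hk]
      rw [map_mul, map_inv, mul_inv_eq_one] at h1
      exact h1
    exact ⟨i, fun f => by
      show g f = 1 ↔ _
      rw [hsplit, map_eq_one_iff ψ hψi]⟩
  choose σ hσ using key
  have hinj : Function.Injective σ := by
    intro j j' h
    by_contra hne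
    obtain ⟨t, ht⟩ := exists_ne (1 : T)
    obtain ⟨f, hf⟩ := φ.surjective (Pi.mulSingle j t)
    have h1 : φ f j' = 1 := by rw [hf]; exact Pi.mulSingle_eq_of_ne (M := fun _ : ι => T) (Ne.symm hne) t
    rw [hσ j' f, ← h, ← hσ j f, hf, Pi.mulSingle_eq_same] at h1
    exact ht h1
  refine ⟨(Equiv.ofBijective σ ((Finite.injective_iff_bijective).1 hinj)).symm, fun f i => ?_⟩
  rw [hσ _ f, show σ _ = i from Equiv.apply_symm_apply (Equiv.ofBijective σ ((Finite.injective_iff_bijective).1 hinj)) i]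

variable (M : Subgroup (ι → T))

/-- Two coordinates have the same kernel on `M`. -/
def Linked (i j : ι) : Prop := ∀ y ∈ M, y i = 1 ↔ y j = 1

/-- Being linked is an equivalence relation. -/
def linkedSetoid : Setoid ι where
  r := Linked M
  iseqv := ⟨fun _ _ _ => Iff.rfl, fun h y hy => (h y hy).symm, fun h h' y hy => (h y hy).trans (h' y hy)⟩

variable {M}

theorem linked_of_imp (honto : ∀ i t, ∃ y ∈ M, y i = t) {i j : ι}
    (h : ∀ y ∈ M, y j = 1 → y i = 1) : Linked M i j := by
  let K : Subgroup T := (M ⊓ (Pi.evalMonoidHom (fun _ : ι => T) i).ker).map (Pi.evalMonoidHom (fun _ => T) j)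
  have hn : K.Normal := by
    refine ⟨fun x hx u => ?_⟩
    obtain ⟨y, ⟨hy, hyi⟩, rfl⟩ := hx
    obtain ⟨z, hz, rfl⟩ := honto j u
    refine ⟨z * y * z⁻¹, ⟨M.mul_mem (M.mul_mem hz hy) (M.inv_mem hz), ?_⟩, rfl⟩
    have hyi' : y i = 1 := MonoidHom.mem_ker.1 hyi
    exact MonoidHom.mem_ker.2 (by simp [hyi'])
  intro y hy
  refine ⟨fun hyi => ?_, h y hy⟩
  rcases IsSimpleGroup.eq_bot_or_eq_top_of_normal K hn with hK | hK
  · exact Subgroup.mem_bot.1 (hK ▸ ⟨y, ⟨hy, MonoidHom.mem_ker.2 hyi⟩, rfl⟩)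
  · exfalso
    obtain ⟨t, ht⟩ := exists_ne (1 : T)
    obtain ⟨w, hw, hwi⟩ := honto i t
    obtain ⟨z, ⟨hz, hzi⟩, hzj⟩ : w j ∈ K := hK ▸ Subgroup.mem_top _
    have hzi' : z i = 1 := MonoidHom.mem_ker.1 hzi
    have hzj' : z j = w j := hzj
    have := h (w * z⁻¹) (M.mul_mem hw (M.inv_mem hz)) (by simp [hzj'])
    rw [Pi.mul_apply, Pi.inv_apply, hzi', inv_one, mul_one, hwi] at this
    exact ht this

/-- Coordinates pairwise unlinked to `i` can be killed while prescribing coordinate `i`. -/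
theorem exists_mem_of_unlinked (hT : ¬ IsMulCommutative T) (honto : ∀ i t, ∃ y ∈ M, y i = t)
    (i : ι) (s : Finset ι) (hs : ∀ j ∈ s, ¬ Linked M i j) (t : T) :
    ∃ x ∈ M, x i = t ∧ ∀ j ∈ s, x j = 1 := by
  classical
  induction s using Finset.induction generalizing t with
  | empty =>
    obtain ⟨x, hx, h⟩ := honto i t
    exact ⟨x, hx, h, by simp⟩
  | insert j₀ s _ ih =>
    -- the elements killing `j₀` already give everything in coordinate `i`
    have h0 : ∀ u, ∃ y ∈ M, y i = u ∧ y j₀ = 1 := by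
      let K : Subgroup T := (M ⊓ (Pi.evalMonoidHom (fun _ : ι => T) j₀).ker).map
        (Pi.evalMonoidHom (fun _ => T) i)
      have hn : K.Normal := by
        refine ⟨fun x hx u => ?_⟩
        obtain ⟨y, ⟨hy, hyj⟩, rfl⟩ := hx
        obtain ⟨z, hz, rfl⟩ := honto i u
        refine ⟨z * y * z⁻¹, ⟨M.mul_mem (M.mul_mem hz hy) (M.inv_mem hz), ?_⟩, rfl⟩
        have hyj' : y j₀ = 1 := MonoidHom.mem_ker.1 hyj
        exact MonoidHom.mem_ker.2 (by simp [hyj'])
      rcases IsSimpleGroup.eq_bot_or_eq_top_of_normal K hn with hK | hK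
      · refine absurd (linked_of_imp honto fun y hy hyj => ?_) (hs j₀ (Finset.mem_insert_self _ _))
        exact Subgroup.mem_bot.1 (hK ▸ ⟨y, ⟨hy, MonoidHom.mem_ker.2 hyj⟩, rfl⟩)
      · intro u
        obtain ⟨y, ⟨hy, hyj⟩, hyi⟩ : u ∈ K := hK ▸ Subgroup.mem_top _
        exact ⟨y, hy, hyi, MonoidHom.mem_ker.1 hyj⟩
    let C : Subgroup (ι → T) :=
      { carrier := {x | x ∈ M ∧ ∀ j ∈ insert j₀ s, x j = 1}
        one_mem' := ⟨M.one_mem, fun _ _ => rfl⟩
        mul_mem' := fun {x y} hx hy => ⟨M.mul_mem hx.1 hy.1, fun j hj => by simp [hx.2 j hj, hy.2 j hj]⟩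
        inv_mem' := fun {x} hx => ⟨M.inv_mem hx.1, fun j hj => by simp [hx.2 j hj]⟩ }
    have hC : commutator T ≤ C.map (Pi.evalMonoidHom (fun _ => T) i) := by
      rw [commutator_def, Subgroup.commutator_le]
      intro u _ v _
      obtain ⟨x, hx, hxi, hxs⟩ := ih (fun j hj => hs j (Finset.mem_insert_of_mem hj)) u
      obtain ⟨y, hy, hyi, hyj⟩ := h0 v
      refine ⟨x * y * x⁻¹ * y⁻¹, ⟨M.mul_mem (M.mul_mem (M.mul_mem hx hy) (M.inv_mem hx)) (M.inv_mem hy), ?_⟩, ?_⟩
      · intro j hj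
        rcases Finset.mem_insert.1 hj with rfl | hj
        · simp [hyj]
        · simp [hxs j hj]
      · simp [commutatorElement_def, hxi, hyi]
    rw [commutator_eq_top hT] at hC
    obtain ⟨x, hx, hxi⟩ := hC (Subgroup.mem_top t)
    exact ⟨x, hx.1, hxi, hx.2⟩

/-- Linked coordinates of a subdirect subgroup differ by an automorphism of `T`. -/
theorem exists_equiv_of_linked (honto : ∀ i t, ∃ y ∈ M, y i = t) {i j : ι} (h : Linked M i j) :
    ∃ θ : T ≃* T, ∀ y ∈ M, θ (y j) = y i := by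
  choose f hfM hfj using honto j
  have hwd : ∀ y ∈ M, f (y j) i = y i := by
    intro y hy
    have := (h _ (M.mul_mem (hfM (y j)) (M.inv_mem hy))).2 (by simp [hfj])
    simpa [mul_inv_eq_one] using this
  let θ : T →* T := MonoidHom.mk' (fun t => f t i) fun t u => by
    show f (t * u) i = f t i * f u i
    conv_lhs => rw [← hfj t, ← hfj u, ← Pi.mul_apply]
    rw [hwd _ (M.mul_mem (hfM t) (hfM u)), Pi.mul_apply]
  refine ⟨MulEquiv.ofBijective θ ⟨?_, fun t => ?_⟩, fun y hy => hwd y hy⟩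
  · rw [← MonoidHom.ker_eq_bot_iff, Subgroup.eq_bot_iff_forall]
    intro t ht
    have := (h _ (hfM t)).1 (MonoidHom.mem_ker.1 ht)
    rwa [hfj] at this
  · obtain ⟨y, hy, rfl⟩ := honto i t
    exact ⟨y j, hwd y hy⟩

/-- A subdirect subgroup is a product of diagonals, after a coordinate change. -/
theorem exists_diagonal [Finite ι] (hT : ¬ IsMulCommutative T) (honto : ∀ i t, ∃ y ∈ M, y i = t) :
    ∃ (c : ι → ι) (θ : ι → T ≃* T), (∀ i j, c i = c j ↔ Linked M i j) ∧
      ∀ x, x ∈ M ↔ ∀ i j, c i = c j → (θ i).symm (x i) = (θ j).symm (x j) := by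
  classical
  cases nonempty_fintype ι
  letI s := linkedSetoid M
  let c : ι → ι := fun i => (Quotient.mk s i).out
  have hrc : ∀ i, Linked M i (c i) := fun i => s.iseqv.symm (Quotient.mk_out (s := s) i)
  have hc : ∀ i j, c i = c j ↔ Linked M i j := fun i j => by
    refine ⟨fun h => s.iseqv.trans (hrc i) (s.iseqv.symm ?_), fun h => ?_⟩
    · rw [h]; exact hrc j
    · exact congrArg Quotient.out (Quotient.sound h)
  have hcc : ∀ i, c (c i) = c i := fun i => ((hc i (c i)).2 (hrc i)).symm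
  choose θ hθ using fun i => exists_equiv_of_linked honto (hrc i)
  refine ⟨c, θ, hc, fun x => ⟨fun hx i j h => ?_, fun hx => ?_⟩⟩
  · rw [← hθ i x hx, ← hθ j x hx, MulEquiv.symm_apply_apply, MulEquiv.symm_apply_apply, h]
  · have hfix : ∀ i, (θ i).symm (x i) = x (c i) := by
      intro i
      rw [hx i (c i) (hcc i).symm]
      obtain ⟨y, hy, hyc⟩ := honto (c i) (x (c i))
      rw [MulEquiv.symm_apply_eq, ← hyc]
      conv_lhs => rw [← hθ (c i) y hy, hcc]
    have hstep : ∀ u : Finset ι, ∃ y ∈ M, ∀ r, c r = r → y r = if r ∈ u then x r else 1 := by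
      intro u
      induction u using Finset.induction with
      | empty => exact ⟨1, M.one_mem, fun r _ => by simp⟩
      | insert r₀ u hr₀ ih =>
        obtain ⟨y, hy, hyr⟩ := ih
        by_cases hfr : c r₀ = r₀
        · obtain ⟨z, hz, hzr, hz1⟩ := exists_mem_of_unlinked hT honto r₀
            (Finset.univ.filter fun j => ¬ Linked M r₀ j) (fun j hj => (Finset.mem_filter.1 hj).2) (x r₀)
          refine ⟨z * y, M.mul_mem hz hy, fun r hr => ?_⟩
          rcases eq_or_ne r r₀ with rfl | hne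
          · simp [hzr, hyr r hr, hr₀]
          · have hnl : ¬ Linked M r₀ r := fun h => hne (by rw [← hr, ← hfr, (hc r₀ r).2 h])
            simp [hz1 r (Finset.mem_filter.2 ⟨Finset.mem_univ _, hnl⟩), hyr r hr, hne]
        · refine ⟨y, hy, fun r hr => ?_⟩
          have hne : r ≠ r₀ := fun h => hfr (h ▸ hr)
          simp [hyr r hr, hne]
    obtain ⟨y, hy, hyr⟩ := hstep Finset.univ
    suffices x = y by rwa [this]
    funext i
    rw [← hθ i y hy, ← (θ i).apply_symm_apply (x i), hfix i]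
    congr 1
    simpa using (hyr (c i) (hcc i)).symm

end CfsgLib.LocalEven.PowerSimple
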