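import Cfsg.Agent.Lib.LocalEven.PushThm

/-!
Baumann's lemma and its consequences.
-/

set_option autoImplicit false

namespace CfsgLib.LocalEven.Push

open Cfsg
open scoped commutatorElement
open CD (cj cen zOf)

variable {G : Type*} [Group G] [Finite G] {p : ℕ} [Fact p.Prime] {S T : Subgroup G}

/-- An abelian subgroup of largest order of `S`. -/
def MAs (S A : Subgroup G) : Prop :=
  A ≤ S ∧ A ≤ cen A ∧ ∀ B ≤ S, B ≤ cen B → Nat.card B ≤ Nat.card A

omit [Finite G] [Fact p.Prime] in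
theorem isComm_map_iff (A : Subgroup ↥S) :
    IsMulCommutative A ↔ A.map S.subtype ≤ cen (A.map S.subtype) := by
  rw [← Subgroup.le_centralizer_iff_isMulCommutative]
  constructor
  · rintro h _ ⟨x, hx, rfl⟩ _ ⟨y, hy, rfl⟩
    exact congrArg Subtype.val (h hx y hy)
  · intro h x hx y hy
    exact Subtype.ext (h ⟨x, hx, rfl⟩ _ ⟨y, hy, rfl⟩)

omit [Finite G] [Fact p.Prime] in
theorem mas_map (A : Subgroup ↥S) : A ∈ maxAbelianSubgroups ↥S ↔ MAs S (A.map S.subtype) := by
  constructor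
  · rintro ⟨h1, h2⟩
    refine ⟨Subgroup.map_subtype_le A, (isComm_map_iff A).1 h1, fun B hB hBc => ?_⟩
    obtain ⟨B', rfl⟩ := exists_eq_map hB
    rw [Subgroup.card_map_of_injective S.subtype_injective,
      Subgroup.card_map_of_injective S.subtype_injective]
    exact h2 B' ((isComm_map_iff B').2 hBc)
  · rintro ⟨-, h1, h2⟩
    refine ⟨(isComm_map_iff A).2 h1, fun B hB => ?_⟩
    have := h2 _ (Subgroup.map_subtype_le B) ((isComm_map_iff B).1 hB)
    rwa [Subgroup.card_map_of_injective S.subtype_injective,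
      Subgroup.card_map_of_injective S.subtype_injective] at this

omit [Fact p.Prime] in
theorem mas_cen {A : Subgroup G} (hA : MAs S A) : S ⊓ cen A = A := by
  refine le_antisymm ?_ (le_inf hA.1 hA.2.1)
  obtain ⟨A', rfl⟩ := exists_eq_map hA.1
  rintro x ⟨hxS, hx⟩
  refine ⟨⟨x, hxS⟩, ?_, rfl⟩
  show (⟨x, hxS⟩ : ↥S) ∈ A'
  rw [← CD.cen_maxAb ((mas_map A').2 hA)]
  exact fun y hy => Subtype.ext (hx _ ⟨y, hy, rfl⟩)

omit [Fact p.Prime] in
theorem mas_cj {A : Subgroup G} (g : G) (hA : MAs S A) (hg : cj g A ≤ S) : MAs S (cj g A) := by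
  refine ⟨hg, ?_, fun B hB hBc => ?_⟩
  · rw [CD.cen_cj]; exact CD.cj_mono g hA.2.1
  · rw [CD.card_cj]; exact hA.2.2 B hB hBc

omit [Fact p.Prime] in
theorem exists_mas : ∃ A, MAs S A := by
  obtain ⟨A, hA⟩ := CD.maxAb_nonempty (G := ↥S)
  exact ⟨_, (mas_map A).1 hA⟩

/-- `J(S)` inside the ambient group. -/
abbrev jay (S : Subgroup G) : Subgroup G := sSup {A : Subgroup G | MAs S A}

omit [Finite G] [Fact p.Prime] in
theorem thompsonAOf_eq : thompsonSubgroupAOf S = jay S := by
  refine le_antisymm ?_ (sSup_le fun A hA => ?_)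
  · rw [thompsonSubgroupAOf, thompsonSubgroupA, Subgroup.map_le_iff_le_comap]
    refine sSup_le fun A hA => ?_
    rw [← Subgroup.map_le_iff_le_comap]
    exact le_sSup ((mas_map A).1 hA)
  · obtain ⟨A', rfl⟩ := exists_eq_map hA.1
    exact Subgroup.map_mono (le_sSup ((mas_map A').2 hA))

omit [Finite G] [Fact p.Prime] in
theorem centerThompsonAOf_eq : centerThompsonAOf S = jay S ⊓ cen (jay S) := by
  rw [centerThompsonAOf, thompsonAOf_eq]

omit [Finite G] [Fact p.Prime] in
theorem le_jay {A : Subgroup G} (hA : MAs S A) : A ≤ jay S :=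
  le_sSup (s := {A : Subgroup G | MAs S A}) hA

omit [Finite G] [Fact p.Prime] in
theorem jay_le : jay S ≤ S := sSup_le fun _ hA => hA.1

omit [Fact p.Prime] in
theorem cen_jay : S ⊓ cen (jay S) = jay S ⊓ cen (jay S) := by
  refine le_antisymm (le_inf ?_ inf_le_right) (inf_le_inf_right _ jay_le)
  obtain ⟨A, hA⟩ := exists_mas (S := S)
  exact ((inf_le_inf_left S (CD.cen_anti (le_sSup hA))).trans (mas_cen hA).le).trans (le_sSup hA)

omit [Fact p.Prime] in
theorem cj_jay {x : G} (hx : x ∈ S) : cj x (jay S) ≤ jay S := by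
  rw [CD.cj, Subgroup.map_le_iff_le_comap]
  refine sSup_le fun A hA => ?_
  rw [← Subgroup.map_le_iff_le_comap]
  refine le_sSup (mas_cj x hA ?_)
  exact (CD.cj_mono x hA.1).trans (CD.cj_eq_of_mem_normalizer (Subgroup.le_normalizer hx)).le

omit [Fact p.Prime] in
theorem offMeasure_sup {V X Y : Subgroup G} :
    PLocal.offMeasure V X * PLocal.offMeasure V Y ≤
      PLocal.offMeasure V (X ⊔ Y) * PLocal.offMeasure V (X ⊓ Y) := by
  have h1 := card_sup_inf_ge X Y
  have h2 := card_sup_inf_ge (V ⊓ cen X) (V ⊓ cen Y)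
  have h3 : (V ⊓ cen X) ⊔ (V ⊓ cen Y) ≤ V ⊓ cen (X ⊓ Y) :=
    sup_le (inf_le_inf_left _ (CD.cen_anti inf_le_left))
      (inf_le_inf_left _ (CD.cen_anti inf_le_right))
  have h4 : (V ⊓ cen X) ⊓ (V ⊓ cen Y) = V ⊓ cen (X ⊔ Y) := by
    rw [CD.cen_sup, ← inf_inf_distrib_left]
  rw [h4] at h2
  have h2' := h2.trans (Nat.mul_le_mul_right _ (Nat.card_mono (Set.toFinite _)
    (SetLike.coe_subset_coe.2 h3)))
  calc PLocal.offMeasure V X * PLocal.offMeasure V Y
      = (Nat.card X * Nat.card Y) * (Nat.card ↥(V ⊓ cen X) * Nat.card ↥(V ⊓ cen Y)) := by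
        simp only [PLocal.offMeasure]; ring
    _ ≤ (Nat.card ↥(X ⊔ Y) * Nat.card ↥(X ⊓ Y)) *
        (Nat.card ↥(V ⊓ cen (X ⊓ Y)) * Nat.card ↥(V ⊓ cen (X ⊔ Y))) := Nat.mul_le_mul h1 h2'
    _ = _ := by simp only [PLocal.offMeasure]; ring

theorem hmax_of_offender (hE : Setup p S T) {A : Subgroup G} (hA : MAs S A) (hAT : ¬ A ≤ T) :
    ∀ X, X ≤ S → PLocal.offMeasure (zOf T) X ≤ PLocal.offMeasure (zOf T) S := by
  set V := zOf T with hVdef
  have hVn : V.Normal := zOf_normal hE.normal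
  have hTV : T ≤ cen V := Subgroup.le_centralizer_iff.1 inf_le_right
  obtain ⟨M, hMS, hM⟩ := Set.Finite.exists_maximalFor (fun X => PLocal.offMeasure V X)
    {X : Subgroup G | X ≤ S} (Set.toFinite _) ⟨S, (le_rfl : S ≤ S)⟩
  have hM' : ∀ X, X ≤ S → PLocal.offMeasure V X ≤ PLocal.offMeasure V M :=
    fun X hX => (le_total _ _).elim id (hM hX)
  obtain ⟨W, ⟨hWS, hW⟩, hWmax⟩ := Set.Finite.exists_maximal
    (s := {X : Subgroup G | X ≤ S ∧ PLocal.offMeasure V X = PLocal.offMeasure V M})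
    (Set.toFinite _) ⟨M, hMS, rfl⟩
  have hjoin : ∀ X, X ≤ S → PLocal.offMeasure V X = PLocal.offMeasure V M → X ≤ W := by
    intro X hX hX'
    refine le_trans le_sup_right (hWmax (y := W ⊔ X) ⟨sup_le hWS hX, ?_⟩ le_sup_left)
    refine le_antisymm (hM' _ (sup_le hWS hX)) ?_
    have h := offMeasure_sup (V := V) (X := W) (Y := X)
    rw [hW, hX'] at h
    have h2 := hM' (W ⊓ X) (inf_le_left.trans hWS)
    rcases Nat.eq_zero_or_pos (PLocal.offMeasure V M) with h0 | h0
    · rw [h0]; exact Nat.zero_le _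
    · exact Nat.le_of_mul_le_mul_right (h.trans (Nat.mul_le_mul_left _ h2)) h0
  have hTmono : ∀ X : Subgroup G, PLocal.offMeasure V X ≤ PLocal.offMeasure V (X ⊔ T) := fun X => by
    refine Nat.mul_le_mul (Nat.card_mono (Set.toFinite _) (SetLike.coe_subset_coe.2 le_sup_left))
      (Nat.card_mono (Set.toFinite _) (SetLike.coe_subset_coe.2 (le_inf inf_le_left ?_)))
    show _ ≤ cen (X ⊔ T)
    rw [CD.cen_sup]
    exact le_inf inf_le_right (inf_le_left.trans inf_le_right)
  have hTW : T ≤ W := le_trans le_sup_right (hjoin (W ⊔ T) (sup_le hWS hE.le)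
    (le_antisymm (hM' _ (sup_le hWS hE.le)) (hW ▸ hTmono W)))
  have hWinv : ∀ x ∈ Subgroup.normalizer (S : Set G), cj x W ≤ W := by
    intro x hx
    have hxS : cj x W ≤ S := (CD.cj_mono x hWS).trans (CD.cj_eq_of_mem_normalizer hx).le
    refine hjoin _ hxS ?_
    rw [← hW, PLocal.offMeasure, PLocal.offMeasure, CD.card_cj]
    congr 1
    have hV : cj x V = V :=
      CD.cj_eq_of_mem_normalizer (by rw [Subgroup.normalizer_eq_top_iff.2 hVn]; trivial)
    show Nat.card ↥(V ⊓ cen (cj x W)) = Nat.card ↥(V ⊓ cen W)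
    conv_lhs => rw [← hV, CD.cen_cj]
    rw [← Subgroup.map_inf _ _ _ (MulAut.conj x).injective]
    exact CD.card_cj x _
  rcases hE.irred W hTW hWS hWinv with hWT | hWS'
  · exfalso
    have hAV : S ⊓ cen A = A := mas_cen hA
    have hVA : V ⊓ cen A = A ⊓ V := by
      refine le_antisymm (le_inf (fun x hx => hAV.le ⟨hE.le hx.1.1, hx.2⟩) inf_le_left)
        (le_inf inf_le_right (inf_le_left.trans hA.2.1))
    set R := (A ⊓ T) ⊔ V with hR
    have hVAT : V ≤ cen (A ⊓ T) := inf_le_right.trans (CD.cen_anti inf_le_right)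
    have hRcard : Nat.card R ≤ Nat.card A := by
      refine hA.2.2 R (sup_le (inf_le_left.trans hA.1) (inf_le_left.trans hE.le))
        (CD.isComm_sup (inf_le_left.trans (hA.2.1.trans (CD.cen_anti inf_le_left))) ?_ hVAT)
      exact inf_le_right.trans (CD.cen_anti inf_le_left)
    have e1 : Nat.card R * Nat.card ↥(A ⊓ V) = Nat.card ↥(A ⊓ T) * Nat.card V := by
      rw [hR, ← card_sup_inf_of_le_cen hVAT, inf_assoc, inf_eq_right.2 (show V ≤ T from inf_le_left)]
    have h0 : PLocal.offMeasure V (A ⊔ T) = PLocal.offMeasure V M := by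
      refine le_antisymm (hM' _ (sup_le hA.1 hE.le)) ?_
      rw [← hW, hWT]
      refine Nat.le_of_mul_le_mul_right ?_ (Nat.card_pos (α := ↥(A ⊓ T)))
      calc PLocal.offMeasure V T * Nat.card ↥(A ⊓ T)
          = Nat.card T * (Nat.card ↥(A ⊓ T) * Nat.card V) := by
            rw [PLocal.offMeasure, inf_eq_left.2 (Subgroup.le_centralizer_iff.1 hTV)]; ring
        _ ≤ Nat.card T * (Nat.card A * Nat.card ↥(A ⊓ V)) := by
            rw [← e1]; exact Nat.mul_le_mul_left _ (Nat.mul_le_mul_right _ hRcard)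
        _ = Nat.card A * Nat.card T * Nat.card ↥(V ⊓ cen A) := by rw [hVA]; ring
        _ ≤ Nat.card ↥(A ⊔ T) * Nat.card ↥(A ⊓ T) * Nat.card ↥(V ⊓ cen A) :=
            Nat.mul_le_mul_right _ (card_sup_inf_ge A T)
        _ = Nat.card ↥(A ⊔ T) * Nat.card ↥(V ⊓ cen (A ⊔ T)) * Nat.card ↥(A ⊓ T) := by
            have : V ⊓ cen (A ⊔ T) = V ⊓ cen A := by
              rw [CD.cen_sup, ← inf_assoc, inf_eq_left.2 (show V ⊓ cen A ≤ cen T from inf_le_left.trans inf_le_right)]
            rw [this]; ring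
        _ = _ := rfl
    exact hAT (le_sup_left.trans ((hjoin _ (sup_le hA.1 hE.le) h0).trans hWT.le))
  · intro X hX
    rw [← hWS', hW]
    exact hM' X hX

/-- The three facts behind Baumann's lemma. -/
theorem baumann_cases (hE : Setup p S T) (hZ : ¬ zOf S ≤ Subgroup.center G) :
    (S ⊓ cen (centerThompsonAOf S)).Normal ∨
      ((∀ z ∈ zOf S, z ^ p ∈ Subgroup.center G) ∧
        ∃ W : Subgroup G, W.Normal ∧ W ≤ centerThompsonAOf S ∧
          centerThompsonAOf S ≤ zOf S ⊔ W ∧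
          ∃ L : Subgroup G, L.Normal ∧ ¬ L ⊓ S ≤ T ∧ W ≤ cen L) := by
  have hX := centerThompsonAOf_eq (S := S)
  set X := centerThompsonAOf S with hXdef
  set J := jay S with hJ
  have hZX : zOf S ≤ X := by
    rw [hX, ← cen_jay]
    exact le_inf inf_le_left (inf_le_right.trans (CD.cen_anti jay_le))
  by_cases hJT : J ≤ T
  · left
    have hJn : J.Normal := sSup_normal_of_le_T hE (fun g R hR hg => mas_cj g hR hg)
      (fun R hR => (le_jay hR).trans hJT)
    have hXn : X.Normal := hX ▸ zOf_normal hJn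
    have hC := cen_normal hXn
    have hle : cen X ⊓ S ≤ T := by
      by_contra h
      exact hZ (central_of_normal hE hC h (hZX.trans (CD.le_cen_cen X)) inf_le_right)
    have e : S ⊓ cen X = T ⊓ cen X :=
      le_antisymm (le_inf (by rw [inf_comm]; exact hle) inf_le_right) (inf_le_inf_right _ hE.le)
    rw [e]
    have := hE.normal
    exact Subgroup.normal_inf_normal T (cen X)
  right
  obtain ⟨A, hA, hAT⟩ : ∃ A, MAs S A ∧ ¬ A ≤ T := by
    by_contra h
    push Not at h
    exact hJT (sSup_le h)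
  have hq := quadraticCore hE hZ (hmax_of_offender hE hA hAT)
  refine ⟨hq.powc, ?_⟩
  obtain ⟨g, hg, hint, hsup, hcard⟩ := hq.two
  set V := zOf T with hVdef
  set Z := zOf S with hZdef
  set Zc := V ⊓ Subgroup.center G
  have hZV : Z ≤ V := zOf_S_le_zOf_T hE
  have hZA : Z ≤ A := (le_inf inf_le_left (inf_le_right.trans (CD.cen_anti hA.1))).trans
    (mas_cen hA).le
  obtain ⟨a0, ha0, ha0T⟩ := SetLike.not_le_iff_exists.1 hAT
  have hAV : A ⊓ V = Z := le_antisymm
    (fun x hx => hq.fix a0 (hA.1 ha0) ha0T x hx.2 (hA.2.1 hx.1 a0 ha0)) (le_inf hZA hZV)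
  -- the abelian subgroups of largest order inside `T`
  set R0 := (A ⊓ T) ⊔ V with hR0
  have hVAT : V ≤ cen (A ⊓ T) := inf_le_right.trans (CD.cen_anti inf_le_right)
  have hR0c : R0 ≤ cen R0 :=
    CD.isComm_sup (inf_le_left.trans (hA.2.1.trans (CD.cen_anti inf_le_left)))
      (inf_le_right.trans (CD.cen_anti inf_le_left)) hVAT
  have hR0T : R0 ≤ T := sup_le inf_le_right inf_le_left
  have e1 : Nat.card R0 * Nat.card Z = Nat.card ↥(A ⊓ T) * Nat.card V := by
    rw [← hAV, hR0, ← card_sup_inf_of_le_cen hVAT, inf_assoc, inf_eq_right.2 (show V ≤ T from inf_le_left)]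
  have hATS : Nat.card A * Nat.card T ≤ Nat.card S * Nat.card ↥(A ⊓ T) :=
    (card_sup_inf_ge A T).trans (Nat.mul_le_mul_right _ (Nat.card_mono (Set.toFinite _)
      (SetLike.coe_subset_coe.2 (sup_le hA.1 hE.le))))
  have hR0card : Nat.card R0 = Nat.card A := by
    refine le_antisymm (hA.2.2 R0 (hR0T.trans hE.le) hR0c) ?_
    refine Nat.le_of_mul_le_mul_right ?_ (Nat.mul_pos (Nat.card_pos (α := Z))
      (Nat.card_pos (α := T)))
    calc Nat.card A * (Nat.card Z * Nat.card T)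
        = Nat.card A * Nat.card T * Nat.card Z := by ring
      _ ≤ Nat.card S * Nat.card ↥(A ⊓ T) * Nat.card Z := Nat.mul_le_mul_right _ hATS
      _ = Nat.card ↥(A ⊓ T) * (Nat.card T * Nat.card V) := by rw [hq.index]; ring
      _ = Nat.card R0 * (Nat.card Z * Nat.card T) := by
        rw [← mul_assoc (Nat.card R0), e1]; ring
  have hR0m : MAs S R0 := ⟨hR0T.trans hE.le, hR0c, fun B hB hBc => hR0card ▸ hA.2.2 B hB hBc⟩
  have hATS' : A ⊔ T = S := by
    refine Subgroup.eq_of_le_of_card_ge (sup_le hA.1 hE.le) ?_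
    refine Nat.le_of_mul_le_mul_right ?_ (Nat.mul_pos (Nat.card_pos (α := ↥(A ⊓ T)))
      (Nat.card_pos (α := Z)))
    calc Nat.card S * (Nat.card ↥(A ⊓ T) * Nat.card Z)
        = Nat.card ↥(A ⊓ T) * (Nat.card T * Nat.card V) := by rw [hq.index]; ring
      _ = Nat.card A * Nat.card T * Nat.card Z := by
        rw [mul_left_comm, ← e1, hR0card]; ring
      _ ≤ Nat.card ↥(A ⊔ T) * Nat.card ↥(A ⊓ T) * Nat.card Z :=
        Nat.mul_le_mul_right _ (card_sup_inf_ge A T)
      _ = _ := by ring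
  set U := sInf {R : Subgroup G | MAs S R ∧ R ≤ T} with hU
  have hUn : U.Normal := by
    refine normal_of_cj_le fun x => le_sInf ?_
    rintro R ⟨hR, hRT⟩
    have h1 : cj x⁻¹ R ≤ T := (CD.cj_mono _ hRT).trans (cj_le_of_normal hE.normal _)
    have h2 : cj x U ≤ cj x (cj x⁻¹ R) :=
      CD.cj_mono x (sInf_le ⟨mas_cj x⁻¹ hR (h1.trans hE.le), h1⟩)
    rwa [CD.cj_cj, mul_inv_cancel, CD.cj_one] at h2
  have hVU : V ≤ U := le_sInf fun R hR => by
    refine le_trans ?_ (mas_cen hR.1).le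
    exact le_inf (inf_le_left.trans hE.le) (inf_le_right.trans (CD.cen_anti hR.2))
  have hUR : U ≤ R0 := sInf_le ⟨hR0m, hR0T⟩
  have hXall : ∀ R, MAs S R → X ≤ R := fun R hR => by
    rw [hX]
    refine le_trans ?_ (mas_cen hR).le
    exact inf_le_inf jay_le (CD.cen_anti (le_jay hR))
  have hXU : X ≤ U := le_sInf fun R hR => hXall R hR.1
  have hUab : U ≤ cen U := hUR.trans (hR0c.trans (CD.cen_anti hUR))
  -- counting inside `U`
  set UA := U ⊓ A with hUA
  set A' := cj g A with hA'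
  have hUsup : UA ⊔ V = U := by
    refine le_antisymm (sup_le inf_le_left hVU) fun u hu => ?_
    have hu' : u ∈ ((R0 : Subgroup G) : Set G) := hUR hu
    rw [hR0, CD.sup_eq_mul_of_le_cen hVAT] at hu'
    obtain ⟨a, ha, v, hv, rfl⟩ := hu'
    exact mul_mem (le_sup_left (b := V) ⟨by simpa using mul_mem hu (inv_mem (hVU hv)), ha.1⟩)
      (le_sup_right (a := UA) hv)
  have hUc : V ≤ cen UA := (hVU.trans hUab).trans (CD.cen_anti inf_le_left)
  have eU : Nat.card U * Nat.card Z = Nat.card UA * Nat.card V := by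
    rw [← card_sup_inf_of_le_cen hUc, hUsup, hUA, inf_assoc, hAV, inf_eq_right.2 (hZV.trans hVU)]
  have hcjU : cj g U = U :=
    CD.cj_eq_of_mem_normalizer (by rw [Subgroup.normalizer_eq_top_iff.2 hUn]; trivial)
  have hUA' : cj g UA = U ⊓ A' := by
    rw [hUA, CD.cj, Subgroup.map_inf _ _ _ (MulAut.conj g).injective]
    change cj g U ⊓ A' = _
    rw [hcjU]
  set D := UA ⊓ (U ⊓ A') with hD
  have eD : Nat.card UA * Nat.card UA ≤ Nat.card U * Nat.card D := by
    refine le_trans (le_of_eq ?_) (le_trans (card_sup_inf_ge UA (U ⊓ A'))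
      (Nat.mul_le_mul_right _ (Nat.card_mono (Set.toFinite _)
        (SetLike.coe_subset_coe.2 (sup_le inf_le_left inf_le_left)))))
    rw [← hUA', CD.card_cj]
  have hZD : Z ⊓ D = Zc := by
    refine le_antisymm ?_ ?_
    · refine le_of_le_of_eq (le_inf inf_le_left ?_) hint
      intro x hx
      have hxA' : x ∈ A' := (hx.2 : x ∈ UA ⊓ (U ⊓ A')).2.2
      have hxV : x ∈ cj g V := by
        rw [CD.cj_eq_of_mem_normalizer (by
          rw [Subgroup.normalizer_eq_top_iff.2 (zOf_normal hE.normal)]; trivial)]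
        exact hZV hx.1
      have h := Subgroup.mem_inf.2 ⟨hxA', hxV⟩
      rw [hA', CD.cj, CD.cj, ← Subgroup.map_inf _ _ _ (MulAut.conj g).injective, hAV] at h
      exact h
    · rw [← hint]
      refine le_inf inf_le_left (le_inf (le_inf ?_ ?_) (le_inf ?_ ?_))
      · exact inf_le_left.trans (hZV.trans hVU)
      · exact inf_le_left.trans hZA
      · exact inf_le_left.trans (hZV.trans hVU)
      · exact inf_le_right.trans (CD.cj_mono g hZA)
  have hUAeq : Z ⊔ D = UA := by
    have hle : Z ⊔ D ≤ UA := sup_le (le_inf (hZV.trans hVU) hZA) inf_le_left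
    refine Subgroup.eq_of_le_of_card_ge hle ?_
    have hc : D ≤ cen Z :=
      (inf_le_left.trans inf_le_left).trans (hUab.trans (CD.cen_anti (hZV.trans hVU)))
    refine Nat.le_of_mul_le_mul_right ?_ (Nat.mul_pos (Nat.card_pos (α := U))
      (Nat.card_pos (α := Zc)))
    calc Nat.card UA * (Nat.card U * Nat.card Zc)
        ≤ Nat.card U * (Nat.card Z * Nat.card D) := by
          refine Nat.le_of_mul_le_mul_right ?_ (Nat.card_pos (α := V))
          calc Nat.card UA * (Nat.card U * Nat.card Zc) * Nat.card V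
              = Nat.card UA * Nat.card U * (Nat.card V * Nat.card Zc) := by ring
            _ = Nat.card UA * (Nat.card U * Nat.card Z) * Nat.card Z := by rw [← hcard]; ring
            _ = Nat.card UA * Nat.card UA * (Nat.card V * Nat.card Z) := by rw [eU]; ring
            _ ≤ Nat.card U * Nat.card D * (Nat.card V * Nat.card Z) := Nat.mul_le_mul_right _ eD
            _ = _ := by ring
      _ = Nat.card ↥(Z ⊔ D) * (Nat.card U * Nat.card Zc) := by
        rw [← card_sup_inf_of_le_cen hc, hZD]; ring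
  -- the normal closure of `J`
  set L := Subgroup.normalClosure (J : Set G) with hL
  have hLn : L.Normal := Subgroup.normalClosure_normal
  have hJL : J ≤ L := Subgroup.le_normalClosure
  refine ⟨U ⊓ cen L, ?_, ?_, ?_, L, hLn, ?_, inf_le_right⟩
  · have := cen_normal hLn
    exact Subgroup.normal_inf_normal U (cen L)
  · rw [hX, ← cen_jay]
    exact le_inf ((inf_le_left.trans hUR).trans (hR0T.trans hE.le))
      (inf_le_right.trans (CD.cen_anti hJL))
  · intro x hx
    have hx' : x ∈ ((Z ⊔ D : Subgroup G) : Set G) := hUAeq.symm ▸ ⟨hXU hx, hXall A hA hx⟩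
    have hc : D ≤ cen Z :=
      (inf_le_left.trans inf_le_left).trans (hUab.trans (CD.cen_anti (hZV.trans hVU)))
    rw [CD.sup_eq_mul_of_le_cen hc] at hx'
    obtain ⟨z, hz, d, hd, rfl⟩ := hx'
    refine mul_mem (le_sup_left (b := U ⊓ cen L) hz) (le_sup_right (a := Z) ⟨hd.1.1, ?_⟩)
    -- `d` is centralized by `J` and by `A'`
    set H := Subgroup.centralizer ({d} : Set G) with hH
    have hdX : d ∈ X := by simpa using mul_mem (inv_mem (hZX hz)) hx
    have hJH : J ≤ H := fun y hy => by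
      rw [hH, Subgroup.mem_centralizer_singleton_iff]
      exact (hX.le hdX).2 y hy
    have hA'H : A' ≤ H := fun y hy => by
      rw [hH, Subgroup.mem_centralizer_singleton_iff]
      have hd' : d ∈ A' := hd.2.2
      have hcc : A' ≤ cen A' := by rw [hA', CD.cen_cj]; exact CD.cj_mono g hA.2.1
      exact hcc hd' y hy
    have htop : H ⊔ T = ⊤ := by
      refine hg a0 (hA.1 ha0) ha0T _ (le_sup_left (b := T) (hJH (le_jay hA ha0))) ?_
      rw [← hATS', CD.cj, Subgroup.map_sup, ← CD.cj, ← CD.cj, ← hA']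
      exact sup_le_sup hA'H (cj_le_of_normal hE.normal g)
    have hLH : L ≤ H := by
      refine Subgroup.closure_le _ |>.2 ?_
      intro y hy
      obtain ⟨j, hj, hjy⟩ := Group.mem_conjugatesOfSet_iff.1 hy
      obtain ⟨w, rfl⟩ := isConj_iff.1 hjy
      have hw : w ∈ ((H ⊔ T : Subgroup G) : Set G) := htop ▸ Subgroup.mem_top w
      have := hE.normal
      rw [Subgroup.mul_normal] at hw
      obtain ⟨h, hh, t, ht, rfl⟩ := hw
      have hj' : t * j * t⁻¹ ∈ H := hJH (cj_jay (hE.le ht) ⟨j, hj, rfl⟩)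
      show h * t * j * (h * t)⁻¹ ∈ H
      have : h * t * j * (h * t)⁻¹ = h * (t * j * t⁻¹) * h⁻¹ := by group
      rw [this]
      exact mul_mem (mul_mem hh hj') (inv_mem hh)
    intro y hy
    exact Subgroup.mem_centralizer_singleton_iff.1 (hLH hy)
  · exact fun h => hAT ((le_inf ((le_jay hA).trans hJL) hA.1).trans h)

end CfsgLib.LocalEven.Push
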