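import Cfsg.Agent.Lib.LocalEven.CDSimple
import Cfsg.Agent.Lib.LocalEven.PReduced2

/-!
Centrally large subgroups of a subgroup `S`, seen inside the ambient group.
-/

set_option autoImplicit false

namespace CfsgLib.LocalEven.Push

open Cfsg
open CD (cj cen zOf)

variable {G : Type*} [Group G] [Finite G]

/-- `R` is centrally large in `S`. -/
def CLs (S R : Subgroup G) : Prop :=
  R ≤ S ∧ Nat.card R * Nat.card (zOf R) = maxCentralProduct ↥S

/-- `R` is minimal centrally large in `S`. -/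
def MCLs (S R : Subgroup G) : Prop := CLs S R ∧ ∀ R' ≤ R, CLs S R' → R' = R

omit [Finite G] in
theorem card_sup_inf_ge [Finite G] (H K : Subgroup G) :
    Nat.card H * Nat.card K ≤ Nat.card ↥(H ⊔ K) * Nat.card ↥(H ⊓ K) := by
  rw [← CD.card_mul_set H K]
  exact Nat.mul_le_mul_right _ (CD.card_mul_set_le H K)

theorem card_sup_inf_of_le_cen {H K : Subgroup G} (h : K ≤ cen H) :
    Nat.card ↥(H ⊔ K) * Nat.card ↥(H ⊓ K) = Nat.card H * Nat.card K := by
  rw [← CD.card_mul_set H K, ← CD.sup_eq_mul_of_le_cen h]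
  rfl

omit [Finite G] in
theorem zOf_map {H : Type*} [Group H] {f : G →* H} (hf : Function.Injective f) (R : Subgroup G) :
    zOf (R.map f) = (zOf R).map f := by
  refine le_antisymm ?_ ?_
  · rintro _ ⟨⟨x, hx, rfl⟩, hc⟩
    refine ⟨x, ⟨hx, fun y hy => hf ?_⟩, rfl⟩
    rw [map_mul, map_mul]
    exact hc (f y) ⟨y, hy, rfl⟩
  · rintro _ ⟨x, ⟨hx, hc⟩, rfl⟩
    refine ⟨⟨x, hx, rfl⟩, ?_⟩
    rintro _ ⟨y, hy, rfl⟩
    rw [← map_mul, ← map_mul, hc y hy]

omit [Finite G] in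
theorem zOf_le (R : Subgroup G) : zOf R ≤ R := inf_le_left

omit [Finite G] in
theorem zOf_le_cen (R : Subgroup G) : zOf R ≤ cen R := inf_le_right

theorem card_mul_zOf_map {H : Type*} [Group H] {f : G →* H} (hf : Function.Injective f)
    (R : Subgroup G) :
    Nat.card (R.map f) * Nat.card (zOf (R.map f)) = Nat.card R * Nat.card (zOf R) := by
  rw [zOf_map hf, Subgroup.card_map_of_injective hf, Subgroup.card_map_of_injective hf]

variable {S : Subgroup G}

theorem cls_map (Q : Subgroup ↥S) : IsCentrallyLarge Q ↔ CLs S (Q.map S.subtype) := by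
  rw [CLs, card_mul_zOf_map S.subtype_injective, ← CD.card_center_eq]
  exact ⟨fun h => ⟨Subgroup.map_subtype_le Q, h⟩, fun h => h.2⟩

omit [Finite G] in
theorem exists_eq_map {R : Subgroup G} (h : R ≤ S) :
    ∃ Q : Subgroup ↥S, Q.map S.subtype = R :=
  ⟨R.subgroupOf S, by rw [Subgroup.subgroupOf_map_subtype, inf_eq_left.2 h]⟩

omit [Finite G] in
theorem map_le_map {Q R : Subgroup ↥S} : Q.map S.subtype ≤ R.map S.subtype ↔ Q ≤ R :=
  Subgroup.map_le_map_iff_of_injective S.subtype_injective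

theorem mcls_map (Q : Subgroup ↥S) : IsMinimalCentrallyLarge Q ↔ MCLs S (Q.map S.subtype) := by
  constructor
  · intro h
    refine ⟨(cls_map Q).1 h.1, fun R hR hcl => ?_⟩
    obtain ⟨R', rfl⟩ := exists_eq_map hcl.1
    rw [h.2 R' (map_le_map.1 hR) ((cls_map R').2 hcl)]
  · intro h
    refine ⟨(cls_map Q).2 h.1, fun R hR hcl => ?_⟩
    exact Subgroup.map_injective S.subtype_injective
      (h.2 _ (Subgroup.map_mono hR) ((cls_map R).1 hcl))

theorem prod_le {X : Subgroup G} (h : X ≤ S) :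
    Nat.card X * Nat.card (zOf X) ≤ maxCentralProduct ↥S := by
  obtain ⟨Q, rfl⟩ := exists_eq_map h
  rw [card_mul_zOf_map S.subtype_injective, ← CD.card_center_eq]
  exact CD.central_le Q

theorem cls_zOf {Q : Subgroup G} (h : CLs S Q) : S ⊓ cen Q = zOf Q := by
  refine le_antisymm ?_ (inf_le_inf_right _ h.1)
  obtain ⟨Q', rfl⟩ := exists_eq_map h.1
  rintro x ⟨hxS, hx⟩
  refine ⟨?_, hx⟩
  refine ⟨⟨x, hxS⟩, CD.cl_cen_le ((cls_map Q').2 h) fun y hy => Subtype.ext (hx _ ⟨y, hy, rfl⟩), rfl⟩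

theorem mcls_exists_le {W : Subgroup G} (h : CLs S W) : ∃ R ≤ W, MCLs S R := by
  obtain ⟨W', rfl⟩ := exists_eq_map h.1
  obtain ⟨R, hR, hR'⟩ := CD.exists_mcl_le ((cls_map W').2 h)
  exact ⟨R.map S.subtype, Subgroup.map_mono hR, (mcls_map R).1 hR'⟩

theorem mcls_pair {Q R : Subgroup G} (hQ : MCLs S Q) (hR : MCLs S R) :
    ⁅Q, Q⁆ = ⁅R, R⁆ ∧ Nat.card Q = Nat.card R ∧ Nat.card (zOf Q) = Nat.card (zOf R) := by
  obtain ⟨Q', rfl⟩ := exists_eq_map hQ.1.1
  obtain ⟨R', rfl⟩ := exists_eq_map hR.1.1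
  obtain ⟨-, h1, h2, h3⟩ := CD.mcl_pair ((mcls_map Q').2 hQ) ((mcls_map R').2 hR)
  refine ⟨?_, ?_, ?_⟩
  · rw [← Subgroup.map_commutator, ← Subgroup.map_commutator, h1]
  · rw [Subgroup.card_map_of_injective S.subtype_injective,
      Subgroup.card_map_of_injective S.subtype_injective, h2]
  · rw [zOf_map S.subtype_injective, zOf_map S.subtype_injective,
      Subgroup.card_map_of_injective S.subtype_injective,
      Subgroup.card_map_of_injective S.subtype_injective, h3]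

theorem mcls_split {Q W : Subgroup G} (hQ : MCLs S Q) (hW : CLs S W) :
    (Q ⊓ W) ⊔ zOf Q = Q := by
  obtain ⟨Q', rfl⟩ := exists_eq_map hQ.1.1
  obtain ⟨W', rfl⟩ := exists_eq_map hW.1
  have h := CD.mcl_eq_inf_sup ((mcls_map Q').2 hQ) ((cls_map W').2 hW)
  rw [← CD.zOf_eq ((mcls_map Q').2 hQ).1] at h
  rw [zOf_map S.subtype_injective, ← Subgroup.map_inf _ _ _ S.subtype_injective,
    ← Subgroup.map_sup, h]

omit [Finite G] in
theorem card_zOf_cj [Finite G] (g : G) (R : Subgroup G) :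
    Nat.card (cj g R) * Nat.card (zOf (cj g R)) = Nat.card R * Nat.card (zOf R) :=
  card_mul_zOf_map (MulAut.conj g).injective R

theorem cls_cj {R : Subgroup G} (g : G) (h : CLs S R) (hg : cj g R ≤ S) : CLs S (cj g R) :=
  ⟨hg, (card_zOf_cj g R).trans h.2⟩

theorem mcls_cj {R : Subgroup G} (g : G) (h : MCLs S R) (hg : cj g R ≤ S) :
    MCLs S (cj g R) := by
  refine ⟨cls_cj g h.1 hg, fun R' hR' hcl => ?_⟩
  have hle : cj g⁻¹ R' ≤ R := by
    have := CD.cj_mono g⁻¹ hR'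
    rwa [CD.cj_cj, inv_mul_cancel, CD.cj_one] at this
  have := h.2 _ hle (cls_cj g⁻¹ hcl (hle.trans h.1.1))
  rw [← this, CD.cj_cj, mul_inv_cancel, CD.cj_one]

theorem minimalJoin_map :
    (minimalCentrallyLargeJoin ↥S).map S.subtype = sSup {R : Subgroup G | MCLs S R} := by
  refine le_antisymm ?_ (sSup_le fun R hR => ?_)
  · rw [minimalCentrallyLargeJoin, Subgroup.map_le_iff_le_comap]
    refine sSup_le fun Q hQ => ?_
    rw [← Subgroup.map_le_iff_le_comap]
    exact le_sSup ((mcls_map Q).1 hQ)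
  · obtain ⟨R', rfl⟩ := exists_eq_map hR.1.1
    exact Subgroup.map_mono (le_sSup ((mcls_map R').2 hR))

theorem zOf_eq_inf (R : Subgroup G) : zOf R = R ⊓ Subgroup.centralizer (R : Set G) := rfl

theorem cls_self (hJ : S ≤ Subgroup.centralizer (centerThompsonAOf S : Set G)) : CLs S S := by
  obtain ⟨Q, hQ⟩ := CD.exists_centrallyLarge (G := ↥S)
  have hM := CD.cl_sup_sSup_maxAb hQ (s := maxAbelianSubgroups ↥S) fun _ h => h
  have h := CD.jTilde_le hM le_sup_right
  have htop : (⊤ : Subgroup ↥S) ≤ Q ⊔ sSup (maxAbelianSubgroups ↥S) := by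
    intro s _
    apply h
    intro x hx
    refine Subtype.ext (hJ s.2 (x : G) ⟨⟨x, hx.1, rfl⟩, ?_⟩)
    rintro _ ⟨y, hy, rfl⟩
    exact congrArg Subtype.val (hx.2 y hy)
  rw [top_le_iff] at htop
  rw [htop] at hM
  have h2 := (cls_map _).1 hM
  rwa [← MonoidHom.range_eq_map, Subgroup.range_subtype] at h2

theorem cls_eq_max {R : Subgroup G} (hR : R ≤ S) (hS : CLs S S)
    (h : Nat.card S * Nat.card (zOf S) ≤ Nat.card R * Nat.card (zOf R)) : CLs S R :=
  ⟨hR, le_antisymm (prod_le hR) (hS.2 ▸ h)⟩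

/-! ### `Ω₁` -/

theorem card_omegaOneCenter_map (p : ℕ) (Q : Subgroup ↥S) :
    Nat.card (omegaOneCenter p Q) = Nat.card (omegaOne p (zOf (Q.map S.subtype))) := by
  rw [zOf_map S.subtype_injective, ← map_omegaOne p (zOf Q) S.subtype S.subtype_injective,
    Subgroup.card_map_of_injective S.subtype_injective]
  rfl

end CfsgLib.LocalEven.Push
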