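import Cfsg.Agent.Lib.LocalEven.PushSetup
import Cfsg.Agent.Lib.LocalEven.PushCL
import Cfsg.Agent.Lib.LocalEven.CDNormal
import Cfsg.Agent.Lib.PLocal.Replacement

/-!
Pushing up when `S` is centrally large in itself.
-/

set_option autoImplicit false

namespace CfsgLib.LocalEven.Push

open Cfsg
open scoped commutatorElement
open CD (cj cen zOf)

variable {G : Type*} [Group G]

theorem cen_normal {N : Subgroup G} (hN : N.Normal) : (cen N).Normal := inferInstance

theorem zOf_normal {N : Subgroup G} (hN : N.Normal) : (zOf N).Normal := by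
  have := hN; have := cen_normal hN
  exact Subgroup.normal_inf_normal N (cen N)

theorem cj_le_of_normal {N : Subgroup G} (hN : N.Normal) (g : G) : cj g N ≤ N := by
  rintro _ ⟨x, hx, rfl⟩
  exact hN.conj_mem x hx g

theorem normal_of_cj_le {N : Subgroup G} (h : ∀ g : G, cj g N ≤ N) : N.Normal :=
  ⟨fun x hx g => h g ⟨x, hx, rfl⟩⟩

variable [Finite G] {p : ℕ} [Fact p.Prime] {S T : Subgroup G}

/-- The subgroup generated by the minimal centrally large subgroups is normal when all of them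
lie in `T`. -/
theorem sSup_normal_of_le_T (hE : Setup p S T) {P : Subgroup G → Prop}
    (hP : ∀ (g : G) (R : Subgroup G), P R → cj g R ≤ S → P (cj g R)) (h : ∀ R, P R → R ≤ T) :
    (sSup {R | P R}).Normal := by
  refine normal_of_cj_le fun g => ?_
  rw [CD.cj, Subgroup.map_le_iff_le_comap]
  refine sSup_le fun R hR => ?_
  rw [← Subgroup.map_le_iff_le_comap]
  refine le_sSup (hP g R hR ?_)
  exact ((CD.cj_mono g (h R hR)).trans (cj_le_of_normal hE.normal g)).trans hE.le

theorem zOf_S_le_zOf_T (hE : Setup p S T) : zOf S ≤ zOf T := by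
  intro x hx
  have h : x ∈ cen T := CD.cen_anti hE.le hx.2
  exact ⟨hE.cenT h, h⟩

/-- A subgroup of `Z(S)` centralized by a normal subgroup `C` with `C ∩ S ⊄ T` is central. -/
theorem central_of_normal (hE : Setup p S T) {C X : Subgroup G} (hC : C.Normal)
    (hne : ¬ C ⊓ S ≤ T) (h1 : X ≤ cen C) (h2 : X ≤ cen S) : X ≤ Subgroup.center G := by
  rw [← Subgroup.centralizer_univ]
  intro x hx g _
  have hg : g ∈ C ⊔ S := hE.factA C hC hne ▸ Subgroup.mem_top g
  have hle : C ⊔ S ≤ cen X :=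
    sup_le (Subgroup.le_centralizer_iff.1 h1) (Subgroup.le_centralizer_iff.1 h2)
  exact (hle hg x hx).symm

theorem normal_of_le_center {X : Subgroup G} (h : X ≤ Subgroup.center G) : X.Normal :=
  normal_of_cj_le fun g => by
    rintro _ ⟨x, hx, rfl⟩
    rw [MulEquiv.coe_toMonoidHom, MulAut.conj_apply, Subgroup.mem_center_iff.1 (h hx) g,
      mul_inv_cancel_right]
    exact hx

/-- The structure of `Z(T)` when `Z(S)` is not central. -/
structure Quadratic (p : ℕ) (S T : Subgroup G) : Prop where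
  cenV : S ⊓ cen (zOf T) ≤ T
  clsT : CLs S T
  index : Nat.card T * Nat.card (zOf T) = Nat.card S * Nat.card (zOf S)
  fix : ∀ s ∈ S, s ∉ T → ∀ v ∈ zOf T, s * v = v * s → v ∈ zOf S
  omega : zOf T ≤ zOf S ⊔ omegaOne p (zOf T)

/-- What quadratic action of `S` on `Z(T)` gives, relative to a second Sylow subgroup. -/
structure QuadCore (p : ℕ) (S T : Subgroup G) : Prop where
  cenV : S ⊓ cen (zOf T) ≤ T
  index : Nat.card T * Nat.card (zOf T) = Nat.card S * Nat.card (zOf S)
  fix : ∀ s ∈ S, s ∉ T → ∀ v ∈ zOf T, s * v = v * s → v ∈ zOf S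
  omega : zOf T ≤ zOf S ⊔ omegaOne p (zOf T)
  powc : ∀ z ∈ zOf S, z ^ p ∈ Subgroup.center G
  two : ∃ g : G, (∀ s ∈ S, s ∉ T → ∀ H : Subgroup G, s ∈ H → cj g S ≤ H → H = ⊤) ∧
    zOf S ⊓ cj g (zOf S) = zOf T ⊓ Subgroup.center G ∧ zOf S ⊔ cj g (zOf S) = zOf T ∧
    Nat.card (zOf S) * Nat.card (zOf S) =
      Nat.card (zOf T) * Nat.card ↥(zOf T ⊓ Subgroup.center G)

theorem quadraticCore (hE : Setup p S T) (hZ : ¬ zOf S ≤ Subgroup.center G)
    (hmax : ∀ X, X ≤ S → PLocal.offMeasure (zOf T) X ≤ PLocal.offMeasure (zOf T) S) :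
    QuadCore p S T := by
  have hTn := hE.normal
  set V := zOf T with hVdef
  change ∀ X, X ≤ S → PLocal.offMeasure V X ≤ PLocal.offMeasure V S at hmax
  have hVn : V.Normal := zOf_normal hE.normal
  have hVab : IsMulCommutative V := Subgroup.le_centralizer_iff_isMulCommutative.1
    (inf_le_right.trans (CD.cen_anti inf_le_left))
  have hTV : T ≤ cen V := Subgroup.le_centralizer_iff.1 inf_le_right
  have hZV : zOf S ≤ V := zOf_S_le_zOf_T hE
  have hcenV : S ⊓ cen V ≤ T := by
    by_contra h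
    refine hZ (central_of_normal hE (cen_normal hVn) (by rwa [inf_comm]) ?_ inf_le_right)
    exact hZV.trans (CD.le_cen_cen V)
  have hVS : V ⊓ cen S = zOf S :=
    le_antisymm (inf_le_inf_right _ (inf_le_left.trans hE.le)) (le_inf hZV inf_le_right)
  have hSV : S ≤ Subgroup.normalizer (V : Set G) := fun x _ => by
    rw [Subgroup.normalizer_eq_top_iff.2 hVn]; trivial
  have hab : ⁅S, S⁆ ≤ cen V := hE.comm.trans hTV
  have hpos : ∀ H : Subgroup G, 0 < Nat.card H := fun H => Nat.card_pos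
  obtain ⟨hm, hc⟩ := PLocal.replacement hVab hSV hab hmax (le_refl V)
  set B := S ⊓ cen ⁅V, S⁆ with hBdef
  have hVSle : ⁅V, S⁆ ≤ V := Subgroup.commutator_le_left V S
  have hB : B = T ∨ B = S := by
    refine hE.irred B (le_inf hE.le (hTV.trans (CD.cen_anti hVSle))) inf_le_left fun x hx => ?_
    have e1 : cj x S = S := CD.cj_eq_of_mem_normalizer hx
    have e2 : cj x V = V := CD.cj_eq_of_mem_normalizer
      (by rw [Subgroup.normalizer_eq_top_iff.2 hVn]; trivial)
    have e3 : cj x ⁅V, S⁆ = ⁅V, S⁆ := (Subgroup.map_commutator V S _).trans (congrArg₂ (fun a b : Subgroup G => ⁅a, b⁆) e2 e1)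
    refine le_inf ((CD.cj_mono x inf_le_left).trans e1.le) ((CD.cj_mono x inf_le_right).trans ?_)
    rw [← CD.cen_cj, e3]
  have hB' : B = S := by
    refine hB.resolve_left fun hBT => ?_
    have hne : ⁅V, S⁆ ≠ ⊥ := by
      rw [Ne, Subgroup.commutator_eq_bot_iff_le_centralizer]
      intro h
      exact hE.ne (fun s hs => hcenV ⟨hs, Subgroup.le_centralizer_iff.1 h hs⟩)
    refine PLocal.replacement_nontrivial (p := p) hVab ((hE.isP.to_le hE.le).to_le inf_le_left)
      hSV hab (fun a ha => ⟨1, by rw [pow_one]; exact hTV (hE.pow a ha)⟩) hmax (le_refl V) hne ?_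
    rw [Subgroup.commutator_eq_bot_iff_le_centralizer]
    refine Subgroup.le_centralizer_iff.1 ?_
    exact hBT.le.trans hTV
  have hVSc : ⁅V, S⁆ ≤ zOf S :=
    hVS ▸ le_inf hVSle (Subgroup.le_centralizer_iff.1 (hB'.ge.trans inf_le_right))
  -- a second Sylow subgroup
  obtain ⟨g, hg⟩ := hE.gen
  set Z := zOf S with hZdef
  set Z' := cj g Z with hZ'def
  set Zc := V ⊓ Subgroup.center G with hZc
  have hZ'V : Z' ≤ V := (CD.cj_mono g hZV).trans (cj_le_of_normal hVn g)
  have hZ'c : cj g S ≤ cen Z' := by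
    rw [hZ'def, CD.cen_cj]
    exact CD.cj_mono g (Subgroup.le_centralizer_iff.1 inf_le_right)
  obtain ⟨s0, hs0, hs0T⟩ := SetLike.not_le_iff_exists.1 hE.ne
  have hcentral : ∀ s ∈ S, s ∉ T → ∀ x ∈ Z', s * x = x * s → x ∈ Subgroup.center G := by
    intro s hs hsT x hx hsx
    have := hg s hs hsT (Subgroup.centralizer {x})
      (Subgroup.mem_centralizer_singleton_iff.2 hsx)
      (fun y hy => Subgroup.mem_centralizer_singleton_iff.2 (hZ'c hy x hx).symm)
    rw [Subgroup.mem_center_iff]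
    exact fun y => Subgroup.mem_centralizer_singleton_iff.1 (this ▸ Subgroup.mem_top y)
  have hZcZ : Zc ≤ Z := hVS ▸ inf_le_inf_left _ (fun x hx y _ => Subgroup.mem_center_iff.1 hx y)
  have hZcZ' : Zc ≤ Z' := fun x hx => ⟨x, hZcZ hx, by
    rw [MulEquiv.coe_toMonoidHom, MulAut.conj_apply, Subgroup.mem_center_iff.1 hx.2 g,
      mul_inv_cancel_right]⟩
  have hint : Z ⊓ Z' = Zc := by
    refine le_antisymm (fun x hx => Subgroup.mem_inf.2 ⟨hZV hx.1, ?_⟩) (le_inf hZcZ hZcZ')
    exact hcentral s0 hs0 hs0T x hx.2 ((hx.1 : x ∈ Z).2 s0 hs0)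
  obtain ⟨v, hv, hvc⟩ : ∃ v ∈ Z', v ∉ Subgroup.center G := by
    by_contra h
    push Not at h
    refine hZ fun z hz => ?_
    have h1 : g * z * g⁻¹ ∈ Subgroup.center G := h _ ⟨z, hz, rfl⟩
    simpa [mul_assoc] using (inferInstance : (Subgroup.center G).Normal).conj_mem _ h1 g⁻¹
  have hvS : ∀ s ∈ S, ⁅v, s⁆ ∈ Z := fun s hs =>
    hVSc (Subgroup.commutator_mem_commutator (hZ'V hv) hs)
  let φ : ↥S →* ↥Z ⧸ Zc.subgroupOf Z :=
    (QuotientGroup.mk' _).comp
      { toFun := fun s => ⟨⁅v, (s : G)⁆, hvS s s.2⟩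
        map_one' := Subtype.ext (by simp)
        map_mul' := fun a b => Subtype.ext <| by
          show ⁅v, (a : G) * b⁆ = ⁅v, (a : G)⁆ * ⁅v, (b : G)⁆
          have hab : (a : G) * ⁅v, (b : G)⁆ * (a : G)⁻¹ = ⁅v, (b : G)⁆ := by
            rw [(hvS b b.2).2 a a.2, mul_inv_cancel_right]
          conv_rhs => rw [← hab]
          simp only [commutatorElement_def]
          group }
  have hker : φ.ker ≤ T.subgroupOf S := by
    intro s hs
    by_contra hsT
    have hsc : ⁅v, (s : G)⁆ ∈ Subgroup.center G := by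
      have := (QuotientGroup.eq_one_iff _).1 (MonoidHom.mem_ker.1 hs)
      exact this.2
    have hvS' : ∀ y ∈ cj g S, ⁅v, y⁆ = 1 := fun y hy =>
      commutatorElement_eq_one_iff_mul_comm.2 (hZ'c hy v hv)
    have hmul : ∀ a b : G, ⁅v, b⁆ ∈ Subgroup.center G → ⁅v, a * b⁆ = ⁅v, a⁆ * ⁅v, b⁆ := by
      intro a b hb
      have hab : a * ⁅v, b⁆ * a⁻¹ = ⁅v, b⁆ := by
        rw [Subgroup.mem_center_iff.1 hb a, mul_inv_cancel_right]
      conv_rhs => rw [← hab]
      simp only [commutatorElement_def]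
      group
    let H : Subgroup G :=
      { carrier := {h | ⁅v, h⁆ ∈ Subgroup.center G}
        one_mem' := by simp
        mul_mem' := fun {a b} ha hb => by
          show ⁅v, a * b⁆ ∈ Subgroup.center G
          rw [hmul a b hb]; exact mul_mem ha hb
        inv_mem' := fun {a} ha => by
          show ⁅v, a⁻¹⁆ ∈ Subgroup.center G
          have : ⁅v, a⁻¹⁆ = a⁻¹ * ⁅v, a⁆⁻¹ * a := by simp only [commutatorElement_def]; group
          rw [this, Subgroup.mem_center_iff.1 (inv_mem ha) a⁻¹, inv_mul_cancel_right]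
          exact inv_mem ha }
    have hH : H = ⊤ := hg s s.2 hsT H hsc fun y hy => by
      show ⁅v, y⁆ ∈ Subgroup.center G
      rw [hvS' y hy]; exact one_mem _
    let ψ : G →* G :=
      { toFun := fun h => ⁅v, h⁆
        map_one' := by simp
        map_mul' := fun a b => hmul a b (show b ∈ H from hH ▸ Subgroup.mem_top b) }
    have hψ : ψ.ker = ⊤ := by
      refine hg s s.2 hsT ψ.ker ?_ fun y hy => hvS' y hy
      have h1 : cj g S ≤ ψ.ker := fun y hy => hvS' y hy
      have := CD.cj_mono g⁻¹ h1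
      rw [CD.cj_cj, inv_mul_cancel, CD.cj_one] at this
      exact cj_le_of_normal inferInstance _ (this s.2)
    refine hvc (Subgroup.mem_center_iff.2 fun y => ?_)
    have hy : ψ y = 1 := MonoidHom.mem_ker.1 (hψ ▸ Subgroup.mem_top y)
    exact (commutatorElement_eq_one_iff_mul_comm.1 hy).symm
  -- counting
  have eS : Nat.card S = Nat.card φ.ker * Nat.card φ.range := by
    rw [Subgroup.card_eq_card_quotient_mul_card_subgroup φ.ker,
      Nat.card_congr (QuotientGroup.quotientKerEquivRange φ).toEquiv, mul_comm]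
  have eQ : Nat.card (↥Z ⧸ Zc.subgroupOf Z) * Nat.card Zc = Nat.card Z := by
    rw [Subgroup.card_eq_card_quotient_mul_card_subgroup (Zc.subgroupOf Z),
      Nat.card_congr (Subgroup.subgroupOfEquivOfLe hZcZ).toEquiv]
  have ek : Nat.card φ.ker ≤ Nat.card T := by
    refine le_trans (Nat.card_mono (Set.toFinite _) (SetLike.coe_subset_coe.2 hker)) ?_
    exact (Nat.card_congr (Subgroup.subgroupOfEquivOfLe hE.le).toEquiv).le
  have er : Nat.card φ.range ≤ Nat.card (↥Z ⧸ Zc.subgroupOf Z) :=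
    Subgroup.card_le_card_group φ.range
  have hsup : Z' ≤ cen Z :=
    hZ'V.trans ((Subgroup.le_centralizer_iff_isMulCommutative.2 hVab).trans (CD.cen_anti hZV))
  have eV : Nat.card Z * Nat.card Z = Nat.card ↥(Z ⊔ Z') * Nat.card Zc := by
    rw [← hint, card_sup_inf_of_le_cen hsup, hZ'def, CD.card_cj]
  have eV' : Nat.card ↥(Z ⊔ Z') ≤ Nat.card V :=
    Nat.card_mono (Set.toFinite _) (SetLike.coe_subset_coe.2 (sup_le hZV hZ'V))
  have ef : Nat.card T * Nat.card V ≤ Nat.card S * Nat.card Z := by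
    have h := hmax T hE.le
    rwa [PLocal.offMeasure, PLocal.offMeasure, hVS,
      inf_eq_left.2 (Subgroup.le_centralizer_iff.1 hTV)] at h
  have h1 : Nat.card S * Nat.card Zc ≤ Nat.card T * Nat.card Z := by
    rw [eS, ← eQ, mul_assoc]
    exact Nat.mul_le_mul ek (Nat.mul_le_mul_right _ er)
  have h2 : Nat.card T * Nat.card ↥(Z ⊔ Z') * Nat.card Zc =
      Nat.card T * Nat.card Z * Nat.card Z := by
    rw [mul_assoc, ← eV, mul_assoc]
  have eTV : Nat.card T * Nat.card V = Nat.card S * Nat.card Z := by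
    refine le_antisymm ef (Nat.le_of_mul_le_mul_right ?_ (hpos Zc))
    calc Nat.card S * Nat.card Z * Nat.card Zc
        = Nat.card S * Nat.card Zc * Nat.card Z := mul_right_comm _ _ _
      _ ≤ Nat.card T * Nat.card Z * Nat.card Z := Nat.mul_le_mul_right _ h1
      _ = Nat.card T * Nat.card ↥(Z ⊔ Z') * Nat.card Zc := h2.symm
      _ ≤ Nat.card T * Nat.card V * Nat.card Zc := by gcongr
  have hVsup : Z ⊔ Z' = V := by
    refine Subgroup.eq_of_le_of_card_ge (sup_le hZV hZ'V) ?_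
    refine Nat.le_of_mul_le_mul_left (Nat.le_of_mul_le_mul_right ?_ (hpos Zc)) (hpos T)
    calc Nat.card T * Nat.card V * Nat.card Zc
        = Nat.card S * Nat.card Zc * Nat.card Z := by rw [eTV, mul_right_comm]
      _ ≤ Nat.card T * Nat.card Z * Nat.card Z := Nat.mul_le_mul_right _ h1
      _ = Nat.card T * Nat.card ↥(Z ⊔ Z') * Nat.card Zc := h2.symm
  have hrange : φ.range = ⊤ := by
    refine Subgroup.eq_top_of_le_card _ ?_
    refine Nat.le_of_mul_le_mul_left (?_ : Nat.card φ.ker * _ ≤ Nat.card φ.ker * _) Nat.card_pos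
    rw [← eS]
    refine Nat.le_of_mul_le_mul_right ?_ (hpos Zc)
    rw [mul_assoc, eQ]
    refine (Nat.mul_le_mul_right _ ek).trans (le_of_eq ?_)
    refine Nat.eq_of_mul_eq_mul_right (hpos Z) ?_
    rw [mul_assoc, eV, hVsup, ← mul_assoc, eTV]
    exact mul_right_comm _ _ _
  have hp : ∀ s ∈ S, ⁅v, s⁆ ^ p = 1 := by
    intro s hs
    have h0 : s ^ p * v = v * s ^ p := (hTV (hE.pow s hs) v (hZ'V hv)).symm
    have hcomm : ∀ n : ℕ, ⁅v, s ^ n⁆ = ⁅v, s⁆ ^ n := fun n => by
      induction n with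
      | zero => simp
      | succ n ih =>
        have hab : s ^ n * ⁅v, s⁆ * (s ^ n)⁻¹ = ⁅v, s⁆ := by
          rw [(hvS s hs).2 _ (pow_mem hs n), mul_inv_cancel_right]
        rw [pow_succ s n, pow_succ (⁅v, s⁆), ← ih]
        conv_rhs => rw [← hab]
        simp only [commutatorElement_def]
        group
    rw [← hcomm p]
    exact commutatorElement_eq_one_iff_mul_comm.2 h0.symm
  have hZ0 : ∀ z ∈ Z, ∃ e ∈ V, e ^ p = 1 ∧ ∃ c ∈ Zc, z = e * c := by
    intro z hz
    obtain ⟨s, hs⟩ : (QuotientGroup.mk' _ ⟨z, hz⟩) ∈ φ.range := hrange ▸ Subgroup.mem_top _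
    obtain ⟨c, hc, hcz⟩ := (QuotientGroup.mk'_eq_mk' _).1 hs
    exact ⟨_, hZV (hvS s s.2), hp s s.2, (c : G), hc, (congrArg Subtype.val hcz).symm⟩
  refine ⟨hcenV, eTV, ?_, ?_, ?_, g, hg, hint, hVsup, by rw [eV, hVsup]⟩
  · intro s hs hsT x hx hsx
    replace hx : x ∈ ((Z ⊔ Z' : Subgroup G) : Set G) := hVsup ▸ hx
    rw [CD.sup_eq_mul_of_le_cen hsup] at hx

    obtain ⟨a, ha, b, hb, rfl⟩ := hx
    have hsa : s * a = a * s := (ha : a ∈ Z).2 s hs
    have hsb : s * b = b * s := by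
      have := hsx
      rw [← mul_assoc, hsa, mul_assoc, mul_assoc, mul_right_inj] at this
      exact this
    exact mul_mem ha (hZcZ ⟨hZ'V hb, hcentral s hs hsT b hb hsb⟩)
  · refine hVsup.ge.trans (sup_le le_sup_left ?_)
    rintro _ ⟨z, hz, rfl⟩
    obtain ⟨e, he, hep, c, hc, rfl⟩ := hZ0 z hz
    rw [map_mul]
    refine mul_mem (le_sup_right (a := Z) (Subgroup.subset_closure ⟨?_, ?_⟩)) (le_sup_left (b := omegaOne p V) (hZcZ ?_))
    · exact cj_le_of_normal hVn g ⟨e, he, rfl⟩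
    · rw [← map_pow, hep, map_one]
    · rw [MulEquiv.coe_toMonoidHom, MulAut.conj_apply, Subgroup.mem_center_iff.1 hc.2 g,
        mul_inv_cancel_right]
      exact hc
  · intro z hz
    obtain ⟨e, he, hep, c, hc, rfl⟩ := hZ0 z hz
    have hcom : Commute e c := Subgroup.mem_center_iff.1 hc.2 e
    rw [hcom.mul_pow, hep, one_mul]
    exact pow_mem hc.2 p

theorem hmax_of_cls (hE : Setup p S T) (hS : CLs S S) :
    ∀ X, X ≤ S → PLocal.offMeasure (zOf T) X ≤ PLocal.offMeasure (zOf T) S := by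
  intro X hX
  have hVS : zOf T ⊓ cen S = zOf S :=
    le_antisymm (inf_le_inf_right _ (inf_le_left.trans hE.le))
      (le_inf (zOf_S_le_zOf_T hE) inf_le_right)
  have h1 : PLocal.offMeasure (zOf T) S = maxCentralProduct ↥S := by
    rw [PLocal.offMeasure, hVS]; exact hS.2
  rw [h1]
  refine le_trans (Nat.mul_le_mul (Nat.card_mono (Set.toFinite _)
    (SetLike.coe_subset_coe.2 (le_sup_left : X ≤ X ⊔ T)))
    (Nat.card_mono (Set.toFinite _) (SetLike.coe_subset_coe.2 ?_)))
    (prod_le (sup_le hX hE.le))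
  refine le_inf (inf_le_left.trans (inf_le_left.trans le_sup_right)) ?_
  show _ ≤ cen (X ⊔ T)
  rw [CD.cen_sup]
  exact le_inf inf_le_right (inf_le_left.trans inf_le_right)

theorem quadratic (hE : Setup p S T) (hS : CLs S S) (hZ : ¬ zOf S ≤ Subgroup.center G) :
    Quadratic p S T := by
  have h := quadraticCore hE hZ (hmax_of_cls hE hS)
  exact ⟨h.cenV, cls_eq_max hE.le hS h.index.ge, h.index, h.fix, h.omega⟩

end CfsgLib.LocalEven.Push
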