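import Cfsg.Agent.Lib.Classical.GL2
import Cfsg.Agent.Lib.Classical.SL2Sylow
import Cfsg.Agent.Lib.LocalEven.CDSimple
import Mathlib.Algebra.CharP.CharAndCard

/-!
The Sylow `p`-subgroups of `PSL₂` in characteristic `p`, as used in pushing up.
-/

set_option autoImplicit false

namespace CfsgLib.LocalEven.Push

open CD (cj)
open CfsgLib.Classical

/-- What pushing up uses of `PSL₂(pⁿ)`. -/
structure RankOne (p : ℕ) (H : Type*) [Group H] : Prop where
  comm : ∀ P : Sylow p H, ∀ x ∈ (P : Subgroup H), ∀ y ∈ (P : Subgroup H), x * y = y * x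
  exp : ∀ P : Sylow p H, ∀ x ∈ (P : Subgroup H), x ^ p = 1
  join : ∀ P Q : Sylow p H, P ≠ Q → (P : Subgroup H) ⊔ (Q : Subgroup H) = ⊤
  ti : ∀ P Q : Sylow p H, P ≠ Q → (P : Subgroup H) ⊓ (Q : Subgroup H) = ⊥
  two : ∀ P : Sylow p H, ∃ Q : Sylow p H, Q ≠ P
  irred : ∀ (P : Sylow p H) (B : Subgroup H), B ≤ (P : Subgroup H) →
    (∀ k ∈ Subgroup.normalizer ((P : Subgroup H) : Set H), cj k B ≤ B) →
    B = ⊥ ∨ B = (P : Subgroup H)

section PSL

variable {F : Type*} [Field F] [Finite F] (p : ℕ) [Fact p.Prime] [CharP F p]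

local notation "SL₂" => Matrix.SpecialLinearGroup (Fin 2) F
local notation "PSL₂" => Matrix.ProjectiveSpecialLinearGroup (Fin 2) F

/-- The projection. -/
abbrev pr : SL₂ →* PSL₂ := QuotientGroup.mk' _

omit [Finite F] in
theorem pr_surjective : Function.Surjective (pr (F := F)) := QuotientGroup.mk'_surjective _

omit [Finite F] in
theorem pr_eq {a b : SL₂} (h : pr a = pr b) : ∃ r : F, b.1 = r • a.1 := by
  obtain ⟨z, hz, rfl⟩ := (QuotientGroup.mk'_eq_mk' _).1 h
  obtain ⟨r, -, hr⟩ := Matrix.SpecialLinearGroup.mem_center_iff.1 hz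
  refine ⟨r, ?_⟩
  rw [Matrix.SpecialLinearGroup.coe_mul, ← hr]
  ext i j
  simp [Matrix.scalar_apply, Matrix.mul_diagonal, mul_comm]

theorem exists_mapSurjective (P : Sylow p PSL₂) :
    ∃ k : SL₂, (P : Subgroup PSL₂) = cj (pr k) ((uSubgroup F).map (pr (F := F))) := by
  obtain ⟨P0, rfl⟩ := Sylow.mapSurjective_surjective (pr_surjective (F := F)) p P
  obtain ⟨k, rfl⟩ := MulAction.exists_smul_eq SL₂ (uSylow (F := F) p) P0
  refine ⟨k, SetLike.ext fun x => ?_⟩
  simp only [Sylow.coe_mapSurjective, cj, Subgroup.mem_map, MulEquiv.coe_toMonoidHom,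
    MulAut.conj_apply, mem_sylow_smul]
  constructor
  · rintro ⟨y, ⟨u, hu, rfl⟩, rfl⟩
    exact ⟨pr u, ⟨u, hu, rfl⟩, by simp [map_mul, map_inv]⟩
  · rintro ⟨_, ⟨u, hu, rfl⟩, rfl⟩
    exact ⟨k * u * k⁻¹, ⟨u, hu, rfl⟩, by simp [map_mul, map_inv]⟩

omit [Finite F] in
theorem uSL_mul' (s t : F) : (uSL s : SL₂) * uSL t = uSL (s + t) :=
  (Matrix.SpecialLinearGroup.transvection_add _ _ _).symm

omit [Finite F] in
theorem uSL_pow (t : F) (n : ℕ) : (uSL t : SL₂) ^ n = uSL ((n : F) * t) := by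
  induction n with
  | zero => simp [uSL]
  | succ n ih => rw [pow_succ, ih, uSL_mul', Nat.cast_succ, add_one_mul]

omit [Finite F] in
theorem eq_zero_of_central {t : F}
    (h : pr (uSL t * lSL 1) = pr ((lSL 1 : SL₂) * uSL t)) : t = 0 := by
  obtain ⟨r, hr⟩ := pr_eq h
  simp only [Matrix.SpecialLinearGroup.coe_mul, uSL_coe, lSL_coe] at hr
  have h10 := congrFun (congrFun hr 1) 0
  have h00 := congrFun (congrFun hr 0) 0
  simp [Matrix.mul_apply, Fin.sum_univ_two, Matrix.vecMul, dotProduct] at h10 h00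
  subst h10
  simpa using h00

omit [Finite F] in
theorem pr_lSL_notMem : pr (lSL 1 : SL₂) ∉ (uSubgroup F).map (pr (F := F)) := by
  rintro ⟨u, hu, h⟩
  obtain ⟨t, rfl⟩ := mem_uSubgroup_iff.1 hu
  obtain ⟨r, hr⟩ := pr_eq h
  simp only [uSL_coe, lSL_coe] at hr
  have h10 := congrFun (congrFun hr 1) 0
  simp at h10

omit [Finite F] in
theorem torus_conj (a : Fˣ) (t : F) :
    torusHom F a * uSL t * (torusHom F a)⁻¹ = uSL ((a : F) * a * t) := by
  rw [mul_inv_eq_iff_eq_mul]
  refine Subtype.ext ?_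
  simp only [Matrix.SpecialLinearGroup.coe_mul, uSL_coe, torusHom_coe]
  ext i j
  fin_cases i <;> fin_cases j <;> simp [Matrix.mul_apply, Fin.sum_univ_two, Matrix.vecMul, dotProduct]
  field_simp

theorem exists_diff_squares (x : F) : ∃ a b : F, x = a * a - b * b := by
  rcases eq_or_ne (2 : F) 0 with h2 | h2
  · have := Fintype.ofFinite F
    have hchar : ringChar F = 2 :=
      CharP.ringChar_of_prime_eq_zero Nat.prime_two (by exact_mod_cast h2)
    obtain ⟨r, hr⟩ := FiniteField.isSquare_of_char_two hchar x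
    exact ⟨r, 0, by rw [hr]; ring⟩
  · exact ⟨(x + 1) / 2, (x - 1) / 2, by field_simp; ring⟩

theorem irred_uP (B : Subgroup PSL₂) (hB : B ≤ (uSubgroup F).map (pr (F := F)))
    (hn : ∀ k ∈ Subgroup.normalizer (((uSubgroup F).map (pr (F := F)) : Subgroup PSL₂) : Set PSL₂),
      cj k B ≤ B) : B = ⊥ ∨ B = (uSubgroup F).map (pr (F := F)) := by
  by_cases hne : B = ⊥
  · exact Or.inl hne
  right
  obtain ⟨x, hx, hx1⟩ := (Subgroup.bot_or_exists_ne_one B).resolve_left hne
  obtain ⟨u, hu, rfl⟩ := hB hx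
  obtain ⟨t, rfl⟩ := mem_uSubgroup_iff.1 hu
  have ht : t ≠ 0 := by rintro rfl; exact hx1 (by simp [uSL])
  have hsq : ∀ a : F, pr (uSL (a * a * t)) ∈ B := by
    intro a
    rcases eq_or_ne a 0 with rfl | ha
    · simp [uSL]
    set d := torusHom F (Units.mk0 a ha) with hd
    have hnd : pr d ∈
        Subgroup.normalizer (((uSubgroup F).map (pr (F := F)) : Subgroup PSL₂) : Set PSL₂) := by
      apply Subgroup.le_normalizer_map
      refine ⟨d, Subgroup.mem_normalizer_iff.2 fun v => ⟨fun hv => ?_, fun hv => ?_⟩, rfl⟩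
      · obtain ⟨s, rfl⟩ := mem_uSubgroup_iff.1 hv
        rw [hd, torus_conj]
        exact mem_uSubgroup_iff.2 ⟨_, rfl⟩
      · obtain ⟨s, hs⟩ := mem_uSubgroup_iff.1 hv
        refine mem_uSubgroup_iff.2 ⟨s / (a * a), ?_⟩
        have := torus_conj (Units.mk0 a ha) (s / (a * a))
        rw [Units.val_mk0, mul_div_cancel₀ _ (mul_ne_zero ha ha), hs, ← hd] at this
        exact mul_left_cancel (mul_right_cancel this)
    have h := hn _ hnd ⟨_, hx, rfl⟩
    rw [MulEquiv.coe_toMonoidHom, MulAut.conj_apply, ← map_mul, ← map_inv, ← map_mul, hd,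
      torus_conj, Units.val_mk0] at h
    exact h
  refine le_antisymm hB ?_
  rintro _ ⟨v, hv, rfl⟩
  obtain ⟨s, rfl⟩ := mem_uSubgroup_iff.1 hv
  obtain ⟨a, b, hab⟩ := exists_diff_squares (s / t)
  have e : a * a * t - b * b * t = s := by rw [← sub_mul, ← hab, div_mul_cancel₀ _ ht]
  have h1 : uSL (a * a * t) * (uSL (b * b * t) : SL₂)⁻¹ = uSL s := by
    rw [mul_inv_eq_iff_eq_mul, uSL_mul', ← e, sub_add_cancel]
  rw [← h1, map_mul, map_inv]
  exact mul_mem (hsq a) (inv_mem (hsq b))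

theorem rankOne_PSL : RankOne p PSL₂ := by
  refine ⟨?_, ?_, ?_, ?_, ?_, ?_⟩
  · intro P x hx y hy
    obtain ⟨k, hk⟩ := exists_mapSurjective p P
    rw [hk] at hx hy
    obtain ⟨_, ⟨u, hu, rfl⟩, rfl⟩ := hx
    obtain ⟨_, ⟨v, hv, rfl⟩, rfl⟩ := hy
    obtain ⟨s, rfl⟩ := mem_uSubgroup_iff.1 hu
    obtain ⟨t, rfl⟩ := mem_uSubgroup_iff.1 hv
    simp only [← map_mul, uSL_mul', add_comm s t]
  · intro P x hx
    obtain ⟨k, hk⟩ := exists_mapSurjective p P
    rw [hk] at hx
    obtain ⟨_, ⟨u, hu, rfl⟩, rfl⟩ := hx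
    obtain ⟨s, rfl⟩ := mem_uSubgroup_iff.1 hu
    rw [← map_pow, ← map_pow, uSL_pow, CharP.cast_eq_zero, zero_mul]
    simp [uSL]
  · intro P Q h
    obtain ⟨P0, rfl⟩ := Sylow.mapSurjective_surjective (pr_surjective (F := F)) p P
    obtain ⟨Q0, rfl⟩ := Sylow.mapSurjective_surjective (pr_surjective (F := F)) p Q
    rw [Sylow.coe_mapSurjective, Sylow.coe_mapSurjective, ← Subgroup.map_sup,
      sylowSL_sup_eq_top p (fun e => h (by rw [e])),
      Subgroup.map_top_of_surjective _ pr_surjective]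
  · intro P Q h
    refine eq_bot_iff.2 fun x ⟨hxP, hxQ⟩ => ?_
    have hcent : (⊤ : Subgroup PSL₂) ≤ Subgroup.centralizer {x} := by
      obtain ⟨P0, hP0⟩ := Sylow.mapSurjective_surjective (pr_surjective (F := F)) p P
      obtain ⟨Q0, hQ0⟩ := Sylow.mapSurjective_surjective (pr_surjective (F := F)) p Q
      have hjoin : (P : Subgroup PSL₂) ⊔ (Q : Subgroup PSL₂) = ⊤ := by
        rw [← hP0, ← hQ0, Sylow.coe_mapSurjective, Sylow.coe_mapSurjective, ← Subgroup.map_sup,
          sylowSL_sup_eq_top p (fun e => h (by rw [← hP0, ← hQ0, e])),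
          Subgroup.map_top_of_surjective _ pr_surjective]
      rw [← hjoin]
      have hc : ∀ R : Sylow p PSL₂, x ∈ (R : Subgroup PSL₂) →
          (R : Subgroup PSL₂) ≤ Subgroup.centralizer {x} := by
        intro R hxR y hy
        obtain ⟨k, hk⟩ := exists_mapSurjective p R
        rw [hk] at hxR hy
        obtain ⟨_, ⟨u, hu, rfl⟩, rfl⟩ := hxR
        obtain ⟨_, ⟨v, hv, rfl⟩, rfl⟩ := hy
        obtain ⟨s, rfl⟩ := mem_uSubgroup_iff.1 hu
        obtain ⟨t, rfl⟩ := mem_uSubgroup_iff.1 hv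
        rw [Subgroup.mem_centralizer_singleton_iff]
        simp only [← map_mul, uSL_mul', add_comm s t]
      exact sup_le (hc P hxP) (hc Q hxQ)
    obtain ⟨k, hk⟩ := exists_mapSurjective p P
    rw [SetLike.mem_coe, hk] at hxP
    obtain ⟨_, ⟨u, hu, rfl⟩, rfl⟩ := hxP
    obtain ⟨s, rfl⟩ := mem_uSubgroup_iff.1 hu
    have hs := Subgroup.mem_centralizer_singleton_iff.1 (hcent (Subgroup.mem_top
      (pr k * pr (lSL (1 : F)) * (pr k)⁻¹)))
    rw [MulEquiv.coe_toMonoidHom, MulAut.conj_apply] at hs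
    have hs' : pr (uSL s) * pr (lSL (1 : F)) = pr (lSL (1 : F)) * pr (uSL s) := by
      simp only [mul_assoc, inv_mul_cancel_left] at hs
      rw [mul_right_inj, ← mul_assoc, ← mul_assoc, mul_left_inj] at hs
      exact hs.symm
    rw [← map_mul, ← map_mul] at hs'
    rw [eq_zero_of_central hs', MulEquiv.coe_toMonoidHom, MulAut.conj_apply]
    simp [uSL]
  · intro P
    by_contra hno
    push Not at hno
    obtain ⟨k, hk⟩ := exists_mapSurjective p P
    have hnorm : ∀ g : PSL₂, cj g (P : Subgroup PSL₂) = P := fun g => by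
      conv_rhs => rw [← hno (g • P)]
      rfl
    apply pr_lSL_notMem (F := F)
    -- `P` contains a conjugate of the upper, hence of the lower unitriangular subgroup
    have hsub : (uSubgroup F).map (pr (F := F)) = P := by
      rw [hk]
      have h1 := hnorm (pr k)⁻¹
      rw [hk, CD.cj_cj, inv_mul_cancel, CD.cj_one] at h1
      exact h1
    rw [hsub]
    let w : SL₂ := ⟨!![0, 1; -1, 0], by simp [Matrix.det_fin_two_of]⟩
    have hw : w * uSL (-1) = lSL (1 : F) * w := by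
      refine Subtype.ext ?_
      show (w : Matrix (Fin 2) (Fin 2) F) * (uSL (-1 : F)).1 = (lSL (1 : F)).1 * (w : Matrix (Fin 2) (Fin 2) F)
      rw [uSL_coe, lSL_coe, show (w : Matrix (Fin 2) (Fin 2) F) = !![0, 1; -1, 0] from rfl]
      ext i j
      fin_cases i <;> fin_cases j <;>
        simp [Matrix.mul_apply, Fin.sum_univ_two]
    rw [← hnorm (pr w)]
    refine ⟨pr (uSL (-1)), hsub ▸ ⟨_, mem_uSubgroup_iff.2 ⟨-1, rfl⟩, rfl⟩, ?_⟩
    rw [MulEquiv.coe_toMonoidHom, MulAut.conj_apply, mul_inv_eq_iff_eq_mul, ← map_mul,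
      ← map_mul, hw]
  · intro P B hB hn
    obtain ⟨k, hk⟩ := exists_mapSurjective p P
    have hB' : cj (pr k)⁻¹ B ≤ (uSubgroup F).map (pr (F := F)) := by
      have := CD.cj_mono (pr k)⁻¹ hB
      rwa [hk, CD.cj_cj, inv_mul_cancel, CD.cj_one] at this
    have hn' : ∀ j ∈ Subgroup.normalizer
        (((uSubgroup F).map (pr (F := F)) : Subgroup PSL₂) : Set PSL₂),
        cj j (cj (pr k)⁻¹ B) ≤ cj (pr k)⁻¹ B := by
      intro j hj
      have hj' : pr k * j * (pr k)⁻¹ ∈
          Subgroup.normalizer ((P : Subgroup PSL₂) : Set PSL₂) := by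
        have h1 : pr k * j * (pr k)⁻¹ ∈ (Subgroup.normalizer
            (((uSubgroup F).map (pr (F := F)) : Subgroup PSL₂) : Set PSL₂)).map
              (MulAut.conj (pr k)).toMonoidHom := ⟨j, hj, rfl⟩
        rw [hk]
        exact Subgroup.le_normalizer_map _ h1
      have h2 := CD.cj_mono (pr k)⁻¹ (hn _ hj')
      rwa [CD.cj_cj, ← mul_assoc, ← mul_assoc, inv_mul_cancel, one_mul, ← CD.cj_cj] at h2
    rcases irred_uP (cj (pr k)⁻¹ B) hB' hn' with h | h
    · left
      have := congrArg (cj (pr k)) h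
      rwa [CD.cj_cj, mul_inv_cancel, CD.cj_one, cj, Subgroup.map_bot] at this
    · right
      have := congrArg (cj (pr k)) h
      rwa [CD.cj_cj, mul_inv_cancel, CD.cj_one, ← hk] at this

end PSL

theorem rankOne_of_mulEquiv {p : ℕ} [Fact p.Prime] {H H' : Type*} [Group H] [Group H'] [Finite H]
    (e : H ≃* H') (h : RankOne p H') : RankOne p H := by
  have hi : Function.Injective e.toMonoidHom := e.injective
  have hs : Function.Surjective e.toMonoidHom := e.surjective
  obtain ⟨m, hm⟩ : ∃ m : Sylow p H → Sylow p H',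
      ∀ P, (m P : Subgroup H') = (P : Subgroup H).map e.toMonoidHom :=
    ⟨fun P => P.mapSurjective hs, fun P => Sylow.coe_mapSurjective hs P⟩
  have hne : ∀ P Q : Sylow p H, P ≠ Q → m P ≠ m Q := by
    intro P Q hPQ h'
    refine hPQ (Sylow.ext (Subgroup.map_injective hi ?_))
    rw [← hm, ← hm, h']
  have hmem : ∀ (P : Sylow p H) x, x ∈ (P : Subgroup H) → e x ∈ (m P : Subgroup H') :=
    fun P x hx => by rw [hm]; exact ⟨x, hx, rfl⟩
  refine ⟨fun P x hx y hy => e.injective ?_, fun P x hx => e.injective ?_, fun P Q hPQ => ?_,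
    fun P Q hPQ => ?_, fun P => ?_, fun P B hB hn => ?_⟩
  · rw [map_mul, map_mul]
    exact h.comm (m P) _ (hmem P x hx) _ (hmem P y hy)
  · rw [map_pow, map_one]
    exact h.exp (m P) _ (hmem P x hx)
  · refine Subgroup.map_injective hi ?_
    rw [Subgroup.map_sup, Subgroup.map_top_of_surjective _ hs, ← hm, ← hm]
    exact h.join _ _ (hne P Q hPQ)
  · refine Subgroup.map_injective hi ?_
    rw [Subgroup.map_inf _ _ _ hi, Subgroup.map_bot, ← hm, ← hm]
    exact h.ti _ _ (hne P Q hPQ)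
  · obtain ⟨Q', hQ'⟩ := h.two (m P)
    obtain ⟨Q, hQ⟩ := Sylow.mapSurjective_surjective hs p Q'
    refine ⟨Q, fun e' => hQ' (Sylow.ext ?_)⟩
    rw [hm, ← hQ, Sylow.coe_mapSurjective, e']
  · have hBm : B.map e.toMonoidHom ≤ (m P : Subgroup H') := (hm P).symm ▸ Subgroup.map_mono hB
    have hn' : ∀ k ∈ Subgroup.normalizer ((m P : Subgroup H') : Set H'),
        cj k (B.map e.toMonoidHom) ≤ B.map e.toMonoidHom := by
      intro k hk
      obtain ⟨j, rfl⟩ := hs k
      have hj : j ∈ Subgroup.normalizer ((P : Subgroup H) : Set H) := by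
        refine Subgroup.mem_normalizer_iff.2 fun x => ?_
        have := Subgroup.mem_normalizer_iff.1 hk (e.toMonoidHom x)
        rw [hm, Subgroup.mem_map_iff_mem hi, ← map_inv, ← map_mul, ← map_mul,
          Subgroup.mem_map_iff_mem hi] at this
        exact this
      rintro _ ⟨_, ⟨b, hb, rfl⟩, rfl⟩
      refine ⟨_, hn j hj ⟨b, hb, rfl⟩, ?_⟩
      simp only [MulEquiv.coe_toMonoidHom, MulAut.conj_apply, map_mul, map_inv]
    rcases h.irred (m P) (B.map e.toMonoidHom) hBm hn' with h' | h'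
    · exact Or.inl (Subgroup.map_injective hi (by rw [h', Subgroup.map_bot]))
    · exact Or.inr (Subgroup.map_injective hi (by rw [h', hm]))

end CfsgLib.LocalEven.Push
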