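import Cfsg.Agent.Lib.LocalEven.PushPSL
import Cfsg.Agent.Lib.LocalEven.PReduced2

/-!
Consequences of the basic pushing-up situation.
-/

set_option autoImplicit false

namespace CfsgLib.LocalEven.Push

open CD (cj cen zOf)

variable {G : Type*} [Group G] [Finite G] {p : ℕ} [Fact p.Prime]

/-- What is used of a pushing-up situation; `T` stands for `O_p(G)`. -/
structure Setup (p : ℕ) (S T : Subgroup G) : Prop where
  isP : IsPGroup p S
  le : T ≤ S
  ne : ¬ S ≤ T
  normal : T.Normal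
  cenT : cen T ≤ T
  comm : ⁅S, S⁆ ≤ T
  pow : ∀ s ∈ S, s ^ p ∈ T
  gen : ∃ g : G, ∀ s ∈ S, s ∉ T → ∀ H : Subgroup G, s ∈ H → cj g S ≤ H → H = ⊤
  factA : ∀ N : Subgroup G, N.Normal → ¬ N ⊓ S ≤ T → N ⊔ S = ⊤
  irred : ∀ B : Subgroup G, T ≤ B → B ≤ S →
    (∀ x ∈ Subgroup.normalizer (S : Set G), cj x B ≤ B) → B = T ∨ B = S

theorem setup_of_sylow (P : Sylow p G)
    (hC : Subgroup.centralizer (Cfsg.pCore p G : Set G) ≤ Cfsg.pCore p G)
    (hM : ∃! M : Subgroup G, IsCoatom M ∧ (P : Subgroup G) ≤ M)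
    {K : Subgroup G} [K.Normal] (F : Type) [Field F] [Fintype F] {n : ℕ}
    (hF : Fintype.card F = p ^ n)
    (he : Nonempty (G ⧸ K ≃* Matrix.ProjectiveSpecialLinearGroup (Fin 2) F)) :
    Setup p (P : Subgroup G) (Cfsg.pCore p G) := by
  obtain ⟨e⟩ := he
  have : CharP F p := charP_of_card_eq_prime_pow hF
  have : Finite (G ⧸ K) := inferInstance
  have R : RankOne p (G ⧸ K) := rankOne_of_mulEquiv e (rankOne_PSL p)
  set S : Subgroup G := (P : Subgroup G) with hS
  set T := Cfsg.pCore p G with hTdef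
  have hTn : T.Normal := inferInstanceAs (Cfsg.pCore p G).Normal
  have hTS : T ≤ S := pCore_le_sylow P
  obtain ⟨M, ⟨hMc, hSM⟩, huniq⟩ := hM
  have top_or : ∀ H : Subgroup G, S ≤ H → H = ⊤ ∨ H ≤ M := by
    intro H hH
    rcases eq_top_or_exists_le_coatom H with h | ⟨M', hM', hle⟩
    · exact Or.inl h
    · exact Or.inr (huniq M' ⟨hM', hH.trans hle⟩ ▸ hle)
  set π := QuotientGroup.mk' K
  have hπ : Function.Surjective π := QuotientGroup.mk'_surjective K
  obtain ⟨Pb, hPb⟩ : ∃ Pb : Sylow p (G ⧸ K), (Pb : Subgroup (G ⧸ K)) = S.map π :=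
    ⟨P.mapSurjective hπ, Sylow.coe_mapSurjective hπ P⟩
  obtain ⟨Qb, hQb⟩ := R.two Pb
  -- a conjugate of `S` with a different image
  obtain ⟨Q, hQ⟩ := Sylow.mapSurjective_surjective hπ p Qb
  obtain ⟨g, hg⟩ := MulAction.exists_smul_eq G P Q
  have hQg : (Qb : Subgroup (G ⧸ K)) = (cj g S).map π := by
    rw [← hQ, Sylow.coe_mapSurjective, ← hg]
    rfl
  have hPQ : S.map π ⊓ (cj g S).map π = ⊥ := by
    rw [← hPb, ← hQg]; exact R.ti _ _ (Ne.symm hQb)
  have hKS : K ⊔ S ≠ ⊤ := by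
    intro h
    have h1 : S.map π = ⊤ := by
      have := congrArg (Subgroup.map π) h
      rwa [Subgroup.map_sup, QuotientGroup.map_mk'_self, bot_sup_eq,
        Subgroup.map_top_of_surjective _ hπ] at this
    refine hQb (Sylow.ext ?_)
    have h2 : (Qb : Subgroup (G ⧸ K)) ≤ Pb := by rw [hPb, h1]; exact le_top
    exact (Qb.3 Pb.2 h2).symm
  have factA : ∀ N : Subgroup G, N.Normal → ¬ N ⊓ S ≤ T → N ⊔ S = ⊤ := by
    intro N hN hne
    refine (top_or _ le_sup_right).resolve_right fun hNM => ?_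
    obtain ⟨PN, hPN⟩ := exists_sylow_inf_eq P (le_top : S ≤ ⊤) (le_top : N ≤ ⊤)
      (fun x _ => by rw [Subgroup.normalizer_eq_top_iff.2 hN]; trivial)
    have hfr := Sylow.normalizer_sup_eq_top PN
    rw [hPN] at hfr
    have hSn : S ≤ Subgroup.normalizer ((S ⊓ N : Subgroup G) : Set G) := fun s hs =>
      Subgroup.mem_normalizer_iff.2 fun x => ⟨fun ⟨h1, h2⟩ =>
        ⟨mul_mem (mul_mem hs h1) (S.inv_mem hs), hN.conj_mem x h2 s⟩, fun ⟨h1, h2⟩ =>
        ⟨by simpa [mul_assoc] using mul_mem (mul_mem (S.inv_mem hs) h1) hs,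
          by simpa [mul_assoc] using hN.conj_mem _ h2 s⁻¹⟩⟩
    rcases top_or _ hSn with h | h
    · have hn : (S ⊓ N).Normal := Subgroup.normalizer_eq_top_iff.1 h
      refine hne ?_
      rw [inf_comm]
      exact le_pCore hn (P.2.to_le inf_le_left)
    · exact hMc.1 (top_le_iff.1 (hfr ▸ sup_le h (le_sup_left.trans hNM)))
  have hTK : T ≤ K := by
    have h1 : IsPGroup p (T.map π) := (isPGroup_pCore (G := G) (p := p)).map π
    have : (T.map π).Normal := hTn.map π hπ
    have h2 : T.map π ≤ (Pb : Subgroup (G ⧸ K)) ⊓ Qb :=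
      le_inf (h1.le_sylow_of_normal Pb) (h1.le_sylow_of_normal Qb)
    rw [R.ti _ _ (Ne.symm hQb), le_bot_iff, Subgroup.map_eq_bot_iff,
      QuotientGroup.ker_mk'] at h2
    exact h2
  have hKT : K ⊓ S ≤ T := by
    by_contra h
    exact hKS (factA K inferInstance h)
  have hker : ∀ s ∈ S, π s = 1 → s ∈ T := fun s hs h =>
    hKT ⟨(QuotientGroup.eq_one_iff _).1 h, hs⟩
  have hmem : ∀ s ∈ S, π s ∈ (Pb : Subgroup (G ⧸ K)) := fun s hs => by
    rw [hPb]; exact ⟨s, hs, rfl⟩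
  refine ⟨P.2, hTS, ?_, hTn, hC, ?_, ?_, ⟨g, ?_⟩, factA, ?_⟩
  · intro hle
    refine hKS ?_
    exfalso
    refine hQb (Sylow.ext ?_)
    have e1 : S.map π = ⊥ := by
      rw [Subgroup.map_eq_bot_iff, QuotientGroup.ker_mk']; exact hle.trans hTK
    have e2 : (cj g S).map π = ⊥ := by
      have hg1 : cj g S ≤ K := by
        rintro _ ⟨x, hx, rfl⟩
        exact (inferInstance : K.Normal).conj_mem x (hTK (hle hx)) g
      rw [Subgroup.map_eq_bot_iff, QuotientGroup.ker_mk']; exact hg1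
    rw [hPb, hQg, e1, e2]
  · refine Subgroup.commutator_le.2 fun a ha b hb => hker _ ?_ ?_
    · exact mul_mem (mul_mem (mul_mem ha hb) (inv_mem ha)) (inv_mem hb)
    · rw [map_commutatorElement, commutatorElement_eq_one_iff_mul_comm]
      exact R.comm Pb _ (hmem a ha) _ (hmem b hb)
  · intro s hs
    refine hker _ (pow_mem hs p) ?_
    rw [map_pow]
    exact R.exp Pb _ (hmem s hs)
  · intro s hs hsT H hsH hgH
    have hx1 : π s ≠ 1 := fun h => hsT (hker s hs h)
    have hxP : π s ∈ (Pb : Subgroup (G ⧸ K)) := hmem s hs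
    have hxQ : π s ∉ (Qb : Subgroup (G ⧸ K)) := fun h => hx1 <| by
      have : π s ∈ (Pb : Subgroup (G ⧸ K)) ⊓ Qb := ⟨hxP, h⟩
      rwa [R.ti _ _ (Ne.symm hQb)] at this
    have hQH : (Qb : Subgroup (G ⧸ K)) ≤ H.map π := hQg ▸ Subgroup.map_mono hgH
    have hne : π s • Qb ≠ Qb := by
      intro hfix
      have hn := Sylow.smul_eq_iff_mem_normalizer.1 hfix
      refine hxQ ?_
      have h1 := IsPGroup.inf_normalizer_sylow
        (Pb.2.to_le (Subgroup.zpowers_le.2 hxP)) Qb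
      exact (h1.le ⟨Subgroup.mem_zpowers _, hn⟩).2
    have hmap : H.map π = ⊤ := by
      refine top_le_iff.1 ?_
      rw [← R.join _ _ hne]
      refine sup_le ?_ hQH
      intro y hy
      obtain ⟨u, hu, rfl⟩ := CfsgLib.Classical.mem_sylow_smul (p := p) |>.1 hy
      have hsH' : π s ∈ H.map π := ⟨s, hsH, rfl⟩
      exact mul_mem (mul_mem hsH' (hQH hu)) (inv_mem hsH')
    by_contra hH
    obtain ⟨M', hM', hle⟩ := (eq_top_or_exists_le_coatom H).resolve_left hH
    have hHK : H ⊔ K = ⊤ := by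
      have h2 := Subgroup.comap_map_eq π H
      rwa [hmap, Subgroup.comap_top, QuotientGroup.ker_mk', eq_comm] at h2
    have hMg : M' = cj g M := by
      have h1 : cj g⁻¹ M' = M := huniq _ ⟨?_, ?_⟩
      · rw [← h1, CD.cj_cj, mul_inv_cancel, CD.cj_one]
      · exact ((OrderIso.isCoatom_iff (MulEquiv.mapSubgroup (MulAut.conj g⁻¹))) M').2 hM'
      · have := CD.cj_mono g⁻¹ (hgH.trans hle)
        rwa [CD.cj_cj, inv_mul_cancel, CD.cj_one] at this
    have hKM : K ≤ M := le_sup_left.trans ((top_or _ le_sup_right).resolve_left hKS)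
    have hKM' : K ≤ M' := by
      rw [hMg]
      intro k hk
      exact ⟨g⁻¹ * k * g⁻¹⁻¹, hKM ((inferInstance : K.Normal).conj_mem k hk _), by simp [mul_assoc]⟩
    exact hM'.1 (top_le_iff.1 (hHK ▸ sup_le hle hKM'))
  · intro B hTB hBS hB
    have hBb : B.map π ≤ (Pb : Subgroup (G ⧸ K)) := hPb ▸ Subgroup.map_mono hBS
    have hinv : ∀ k ∈ Subgroup.normalizer ((Pb : Subgroup (G ⧸ K)) : Set (G ⧸ K)),
        cj k (B.map π) ≤ B.map π := by
      intro k hk
      obtain ⟨x, rfl⟩ := hπ k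
      -- adjust `x` by an element of `K ⊔ S` to normalize `S`
      have e1 : K ⊔ S = (Pb : Subgroup (G ⧸ K)).comap π := by
        rw [hPb, Subgroup.comap_map_eq, QuotientGroup.ker_mk', sup_comm]
      have hxS : ((x • P : Sylow p G) : Subgroup G) ≤ K ⊔ S := by
        intro z hz
        obtain ⟨s, hs, rfl⟩ := CfsgLib.Classical.mem_sylow_smul (p := p) |>.1 hz
        rw [e1, Subgroup.mem_comap, map_mul, map_mul, map_inv]
        exact (Subgroup.mem_normalizer_iff.1 hk (π s)).1 (hmem s hs)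
      have hSK : (P : Subgroup G) ≤ K ⊔ S := le_sup_right
      obtain ⟨y, hy⟩ := MulAction.exists_smul_eq ↥(K ⊔ S) ((x • P).subtype hxS) (P.subtype hSK)
      rw [Sylow.smul_subtype] at hy
      have hyx : ((y : G) * x) • P = P := by
        rw [mul_smul]; exact Sylow.subtype_injective hy
      have hn : (y : G) * x ∈ Subgroup.normalizer (S : Set G) :=
        Sylow.smul_eq_iff_mem_normalizer.1 hyx
      have hπy : π (y : G) ∈ (Pb : Subgroup (G ⧸ K)) := by
        rw [← Subgroup.mem_comap, ← e1]; exact y.2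
      rintro _ ⟨_, ⟨b, hb, rfl⟩, rfl⟩
      have hb' : (y : G) * x * b * ((y : G) * x)⁻¹ ∈ B := hB _ hn ⟨b, hb, rfl⟩
      have h1 := R.comm Pb _ hπy _ (hBb ⟨_, hb', rfl⟩)
      have h2 : π ((y : G) * x * b * ((y : G) * x)⁻¹) = π x * π b * (π x)⁻¹ := by
        have h3 : π x * π b * (π x)⁻¹ =
            (π y)⁻¹ * (π ((y : G) * x * b * ((y : G) * x)⁻¹) * π y) := by
          simp only [map_mul, map_inv]; group
        rw [h3]
        generalize π ((y : G) * x * b * ((y : G) * x)⁻¹) = z at h1 ⊢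
        rw [← h1, inv_mul_cancel_left]
      exact ⟨_, hb', h2⟩
    rcases R.irred Pb (B.map π) hBb hinv with h | h
    · left
      refine le_antisymm (fun b hb => hker b (hBS hb) ?_) hTB
      rw [← Subgroup.mem_bot, ← h]; exact ⟨b, hb, rfl⟩
    · right
      refine le_antisymm hBS fun s hs => ?_
      obtain ⟨b, hb, hbs⟩ : π s ∈ B.map π := h ▸ hmem s hs
      have : b⁻¹ * s ∈ T :=
        hker _ (mul_mem (inv_mem (hBS hb)) hs) (by rw [map_mul, map_inv, hbs, inv_mul_cancel])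
      simpa using mul_mem hb (hTB this)

theorem setup_of_situation {S : Subgroup G} (h : Cfsg.IsPushingUpSituation p S) :
    Setup p S (Cfsg.pCore p G) := by
  obtain ⟨-, ⟨P, rfl⟩, hC, hM, K, hK, F, hF, hF', n, hn, he⟩ := h
  exact setup_of_sylow P hC hM F hn he

end CfsgLib.LocalEven.Push
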