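import Cfsg.Agent.Lib.LocalEven.PushMain
import Cfsg.Agent.Lib.LocalEven.Norm

/-!
The two pushing-up theorems for `J̃(S) = S`.
-/

set_option autoImplicit false

namespace CfsgLib.LocalEven.Push

open Cfsg
open scoped commutatorElement
open CD (cj cen zOf)

variable {G : Type*} [Group G] [Finite G] {p : ℕ} [Fact p.Prime] {S T : Subgroup G}

omit [Finite G] [Fact p.Prime] in
theorem zOf_sup_le (H V : Subgroup G) {C : Subgroup G} (hC : C ≤ zOf (H ⊔ V)) (hV : V ≤ cen H)
    (hVV : V ≤ cen V) : C ⊔ V ≤ zOf (H ⊔ V) := by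
  refine sup_le hC (le_inf le_sup_right ?_)
  show V ≤ cen (H ⊔ V)
  rw [CD.cen_sup]
  exact le_inf hV hVV

/-- The second alternative or the first: `Z(S) ∩ Q'` normal or all generators in `T`. -/
theorem commutator_case (hE : Setup p S T) (hS : CLs S S) {Q : Subgroup G} (hQ : MCLs S Q) :
    (zOf S ⊓ ⁅Q, Q⁆).Normal ∨ (sSup {R : Subgroup G | MCLs S R}).Normal := by
  by_cases h : ∀ R : Subgroup G, MCLs S R → R ≤ T
  · exact Or.inr (sSup_normal_of_le_T hE (fun g R hR hg => mcls_cj g hR hg) h)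
  left
  by_cases hZ : zOf S ≤ Subgroup.center G
  · exact normal_of_le_center (inf_le_left.trans hZ)
  push Not at h
  obtain ⟨Q1, hQ1, hQ1T⟩ := h
  have hq := quadratic hE hS hZ
  obtain ⟨R, hRT, hR⟩ := mcls_exists_le hq.clsT
  set J := ⁅Q, Q⁆ with hJdef
  have hall : ∀ X, MCLs S X → ⁅X, X⁆ = J := fun X hX => (mcls_pair hX hQ).1
  have hJn : J.Normal := by
    refine normal_of_cj_le fun g => le_of_eq ?_
    have hgT : cj g R ≤ S := ((CD.cj_mono g hRT).trans (cj_le_of_normal hE.normal g)).trans hE.le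
    conv_lhs => rw [← hall R hR]
    rw [CD.cj, Subgroup.map_commutator]
    exact hall _ (mcls_cj g hR hgT)
  have hDn : (J ⊓ zOf T).Normal := by
    have := zOf_normal hE.normal
    exact Subgroup.normal_inf_normal J (zOf T)
  have hQ1c : Q1 ≤ cen (J ⊓ zOf T) := by
    refine Subgroup.le_centralizer_iff.1 ?_
    have hle : J ≤ Q1 := hall Q1 hQ1 ▸ Subgroup.commutator_le_self Q1
    calc J ⊓ zOf T ≤ cen (Q1 ⊓ T) ⊓ cen (zOf Q1) :=
          le_inf (inf_le_right.trans (inf_le_right.trans (CD.cen_anti inf_le_right)))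
            (inf_le_left.trans (hle.trans (Subgroup.le_centralizer_iff.1 inf_le_right)))
      _ = cen Q1 := by rw [← CD.cen_sup, mcls_split hQ1 hq.clsT]
  have hne : ¬ cen (J ⊓ zOf T) ⊓ S ≤ T := fun h => hQ1T ((le_inf hQ1c hQ1.1.1).trans h)
  refine normal_of_le_center (central_of_normal hE (cen_normal hDn) hne ?_
    (inf_le_left.trans inf_le_right))
  exact (le_inf inf_le_right (inf_le_left.trans (zOf_S_le_zOf_T hE))).trans (CD.le_cen_cen _)

omit [Finite G] [Fact p.Prime] in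
theorem omegaOne_mono' {H K : Subgroup G} (h : H ≤ K) : omegaOne p H ≤ omegaOne p K :=
  Subgroup.closure_mono fun _ hx => ⟨h hx.1, hx.2⟩

/-- The value maximized in the definition of `S_Φ`. -/
noncomputable def omegaCard (p : ℕ) (R : Subgroup G) : ℕ := Nat.card (omegaOne p (zOf R))

omit [Fact p.Prime] in
theorem omegaCard_cj (g : G) (R : Subgroup G) : omegaCard p (cj g R) = omegaCard p R := by
  rw [omegaCard, omegaCard, CD.cj, zOf_map (MulAut.conj g).injective,
    ← map_omegaOne p _ _ (MulAut.conj g).injective,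
    Subgroup.card_map_of_injective (MulAut.conj g).injective]

/-- `Φ(R)` inside the ambient group. -/
abbrev phi (R : Subgroup G) : Subgroup G := (frattini ↥R).map R.subtype

omit [Finite G] in
theorem phi_map {H : Type*} [Group H] (f : G →* H) (hf : Function.Injective f) (R : Subgroup G)
    [Finite G] : (phi R).map f = phi (R.map f) := by
  let e := R.equivMapOfInjective f hf
  have h : (frattini ↥R).map e.toMonoidHom = frattini ↥(R.map f) := by
    refine SetLike.ext fun x => ?_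
    obtain ⟨y, rfl⟩ := e.surjective x
    rw [Subgroup.mem_map_equiv]
    simp only [MulEquiv.symm_apply_apply, frattini, Order.radical, Subgroup.mem_iInf]
    constructor
    · intro hy a ha
      have h1 := hy (a.comap e.toMonoidHom)
        (((OrderIso.isCoatom_iff (MulEquiv.comapSubgroup e)) a).2 ha)
      exact h1
    · intro hy a ha
      have h1 := hy (a.map e.toMonoidHom)
        (((OrderIso.isCoatom_iff (MulEquiv.mapSubgroup e)) a).2 ha)
      exact (Subgroup.mem_map_iff_mem e.injective).1 h1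
  rw [phi, phi, ← h, Subgroup.map_map, Subgroup.map_map]
  rfl

theorem frattiniJoin_normal (hE : Setup p S T) (hS : CLs S S) (hZ : ¬ zOf S ≤ Subgroup.center G) :
    (⨆ R ∈ {R : Subgroup G | MCLs S R ∧ ∀ R', MCLs S R' → omegaCard p R' ≤ omegaCard p R},
      phi R).Normal := by
  have hq := quadratic hE hS hZ
  set V := zOf T with hVdef
  set Z := zOf S with hZdef
  have hZV : Z ≤ V := zOf_S_le_zOf_T hE
  have hVab : V ≤ cen V := inf_le_right.trans (CD.cen_anti inf_le_left)
  set 𝒬 := {R : Subgroup G | MCLs S R ∧ ∀ R', MCLs S R' → omegaCard p R' ≤ omegaCard p R}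
  have key : ∀ Q ∈ 𝒬, ∃ R ∈ 𝒬, R ≤ T ∧ phi Q ≤ phi R := by
    rintro Q ⟨hQ, hmax⟩
    by_cases hQT : Q ≤ T
    · exact ⟨Q, ⟨hQ, hmax⟩, hQT, le_rfl⟩
    set C := zOf Q with hCdef
    set H0 := Q ⊓ T with hH0
    have hsplit : H0 ⊔ C = Q := mcls_split hQ hq.clsT
    have hCcen : C ≤ cen H0 := inf_le_right.trans (CD.cen_anti inf_le_left)
    obtain ⟨c0, hc0, hc0T⟩ := SetLike.not_le_iff_exists.1 (show ¬ C ≤ T from fun h =>
      hQT (hsplit.ge.trans (sup_le inf_le_right h)))
    have hc0S : c0 ∈ S := hQ.1.1 hc0.1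
    have hVH : V ≤ cen H0 := inf_le_right.trans (CD.cen_anti inf_le_right)
    have hZC : Z ≤ C := by
      rw [hCdef, ← cls_zOf hQ.1]
      exact inf_le_inf_left _ (CD.cen_anti hQ.1.1)
    have hHV : H0 ⊓ V = Z := by
      refine le_antisymm (fun x hx => ?_) (le_inf (le_inf (hZC.trans inf_le_left)
        (hZV.trans inf_le_left)) hZV)
      exact hq.fix c0 hc0S hc0T x hx.2 (hc0.2 x hx.1.1).symm
    have hCV : C ⊓ T ⊓ V = Z := by
      refine le_antisymm (le_trans ?_ hHV.le) (le_inf (le_inf hZC (hZV.trans inf_le_left)) hZV)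
      exact inf_le_inf_right _ (inf_le_inf_right _ inf_le_left)
    have hCT : H0 ⊓ C = C ⊓ T :=
      le_antisymm (le_inf inf_le_right (inf_le_left.trans inf_le_right))
        (le_inf (inf_le_inf_right _ inf_le_left) inf_le_left)
    set R := H0 ⊔ V with hRdef
    have hRT : R ≤ T := sup_le inf_le_right inf_le_left
    have hCR : C ⊓ T ≤ zOf R := by
      refine le_inf ((inf_le_inf_right T inf_le_left).trans le_sup_left) ?_
      show C ⊓ T ≤ cen (H0 ⊔ V)
      rw [CD.cen_sup]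
      exact le_inf (inf_le_left.trans hCcen)
        (inf_le_right.trans (Subgroup.le_centralizer_iff.1 inf_le_right))
    have hR2 : (C ⊓ T) ⊔ V ≤ zOf R := zOf_sup_le H0 V hCR hVH hVab
    -- orders
    have e1 : Nat.card Q * Nat.card ↥(C ⊓ T) = Nat.card H0 * Nat.card C := by
      rw [← hCT, ← card_sup_inf_of_le_cen hCcen, hsplit]
    have e2 : Nat.card R * Nat.card Z = Nat.card H0 * Nat.card V := by
      rw [← hHV, ← card_sup_inf_of_le_cen hVH]
    have e3 : Nat.card ↥((C ⊓ T) ⊔ V) * Nat.card Z = Nat.card ↥(C ⊓ T) * Nat.card V := by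
      rw [← hCV]
      exact card_sup_inf_of_le_cen (inf_le_right.trans (CD.cen_anti inf_le_right))
    have hCS : Nat.card C * Nat.card T ≤ Nat.card S * Nat.card ↥(C ⊓ T) :=
      (card_sup_inf_ge C T).trans (Nat.mul_le_mul_right _ (Nat.card_mono (Set.toFinite _)
        (SetLike.coe_subset_coe.2 (sup_le (inf_le_left.trans hQ.1.1) hE.le))))
    have hCV' : Nat.card C * Nat.card Z ≤ Nat.card ↥(C ⊓ T) * Nat.card V := by
      refine Nat.le_of_mul_le_mul_left ?_ (Nat.card_pos (α := T))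
      calc Nat.card T * (Nat.card C * Nat.card Z)
          = Nat.card C * Nat.card T * Nat.card Z := by ring
        _ ≤ Nat.card S * Nat.card ↥(C ⊓ T) * Nat.card Z := Nat.mul_le_mul_right _ hCS
        _ = Nat.card T * (Nat.card ↥(C ⊓ T) * Nat.card V) := by
          rw [mul_right_comm, ← hq.index]; ring
    have hbig : Nat.card ↥((C ⊓ T) ⊔ V) ≥ Nat.card C := by
      refine Nat.le_of_mul_le_mul_right ?_ (Nat.card_pos (α := Z))
      rw [e3]; exact hCV'
    have hRbig : Nat.card Q ≤ Nat.card R := by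
      refine Nat.le_of_mul_le_mul_right ?_ (Nat.mul_pos (Nat.card_pos (α := Z))
        (Nat.card_pos (α := ↥(C ⊓ T))))
      calc Nat.card Q * (Nat.card Z * Nat.card ↥(C ⊓ T))
          = Nat.card H0 * (Nat.card C * Nat.card Z) := by rw [← mul_assoc (Nat.card H0), ← e1]; ring
        _ ≤ Nat.card H0 * (Nat.card ↥(C ⊓ T) * Nat.card V) := Nat.mul_le_mul_left _ hCV'
        _ = Nat.card R * (Nat.card Z * Nat.card ↥(C ⊓ T)) := by
          rw [← mul_assoc (Nat.card R), e2]; ring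
    have hzR : Nat.card C ≤ Nat.card (zOf R) :=
      hbig.trans (Nat.card_mono (Set.toFinite _) (SetLike.coe_subset_coe.2 hR2))
    have hRcl : CLs S R := ⟨hRT.trans hE.le, le_antisymm (prod_le (hRT.trans hE.le))
      (hQ.1.2 ▸ Nat.mul_le_mul hRbig hzR)⟩
    have hReq : Nat.card R = Nat.card Q := by
      refine le_antisymm ?_ hRbig
      refine Nat.le_of_mul_le_mul_right (?_ : _ * Nat.card C ≤ _ * Nat.card C) Nat.card_pos
      refine le_trans (Nat.mul_le_mul_left _ hzR) ?_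
      rw [hRcl.2, ← hQ.1.2]
    have hR : MCLs S R := by
      obtain ⟨R', hle, hR'⟩ := mcls_exists_le hRcl
      rwa [← Subgroup.eq_of_le_of_card_ge hle (by rw [hReq, (mcls_pair hR' hQ).2.1])]
    -- the elements of order `p`
    set E := omegaOne p C with hEdef
    set ΩV := omegaOne p V with hΩV
    have hEC : E ≤ C := omegaOne_le p C
    have hΩ : ΩV ≤ V := omegaOne_le p V
    have hΩsup : Z ⊔ ΩV = V := le_antisymm (sup_le hZV hΩ) hq.omega
    have hab2 : ΩV ≤ cen (E ⊓ T) :=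
      hΩ.trans (inf_le_right.trans (CD.cen_anti inf_le_right))
    have e4 : Nat.card V * Nat.card ↥(Z ⊓ ΩV) = Nat.card Z * Nat.card ΩV := by
      rw [← card_sup_inf_of_le_cen (hΩ.trans (hVab.trans (CD.cen_anti hZV))), hΩsup]
    have e5 : Nat.card ↥((E ⊓ T) ⊔ ΩV) * Nat.card ↥((E ⊓ T) ⊓ ΩV) =
        Nat.card ↥(E ⊓ T) * Nat.card ΩV := card_sup_inf_of_le_cen hab2
    have h6 : Nat.card ↥((E ⊓ T) ⊓ ΩV) ≤ Nat.card ↥(Z ⊓ ΩV) := by
      refine Nat.card_mono (Set.toFinite _) (SetLike.coe_subset_coe.2 (le_inf ?_ inf_le_right))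
      exact (inf_le_inf (inf_le_inf_right T hEC) hΩ).trans hCV.le
    have h7 : (E ⊓ T) ⊔ ΩV ≤ omegaOne p (zOf R) := by
      refine sup_le ?_ (omegaOne_mono' (le_sup_right.trans hR2))
      refine le_trans ?_ (omegaOne_mono' hCR)
      rintro x ⟨hx, hxT⟩
      have hCab : C ≤ cen C := inf_le_right.trans (CD.cen_anti inf_le_left)
      have hp := (elemAbelian_omegaOne_center p Q).2 x hx
      exact Subgroup.subset_closure ⟨⟨hEC hx, hxT⟩, hp⟩
    have h8 : Nat.card ↥(E ⊓ T) * Nat.card S ≤ omegaCard p R * Nat.card T := by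
      refine Nat.le_of_mul_le_mul_right ?_ (Nat.mul_pos (Nat.card_pos (α := Z))
        (Nat.card_pos (α := ↥(Z ⊓ ΩV))))
      calc Nat.card ↥(E ⊓ T) * Nat.card S * (Nat.card Z * Nat.card ↥(Z ⊓ ΩV))
          = Nat.card ↥(E ⊓ T) * (Nat.card S * Nat.card Z) * Nat.card ↥(Z ⊓ ΩV) := by ring
        _ = Nat.card ↥(E ⊓ T) * Nat.card T * (Nat.card V * Nat.card ↥(Z ⊓ ΩV)) := by
          rw [← hq.index]; ring
        _ = Nat.card ↥((E ⊓ T) ⊔ ΩV) * Nat.card T * (Nat.card Z * Nat.card ↥((E ⊓ T) ⊓ ΩV)) := by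
          rw [e4]
          calc Nat.card ↥(E ⊓ T) * Nat.card T * (Nat.card Z * Nat.card ΩV)
              = Nat.card T * Nat.card Z * (Nat.card ↥(E ⊓ T) * Nat.card ΩV) := by ring
            _ = _ := by rw [← e5]; ring
        _ ≤ omegaCard p R * Nat.card T * (Nat.card Z * Nat.card ↥(Z ⊓ ΩV)) :=
          Nat.mul_le_mul (Nat.mul_le_mul_right _
            (Nat.card_mono (Set.toFinite _) (SetLike.coe_subset_coe.2 h7)))
            (Nat.mul_le_mul_left _ h6)
    have hET : E ⊔ T ≤ S := sup_le (hEC.trans (inf_le_left.trans hQ.1.1)) hE.le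
    have h9 := card_sup_inf_ge E T
    have hmaxR : omegaCard p Q ≤ omegaCard p R := by
      refine Nat.le_of_mul_le_mul_right ?_ (Nat.card_pos (α := T))
      refine h9.trans (le_trans ?_ h8)
      rw [mul_comm]
      exact Nat.mul_le_mul_left _ (Nat.card_mono (Set.toFinite _) (SetLike.coe_subset_coe.2 hET))
    refine ⟨R, ⟨hR, fun R' hR' => (hmax R' hR').trans hmaxR⟩, hRT, ?_⟩
    have hETS : E ⊔ T = S := by
      refine Subgroup.eq_of_le_of_card_ge hET ?_
      refine Nat.le_of_mul_le_mul_right ?_ (Nat.card_pos (α := ↥(E ⊓ T)))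
      refine le_trans ?_ h9
      rw [mul_comm]
      exact h8.trans (Nat.mul_le_mul_right _ (hmax R hR))
    have hCE : C ≤ (C ⊓ T) ⊔ E := by
      intro c hc
      have hcS : c ∈ ((E ⊔ T : Subgroup G) : Set G) := hETS ▸ hQ.1.1 hc.1
      have hTn := hE.normal
      rw [Subgroup.mul_normal] at hcS
      obtain ⟨e, he, t, ht, rfl⟩ := hcS
      have htC : t ∈ C := by simpa using mul_mem (inv_mem (hEC he)) hc
      exact mul_mem (le_sup_right (a := C ⊓ T) he) (le_sup_left (b := E) ⟨htC, ht⟩)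
    have hQE : H0 ⊔ E = Q := by
      refine le_antisymm ((sup_le_sup_left hEC _).trans hsplit.le) ?_
      refine hsplit.ge.trans (sup_le le_sup_left (hCE.trans (sup_le_sup_right ?_ _)))
      exact inf_le_inf_right _ inf_le_left
    -- `Φ(Q) ≤ Φ(Q ∩ T) ≤ Φ(R)`
    have pP : ∀ X : Subgroup G, X ≤ S → IsPGroup p X := fun X hX => hE.isP.to_le hX
    have hphi : ∀ X : Subgroup G, X ≤ S → ⁅X, X⁆ ≤ phi X ∧ ∀ x ∈ X, x ^ p ∈ phi X := by
      intro X hX
      refine ⟨?_, fun x hx => ⟨(⟨x, hx⟩ : X) ^ p, PGroups.pow_mem_frattini (pP X hX) _, rfl⟩⟩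
      refine Subgroup.commutator_le.2 fun a ha b hb =>
        ⟨⁅(⟨a, ha⟩ : X), (⟨b, hb⟩ : X)⁆, PGroups.commutator_le_frattini (pP X hX)
          (Subgroup.commutator_mem_commutator (Subgroup.mem_top _) (Subgroup.mem_top _)), rfl⟩
    have hECen : E ≤ cen H0 := hEC.trans hCcen
    have hH0S : H0 ≤ S := inf_le_right.trans hE.le
    refine le_trans (frattini_map_le (pP Q hQ.1.1) (K := phi H0) ?_ ?_)
      (frattini_map_le (pP H0 hH0S) ?_ fun x hx => ?_)
    · rw [CD.commutator_eq_of_sup hQE (hEC.trans inf_le_right)]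
      exact (hphi H0 hH0S).1
    · intro x hx
      replace hx : x ∈ ((H0 ⊔ E : Subgroup G) : Set G) := hQE.symm ▸ hx
      rw [CD.sup_eq_mul_of_le_cen hECen] at hx
      obtain ⟨h, hh, e, he, rfl⟩ := hx
      have hc : Commute h e := hECen he h hh
      rw [hc.mul_pow, (elemAbelian_omegaOne_center p Q).2 e he, mul_one]
      exact (hphi H0 hH0S).2 h hh
    · exact (Subgroup.commutator_mono le_sup_left le_sup_left).trans (hphi R (hRT.trans hE.le)).1
    · exact (hphi R (hRT.trans hE.le)).2 x (le_sup_left (b := V) hx)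
  refine normal_of_cj_le fun g => ?_
  rw [CD.cj, Subgroup.map_le_iff_le_comap]
  refine iSup₂_le fun Q hQ => ?_
  obtain ⟨R, hR, hRT, hle⟩ := key Q hQ
  rw [← Subgroup.map_le_iff_le_comap]
  refine (Subgroup.map_mono hle).trans ?_
  rw [phi_map _ (MulAut.conj g).injective]
  have hg : cj g R ≤ S := ((CD.cj_mono g hRT).trans (cj_le_of_normal hE.normal g)).trans hE.le
  refine le_iSup₂ (f := fun R _ => phi R) (cj g R) ⟨mcls_cj g hR.1 hg, fun R' hR' => ?_⟩
  rw [omegaCard_cj]
  exact hR.2 R' hR'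

theorem mem_max_iff (Q : Subgroup ↥S) :
    IsMinimalCentrallyLarge Q ∧
        Nat.card ↥(omegaOneCenter p Q) = maxOmegaCenterOfMinimalCL p ↥S ↔
      MCLs S (Q.map S.subtype) ∧
        ∀ R', MCLs S R' → omegaCard p R' ≤ omegaCard p (Q.map S.subtype) := by
  have hbdd : BddAbove {k : ℕ | ∃ R : Subgroup ↥S, IsMinimalCentrallyLarge R ∧
      Nat.card ↥(omegaOneCenter p R) = k} :=
    ⟨Nat.card S, by rintro k ⟨R, -, rfl⟩; exact Subgroup.card_le_card_group _⟩
  constructor
  · rintro ⟨hQ, hc⟩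
    refine ⟨(mcls_map Q).1 hQ, fun R' hR' => ?_⟩
    obtain ⟨R, rfl⟩ := exists_eq_map hR'.1.1
    rw [omegaCard, omegaCard, ← card_omegaOneCenter_map, ← card_omegaOneCenter_map, hc]
    exact le_csSup hbdd ⟨R, (mcls_map R).2 hR', rfl⟩
  · rintro ⟨hQ, hc⟩
    refine ⟨(mcls_map Q).2 hQ, le_antisymm (le_csSup hbdd ⟨Q, (mcls_map Q).2 hQ, rfl⟩) ?_⟩
    refine csSup_le ⟨_, Q, (mcls_map Q).2 hQ, rfl⟩ ?_
    rintro k ⟨R, hR, rfl⟩
    rw [card_omegaOneCenter_map, card_omegaOneCenter_map]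
    exact hc _ ((mcls_map R).1 hR)

theorem frattiniJoin_map :
    (frattiniOfMinimalCLJoin p ↥S).map S.subtype =
      ⨆ R ∈ {R : Subgroup G | MCLs S R ∧ ∀ R', MCLs S R' → omegaCard p R' ≤ omegaCard p R},
        phi R := by
  refine le_antisymm ?_ (iSup₂_le fun R hR => ?_)
  · rw [frattiniOfMinimalCLJoin, Subgroup.map_iSup]
    refine iSup_le fun ⟨Q, hQ⟩ => ?_
    show (phi Q).map S.subtype ≤ _
    rw [phi_map _ S.subtype_injective]
    exact le_iSup₂ (f := fun R _ => phi R) _ ((mem_max_iff Q).1 hQ)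
  · obtain ⟨Q, rfl⟩ := exists_eq_map hR.1.1.1
    rw [← phi_map _ S.subtype_injective]
    refine Subgroup.map_mono ?_
    exact le_iSup_of_le ⟨Q, (mem_max_iff Q).2 hR⟩ le_rfl

theorem pushingUp_commutator (hE : IsPushingUpSituation p S)
    (hJ : S ≤ Subgroup.centralizer (centerThompsonAOf S : Set G)) (Q : Subgroup ↥S)
    (hQ : IsMinimalCentrallyLarge Q) :
    (⁅Q, Q⁆).Characteristic ∧
      (((S ⊓ Subgroup.centralizer (S : Set G)) ⊓ (⁅Q, Q⁆).map S.subtype).Normal ∨
        ((minimalCentrallyLargeJoin ↥S).map S.subtype).Normal) ∧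
      (⁅Q, Q⁆ = ⊥ → ∀ R : Subgroup ↥S, IsMinimalCentrallyLarge R ↔ R ∈ maxAbelianSubgroups ↥S) := by
  refine ⟨?_, ?_, fun h R => ?_⟩
  · refine Subgroup.characteristic_iff_map_eq.2 fun φ => ?_
    rw [Subgroup.map_commutator]
    refine (CD.mcl_pair ?_ hQ).2.1
    have hcard : ∀ (ψ : ↥S ≃* ↥S) (R : Subgroup ↥S), IsCentrallyLarge R →
        IsCentrallyLarge (R.map ψ.toMonoidHom) := by
      intro ψ R hR
      change _ = maxCentralProduct ↥S
      rw [CD.card_center_eq, card_mul_zOf_map ψ.injective, ← CD.card_center_eq]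
      exact hR
    refine ⟨hcard φ Q hQ.1, fun R hR hcl => ?_⟩
    have h1 : R.map φ.symm.toMonoidHom ≤ Q := by
      rintro _ ⟨x, hx, rfl⟩
      obtain ⟨y, hy, rfl⟩ := hR hx
      simpa using hy
    rw [← hQ.2 _ h1 (hcard φ.symm R hcl), Subgroup.map_map]
    convert (Subgroup.map_id R).symm using 2
    ext x; simp
  · rw [minimalJoin_map, Subgroup.map_commutator]
    exact commutator_case (setup_of_situation hE) (cls_self hJ) ((mcls_map Q).1 hQ)
  · refine CD.mcl_of_abelian hQ ?_ R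
    exact Subgroup.le_centralizer_iff_isMulCommutative.1
      (Subgroup.commutator_eq_bot_iff_le_centralizer.1 h)

theorem pushingUp_frattini (hE : IsPushingUpSituation p S)
    (hJ : S ≤ Subgroup.centralizer (centerThompsonAOf S : Set G)) :
    ((S ⊓ Subgroup.centralizer (S : Set G)).Normal ∨
        ((frattiniOfMinimalCLJoin p ↥S).map S.subtype).Normal) ∧
      (frattiniOfMinimalCLJoin p ↥S = ⊥ →
        (∀ Q : Subgroup ↥S, IsMinimalCentrallyLarge Q ↔ Q ∈ maxAbelianSubgroups ↥S) ∧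
          ∃ A ∈ maxAbelianSubgroups ↥S, IsElementaryAbelian p A) := by
  have hS := cls_self hJ
  refine ⟨?_, fun h => ?_⟩
  · by_cases hZ : zOf S ≤ Subgroup.center G
    · exact Or.inl (normal_of_le_center hZ)
    · right
      rw [frattiniJoin_map]
      exact frattiniJoin_normal (setup_of_situation hE) hS hZ
  · obtain ⟨Q, hQ, hmax⟩ := Set.Finite.exists_maximalFor
      (fun Q : Subgroup ↥S => Nat.card ↥(omegaOneCenter p Q)) {Q | IsMinimalCentrallyLarge Q}
      (Set.toFinite _) CD.exists_mcl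
    have hmem : (frattini ↥Q).map Q.subtype ≤ (⊥ : Subgroup ↥S) := by
      rw [← h, frattiniOfMinimalCLJoin]
      refine le_iSup_of_le ⟨Q, hQ, ?_⟩ le_rfl
      refine le_antisymm (le_csSup ⟨Nat.card S, ?_⟩ ⟨Q, hQ, rfl⟩) (csSup_le ⟨_, Q, hQ, rfl⟩ ?_)
      · rintro k ⟨R, -, rfl⟩; exact Subgroup.card_le_card_group _
      · rintro k ⟨R, hR, rfl⟩
        exact (le_total _ _).elim id (hmax hR)
    have hSp : IsPGroup p ↥S := (setup_of_situation hE).isP
    have hQp : IsPGroup p Q := hSp.to_subgroup Q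
    have hbot : frattini ↥Q = ⊥ := by
      rwa [le_bot_iff, Subgroup.map_eq_bot_iff, Subgroup.ker_subtype, le_bot_iff] at hmem
    have hab : IsMulCommutative Q := by
      refine ⟨⟨fun a b => commutatorElement_eq_one_iff_mul_comm.1 ?_⟩⟩
      rw [← Subgroup.mem_bot, ← hbot]
      exact PGroups.commutator_le_frattini hQp
        (Subgroup.commutator_mem_commutator (Subgroup.mem_top _) (Subgroup.mem_top _))
    refine ⟨CD.mcl_of_abelian hQ hab, Q, (CD.mcl_of_abelian hQ hab Q).1 hQ, hab, fun a ha => ?_⟩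
    have : (⟨a, ha⟩ : Q) ^ p ∈ frattini ↥Q := PGroups.pow_mem_frattini hQp _
    rw [hbot, Subgroup.mem_bot] at this
    exact congrArg Subtype.val this

end CfsgLib.LocalEven.Push
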