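import Cfsg.Agent.Lib.FgsC.HallHigmanB
import Cfsg.Agent.Lib.Coprime.Action

/-!
A quadratic element of odd prime order in the centre and in the derived group of a `p`-group
acting on a `p'`-group in a linear group in characteristic `p`.
-/

set_option autoImplicit false
set_option maxHeartbeats 1000000
set_option linter.style.haveILetI false

namespace CfsgLib.LocalEven.QuadDerived

open Module CfsgLib.FgsC.HallHigman
open scoped commutatorElement

variable {G : Type*} [Group G] {K : Type*} [Field K] {V : Type*} [AddCommGroup V] [Module K V]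
  {ρ : Representation K G V}

/-- Three translates of a weight vector with different weights cannot satisfy `(g - 1) ^ 2 w = 0`. -/
theorem no_moved_weight [Finite G] {H : Subgroup G} {g : G} (hgH : g ∈ Subgroup.normalizer (H : Set G))
    (hodd : Odd (orderOf g)) {χ : G → K} {w : V} (hw : w ≠ 0) (hwt : ∀ h ∈ H, ρ h w = χ h • w)
    (hrel : ρ g (ρ g w) - (2 : K) • ρ g w + w = 0) :
    ∀ h ∈ H, χ (g⁻¹ * h * g) = χ h := by
  classical
  intro h₀ hh₀
  by_contra hne
  have hc : ∀ (y : G) (u : V) (η : G → K), (∀ h ∈ H, ρ h u = η h • u) →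
      y ∈ Subgroup.normalizer (H : Set G) → ∀ h ∈ H, ρ h (ρ y u) = η (y⁻¹ * h * y) • ρ y u := by
    intro y u η hu hy h hh
    have hh' : y⁻¹ * h * y ∈ H := by
      simpa using (Subgroup.mem_normalizer_iff.1 (inv_mem hy) h).1 hh
    rw [rho_mul_apply, show h * y = y * (y⁻¹ * h * y) by group, ← rho_mul_apply, hu _ hh', map_smul]
  let χ₁ : G → K := fun h => χ (g⁻¹ * h * g)
  let χ₂ : G → K := fun h => χ₁ (g⁻¹ * h * g)
  have h1 := hc g w χ hwt hgH
  have h2 := hc g (ρ g w) χ₁ h1 hgH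
  have hmem : ∀ h ∈ H, g⁻¹ * h * g ∈ H := fun h hh => by
    simpa using (Subgroup.mem_normalizer_iff.1 (inv_mem hgH) h).1 hh
  -- the first weight differs from the third
  have h02 : ∃ h ∈ H, χ₂ h ≠ χ h := by
    by_contra hall
    push Not at hall
    obtain ⟨n, hn⟩ := hodd
    have hiter : ∀ i : ℕ, ∀ h ∈ H, χ ((g ^ (2 * i))⁻¹ * h * g ^ (2 * i)) = χ h := by
      intro i
      induction i with
      | zero => simp
      | succ i ih =>
        intro h hh
        have h3 : g⁻¹ * (g⁻¹ * h * g) * g ∈ H := hmem _ (hmem h hh)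
        rw [← hall h hh]
        refine Eq.trans ?_ (ih _ h3)
        congr 1
        rw [show 2 * (i + 1) = 2 + 2 * i by ring, pow_add, pow_two]
        group
    have hg : g ^ (2 * (n + 1)) = g := by
      rw [show 2 * (n + 1) = (2 * n + 1) + 1 by ring, pow_succ, ← hn, pow_orderOf_eq_one, one_mul]
    exact hne (by have := hiter (n + 1) h₀ hh₀; rwa [hg] at this)
  -- eliminate the weights one after the other
  obtain ⟨a, ha, hne2⟩ := h02
  have hb : g * h₀ * g⁻¹ ∈ H := (Subgroup.mem_normalizer_iff.1 hgH h₀).1 hh₀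
  set b := g * h₀ * g⁻¹ with hbdef
  have e1 : χ₁ b = χ h₀ := by simp [χ₁, hbdef, mul_assoc]
  have e2 : χ₂ b = χ (g⁻¹ * h₀ * g) := by simp [χ₂, χ₁, hbdef, mul_assoc]
  have r1 : (χ₂ a - χ a) • ρ g (ρ g w) - ((χ₁ a - χ a) * 2) • ρ g w = 0 := by
    have := congrArg (ρ a) hrel
    rw [map_add, map_sub, map_smul, h2 a ha, h1 a ha, hwt a ha, map_zero] at this
    have h4 := congrArg (fun z => χ a • z) hrel
    simp only [smul_zero] at h4
    linear_combination (norm := module) this - h4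
  have r2 : ((χ₂ a - χ a) * (χ₂ b - χ₁ b)) • ρ g (ρ g w) = 0 := by
    have := congrArg (ρ b) r1
    rw [map_sub, map_smul, map_smul, h2 b hb, h1 b hb, map_zero] at this
    have h4 := congrArg (fun z => χ₁ b • z) r1
    simp only [smul_zero] at h4
    linear_combination (norm := module) this - h4
  rcases smul_eq_zero.1 r2 with h | h
  · rcases mul_eq_zero.1 h with h | h
    · exact hne2 (sub_eq_zero.1 h)
    · rw [e1, e2] at h
      exact hne (sub_eq_zero.1 h)
  · exact rho_ne_zero (rho_ne_zero hw) h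

variable [Finite G] [IsAlgClosed K] [FiniteDimensional K V] {p q : ℕ} [hp : Fact p.Prime]
  [hq : Fact q.Prime] [CharP K p]

/-- Multiplicative functions on `Q` invariant under `x` are trivial when `Q = [Q, x]`. -/
theorem eq_one_of_invariant {Q : Subgroup G} {x : G} (hxQ : x ∈ Subgroup.normalizer (Q : Set G))
    (hgen : Q ≤ ⁅Q, Subgroup.zpowers x⁆) (φ : G → K) (hmul : ∀ a ∈ Q, ∀ b ∈ Q, φ (a * b) = φ a * φ b)
    (h1 : φ 1 = 1) (hinv : ∀ k ∈ Q, φ (x * k * x⁻¹) = φ k) : ∀ k ∈ Q, φ k = 1 := by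
  let M : Subgroup G :=
    { carrier := {k | k ∈ Q ∧ φ k = 1}
      one_mem' := ⟨Q.one_mem, h1⟩
      mul_mem' := fun {a b} ha hb => ⟨Q.mul_mem ha.1 hb.1, by rw [hmul a ha.1 b hb.1, ha.2, hb.2, mul_one]⟩
      inv_mem' := fun {a} ha => ⟨Q.inv_mem ha.1, by
        have := hmul a ha.1 a⁻¹ (Q.inv_mem ha.1)
        rw [mul_inv_cancel, h1, ha.2, one_mul] at this
        exact this.symm⟩ }
  have hpow : ∀ j : ℕ, ∀ k ∈ Q, φ (x ^ j * k * (x ^ j)⁻¹) = φ k := by
    intro j
    induction j with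
    | zero => simp
    | succ j ih =>
      intro k hk
      rw [show x ^ (j + 1) * k * (x ^ (j + 1))⁻¹ = x * (x ^ j * k * (x ^ j)⁻¹) * x⁻¹ by
        rw [pow_succ']; group, hinv _ ((Subgroup.mem_normalizer_iff.1 (pow_mem hxQ j) k).1 hk), ih k hk]
  intro k hk
  have hle : ⁅Q, Subgroup.zpowers x⁆ ≤ M := by
    refine Subgroup.commutator_le.2 fun a ha y hy => ?_
    obtain ⟨j, rfl⟩ : ∃ j : ℕ, x ^ j = y :=
      (isOfFinOrder_of_finite x).mem_powers_iff_mem_zpowers.2 hy
    have hm : x ^ j * a⁻¹ * (x ^ j)⁻¹ ∈ Q :=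
      (Subgroup.mem_normalizer_iff.1 (pow_mem hxQ j) _).1 (Q.inv_mem ha)
    have e : ⁅a, x ^ j⁆ = a * (x ^ j * a⁻¹ * (x ^ j)⁻¹) := by
      simp only [commutatorElement_def]; group
    refine ⟨by rw [e]; exact Q.mul_mem ha hm, ?_⟩
    rw [e, hmul a ha _ hm, hpow j _ (Q.inv_mem ha), ← hmul a ha _ (Q.inv_mem ha), mul_inv_cancel, h1]
  exact (hle (hgen hk)).2

/-- The coefficient of an element whose commutator character differs from all others vanishes. -/
theorem coeff_eq_zero {ι : Type*} [DecidableEq ι] (S : Finset ι) (T : ι → V →ₗ[K] V) (W : Submodule K V)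
    {Λ : Type*} (act : Λ → (V →ₗ[K] V)) (act' : Λ → (V →ₗ[K] V)) (χ : ι → Λ → K)
    (hW : ∀ l, ∀ v ∈ W, act' l v ∈ W) (hT : ∀ i l, ∀ v ∈ W, act l (T i (act' l v)) = χ i l • T i v)
    {i₀ : ι} (hi₀ : i₀ ∉ S) (hne : ∀ i ∈ S, ∃ l, χ i l ≠ χ i₀ l) (v₀ : V) (hv₀ : v₀ ∈ W)
    (hTv₀ : T i₀ v₀ ≠ 0) :
    ∀ c : ι → K, (∀ v ∈ W, ∑ i ∈ insert i₀ S, c i • T i v = 0) → c i₀ = 0 := by
  induction S using Finset.induction with
  | empty =>
    intro c hc
    have := hc v₀ hv₀
    rw [Finset.sum_insert (Finset.notMem_empty _), Finset.sum_empty, add_zero] at this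
    exact (smul_eq_zero.1 this).resolve_right hTv₀
  | insert j S hj ih =>
    intro c hc
    obtain ⟨l, hl⟩ := hne j (Finset.mem_insert_self j S)
    have hij : i₀ ≠ j := fun h => hi₀ (h ▸ Finset.mem_insert_self _ S)
    have hiS : i₀ ∉ S := fun h => hi₀ (Finset.mem_insert_of_mem h)
    have h2 := ih hiS (fun i hi => hne i (Finset.mem_insert_of_mem hi))
      (fun i => c i * (χ i l - χ j l)) fun v hv => by
      have h3 := congrArg (act l) (hc (act' l v) (hW l v hv))
      rw [map_sum, map_zero] at h3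
      simp only [map_smul, hT _ _ v hv, smul_smul] at h3
      have h4 := congrArg (fun z => χ j l • z) (hc v hv)
      simp only [Finset.smul_sum, smul_smul, smul_zero] at h4
      have hset : insert i₀ (insert j S) = insert j (insert i₀ S) := Finset.insert_comm _ _ _
      rw [hset, Finset.sum_insert (by simp [hj, Ne.symm hij])] at h3 h4
      rw [mul_comm (χ j l) (c j)] at h4
      have h5 := add_left_cancel (h3.trans h4.symm)
      rw [← sub_eq_zero, ← Finset.sum_sub_distrib] at h5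
      rw [← h5]
      refine Finset.sum_congr rfl fun i _ => ?_
      rw [← sub_smul]
      congr 1
      ring
    exact (mul_eq_zero.1 h2).resolve_right (sub_ne_zero.2 (Ne.symm hl))

set_option maxHeartbeats 4000000 in
/-- The critical configuration does not occur. -/
theorem key (hp2 : p ≠ 2) {Q B : Subgroup G} (hQ : IsPGroup q Q) (hqp : q ≠ p) (hB : IsPGroup p B)
    (hBQ : B ≤ Subgroup.normalizer (Q : Set G)) {x : G} (hxc : ∀ b ∈ B, Commute x b)
    (hxB : x ∈ B) (hxB' : x ∈ ⁅B, B⁆) (hxp : x ^ p = 1)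
    (hgen : Q ≤ ⁅Q, Subgroup.zpowers x⁆)
    (hcent : ∀ k ∈ Q, Commute k x → ∀ g ∈ Q, Commute k g)
    (hD : ∀ k ∈ Q, ∀ l ∈ Q, Commute ⁅k, l⁆ x)
    (hquad : (ρ x - 1) ^ 2 = 0) (hbx : ∀ b ∈ B, (ρ x - 1) * (ρ b - 1) ^ 2 = 0) :
    ∀ k ∈ Q, ρ k = 1 := by
  classical
  have hpp := hp.out
  have hxQ := hBQ hxB
  set N : End K V := ρ x - 1 with hN
  have hN2 : N * N = 0 := by rw [← sq]; exact hquad
  have hρx : ρ x = 1 + N := by rw [hN, add_sub_cancel]
  have hxinv : ρ x⁻¹ = 1 - N := by
    have h1 : ρ x⁻¹ * ρ x = 1 := by rw [← map_mul, inv_mul_cancel, map_one]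
    have h2 : ρ x * (1 - N) = 1 := by
      rw [hρx, mul_sub, mul_one, add_mul, one_mul, hN2, add_zero, add_sub_cancel_right]
    calc ρ x⁻¹ = ρ x⁻¹ * (ρ x * (1 - N)) := by rw [h2, mul_one]
      _ = 1 - N := by rw [← mul_assoc, h1, one_mul]
  by_contra hall
  push Not at hall
  obtain ⟨k₀, hk₀, hk₀1⟩ := hall
  haveI : Fintype Q := Fintype.ofFinite _
  have hQK : ∀ M : Subgroup G, M ≤ Q → (Nat.card M : K) ≠ 0 := by
    intro M hM
    obtain ⟨c, hc⟩ := IsPGroup.iff_card.1 (hQ.to_le hM)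
    rw [hc, Ne, CharP.cast_eq_zero_iff K p]
    intro h
    exact hqp ((Nat.prime_dvd_prime_iff_eq hpp hq.out).1 (hpp.dvd_of_dvd_pow h)).symm
  let π : End K V := ∑ k : Q, ρ (k : G)
  have hπl : ∀ k : Q, ρ (k : G) * π = π := fun k => by
    rw [Finset.mul_sum]
    exact Fintype.sum_equiv (Equiv.mulLeft k) _ _ fun l => by rw [← map_mul]; rfl
  have hπr : ∀ k : Q, π * ρ (k : G) = π := fun k => by
    rw [Finset.sum_mul]
    exact Fintype.sum_equiv (Equiv.mulRight k) _ _ fun l => by rw [← map_mul]; rfl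
  have hπx : ∀ b ∈ Subgroup.normalizer (Q : Set G), ρ b * π = π * ρ b := by
    intro b hb
    rw [Finset.mul_sum, Finset.sum_mul]
    refine Fintype.sum_equiv
      { toFun := fun (k : Q) => (⟨b * k * b⁻¹, (Subgroup.mem_normalizer_iff.1 hb _).1 k.2⟩ : Q)
        invFun := fun (k : Q) => (⟨b⁻¹ * k * b, by
          simpa using (Subgroup.mem_normalizer_iff.1 (inv_mem hb) _).1 k.2⟩ : Q)
        left_inv := fun k => Subtype.ext (by simp [mul_assoc])
        right_inv := fun k => Subtype.ext (by simp [mul_assoc]) } _ _ fun k => ?_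
    rw [← map_mul, ← map_mul]
    congr 1
    show b * k = b * k * b⁻¹ * b
    group
  -- the part of `V` without fixed points of `Q`
  set V₁ := LinearMap.ker π with hV₁
  have hV₁inv : ∀ b ∈ Subgroup.normalizer (Q : Set G), ∀ v ∈ V₁, ρ b v ∈ V₁ := fun b hb v hv => by
    rw [hV₁, LinearMap.mem_ker] at hv ⊢
    rw [← End.mul_apply, ← hπx b hb, End.mul_apply, hv, map_zero]
  have hV₁fix : ∀ v ∈ V₁, (∀ k ∈ Q, ρ k v = v) → v = 0 := by
    intro v hv hfix
    rw [hV₁, LinearMap.mem_ker, LinearMap.sum_apply,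
      Finset.sum_congr rfl fun (k : Q) _ => hfix k k.2, Finset.sum_const, Finset.card_univ,
      ← Nat.card_eq_fintype_card, ← Nat.cast_smul_eq_nsmul K, smul_eq_zero] at hv
    exact hv.resolve_left (hQK Q le_rfl)
  obtain ⟨u, hu, hNu⟩ : ∃ u ∈ V₁, N u ≠ 0 := by
    by_contra hall
    push Not at hall
    refine hk₀1 ?_
    have hxV : ∀ v ∈ V₁, ρ x v = v := fun v hv => by
      rw [hρx, LinearMap.add_apply, End.one_apply, hall v hv, add_zero]
    have hdec : ∀ k ∈ Q, (∀ v ∈ V₁, ρ k v = v) → ρ k = 1 := by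
      intro k hk h
      refine LinearMap.ext fun v => ?_
      have hsplit : (Nat.card Q : K) • v - π v ∈ V₁ := by
        rw [hV₁, LinearMap.mem_ker, map_sub, map_smul, sub_eq_zero]
        conv_rhs => rw [show π (π v) = (π * π) v from rfl]
        show _ = ((∑ l : Q, ρ (l : G)) * π) v
        rw [Finset.sum_mul, Finset.sum_congr rfl fun l _ => hπl l, Finset.sum_const,
          Finset.card_univ, ← Nat.card_eq_fintype_card, ← Nat.cast_smul_eq_nsmul K, LinearMap.smul_apply]
      have h1 := h _ hsplit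
      rw [map_sub, map_smul, show ρ k (π v) = (ρ k * π) v from rfl, hπl ⟨k, hk⟩, sub_left_inj] at h1
      exact (smul_right_injective V (hQK Q le_rfl)) h1
    -- `x` commutes with `Q` on `V₁`
    let M : Subgroup G :=
      { carrier := {k | k ∈ Q ∧ ∀ v ∈ V₁, ρ k v = v}
        one_mem' := ⟨Q.one_mem, fun v _ => by rw [map_one, End.one_apply]⟩
        mul_mem' := fun {a b} ha hb => ⟨Q.mul_mem ha.1 hb.1, fun v hv => by
          rw [map_mul, End.mul_apply, hb.2 v hv, ha.2 v hv]⟩
        inv_mem' := fun {a} ha => ⟨Q.inv_mem ha.1, fun v hv => by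
          conv_lhs => rw [← ha.2 v hv]
          rw [← End.mul_apply, ← map_mul, inv_mul_cancel, map_one, End.one_apply]⟩ }
    have hpow : ∀ j : ℕ, ∀ v ∈ V₁, ρ (x ^ j) v = v := by
      intro j
      induction j with
      | zero => intro v _; rw [pow_zero, map_one, End.one_apply]
      | succ j ih => intro v hv; rw [pow_succ, map_mul, End.mul_apply, hxV v hv, ih v hv]
    have hle : ⁅Q, Subgroup.zpowers x⁆ ≤ M := by
      refine Subgroup.commutator_le.2 fun a ha y hy => ⟨?_, fun v hv => ?_⟩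
      · have hy' : y ∈ Subgroup.normalizer (Q : Set G) := Subgroup.zpowers_le.2 hxQ hy
        rw [show ⁅a, y⁆ = a * (y * a⁻¹ * y⁻¹) by simp [commutatorElement_def, mul_assoc]]
        exact Q.mul_mem ha ((Subgroup.mem_normalizer_iff.1 hy' _).1 (Q.inv_mem ha))
      · obtain ⟨j, rfl⟩ : ∃ j : ℕ, x ^ j = y := by
          rw [mem_zpowers_iff_mem_range_orderOf, Finset.mem_image] at hy
          obtain ⟨j, -, hj⟩ := hy
          exact ⟨j, hj⟩
        have hv' : ρ (x ^ j)⁻¹ v = v := by
          conv_lhs => rw [← hpow j v hv]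
          rw [← End.mul_apply, ← map_mul, inv_mul_cancel, map_one, End.one_apply]
        rw [commutatorElement_def, map_mul, map_mul, map_mul, End.mul_apply, End.mul_apply,
          End.mul_apply, hv', hpow j _ (hV₁inv _ (Subgroup.le_normalizer (Q.inv_mem ha)) v hv),
          ← End.mul_apply, ← map_mul, mul_inv_cancel, map_one, End.one_apply]
    exact hdec k₀ hk₀ (hle (hgen hk₀)).2
  -- the abelian subgroup `H = C_Q(x)`
  set H := Q ⊓ Subgroup.centralizer ({x} : Set G) with hH
  have hHx : ∀ h ∈ H, Commute h x := fun h hh => Subgroup.mem_centralizer_singleton_iff.1 hh.2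
  have hHc : ∀ h ∈ H, ∀ k ∈ Q, Commute h k := fun h hh => hcent h hh.1 (hHx h hh)
  have hHB : B ≤ Subgroup.normalizer (H : Set G) := by
    refine CfsgLib.Coprime.le_normalizer_inf_inf hBQ fun b hb => ?_
    rw [Subgroup.mem_normalizer_iff]
    intro y
    simp only [Subgroup.mem_centralizer_singleton_iff]
    constructor
    · intro h
      exact (((hxc b hb).symm.mul_left (h : Commute y x)).mul_left (hxc b hb).symm.inv_left).eq
    · intro h
      have h2 : Commute (b⁻¹ * (b * y * b⁻¹) * b) x :=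
        ((hxc b hb).symm.inv_left.mul_left (h : Commute _ x)).mul_left (hxc b hb).symm
      simpa [mul_assoc] using h2.eq
  have hHN : ∀ h ∈ H, ρ h * N = N * ρ h := fun h hh => by
    rw [hN, mul_sub, sub_mul, ← map_mul, ← map_mul, (hHx h hh).eq, mul_one, one_mul]
  set U := V₁.map N with hU
  haveI : Nontrivial U := Submodule.nontrivial_iff_ne_bot.2 fun h =>
    hNu ((Submodule.mem_bot K).1 (h ▸ Submodule.mem_map_of_mem hu))
  have hHU : ∀ (h : H), ∀ w ∈ U, ρ (h : G) w ∈ U := by
    rintro ⟨h, hh⟩ _ ⟨w, hw, rfl⟩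
    exact ⟨ρ h w, hV₁inv h (Subgroup.le_normalizer hh.1) w hw, (LinearMap.congr_fun (hHN h hh) w).symm⟩
  let ρU : Representation K H U :=
    { toFun := fun (h : H) => (ρ (h : G)).restrict (hHU h)
      map_one' := LinearMap.ext fun w => Subtype.ext (by simp [LinearMap.restrict_apply])
      map_mul' := fun a b => LinearMap.ext fun w => Subtype.ext (by
        simp [LinearMap.restrict_apply, map_mul]) }
  obtain ⟨χ, hχ⟩ := exists_weight (ρ := ρU) ⊤ fun a _ b _ => by
    rw [← map_mul, ← map_mul, show a * b = b * a from Subtype.ext (hHc a a.2 b b.2.1).eq]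
  obtain ⟨w, hw, hw0⟩ := Submodule.exists_mem_ne_zero_of_ne_bot hχ
  let lam : G → K := fun g => if hg : g ∈ H then χ ⟨g, hg⟩ else 0
  have hlam : ∀ h ∈ H, ρ h (w : V) = lam h • (w : V) := fun h hh => by
    have := congrArg Subtype.val (mem_wspace.1 hw ⟨h, hh⟩ trivial)
    simp only [lam, dif_pos hh]
    exact this
  have hw0' : (w : V) ≠ 0 := fun h => hw0 (Subtype.ext h)
  have hlmul : ∀ a ∈ H, ∀ b ∈ H, lam (a * b) = lam a * lam b := by
    intro a ha b hb
    refine smul_left_injective K hw0' ?_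
    show lam (a * b) • (w : V) = (lam a * lam b) • (w : V)
    rw [← hlam _ (mul_mem ha hb), map_mul, End.mul_apply, hlam b hb, map_smul, hlam a ha, smul_smul,
      mul_comm]
  have hl1 : lam 1 = 1 := by
    refine smul_left_injective K hw0' ?_
    show lam 1 • (w : V) = (1 : K) • (w : V)
    rw [← hlam 1 (one_mem _), map_one, End.one_apply, one_smul]
  obtain ⟨u₁, hu₁, hu₁w⟩ := w.2
  haveI : Fintype H := Fintype.ofFinite _
  let v₀ : V := ∑ h : H, lam ((h : G)⁻¹) • ρ (h : G) u₁
  have hv₀wt : ∀ h ∈ H, ρ h v₀ = lam h • v₀ := by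
    intro h hh
    rw [map_sum, Finset.smul_sum]
    refine Fintype.sum_equiv (Equiv.mulLeft (⟨h, hh⟩ : H)) _ _ fun l => ?_
    rw [map_smul, smul_smul, ← End.mul_apply, ← map_mul]
    congr 1
    show lam ((l : G)⁻¹) = lam h * lam ((h * l : G)⁻¹)
    rw [mul_inv_rev, hlmul _ (inv_mem l.2) _ (inv_mem hh), mul_left_comm, ← hlmul h hh _ (inv_mem hh),
      mul_inv_cancel, hl1, mul_one]
  have hv₀V : v₀ ∈ V₁ := Submodule.sum_mem _ fun h _ =>
    Submodule.smul_mem _ _ (hV₁inv _ (Subgroup.le_normalizer h.2.1) _ hu₁)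
  have hNv₀ : N v₀ ≠ 0 := by
    have : N v₀ = (Nat.card H : K) • (w : V) := by
      rw [map_sum, Finset.sum_congr rfl fun (h : H) _ => show N (lam ((h : G)⁻¹) • ρ (h : G) u₁) = (w : V) by
        rw [map_smul, ← End.mul_apply, ← hHN _ h.2, End.mul_apply, hu₁w, hlam _ h.2, smul_smul,
          ← hlmul _ (inv_mem h.2) _ h.2, inv_mul_cancel, hl1, one_smul],
        Finset.sum_const, Finset.card_univ, ← Nat.card_eq_fintype_card, ← Nat.cast_smul_eq_nsmul K]
    rw [this]
    exact smul_ne_zero (hQK H inf_le_left) hw0'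
  -- `B` fixes the weight
  have hfixB : ∀ b ∈ B, ∀ h ∈ H, lam (b⁻¹ * h * b) = lam h := by
    intro b hb
    refine no_moved_weight (ρ := ρ) (hHB hb) ?_ (w := N v₀) hNv₀ (fun h hh => by
      rw [← End.mul_apply, hHN h hh, End.mul_apply, hv₀wt h hh, map_smul]) ?_
    · obtain ⟨j, hj⟩ := hB ⟨b, hb⟩
      have hd : orderOf b ∣ p ^ j := orderOf_dvd_of_pow_eq_one (congrArg Subtype.val hj)
      exact Odd.of_dvd_nat ((hpp.odd_of_ne_two hp2).pow) hd
    · have h1 : ρ b * N = N * ρ b := by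
        rw [hN, mul_sub, sub_mul, ← map_mul, ← map_mul, (hxc b hb).symm.eq, mul_one, one_mul]
      have h2 := LinearMap.congr_fun (hbx b hb) v₀
      rw [End.mul_apply, pow_two, End.mul_apply, LinearMap.zero_apply] at h2
      have h3 : ∀ v, ρ b (N v) = N (ρ b v) := fun v => LinearMap.congr_fun h1 v
      rw [h3, h3, ← h2, two_smul]
      simp only [LinearMap.sub_apply, End.one_apply, map_sub]
      abel
  -- the weight space
  let W : Submodule K V :=
    { carrier := {v | v ∈ V₁ ∧ ∀ h ∈ H, ρ h v = lam h • v}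
      zero_mem' := ⟨zero_mem _, fun h _ => by rw [map_zero, smul_zero]⟩
      add_mem' := fun {a b} ha hb => ⟨add_mem ha.1 hb.1, fun h hh => by
        rw [map_add, ha.2 h hh, hb.2 h hh, smul_add]⟩
      smul_mem' := fun c {a} ha => ⟨Submodule.smul_mem _ c ha.1, fun h hh => by
        rw [map_smul, ha.2 h hh, smul_comm]⟩ }
  have hWQ : ∀ k ∈ Q, ∀ v ∈ W, ρ k v ∈ W := fun k hk v hv =>
    ⟨hV₁inv k (Subgroup.le_normalizer hk) v hv.1, fun h hh => by
      rw [rho_mul_apply, (hHc h hh k hk).eq, ← rho_mul_apply, hv.2 h hh, map_smul]⟩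
  have hWx : ∀ v ∈ W, ρ x v ∈ W := fun v hv =>
    ⟨hV₁inv x hxQ v hv.1, fun h hh => by
      rw [rho_mul_apply, (hHx h hh).eq, ← rho_mul_apply, hv.2 h hh, map_smul]⟩
  have hv₀W : v₀ ∈ W := ⟨hv₀V, hv₀wt⟩
  have hv₀ne : v₀ ≠ 0 := fun h => hNv₀ (by rw [h, map_zero])
  have hcm : ∀ k ∈ Q, ∀ l ∈ Q, ⁅k, l⁆ ∈ H := fun k hk l hl =>
    ⟨by rw [commutatorElement_def]; exact Q.mul_mem (Q.mul_mem (Q.mul_mem hk hl) (Q.inv_mem hk)) (Q.inv_mem hl),
      Subgroup.mem_centralizer_singleton_iff.2 (hD k hk l hl).eq⟩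
  let e : G → G → K := fun k l => lam ⁅k, l⁆
  have hecomm : ∀ k ∈ Q, ∀ l ∈ Q, ∀ v ∈ W, ρ (k * l) v = e k l • ρ (l * k) v := by
    intro k hk l hl v hv
    rw [show k * l = ⁅k, l⁆ * (l * k) by simp [commutatorElement_def, mul_assoc], map_mul,
      End.mul_apply]
    exact (show ρ (l * k) v ∈ W by rw [map_mul, End.mul_apply]; exact hWQ l hl _ (hWQ k hk v hv)).2 _
      (hcm k hk l hl)
  have heR : ∀ k ∈ Q, ∀ l ∈ Q, ∀ m ∈ Q, e k (l * m) = e k l * e k m := by
    intro k hk l hl m hm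
    have h1 : ⁅k, l * m⁆ = ⁅k, l⁆ * ⁅k, m⁆ := by
      have hc := (hHc _ (hcm k hk m hm) l hl).eq
      rw [show ⁅k, l * m⁆ = ⁅k, l⁆ * (l * ⁅k, m⁆ * l⁻¹) by simp only [commutatorElement_def]; group,
        ← hc, mul_inv_cancel_right]
    simp only [e]
    rw [h1, hlmul _ (hcm k hk l hl) _ (hcm k hk m hm)]
  have heL : ∀ k ∈ Q, ∀ l ∈ Q, ∀ m ∈ Q, e (k * l) m = e k m * e l m := by
    intro k hk l hl m hm
    have h1 : ⁅k * l, m⁆ = ⁅k, m⁆ * ⁅l, m⁆ := by
      have hc := (hHc _ (hcm l hl m hm) k hk).eq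
      rw [show ⁅k * l, m⁆ = (k * ⁅l, m⁆ * k⁻¹) * ⁅k, m⁆ by simp only [commutatorElement_def]; group,
        ← hc, mul_inv_cancel_right]
      exact ((hHc _ (hcm l hl m hm) _ (hcm k hk m hm).1).eq)
    simp only [e]
    rw [h1, hlmul _ (hcm k hk m hm) _ (hcm l hl m hm)]
  have he1L : ∀ l, e 1 l = 1 := fun l => by simp [e, hl1]
  have he1R : ∀ l, e l 1 = 1 := fun l => by simp [e, hl1]
  have heinv : ∀ b ∈ B, ∀ k ∈ Q, ∀ l ∈ Q, e (b * k * b⁻¹) (b * l * b⁻¹) = e k l := by
    intro b hb k hk l hl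
    have h1 : ⁅b * k * b⁻¹, b * l * b⁻¹⁆ = b * ⁅k, l⁆ * b⁻¹ := by
      simp only [commutatorElement_def]; group
    have hm : b * ⁅k, l⁆ * b⁻¹ ∈ H := (Subgroup.mem_normalizer_iff.1 (hHB hb) _).1 (hcm k hk l hl)
    simp only [e]
    rw [h1, ← hfixB b hb _ hm]
    congr 1
    group
  have hesymm : ∀ k ∈ Q, ∀ l ∈ Q, e k l * e l k = 1 := fun k hk l hl => by
    simp only [e]
    rw [← hlmul _ (hcm k hk l hl) _ (hcm l hl k hk), ← commutatorElement_inv k l, mul_inv_cancel, hl1]
  by_cases hS : ∀ k ∈ Q, ∀ l ∈ Q, e k l = 1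
  · -- `Q` is abelian on `W`
    haveI : Nontrivial W := Submodule.nontrivial_iff_ne_bot.2 fun h =>
      hv₀ne ((Submodule.mem_bot K).1 (h ▸ hv₀W))
    let ρW : Representation K Q W :=
      { toFun := fun (k : Q) => (ρ (k : G)).restrict (hWQ k k.2)
        map_one' := LinearMap.ext fun w => Subtype.ext (by simp [LinearMap.restrict_apply])
        map_mul' := fun a b => LinearMap.ext fun v => Subtype.ext (by simp [LinearMap.restrict_apply, map_mul]) }
    obtain ⟨μ, hμ⟩ := exists_weight (ρ := ρW) ⊤ fun a _ b _ => LinearMap.ext fun v => Subtype.ext (by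
      simp only [ρW, MonoidHom.coe_mk, OneHom.coe_mk, End.mul_apply, LinearMap.restrict_apply]
      rw [rho_mul_apply, rho_mul_apply, hecomm a a.2 b b.2 v v.2, hS a a.2 b b.2, one_smul])
    obtain ⟨v, hv, hv0⟩ := Submodule.exists_mem_ne_zero_of_ne_bot hμ
    let mu : G → K := fun g => if hg : g ∈ Q then μ ⟨g, hg⟩ else 0
    have hmu : ∀ k ∈ Q, ρ k (v : V) = mu k • (v : V) := fun k hk => by
      have := congrArg Subtype.val (mem_wspace.1 hv ⟨k, hk⟩ trivial)
      simp only [mu, dif_pos hk]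
      exact this
    have hv0' : (v : V) ≠ 0 := fun h => hv0 (Subtype.ext h)
    have hmul : ∀ a ∈ Q, ∀ b ∈ Q, mu (a * b) = mu a * mu b := by
      intro a ha b hb
      refine smul_left_injective K hv0' ?_
      show mu (a * b) • (v : V) = (mu a * mu b) • (v : V)
      rw [← hmu _ (mul_mem ha hb), map_mul, End.mul_apply, hmu b hb, map_smul, hmu a ha, smul_smul,
        mul_comm]
    have hmu1 : mu 1 = 1 := by
      refine smul_left_injective K hv0' ?_
      show mu 1 • (v : V) = (1 : K) • (v : V)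
      rw [← hmu 1 (one_mem _), map_one, End.one_apply, one_smul]
    have hrel : ρ x (ρ x (v : V)) - (2 : K) • ρ x (v : V) + v = 0 := by
      have := LinearMap.congr_fun hquad (v : V)
      rw [pow_two, End.mul_apply] at this
      simp only [LinearMap.sub_apply, End.one_apply, map_sub, LinearMap.zero_apply] at this
      rw [← this, two_smul]
      simp only [hN, LinearMap.sub_apply, End.one_apply, map_sub]
      abel
    have hxodd : Odd (orderOf x) :=
      Odd.of_dvd_nat (hpp.odd_of_ne_two hp2) (orderOf_dvd_of_pow_eq_one hxp)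
    have hinv := no_moved_weight (ρ := ρ) hxQ hxodd hv0' hmu hrel
    have htriv := eq_one_of_invariant hxQ hgen mu hmul hmu1 fun k hk => by
      have hm : x * k * x⁻¹ ∈ Q := (Subgroup.mem_normalizer_iff.1 hxQ k).1 hk
      rw [← hinv _ hm]
      congr 1
      group
    exact hv0' (hV₁fix _ v.2.1 fun k hk => by rw [hmu k hk, htriv k hk, one_smul])
  push Not at hS
  obtain ⟨a₀, ha₀, c₀, hc₀, hac₀⟩ := hS
  -- the radical of the commutator pairing
  let S : Subgroup Q :=
    { carrier := {k | ∀ l ∈ Q, e (k : G) l = 1}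
      one_mem' := fun l _ => he1L l
      mul_mem' := fun {a b} ha hb l hl => by
        rw [Subgroup.coe_mul, heL a a.2 b b.2 l hl, ha l hl, hb l hl, mul_one]
      inv_mem' := fun {a} ha l hl => by
        have := heL a a.2 _ (Q.inv_mem a.2) l hl
        rw [mul_inv_cancel, he1L, ha l hl, one_mul] at this
        rw [Subgroup.coe_inv]
        exact this.symm }
  have hSn : S.Normal := ⟨fun n hn g l hl => by
    rw [Subgroup.coe_mul, Subgroup.coe_mul, Subgroup.coe_inv, heL _ (Q.mul_mem g.2 n.2) _ (Q.inv_mem g.2) l hl,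
      heL g g.2 n n.2 l hl, hn l hl, mul_one, ← heL g g.2 _ (Q.inv_mem g.2) l hl, mul_inv_cancel, he1L]⟩
  haveI := hSn
  let m : Q →* Q ⧸ S := QuotientGroup.mk' S
  have hm1 : ∀ k : Q, m k = 1 ↔ ∀ l ∈ Q, e (k : G) l = 1 := fun k => QuotientGroup.eq_one_iff k
  have hcommM : ∀ a b : Q ⧸ S, a * b = b * a := by
    intro a b
    obtain ⟨a, rfl⟩ := QuotientGroup.mk'_surjective S a
    obtain ⟨b, rfl⟩ := QuotientGroup.mk'_surjective S b
    rw [← commutatorElement_eq_one_iff_mul_comm, ← map_commutatorElement]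
    refine (hm1 _).2 fun l hl => ?_
    have hh := hcm _ a.2 _ b.2
    simp only [e]
    rw [show ⁅((⁅a, b⁆ : Q) : G), l⁆ = 1 from commutatorElement_eq_one_iff_mul_comm.2 (hHc _ hh l hl).eq, hl1]
  -- conjugation by `B` on the quotient
  let cb : B → MulAut Q := fun b =>
    { toFun := fun (k : Q) => ⟨b * k * (b : G)⁻¹, (Subgroup.mem_normalizer_iff.1 (hBQ b.2) _).1 k.2⟩
      invFun := fun (k : Q) => ⟨(b : G)⁻¹ * k * b, by
        simpa using (Subgroup.mem_normalizer_iff.1 (inv_mem (hBQ b.2)) _).1 k.2⟩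
      left_inv := fun k => Subtype.ext (by simp [mul_assoc])
      right_inv := fun k => Subtype.ext (by simp [mul_assoc])
      map_mul' := fun k l => Subtype.ext (by simp [mul_assoc]) }
  have hcb : ∀ b, S.map (cb b).toMonoidHom = S := by
    intro b
    ext k
    refine Subgroup.mem_map_equiv.trans ?_
    have hk : (b : G)⁻¹ * k * b ∈ Q := ((cb b).symm k).2
    show (∀ l ∈ Q, e ((b : G)⁻¹ * k * b) l = 1) ↔ ∀ l ∈ Q, e (k : G) l = 1
    constructor
    · intro h l hl
      have hl' : (b : G)⁻¹ * l * b ∈ Q := ((cb b).symm ⟨l, hl⟩).2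
      have h1 := heinv _ b.2 _ hk _ hl'
      simp only [mul_assoc, mul_inv_cancel, mul_one, mul_inv_cancel_left] at h1
      rw [h1]
      have h2 := h _ hl'
      simpa [mul_assoc] using h2
    · intro h l hl
      have hl' : (b : G) * l * (b : G)⁻¹ ∈ Q := ((cb b) ⟨l, hl⟩).2
      have h1 := heinv _ b.2 _ hk _ hl
      simp only [mul_assoc, mul_inv_cancel, mul_one, mul_inv_cancel_left] at h1
      have h2 := h _ hl'
      rw [mul_assoc] at h2 ⊢
      rw [← h1]
      simpa [mul_assoc] using h2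
  let σ : B →* MulAut (Q ⧸ S) := MonoidHom.mk' (fun b => QuotientGroup.congr S S (cb b) (hcb b))
    fun b c => by
      refine MulEquiv.ext fun z => ?_
      obtain ⟨z, rfl⟩ := QuotientGroup.mk'_surjective S z
      exact congrArg (QuotientGroup.mk' S) (Subtype.ext (by
        show ((b * c : B) : G) * z * ((b * c : B) : G)⁻¹ =
          (b : G) * ((c : G) * z * (c : G)⁻¹) * (b : G)⁻¹
        simp [mul_assoc]))
  have hσ : ∀ (b : B) (k : Q), σ b (m k) =
      m ⟨b * k * (b : G)⁻¹, (Subgroup.mem_normalizer_iff.1 (hBQ b.2) _).1 k.2⟩ := fun b k => rfl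
  let τ := σ ⟨x, hxB⟩
  -- `x` fixes nothing but the identity
  have hfpf : ∀ z, τ z = z → z = 1 := by
    intro z hz
    obtain ⟨k, rfl⟩ := QuotientGroup.mk'_surjective S z
    rw [hm1]
    rw [hσ] at hz
    refine eq_one_of_invariant hxQ hgen (e k) (heR k k.2) (he1R k) fun l hl => ?_
    have h2 : m ((⟨x * k * x⁻¹, (Subgroup.mem_normalizer_iff.1 hxQ _).1 k.2⟩ : Q)⁻¹ * k) = 1 := by
      rw [map_mul, map_inv, inv_mul_eq_one]; exact hz
    have hxk : x * k * x⁻¹ ∈ Q := (Subgroup.mem_normalizer_iff.1 hxQ _).1 k.2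
    have hxl : x * l * x⁻¹ ∈ Q := (Subgroup.mem_normalizer_iff.1 hxQ _).1 hl
    have h3 := (hm1 _).1 h2 _ hxl
    rw [Subgroup.coe_mul, Subgroup.coe_inv, heL _ (Q.inv_mem hxk) _ k.2 _ hxl] at h3
    have h4 := heL _ (Q.inv_mem hxk) _ hxk _ hxl
    rw [inv_mul_cancel, he1L, heinv x hxB k k.2 l hl] at h4
    calc e k (x * l * x⁻¹) = (e (x * k * x⁻¹)⁻¹ (x * l * x⁻¹) * e k l) * e k (x * l * x⁻¹) := by
          rw [← h4, one_mul]
      _ = e k l * (e (x * k * x⁻¹)⁻¹ (x * l * x⁻¹) * e k (x * l * x⁻¹)) := by ring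
      _ = e k l := by rw [h3, mul_one]
  have hτp : τ ^ p = 1 := by
    rw [← map_pow, show (⟨x, hxB⟩ : B) ^ p = 1 from Subtype.ext hxp, map_one]
  have hfpf' : ∀ i, 0 < i → i < p → ∀ z, (τ ^ i) z = z → z = 1 := by
    intro i hi hip z hz
    have hcop : i.Coprime p := (hpp.coprime_iff_not_dvd.2 fun h => not_le.2 hip (Nat.le_of_dvd hi h)).symm
    obtain ⟨j, hj⟩ := exists_pow_eq_self_of_coprime
      (hcop.coprime_dvd_right (orderOf_dvd_of_pow_eq_one hτp))
    refine hfpf z ?_
    rw [← hj]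
    clear hj
    induction j with
    | zero => simp
    | succ j ih => rw [pow_succ, MulAut.mul_apply, hz, ih]
  -- extraction of coefficients
  have hcoef : ∀ (n : ℕ) (k : Fin (n + 1) → Q) (c : Fin (n + 1) → K),
      (∀ i, i ≠ 0 → m (k i) ≠ m (k 0)) → (∀ v ∈ W, ∑ i, c i • ρ (k i : G) v = 0) → c 0 = 0 := by
    intro n k c hne hc
    refine coeff_eq_zero (Finset.univ.erase (0 : Fin (n + 1))) (fun i => ρ (k i : G)) W
      (fun l : Q => ρ (l : G)) (fun l => ρ (l : G)⁻¹) (fun i l => e (l : G) (k i))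
      (fun l v hv => hWQ _ (Q.inv_mem l.2) v hv) ?_ (Finset.notMem_erase _ _) ?_ v₀ hv₀W
      (rho_ne_zero hv₀ne) c ?_
    · intro i l v hv
      rw [rho_mul_apply, rho_mul_apply, mul_assoc]
      have h1 := hecomm l l.2 (k i * (l : G)⁻¹) (Q.mul_mem (k i).2 (Q.inv_mem l.2)) v hv
      rw [h1, inv_mul_cancel_right, heR _ l.2 _ (k i).2 _ (Q.inv_mem l.2)]
      congr 1
      have h2 : e (l : G) (l : G)⁻¹ = 1 := by
        simp only [e]
        rw [show ⁅(l : G), (l : G)⁻¹⁆ = 1 by simp [commutatorElement_def], hl1]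
      rw [h2, mul_one]
    · intro i hi
      by_contra hall
      push Not at hall
      refine hne i (Finset.ne_of_mem_erase hi) ?_
      have h1 : m ((k i)⁻¹ * k 0) = 1 := (hm1 _).2 fun l hl => by
        have e1 := hall ⟨l, hl⟩
        have s1 := hesymm l hl _ ((k i)⁻¹ * k 0).2
        have e2 : e l (((k i)⁻¹ * k 0 : Q) : G) = 1 := by
          have := heR l hl _ (k i).2 _ ((k i)⁻¹ * k 0).2
          rw [← Subgroup.coe_mul, mul_inv_cancel_left] at this
          have hne0 : e l (k i) ≠ 0 := left_ne_zero_of_mul (by rw [hesymm l hl _ (k i).2]; exact one_ne_zero)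
          refine mul_left_cancel₀ hne0 ?_
          rw [← this, mul_one]
          exact e1.symm
        rwa [e2, one_mul] at s1
      rwa [map_mul, map_inv, inv_mul_eq_one] at h1
    · intro v hv
      rw [Finset.insert_erase (Finset.mem_univ _)]
      exact hc v hv
  obtain ⟨a, hane⟩ : ∃ a : Q, m a ≠ 1 := ⟨⟨a₀, ha₀⟩, fun h => hac₀ ((hm1 _).1 h c₀ hc₀)⟩
  -- conjugates of `k` by `x`
  let cj : Q → Q := fun k => ⟨x * k * x⁻¹, (Subgroup.mem_normalizer_iff.1 hxQ _).1 k.2⟩
  have hmcj : ∀ k, m (cj k) = τ (m k) := fun k => rfl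
  have hρcj : ∀ k : Q, ρ (cj k : G) = (1 + N) * ρ (k : G) * (1 - N) := fun k => by
    rw [← hxinv, ← hρx, ← map_mul, ← map_mul]
  rcases Nat.lt_or_ge 3 p with hp5 | hp3
  · -- third differences vanish
    have hid : ∀ k : Q, ρ (cj (cj (cj k)) : G) - (3 : K) • ρ (cj (cj k) : G) +
        (3 : K) • ρ (cj k : G) - ρ (k : G) = 0 := by
      intro k
      simp only [hρcj]
      have e3 : ∀ T : End K V, (3 : K) • T = T + T + T := fun T => by
        rw [show (3 : K) = 1 + 1 + 1 by norm_num, add_smul, add_smul, one_smul]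
      rw [e3, e3]
      simp only [add_mul, mul_add, mul_sub, sub_mul, one_mul, mul_one, mul_assoc]
      have hN2' : ∀ T : End K V, N * (N * T) = 0 := fun T => by rw [← mul_assoc, hN2, zero_mul]
      simp only [hN2, hN2', mul_zero, zero_sub, sub_zero, add_zero, zero_add]
      abel
    refine absurd (hcoef 3 ![a, cj a, cj (cj a), cj (cj (cj a))] ![(-1 : K), 3, -3, 1] ?_ ?_) (by simp)
    · intro i hi
      have hfp : ∀ i, 0 < i → i < p → (τ ^ i) (m a) ≠ m a := fun i h1 h2 h => hane (hfpf' i h1 h2 _ h)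
      fin_cases i
      · exact absurd rfl hi
      · exact fun h => hfp 1 one_pos (by omega) (by rw [pow_one]; simpa [hmcj] using h)
      · exact fun h => hfp 2 two_pos (by omega) (by simpa [hmcj, pow_two] using h)
      · exact fun h => hfp 3 (by omega) (by omega) (by simpa [hmcj, pow_succ] using h)
    · intro v _
      have h := LinearMap.congr_fun (hid a) v
      simp only [LinearMap.sub_apply, LinearMap.add_apply, LinearMap.smul_apply, LinearMap.zero_apply] at h
      rw [Fin.sum_univ_four]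
      simp only [Matrix.cons_val_zero, Matrix.cons_val_one, Matrix.cons_val_two, Matrix.cons_val_three,
        Matrix.head_cons, Matrix.tail_cons, Matrix.cons_val]
      rw [← h]
      module
  obtain rfl : p = 3 := by
    have := hpp.two_le
    omega
  have h3K : (3 : K) = 0 := by exact_mod_cast CharP.cast_eq_zero K 3
  have hτ3 : ∀ z, τ (τ (τ z)) = z := fun z => by
    have h := DFunLike.congr_fun hτp z
    simpa [pow_succ] using h
  have hsq : ∀ k : Q, (ρ (k : G) + ρ (cj k : G) + ρ (cj (cj k) : G)) *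
      (ρ (k : G) + ρ (cj k : G) + ρ (cj (cj k) : G)) = 0 := by
    intro k
    set M := ρ (k : G) with hM
    have hS3 : M + ρ (cj k : G) + ρ (cj (cj k) : G) = N * M * N := by
      simp only [hρcj, ← hM]
      have h3 : ∀ T : End K V, T + T + T = 0 := fun T => by
        rw [show T + T + T = (3 : K) • T by rw [show (3 : K) = 1 + 1 + 1 by norm_num, add_smul, add_smul, one_smul],
          h3K, zero_smul]
      simp only [add_mul, mul_add, mul_sub, sub_mul, one_mul, mul_one, mul_assoc]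
      have hN2' : ∀ T : End K V, N * (N * T) = 0 := fun T => by rw [← mul_assoc, hN2, zero_mul]
      simp only [hN2, hN2', mul_zero, zero_sub, sub_zero, add_zero, zero_add]
      rw [← sub_eq_zero]
      have := h3 M
      have := h3 (N * M - M * N - N * (M * N) - N * (M * N))
      calc _ = (M + M + M) + ((N * M - M * N - N * (M * N) - N * (M * N)) +
            (N * M - M * N - N * (M * N) - N * (M * N)) + (N * M - M * N - N * (M * N) - N * (M * N))) := by abel
        _ = 0 := by rw [h3 M, this, add_zero]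
    rw [hS3, show N * M * N * (N * M * N) = N * M * (N * N) * (M * N) by simp [mul_assoc], hN2]
    simp
  have hexp : ∀ k : Q, ∀ v ∈ W,
      ρ (k * k : Q) v + ρ (cj k * cj k : Q) v + ρ (cj (cj k) * cj (cj k) : Q) v +
        (1 + e (cj k : G) k) • ρ (k * cj k : Q) v +
        (1 + e (cj (cj k) : G) k) • ρ (k * cj (cj k) : Q) v +
        (1 + e (cj (cj k) : G) (cj k)) • ρ (cj k * cj (cj k) : Q) v = 0 := by
    intro k v hv
    have h := LinearMap.congr_fun (hsq k) v
    simp only [add_mul, mul_add, ← map_mul, LinearMap.add_apply, LinearMap.zero_apply] at h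
    rw [hecomm _ (cj k).2 _ k.2 v hv, hecomm _ (cj (cj k)).2 _ k.2 v hv,
      hecomm _ (cj (cj k)).2 _ (cj k).2 v hv] at h
    simp only [Subgroup.coe_mul, add_smul, one_smul]
    rw [← h]
    abel
  have hq3 : ∀ z : Q ⧸ S, z ^ 3 = 1 → z = 1 := by
    intro z hz
    obtain ⟨j, hj⟩ := (hQ.to_quotient S) z
    rw [← orderOf_eq_one_iff]
    exact Nat.eq_one_of_dvd_coprimes ((Nat.coprime_primes hq.out hpp).2 hqp |>.pow_left j)
      (orderOf_dvd_of_pow_eq_one hj) (orderOf_dvd_of_pow_eq_one hz)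
  have hM2 : ∀ k : Q, m k * m k = 1 := by
    intro k
    by_contra hk
    letI : CommGroup (Q ⧸ S) := { (inferInstance : Group (Q ⧸ S)) with mul_comm := hcommM }
    set A := m k
    have hτA : τ A ≠ A := fun h => hk (by rw [hfpf A h, one_mul])
    have hττA : τ (τ A) ≠ A := fun h => hτA (by conv_rhs => rw [← hτ3 A, h])
    refine absurd (hcoef 5 ![k * k, cj k * cj k, cj (cj k) * cj (cj k), k * cj k, k * cj (cj k), cj k * cj (cj k)]
      ![(1 : K), 1, 1, 1 + e (cj k : G) k, 1 + e (cj (cj k) : G) k, 1 + e (cj (cj k) : G) (cj k)] ?_ ?_) (by simp)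
    · intro i hi
      fin_cases i
      · exact absurd rfl hi
      · intro h
        refine hk (hfpf _ ?_)
        simpa [hmcj, A] using h
      · intro h
        refine hk (hfpf _ ?_)
        have h' : τ (τ (A * A)) = A * A := by simpa [hmcj, A] using h
        conv_rhs => rw [← hτ3 (A * A), h']
      · intro h
        exact hτA (by simpa [hmcj, A] using h)
      · intro h
        exact hττA (by simpa [hmcj, A] using h)
      · intro h
        have h' : τ A * τ (τ A) = A * A := by simpa [hmcj, A] using h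
        have hfix : τ (A * τ A * τ (τ A)) = A * τ A * τ (τ A) := by
          rw [map_mul, map_mul, hτ3, mul_comm, mul_assoc]
        have h1 := hfpf _ hfix
        rw [mul_assoc, h'] at h1
        refine hk ?_
        rw [hq3 A (by rw [pow_succ, pow_two, mul_assoc]; exact h1), one_mul]
    · intro v hv
      rw [Fin.sum_univ_six]
      simp only [Matrix.cons_val_zero, Matrix.cons_val_one, Matrix.cons_val, Matrix.head_cons,
        Matrix.tail_cons, one_smul]
      exact hexp k v hv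
  have hM2' : ∀ z : Q ⧸ S, z * z = 1 := fun z => by
    obtain ⟨k, rfl⟩ := QuotientGroup.mk'_surjective S z
    exact hM2 k
  have hinvM : ∀ z : Q ⧸ S, z⁻¹ = z := fun z => inv_eq_of_mul_eq_one_left (hM2' z)
  let ψ : Q → K := fun k => e (k : G) (cj k : G)
  have hψ : ∀ k : Q, m k ≠ 1 → ψ k = -1 := by
    intro k hk
    letI : CommGroup (Q ⧸ S) := { (inferInstance : Group (Q ⧸ S)) with mul_comm := hcommM }
    set A := m k
    have hτA : τ A ≠ A := fun h => hk (hfpf A h)
    have hττA : τ (τ A) ≠ A := fun h => hτA (by conv_rhs => rw [← hτ3 A, h])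
    have h2 : 1 + e (cj k : G) k = 0 := by
      refine hcoef 5 ![k * cj k, k * k, cj k * cj k, cj (cj k) * cj (cj k), k * cj (cj k), cj k * cj (cj k)]
        ![1 + e (cj k : G) k, (1 : K), 1, 1, 1 + e (cj (cj k) : G) k, 1 + e (cj (cj k) : G) (cj k)] ?_ ?_
      · intro i hi
        have hne1 : A * τ A ≠ 1 := fun h => hτA (by rw [← inv_eq_of_mul_eq_one_right h, hinvM])
        fin_cases i
        · exact absurd rfl hi
        · intro h; exact hne1 (by rw [← hM2' A]; simpa [hmcj, A] using h.symm)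
        · intro h; exact hne1 (by rw [← hM2' (τ A)]; simpa [hmcj, A] using h.symm)
        · intro h; exact hne1 (by rw [← hM2' (τ (τ A))]; simpa [hmcj, A] using h.symm)
        · intro h
          have h' : A * τ (τ A) = A * τ A := by simpa [hmcj, A] using h
          exact hτA (τ.injective (mul_left_cancel h'))
        · intro h
          have h' : τ A * τ (τ A) = A * τ A := by simpa [hmcj, A] using h
          rw [mul_comm A] at h'
          exact hττA (mul_left_cancel h')
      · intro v hv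
        rw [Fin.sum_univ_six]
        simp only [Matrix.cons_val_zero, Matrix.cons_val_one, Matrix.cons_val, Matrix.head_cons,
          Matrix.tail_cons, one_smul]
        rw [← hexp k v hv]
        abel
    have h3 := hesymm k k.2 _ (cj k).2
    rw [show e (cj k : G) k = -1 by linear_combination h2] at h3
    linear_combination -h3
  -- the quotient has order at most four
  have hcard : Nat.card (Q ⧸ S) ≤ 4 := by
    by_contra hgt
    push Not at hgt
    letI : CommGroup (Q ⧸ S) := { (inferInstance : Group (Q ⧸ S)) with mul_comm := hcommM }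
    haveI : Fintype (Q ⧸ S) := Fintype.ofFinite _
    rw [Nat.card_eq_fintype_card] at hgt
    set A := m a with hA
    obtain ⟨Bz, hBz⟩ : ∃ Bz, Bz ∉ ({1, A} : Finset (Q ⧸ S)) := by
      by_contra h
      push Not at h
      have h2 := Finset.card_le_card (fun z (_ : z ∈ Finset.univ) => h z)
      have h3 := (Finset.card_le_two : ({1, A} : Finset (Q ⧸ S)).card ≤ 2)
      rw [Finset.card_univ] at h2
      omega
    obtain ⟨Cz, hCz⟩ : ∃ Cz, Cz ∉ ({1, A, Bz, A * Bz} : Finset (Q ⧸ S)) := by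
      by_contra h
      push Not at h
      have h2 := Finset.card_le_card (fun z (_ : z ∈ Finset.univ) => h z)
      have h3 := (Finset.card_le_four : ({1, A, Bz, A * Bz} : Finset (Q ⧸ S)).card ≤ 4)
      rw [Finset.card_univ] at h2
      omega
    simp only [Finset.mem_insert, Finset.mem_singleton, not_or] at hBz hCz
    obtain ⟨b, hb⟩ := QuotientGroup.mk'_surjective S Bz
    obtain ⟨c, hc⟩ := QuotientGroup.mk'_surjective S Cz
    have hmb : m b = Bz := hb
    have hmc : m c = Cz := hc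
    have hmul : ∀ k l : Q, ψ (k * l) = ψ k * ψ l * (e (k : G) (cj l) * e (l : G) (cj k)) := by
      intro k l
      have : (cj (k * l) : G) = (cj k : G) * (cj l : G) := by simp [cj, mul_assoc]
      simp only [ψ]
      rw [this, Subgroup.coe_mul, heR _ (Q.mul_mem k.2 l.2) _ (cj k).2 _ (cj l).2,
        heL _ k.2 _ l.2 _ (cj k).2, heL _ k.2 _ l.2 _ (cj l).2]
      ring
    have hP : ∀ k l : Q, m k ≠ 1 → m l ≠ 1 → m k ≠ m l → e (k : G) (cj l) * e (l : G) (cj k) = -1 := by
      intro k l hk hl hkl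
      have h1 := hψ (k * l) (fun h => hkl (by rw [map_mul] at h; rw [← inv_eq_of_mul_eq_one_right h, hinvM]))
      rw [hmul, hψ k hk, hψ l hl] at h1
      linear_combination h1
    have hbc : m (b * c) ≠ 1 := fun h => hCz.2.2.1 (by
      rw [map_mul, hmb, hmc] at h; rw [← inv_eq_of_mul_eq_one_right h, hinvM])
    have habc : m a ≠ m (b * c) := fun h => hCz.2.2.2 (by
      rw [map_mul, hmb, hmc, ← hA] at h
      calc Cz = Bz * (Bz * Cz) := by rw [← mul_assoc, hM2', one_mul]
        _ = A * Bz := by rw [← h, mul_comm])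
    have p1 := hP a b hane (hmb ▸ hBz.1) (fun h => hBz.2 (by rw [← hmb, ← h]))
    have p2 := hP a c hane (hmc ▸ hCz.1) (fun h => hCz.2.1 (by rw [← hmc, ← h]))
    have p3 := hP a (b * c) hane hbc habc
    have : (cj (b * c) : G) = (cj b : G) * (cj c : G) := by simp [cj, mul_assoc]
    rw [this, heR _ a.2 _ (cj b).2 _ (cj c).2, Subgroup.coe_mul, heL _ b.2 _ c.2 _ (cj a).2] at p3
    have : (1 : K) = -1 := by
      rw [← p3, show e (a : G) (cj b) * e (a : G) (cj c) * (e (b : G) (cj a) * e (c : G) (cj a)) =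
        (e (a : G) (cj b) * e (b : G) (cj a)) * (e (a : G) (cj c) * e (c : G) (cj a)) by ring, p1, p2]
      ring
    have h2 : (1 : K) = 0 := by linear_combination h3K - this
    exact one_ne_zero h2
  -- the image of `B` is abelian
  let Φ : B →* Equiv.Perm (Q ⧸ S) := MonoidHom.mk' (fun b => (σ b).toEquiv) fun b c => by
    rw [map_mul]; rfl
  have hR : IsPGroup 3 Φ.range := hB.of_surjective Φ.rangeRestrict Φ.rangeRestrict_surjective
  obtain ⟨i, hi⟩ := IsPGroup.iff_card.1 hR
  have hdvd : 3 ^ i ∣ 24 := by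
    rw [← hi]
    refine (Subgroup.card_subgroup_dvd_card _).trans ?_
    rw [Nat.card_perm]
    exact (Nat.factorial_dvd_factorial hcard)
  have hcyc : IsCyclic Φ.range := by
    rcases (show i = 0 ∨ i = 1 by
      by_contra h
      have h9 : 3 ^ 2 ∣ 24 := (pow_dvd_pow 3 (by omega : 2 ≤ i)).trans hdvd
      norm_num at h9) with rfl | rfl
    · haveI : Subsingleton Φ.range := (Nat.card_eq_one_iff_unique.1 (by simpa using hi)).1
      infer_instance
    · exact isCyclic_of_prime_card (p := 3) (by simpa using hi)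
  have hker : ⁅B, B⁆ ≤ Φ.ker.map B.subtype := by
    refine Subgroup.commutator_le.2 fun b hb c hc => ⟨⁅(⟨b, hb⟩ : B), ⟨c, hc⟩⁆, MonoidHom.mem_ker.2 ?_, rfl⟩
    rw [map_commutatorElement, commutatorElement_eq_one_iff_mul_comm]
    exact congrArg Subtype.val (IsCyclic.isMulCommutative.is_comm.comm
      (⟨Φ ⟨b, hb⟩, ⟨_, rfl⟩⟩ : Φ.range) ⟨Φ ⟨c, hc⟩, ⟨_, rfl⟩⟩)
  obtain ⟨y, hy, hyx⟩ := hker hxB'
  obtain rfl : y = ⟨x, hxB⟩ := Subtype.ext hyx
  exact hane (hfpf _ (Equiv.congr_fun (MonoidHom.mem_ker.1 hy) (m a)))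

end CfsgLib.LocalEven.QuadDerived
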