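import Cfsg.Agent.Lib.LocalEven.HFamily
import Cfsg.Agent.Lib.LocalEven.Large
import Cfsg.Agent.Lib.Components.Basic
import Cfsg.Agent.Lib.Base.MinimalNormal

/-!
`E_∘` for a group `E ≤ N(U)` with quasisimple residual modulo `C_E(U)`, in the presence of a large
subgroup.
-/

set_option autoImplicit false
set_option linter.style.haveILetI false

namespace CfsgLib.LocalEven.QuasisimpleResidual

open Cfsg
open CfsgLib.LocalEven.WeakClosureFactor
open CfsgLib.LocalEven.HFamily
open scoped commutatorElement Pointwise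

variable {p : ℕ} [Fact p.Prime]

/-- A `p`-subgroup centralizing a normal `K ⊇ O^p` is trivial when `O_p = 1`. -/
theorem eq_bot_of_centralizes {X : Type*} [Group X] [Finite X] (hO : pCore p X = ⊥)
    (K : Subgroup X) [K.Normal] (hK : pResidual p X ≤ K) {A : Subgroup X} (hA : IsPGroup p A)
    (hAK : A ≤ Subgroup.centralizer (K : Set X)) : A = ⊥ := by
  obtain ⟨T, hT⟩ := hA.exists_le_sylow
  have hc : IsPClosed p ↥(Subgroup.centralizer (K : Set X)) :=
    isPClosed_of_commutator (Subgroup.centralizer (K : Set X)) K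
      (by rw [Subgroup.commutator_eq_bot_iff_le_centralizer.2 le_rfl]; exact bot_le) hK
  have h := (isPClosed_subgroup_iff T (Subgroup.centralizer (K : Set X))).1 hc
  rw [eq_bot_iff, ← hO]
  exact (le_inf hT hAK).trans h

/-- A normal subgroup inside a normal quasisimple subgroup is everything or commutes with it. -/
theorem eq_or_commutator_eq_bot {X : Type*} [Group X] {K A : Subgroup X} (hK : IsQuasisimple ↥K)
    (hAK : A ≤ K) [A.Normal] : A = K ∨ ⁅A, K⁆ = ⊥ := by
  rcases CfsgLib.Components.quasisimple_normal_eq_top_or_le_center hK (A.subgroupOf K) with h | h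
  · exact Or.inl (le_antisymm hAK (Subgroup.subgroupOf_eq_top.1 h))
  · refine Or.inr (Subgroup.commutator_eq_bot_iff_le_centralizer.2 fun a ha k hk => ?_)
    have := Subgroup.mem_center_iff.1 (h (show (⟨a, hAK ha⟩ : K) ∈ A.subgroupOf K from ha)) ⟨k, hk⟩
    exact congrArg Subtype.val this

theorem perfect_of_quasisimple {X : Type*} [Group X] {K : Subgroup X} (hK : IsQuasisimple ↥K) :
    ⁅K, K⁆ = K := K.isPerfect_iff.1 hK.1

/-- A perfect central extension of a quasisimple group is quasisimple. -/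
theorem quasisimple_of_central {X : Type*} [Group X] (hp : ⁅(⊤ : Subgroup X), (⊤ : Subgroup X)⁆ = (⊤ : Subgroup X))
    (Z : Subgroup X) [Z.Normal] (hZ : Z ≤ Subgroup.center X) (h : IsQuasisimple (X ⧸ Z)) :
    IsQuasisimple X := by
  have := CfsgLib.Components.quasisimple_nontrivial h
  haveI : Nontrivial X := (QuotientGroup.mk'_surjective Z).nontrivial
  refine CfsgLib.Components.isQuasisimple_of_normal_le_center ⟨hp⟩ fun N hN hNne => ?_
  set π := QuotientGroup.mk' Z
  haveI := Subgroup.Normal.map hN π (QuotientGroup.mk'_surjective Z)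
  rcases CfsgLib.Components.quasisimple_normal_eq_top_or_le_center h (N.map π) with h1 | h1
  · exfalso
    apply hNne
    have h2 : N ⊔ Z = ⊤ := by
      have := congrArg (Subgroup.comap π) h1
      rwa [Subgroup.comap_map_eq, Subgroup.comap_top, QuotientGroup.ker_mk'] at this
    rw [eq_top_iff, ← hp]
    refine Subgroup.commutator_le.2 fun x _ y _ => ?_
    obtain ⟨n, hn, z, hz, rfl⟩ := Subgroup.mem_sup_of_normal_right.1 (h2.ge (Subgroup.mem_top x))
    have hzc := Subgroup.mem_center_iff.1 (hZ hz)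
    have e : ⁅n * z, y⁆ = ⁅n, y⁆ := by
      calc ⁅n * z, y⁆ = n * (z * y) * z⁻¹ * n⁻¹ * y⁻¹ := by
            simp [commutatorElement_def, mul_assoc]
        _ = n * (y * z) * z⁻¹ * n⁻¹ * y⁻¹ := by rw [(hzc y).symm]
        _ = ⁅n, y⁆ := by simp [commutatorElement_def, mul_assoc]
    rw [e, commutatorElement_def, mul_assoc n y, mul_assoc]
    exact N.mul_mem hn (hN.conj_mem _ (N.inv_mem hn) y)
  · have h2 : ⁅⁅(⊤ : Subgroup X), N⁆, (⊤ : Subgroup X)⁆ = ⊥ := by
      refine Subgroup.commutator_eq_bot_iff_le_centralizer.2 ?_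
      refine le_trans ?_ (Subgroup.center_le_centralizer _)
      refine le_trans ?_ hZ
      refine Subgroup.commutator_le.2 fun x _ n hn => ?_
      rw [← QuotientGroup.eq_one_iff]
      show π ⁅x, n⁆ = 1
      rw [map_commutatorElement, commutatorElement_eq_one_iff_commute]
      exact Subgroup.mem_center_iff.1 (h1 ⟨n, hn, rfl⟩) (π x)
    have h3 := CfsgLib.Components.commutator_eq_bot_of_perfect hp h2
    intro n hn
    rw [Subgroup.mem_center_iff]
    intro x
    exact commutatorElement_eq_one_iff_commute.1 (Subgroup.mem_bot.1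
      (h3 ▸ Subgroup.commutator_mem_commutator (Subgroup.mem_top x) hn))

variable {G : Type*} [Group G] [Finite G]

/-- The statement. -/
theorem main (Q : Subgroup G) (hQp : IsPGroup p Q) (hQ1 : Q ≠ ⊥) (hQ : IsLarge Q) (U : Subgroup G)
    (hU : IsPGroup p U) (hU1 : U ≠ ⊥) (E : Subgroup G) (hQE : Q ≤ E)
    (hEU : E ≤ Subgroup.normalizer (U : Set G)) (hQn : ¬ E ≤ Subgroup.normalizer (Q : Set G))
    [hn : ((Subgroup.centralizer (U : Set G)).subgroupOf E).Normal]
    (hred : pCore p (↥E ⧸ (Subgroup.centralizer (U : Set G)).subgroupOf E) = ⊥)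
    (hqs : IsQuasisimple ↥((pResidual p ↥E ⊔ (Subgroup.centralizer (U : Set G)).subgroupOf E).map
      (QuotientGroup.mk' ((Subgroup.centralizer (U : Set G)).subgroupOf E))))
    (Er : Subgroup G) (hEr : Er = pr p (weakClosure Q E))
    [hn2 : ((Subgroup.centralizer (U : Set G)).subgroupOf Er).Normal] :
    pr p E ⊔ (E ⊓ Subgroup.centralizer (U : Set G)) =
        Er ⊔ (E ⊓ Subgroup.centralizer (U : Set G)) ∧
      ⁅Er, Er⁆ = Er ∧ pr p Er = Er ∧
      IsQuasisimple (↥Er ⧸ (Subgroup.centralizer (U : Set G)).subgroupOf Er) ∧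
      IsQuasisimple (↥Er ⧸ pCore p ↥Er) ∧
      ∀ Y : Subgroup G, Y ≤ E → IsPGroup p Y → ¬ Y ≤ Subgroup.centralizer (U : Set G) →
        ⁅Er, Y⁆ = Er := by
  set C := Subgroup.centralizer (U : Set G)
  set C' := C.subgroupOf E with hC'
  set W := weakClosure Q E with hW
  set π := QuotientGroup.mk' C' with hπ
  have hsurj : Function.Surjective π := QuotientGroup.mk'_surjective _
  set K := (pResidual p ↥E ⊔ C').map π with hKdef
  have hK : IsQuasisimple ↥K := hqs
  haveI hKn : K.Normal := by
    have := CfsgLib.Transfer.pResidual_normal (G := ↥E) (p := p)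
    exact Subgroup.Normal.map inferInstance π hsurj
  have hKres : pResidual p (↥E ⧸ C') ≤ K := by
    rw [← CfsgLib.Transfer.pResidual_map_of_surjective π hsurj]
    exact Subgroup.map_mono le_sup_left
  have hwc := isLarge_wc hQp hQ1 hQ
  have hCN : C ≤ Subgroup.normalizer (Q : Set G) :=
    isLarge_centralizer_le_normalizer hQ hQp hU hU1 (hQE.trans hEU)
  obtain ⟨hWQ, hErQ⟩ := weakClosure_residual (K := E) hQp hwc hQE
  rw [← hEr] at hWQ hErQ
  replace hWQ : Er ⊔ Q = W := hWQ
  have hWE : W ≤ E := weakClosure_le E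
  have hErW : Er ≤ W := hEr ▸ pr_le W
  have hErE : Er ≤ E := hErW.trans hWE
  have hEW : E ≤ Subgroup.normalizer (W : Set G) := le_normalizer_weakClosure
  have hEEr : E ≤ Subgroup.normalizer (Er : Set G) := hEr ▸ hEW.trans normalizer_le_normalizer_pr
  have hQW : Q ≤ W := conj_le_weakClosure hQE
  set im : Subgroup G → Subgroup (↥E ⧸ C') := fun A => (A.subgroupOf E).map π with him
  have him_mono : ∀ {A B : Subgroup G}, A ≤ B → im A ≤ im B := fun h =>
    Subgroup.map_mono (Subgroup.comap_mono h)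
  have himsup : ∀ {A B : Subgroup G}, A ≤ E → B ≤ E → im (A ⊔ B) = im A ⊔ im B := by
    intro A B hA hB
    simp only [him]
    rw [Subgroup.subgroupOf_sup hA hB, Subgroup.map_sup]
  have himbot : ∀ {A : Subgroup G}, A ≤ E → (im A = ⊥ ↔ A ≤ C) := by
    intro A hA
    simp only [him]
    rw [Subgroup.map_eq_bot_iff, hπ, QuotientGroup.ker_mk']
    exact ⟨fun h a ha => Subgroup.mem_subgroupOf.1 (h (show (⟨a, hA ha⟩ : ↥E) ∈ A.subgroupOf E from ha)),
      fun h x hx => h hx⟩
  have himcomm : ∀ {A B : Subgroup G}, A ≤ E → B ≤ E → ⁅im A, im B⁆ = im ⁅A, B⁆ := by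
    intro A B hA hB
    simp only [him]
    rw [← Subgroup.map_commutator, subgroupOf_commutator hA hB]
  have himn : ∀ {A : Subgroup G}, A ≤ E → E ≤ Subgroup.normalizer (A : Set G) → (im A).Normal :=
    fun hA hn => Subgroup.Normal.map ((Subgroup.normal_subgroupOf_iff_le_normalizer hA).2 hn) π hsurj
  have himp : ∀ {A : Subgroup G}, IsPGroup p A → IsPGroup p ↥(im A) := fun h => h.comap_subtype.map π
  -- elements of the residual go into `K`
  have himK : im Er ≤ K := by
    refine Subgroup.map_mono (le_trans ?_ le_sup_left)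
    intro x hx
    rw [Subgroup.mem_subgroupOf] at hx
    have : Er ≤ (pResidual p ↥E).map E.subtype := hEr ▸ pr_le_of fun g hg hc => mem_pr (hWE hg) hc
    obtain ⟨y, hy, hyx⟩ := this hx
    rwa [Subtype.ext hyx] at hy
  -- `Q` does not centralize `U`
  have hQC : ¬ Q ≤ C := by
    intro h
    apply hQn
    intro e he
    have hC'e : Q.map (MulAut.conj e).toMonoidHom ≤ E ⊓ C := by
      rintro _ ⟨q, hq, rfl⟩
      refine ⟨E.mul_mem (E.mul_mem he (hQE hq)) (E.inv_mem he), ?_⟩
      exact (Subgroup.mem_normalizer_iff.1 (normalizer_le_normalizer_centralizer _ (hEU he)) q).1 (h hq)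
    obtain ⟨c, hc, hce⟩ := wc_exists_conj hwc (le_inf hQE h) hC'e
    exact mem_normalizer_of_conj (hce.trans (conj_map_eq_of_mem_normalizer (hCN hc.2)))
  have himQ : im Q ≠ ⊥ := fun h => hQC ((himbot hQE).1 h)
  -- the image of `Er` is `K`
  have hmain : im Er = K := by
    haveI := himn hErE hEEr
    refine (eq_or_commutator_eq_bot hK himK).resolve_right fun hcomm => ?_
    haveI := himn hWE hEW
    have hKW : ⁅K, im W⁆ ≤ K ⊓ im W := by
      refine le_inf ?_ (Subgroup.commutator_le_right _ _)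
      exact Subgroup.commutator_le_left _ _
    rcases eq_or_commutator_eq_bot hK (inf_le_left : K ⊓ im W ≤ K) with h | h
    · -- then `K ≤ im Er`, as `im W = im Er ⊔ im Q` and `K` is generated by `p'`-elements modulo the centre
      have hW' : K ≤ im W := h.ge.trans inf_le_right
      rw [← hWQ, himsup hErE hQE] at hW'
      have hE' : K ≤ im Er := by
        set φ := QuotientGroup.mk' (im Er)
        have hp' : IsPGroup p ↥(K.map φ) := by
          refine (((himp hQp)).map φ).to_le ?_
          refine (Subgroup.map_mono hW').trans ?_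
          rw [Subgroup.map_sup, QuotientGroup.map_mk'_self, bot_sup_eq]
        have hperfK : ⁅K.map φ, K.map φ⁆ = K.map φ := by
          rw [← Subgroup.map_commutator, perfect_of_quasisimple hK]
        have hbot : K.map φ = ⊥ := by
          by_contra hne
          haveI := hp'.isNilpotent
          exact (CfsgLib.Base.commutator_self_lt_of_isSolvable hne
            IsNilpotent.to_isSolvable).ne hperfK
        rw [Subgroup.map_eq_bot_iff, QuotientGroup.ker_mk'] at hbot
        exact hbot
      rw [le_antisymm himK hE', perfect_of_quasisimple hK] at hcomm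
      exact (Subgroup.nontrivial_iff_ne_bot K).1 (CfsgLib.Components.quasisimple_nontrivial hK) hcomm
    · have h1 : ⁅⁅K, im W⁆, K⁆ = ⊥ :=
        le_bot_iff.1 ((Subgroup.commutator_mono hKW le_rfl).trans h.le)
      have h2 := CfsgLib.Components.commutator_eq_bot_of_perfect (perfect_of_quasisimple hK) h1
      rw [Subgroup.commutator_comm, Subgroup.commutator_eq_bot_iff_le_centralizer] at h2
      exact himQ (eq_bot_of_centralizes hred K hKres (himp hQp) ((him_mono hQW).trans h2))
  have hErC : Er ⊔ (E ⊓ C) = pr p E ⊔ (E ⊓ C) := by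
    refine le_antisymm (sup_le_sup_right (hEr ▸ pr_le_of fun g hg hc => mem_pr (hWE hg) hc) _) ?_
    refine sup_le ?_ le_sup_right
    refine pr_le_of fun g hg hc => ?_
    have hgK : π ⟨g, hg⟩ ∈ K := hKres (CfsgLib.Transfer.mem_pResidual_of_coprime
      (Nat.Coprime.coprime_dvd_left (orderOf_map_dvd π _) (by rwa [Subgroup.orderOf_mk])))
    rw [← hmain] at hgK
    obtain ⟨r, hr, hrg⟩ := hgK
    have h1 : (r : G)⁻¹ * g ∈ C := by
      have : π (r⁻¹ * ⟨g, hg⟩) = 1 := by rw [map_mul, map_inv, hrg, inv_mul_cancel]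
      exact Subgroup.mem_subgroupOf.1 ((QuotientGroup.eq_one_iff _).1 this)
    have h2 : g = (r : G) * ((r : G)⁻¹ * g) := by group
    rw [h2]
    exact mul_mem (Subgroup.mem_sup_left hr) (Subgroup.mem_sup_right ⟨E.mul_mem (E.inv_mem r.2) hg, h1⟩)
  -- the part inside `C`
  set C₀ := Er ⊓ C with hC₀
  set R := C₀ ⊓ Q with hR
  have hCQ : ∀ c ∈ C₀, ∀ q ∈ Q, ⁅c, q⁆ ∈ R := by
    intro c hc q hq
    rw [commutatorElement_def]
    refine ⟨⟨?_, ?_⟩, Q.mul_mem ((Subgroup.mem_normalizer_iff.1 (hCN hc.2) q).1 hq) (Q.inv_mem hq)⟩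
    · rw [mul_assoc c q, mul_assoc]
      exact Er.mul_mem hc.1
        ((Subgroup.mem_normalizer_iff.1 (hEEr (hQE hq)) _).1 (Er.inv_mem hc.1))
    · rw [mul_assoc c q, mul_assoc]
      exact C.mul_mem hc.2 ((Subgroup.mem_normalizer_iff.1
        (normalizer_le_normalizer_centralizer _ (hEU (hQE hq))) _).1 (C.inv_mem hc.2))
  have hdec : ∀ {D : Subgroup G}, D ≤ E → im Er ≤ im D → ∀ x ∈ Er, ∃ d ∈ D, ∃ c ∈ C, d * c = x := by
    intro D hD hle x hx
    obtain ⟨d, hd, hdx⟩ := hle ⟨⟨x, hErE hx⟩, hx, rfl⟩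
    refine ⟨d, hd, (d : G)⁻¹ * x, ?_, by group⟩
    have : π (d⁻¹ * ⟨x, hErE hx⟩) = 1 := by rw [map_mul, map_inv, hdx, inv_mul_cancel]
    exact Subgroup.mem_subgroupOf.1 ((QuotientGroup.eq_one_iff _).1 this)
  have hperf : ⁅Er, Er⁆ = Er := by
    set D := ⁅Er, Er⁆ with hD
    have hDEr : D ≤ Er := Subgroup.commutator_le_self Er
    have hQD : Q ≤ Subgroup.normalizer (D : Set G) := fun q hq =>
      Subgroup.mem_normalizer_iff_map_conj_eq.2 (by
        rw [hD, Subgroup.map_commutator,
          Subgroup.mem_normalizer_iff_map_conj_eq.1 (hEEr (hQE hq))])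
    have hErD : Er ≤ Subgroup.normalizer (D : Set G) := Subgroup.normalizer_commutator_ge_left Er Er
    have hle : im Er ≤ im D := by
      rw [← himcomm hErE hErE, hmain]
      exact (perfect_of_quasisimple hK).ge
    have h1 : Er ≤ D ⊔ R := by
      refine hErQ.ge.trans (Subgroup.commutator_le.2 fun x hx q hq => ?_)
      obtain ⟨d, hd, c, hc, rfl⟩ := hdec (hDEr.trans hErE) hle x hx
      have hcEr : c ∈ Er := by
        have := Er.mul_mem (Er.inv_mem (hDEr hd)) hx
        rwa [inv_mul_cancel_left] at this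
      have e : ⁅d * c, q⁆ = (d * ⁅c, q⁆ * d⁻¹) * ⁅d, q⁆ := by
        simp [commutatorElement_def, mul_assoc]
      rw [e]
      refine mul_mem (mul_mem (mul_mem (Subgroup.mem_sup_left hd)
        (Subgroup.mem_sup_right (hCQ c ⟨hcEr, hc⟩ q hq))) (inv_mem (Subgroup.mem_sup_left hd)))
        (Subgroup.mem_sup_left ?_)
      rw [commutatorElement_def, mul_assoc d q, mul_assoc]
      exact D.mul_mem hd ((Subgroup.mem_normalizer_iff.1 (hQD hq) _).1 (D.inv_mem hd))
    refine le_antisymm hDEr ?_
    nth_rw 1 [hEr]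
    exact pr_le_of fun g hg hc => mem_left_of_coprime (hQp.to_le inf_le_right)
      ((inf_le_right : R ≤ Q).trans hQD) (h1 (hEr ▸ mem_pr hg hc)) hc
  have hres : pr p Er = Er := by
    refine le_antisymm (pr_le Er) ?_
    nth_rw 1 [hEr]
    exact pr_le_of fun g hg hc => mem_pr (hEr ▸ mem_pr hg hc) hc
  -- quotient by `C`
  have hq1 : IsQuasisimple (↥Er ⧸ C.subgroupOf Er) := by
    let f : ↥Er →* ↥K := (π.comp (Subgroup.inclusion hErE)).codRestrict K fun x =>
      hmain.le ⟨Subgroup.inclusion hErE x, x.2, rfl⟩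
    have hf : Function.Surjective f := by
      rintro ⟨k, hk⟩
      obtain ⟨x, hx, rfl⟩ := hmain.ge hk
      exact ⟨⟨x, hx⟩, rfl⟩
    have hker : f.ker = C.subgroupOf Er := by
      ext x
      rw [MonoidHom.mem_ker, Subtype.ext_iff]
      show π (Subgroup.inclusion hErE x) = 1 ↔ _
      rw [hπ, QuotientGroup.mk'_apply, QuotientGroup.eq_one_iff]
      rfl
    exact CfsgLib.Components.isQuasisimple_of_mulEquiv
      ((QuotientGroup.quotientMulEquivOfEq hker.symm).trans
        (QuotientGroup.quotientKerEquivOfSurjective f hf)).symm hK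
  -- `C₀` is central modulo `O_p(Er)`
  set P := pCoreOf p Er with hP
  have hWn : W ≤ Subgroup.normalizer (Er : Set G) := hWE.trans hEEr
  have hC₀n : W ≤ Subgroup.normalizer (C₀ : Set G) :=
    (le_inf hWn (hWE.trans (hEU.trans (normalizer_le_normalizer_centralizer _)))).trans
      Subgroup.inf_normalizer_le_normalizer_inf
  have hRP : R ≤ P := by
    have hsn : (R.subgroupOf Er).IsSubnormal := by
      refine Subgroup.IsSubnormal.step _ (C₀.subgroupOf Er) (Subgroup.comap_mono inf_le_left)
        (Subgroup.Normal.isSubnormal ((Subgroup.normal_subgroupOf_iff_le_normalizer inf_le_left).2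
          (hErW.trans hC₀n))) ?_
      refine (Subgroup.normal_subgroupOf_iff_le_normalizer (Subgroup.comap_mono inf_le_left)).2 ?_
      intro c hc
      have hc' : (c : G) ∈ C₀ := hc
      refine WeakClosureFactor.mem_normalizer_of_mapsTo fun x hx => ?_
      have hx' : (x : G) ∈ R := hx
      show (c : G) * x * (c : G)⁻¹ ∈ R
      exact ⟨C₀.mul_mem (C₀.mul_mem hc' hx'.1) (C₀.inv_mem hc'),
        (Subgroup.mem_normalizer_iff.1 (hCN hc'.2) _).1 hx'.2⟩
    intro x hx
    exact ⟨⟨x, hx.1.1⟩, CfsgLib.Base.le_pCore_of_isSubnormal hsn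
      (hQp.to_le inf_le_right).comap_subtype hx, rfl⟩
  have hPW : W ≤ Subgroup.normalizer (P : Set G) := fun w hw => mem_normalizer_pCoreOf (hWn hw)
  have hcentral : ∀ c ∈ C₀, ∀ x ∈ Er, ⁅c, x⁆ ∈ P := by
    -- the set of elements of `W` centralizing `C₀` modulo `P`
    let S : Subgroup G :=
      { carrier := {x | x ∈ W ∧ ∀ c ∈ C₀, c * x * c⁻¹ * x⁻¹ ∈ P}
        one_mem' := ⟨one_mem _, fun c _ => by simp⟩
        mul_mem' := fun {a b} ha hb => ⟨mul_mem ha.1 hb.1, fun c hc => by
          have e : c * (a * b) * c⁻¹ * (a * b)⁻¹ =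
              (c * a * c⁻¹ * a⁻¹) * (a * (c * b * c⁻¹ * b⁻¹) * a⁻¹) := by group
          rw [e]
          exact P.mul_mem (ha.2 c hc)
            ((Subgroup.mem_normalizer_iff.1 (hPW ha.1) _).1 (hb.2 c hc))⟩
        inv_mem' := fun {a} ha => ⟨inv_mem ha.1, fun c hc => by
          have e : c * a⁻¹ * c⁻¹ * a⁻¹⁻¹ = a⁻¹ * (c * a * c⁻¹ * a⁻¹)⁻¹ * a⁻¹⁻¹ := by group
          rw [e]
          exact (Subgroup.mem_normalizer_iff.1 (hPW (inv_mem ha.1)) _).1 (P.inv_mem (ha.2 c hc))⟩ }
    have hQS : Q ≤ S := fun q hq => ⟨hQW hq, fun c hc => hRP (hCQ c hc q hq)⟩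
    haveI : (S.subgroupOf W).Normal := by
      refine (Subgroup.normal_subgroupOf_iff_le_normalizer (show S ≤ W from fun x hx => hx.1)).2 fun w hw => ?_
      refine WeakClosureFactor.mem_normalizer_of_mapsTo fun x hx => ⟨mul_mem (mul_mem hw hx.1) (inv_mem hw),
        fun c hc => ?_⟩
      have hc' : w⁻¹ * c * w ∈ C₀ := by
        have := (Subgroup.mem_normalizer_iff.1 (hC₀n (inv_mem hw)) c).1 hc
        rwa [inv_inv] at this
      have e : c * (w * x * w⁻¹) * c⁻¹ * (w * x * w⁻¹)⁻¹ =
          w * ((w⁻¹ * c * w) * x * (w⁻¹ * c * w)⁻¹ * x⁻¹) * w⁻¹ := by group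
      rw [e]
      exact (Subgroup.mem_normalizer_iff.1 (hPW hw) _).1 (hx.2 _ hc')
    have h5 : Subgroup.normalClosure ((Q.subgroupOf W : Subgroup ↥W) : Set ↥W) ≤ S.subgroupOf W :=
      Subgroup.normalClosure_le_normal fun x hx => hQS hx
    rw [normalClosure_weakClosure hwc hQE] at h5
    intro c hc x hx
    exact (h5 (Subgroup.mem_top (⟨x, hErW hx⟩ : ↥W))).2 c hc
  have hq2 : IsQuasisimple (↥Er ⧸ pCore p ↥Er) := by
    have hPC : pCore p ↥Er ≤ C.subgroupOf Er := by
      haveI := hn2
      have h := (CfsgLib.Base.isPGroup_pCore p ↥Er).map (QuotientGroup.mk' (C.subgroupOf Er))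
      haveI := Subgroup.Normal.map (H := pCore p ↥Er) inferInstance _
        (QuotientGroup.mk'_surjective (C.subgroupOf Er))
      rcases CfsgLib.Components.quasisimple_normal_eq_top_or_le_center hq1
          ((pCore p ↥Er).map (QuotientGroup.mk' (C.subgroupOf Er))) with h' | h'
      · exfalso
        rw [h'] at h
        exact CfsgLib.Components.quasisimple_not_isNilpotent hq1
          (h.of_equiv Subgroup.topEquiv).isNilpotent
      · -- a central `p`-subgroup of the quotient
        intro x hx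
        have hxE : (⟨(x : G), hErE x.2⟩ : ↥E) ∈ P.subgroupOf E := ⟨x, hx, rfl⟩
        have hA : im P = ⊥ := by
          refine eq_bot_of_centralizes hred K hKres (himp (isPGroup_pCoreOf Er)) ?_
          rw [← hmain, ← Subgroup.commutator_eq_bot_iff_le_centralizer,
            himcomm ((pCoreOf_le p Er).trans hErE) hErE]
          refine (himbot ?_).2 ?_
          · exact (Subgroup.commutator_mono (pCoreOf_le p Er) le_rfl).trans
              ((Subgroup.commutator_le_self Er).trans hErE)
          · rw [Subgroup.commutator_le]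
            rintro _ ⟨y, hy, rfl⟩ z hz
            have := Subgroup.mem_center_iff.1 (h' ⟨y, hy, rfl⟩)
              (QuotientGroup.mk' (C.subgroupOf Er) ⟨z, hz⟩)
            have h6 : ⁅y, (⟨z, hz⟩ : ↥Er)⁆ ∈ C.subgroupOf Er := by
              rw [← QuotientGroup.eq_one_iff]
              show QuotientGroup.mk' (C.subgroupOf Er) _ = 1
              rw [map_commutatorElement, commutatorElement_eq_one_iff_commute]
              exact this.symm
            exact h6
        exact ((himbot ((pCoreOf_le p Er).trans hErE)).1 hA) ⟨x, hx, rfl⟩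
    set Z := (C.subgroupOf Er).map (QuotientGroup.mk' (pCore p ↥Er)) with hZ
    haveI : Z.Normal := Subgroup.Normal.map hn2 _ (QuotientGroup.mk'_surjective _)
    refine quasisimple_of_central ?_ Z ?_ ?_
    · rw [← Subgroup.map_top_of_surjective _ (QuotientGroup.mk'_surjective (pCore p ↥Er)),
        ← Subgroup.map_commutator]
      congr 1
      apply Subgroup.map_injective Er.subtype_injective
      rw [Subgroup.map_commutator, ← MonoidHom.range_eq_map, Subgroup.range_subtype, hperf]
    · rintro _ ⟨c, hc, rfl⟩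
      rw [Subgroup.mem_center_iff]
      intro q
      obtain ⟨x, rfl⟩ := QuotientGroup.mk'_surjective (pCore p ↥Er) q
      refine (commutatorElement_eq_one_iff_commute.1 ?_).symm
      rw [← map_commutatorElement, QuotientGroup.mk'_apply, QuotientGroup.eq_one_iff]
      obtain ⟨y, hy, hyx⟩ := hcentral c ⟨c.2, hc⟩ x x.2
      rwa [Subtype.ext (show (y : G) = ((⁅c, x⁆ : ↥Er) : G) from hyx)] at hy
    · exact CfsgLib.Components.isQuasisimple_of_mulEquiv
        (QuotientGroup.quotientQuotientEquivQuotient _ _ hPC).symm hq1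
  refine ⟨hErC.symm, hperf, hres, hq1, hq2, fun Y hYE hYp hYC => ?_⟩
  set D := ⁅Er, Y⁆ with hD
  have hDEr : D ≤ Er := commutator_le_of_normalizes (hYE.trans hEEr)
  have hErD : Er ≤ Subgroup.normalizer (D : Set G) := Subgroup.normalizer_commutator_ge_left Er Y
  have hDn : (D.subgroupOf Er).Normal := (Subgroup.normal_subgroupOf_iff_le_normalizer hDEr).2 hErD
  have hle : im Er ≤ im D := by
    haveI : ((im D).subgroupOf K).Normal := by
      refine (Subgroup.normal_subgroupOf_iff_le_normalizer (hmain ▸ him_mono hDEr)).2 ?_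
      rw [← himcomm hErE hYE, hmain]
      exact Subgroup.normalizer_commutator_ge_left K (im Y)
    rcases CfsgLib.Components.quasisimple_normal_eq_top_or_le_center hK ((im D).subgroupOf K)
      with h | h
    · rw [hmain]; exact Subgroup.subgroupOf_eq_top.1 h
    · exfalso
      apply hYC
      rw [← himbot hYE]
      refine eq_bot_of_centralizes hred K hKres (himp hYp) ?_
      rw [← Subgroup.commutator_eq_bot_iff_le_centralizer, Subgroup.commutator_comm]
      refine CfsgLib.Components.commutator_eq_bot_of_perfect (perfect_of_quasisimple hK) ?_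
      rw [← hmain, himcomm hErE hYE, ← hD, hmain, Subgroup.commutator_eq_bot_iff_le_centralizer]
      intro a ha k hk
      have := Subgroup.mem_center_iff.1
        (h (show (⟨a, hmain ▸ him_mono hDEr ha⟩ : ↥K) ∈ (im D).subgroupOf K from ha)) ⟨k, hk⟩
      exact congrArg Subtype.val this
  have hcen : ∀ c ∈ C₀, ∀ x ∈ Er, ⁅c, x⁆ ∈ D ⊔ P := fun c hc x hx =>
    Subgroup.mem_sup_right (hcentral c hc x hx)
  have h1 : Er ≤ D ⊔ P := by
    refine hperf.ge.trans (Subgroup.commutator_le.2 fun x hx y hy => ?_)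
    obtain ⟨d, hd, c, hc, rfl⟩ := hdec (hDEr.trans hErE) hle x hx
    have hcEr : c ∈ Er := by
      have := Er.mul_mem (Er.inv_mem (hDEr hd)) hx
      rwa [inv_mul_cancel_left] at this
    have e : ⁅d * c, y⁆ = (d * ⁅c, y⁆ * d⁻¹) * ⁅d, y⁆ := by simp [commutatorElement_def, mul_assoc]
    rw [e]
    refine mul_mem (mul_mem (mul_mem (Subgroup.mem_sup_left hd) (hcen c ⟨hcEr, hc⟩ y hy))
      (inv_mem (Subgroup.mem_sup_left hd))) (Subgroup.mem_sup_left ?_)
    rw [commutatorElement_def, mul_assoc d y, mul_assoc]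
    exact D.mul_mem hd ((Subgroup.mem_normalizer_iff.1 (hErD hy) _).1 (D.inv_mem hd))
  refine le_antisymm hDEr ?_
  nth_rw 1 [hEr]
  exact pr_le_of fun g hg hc => mem_left_of_coprime (isPGroup_pCoreOf Er)
    ((pCoreOf_le p Er).trans hErD) (h1 (hEr ▸ mem_pr hg hc)) hc

end CfsgLib.LocalEven.QuasisimpleResidual
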