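import Cfsg.Agent.Lib.LocalEven.RankOneOuter
import Cfsg.Agent.Lib.Classical.PSLSimple
import Cfsg.Agent.Lib.Classical.UnitarySimple
import Cfsg.Agent.Lib.MinIdx.U3.Trans

/-!
`SL₂` and `SU₃` in characteristic `p ≥ 5` satisfy `RankOneOuter.Data`.
-/

set_option autoImplicit false

namespace CfsgLib.LocalEven.RankOneOuter

open Matrix CfsgLib.Classical CfsgLib.Classical.Unitary CfsgLib.MinIdx.Un CfsgLib.MinIdx.U3
open scoped MatrixGroups

variable {p : ℕ} [hp : Fact p.Prime]

theorem field_eq_one {F : Type*} [Field F] [CharP F p] {x : F} {k : ℕ} (hx : x ^ p ^ k = 1) :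
    x = 1 := by
  have h1 : (x - 1) ^ p ^ k = 0 := by rw [sub_pow_char_pow, hx, one_pow, sub_self]
  exact sub_eq_zero.1 (pow_eq_zero_iff (pow_ne_zero _ hp.out.ne_zero) |>.1 h1)

theorem natCast_ne_zero {F : Type*} [Field F] [CharP F p] {n : ℕ} (hn : 0 < n) (h : n < p) :
    (n : F) ≠ 0 := fun h0 =>
  absurd ((CharP.cast_eq_zero_iff F p n).1 h0) fun hd => absurd (Nat.le_of_dvd hn hd) (by omega)

section SL

variable {F : Type*} [Field F]

/-- The upper unipotent subgroup. -/
def upper (F : Type*) [Field F] : Subgroup SL(2, F) where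
  carrier := {A | A.1 0 0 = 1 ∧ A.1 1 0 = 0 ∧ A.1 1 1 = 1}
  one_mem' := by simp
  mul_mem' := by
    rintro A B ⟨a1, a2, a3⟩ ⟨b1, b2, b3⟩
    simp [Matrix.mul_apply, Fin.sum_univ_two, a1, a2, a3, b1, b2, b3]
  inv_mem' := by
    rintro A ⟨a1, a2, a3⟩
    simp [Matrix.SpecialLinearGroup.coe_inv, Matrix.adjugate_fin_two, a1, a2, a3]

/-- The element `(1 t; 0 1)`. -/
def upt (t : F) : SL(2, F) := ⟨!![1, t; 0, 1], by simp [Matrix.det_fin_two_of]⟩

theorem upt_coe (t : F) : (upt t).1 = !![1, t; 0, 1] := rfl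

theorem upt_mem (t : F) : upt t ∈ upper F := ⟨by simp [upt_coe], by simp [upt_coe], by simp [upt_coe]⟩

theorem eq_upt {A : SL(2, F)} (h : A ∈ upper F) : A = upt (A.1 0 1) := by
  obtain ⟨a1, a2, a3⟩ := h
  refine Subtype.ext ?_
  ext i j
  fin_cases i <;> fin_cases j <;> simp [upt, a1, a2, a3]

theorem upt_mul (s t : F) : upt s * upt t = upt (s + t) := by
  refine Subtype.ext ?_
  simp only [Matrix.SpecialLinearGroup.coe_mul, upt_coe]
  ext i j
  fin_cases i <;> fin_cases j <;> simp [Matrix.mul_apply, Fin.sum_univ_two] <;> ring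

theorem upt_pow (t : F) : ∀ n : ℕ, upt t ^ n = upt ((n : F) * t)
  | 0 => Subtype.ext (by
      rw [pow_zero, upt_coe, Matrix.SpecialLinearGroup.coe_one]
      ext i j; fin_cases i <;> fin_cases j <;> simp)
  | n + 1 => by rw [pow_succ, upt_pow t n, upt_mul, Nat.cast_add_one, add_mul, one_mul]

theorem conj_upt (A : SL(2, F)) (t : F) : (A * upt t * A⁻¹).1 1 0 = -(A.1 1 0) ^ 2 * t ∧
    (A⁻¹ * upt t * A).1 1 0 = -(A.1 1 0) ^ 2 * t := by
  constructor <;>
    (simp only [Matrix.SpecialLinearGroup.coe_mul, Matrix.SpecialLinearGroup.coe_inv, upt_coe,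
      Matrix.adjugate_fin_two]
     simp [Matrix.mul_apply, Fin.sum_univ_two]
     ring)

theorem mem_normalizer_upper [Finite F] (A : SL(2, F)) :
    A ∈ Subgroup.normalizer (upper F : Set SL(2, F)) ↔ A.1 1 0 = 0 := by
  constructor
  · intro h
    have h1 := ((Subgroup.mem_normalizer_iff.1 h _).1 (upt_mem (1 : F))).2.1
    rw [(conj_upt A 1).1] at h1
    simpa using h1
  · intro h
    refine Subgroup.mem_normalizer_fintype fun u hu => ?_
    rw [SetLike.mem_coe] at hu ⊢
    rw [eq_upt hu]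
    have hd : A.1 0 0 * A.1 1 1 = 1 := by
      have := A.2
      rw [Matrix.det_fin_two, h] at this
      linear_combination this
    refine ⟨?_, ?_, ?_⟩ <;>
      simp only [Matrix.SpecialLinearGroup.coe_mul, Matrix.SpecialLinearGroup.coe_inv, upt_coe,
        Matrix.adjugate_fin_two] <;>
      simp [Matrix.mul_apply, Fin.sum_univ_two, h] <;> linear_combination hd

/-- The element `(a 0; 0 a⁻¹)`. -/
def dia (a : F) (ha : a ≠ 0) : SL(2, F) :=
  ⟨!![a, 0; 0, a⁻¹], by simp [Matrix.det_fin_two_of, ha]⟩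

theorem dia_coe (a : F) (ha : a ≠ 0) : (dia a ha).1 = !![a, 0; 0, a⁻¹] := rfl

/-- The element `(0 1; -1 0)`. -/
def wey : SL(2, F) := ⟨!![0, 1; -1, 0], by simp [Matrix.det_fin_two_of]⟩

theorem wey_coe : (wey (F := F)).1 = !![0, 1; -1, 0] := rfl

variable [Finite F] [CharP F p]

theorem data_SL (h5 : 5 ≤ p) : Data p SL(2, F) (upper F) := by
  have hF4 : 4 ≤ Nat.card F := by
    have h1 := Nat.card_le_card_of_injective (fun n : Fin p => ((n : ℕ) : F)) fun a b h =>
      Fin.ext ((CharP.natCast_injOn_Iio F p) a.2 b.2 h)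
    rw [Nat.card_fin] at h1
    omega
  have hperf := SL_fin_commutator_eq_top (F := F) 2 le_rfl fun _ => hF4
  have hp2 : (2 : F) ≠ 0 := by simpa using natCast_ne_zero (F := F) (p := p) two_pos (by omega)
  have hab : ∀ u ∈ upper F, ∀ v ∈ upper F, u * v = v * u := fun u hu v hv => by
    rw [eq_upt hu, eq_upt hv, upt_mul, upt_mul, add_comm]
  constructor
  · rintro ⟨u, hu⟩
    refine ⟨1, Subtype.ext ?_⟩
    rw [SubgroupClass.coe_pow]
    show u ^ p ^ 1 = 1
    rw [eq_upt hu, pow_one, upt_pow, CharP.cast_eq_zero, zero_mul]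
    exact Subtype.ext (by
      rw [upt_coe, Matrix.SpecialLinearGroup.coe_one]
      ext i j; fin_cases i <;> fin_cases j <;> simp)
  · intro y hy
    rintro ⟨k, hk⟩
    rw [mem_normalizer_upper] at hy
    have hd : y.1 0 0 * y.1 1 1 = 1 := by
      have := y.2
      rw [Matrix.det_fin_two, hy] at this
      linear_combination this
    have h1 : ∀ n : ℕ, (y ^ n).1 0 0 = y.1 0 0 ^ n ∧ (y ^ n).1 1 0 = 0 := by
      intro n
      induction n with
      | zero => simp
      | succ n ih =>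
        rw [pow_succ, pow_succ, Matrix.SpecialLinearGroup.coe_mul]
        constructor <;>
          simp only [Matrix.mul_apply, Fin.sum_univ_two, ih.1, ih.2, hy, mul_zero, zero_mul, add_zero]
    have h00 := (h1 (p ^ k)).1
    rw [hk] at h00
    have h00' : y.1 0 0 = 1 := field_eq_one (by simpa using h00.symm)
    exact ⟨h00', hy, by simpa [h00'] using hd⟩
  · intro u hu v hv w _
    have h1 : u * v * u⁻¹ * v⁻¹ = 1 :=
      commutatorElement_eq_one_iff_mul_comm.2 (hab u hu v hv)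
    rw [h1, one_mul, mul_one]
  · have hd : dia (2 : F) hp2 ∈ Subgroup.normalizer (upper F : Set SL(2, F)) :=
      (mem_normalizer_upper _).2 (by rw [dia_coe]; simp)
    refine ⟨dia 2 hp2, hd, fun u hu v hv => hab _ ?_ _ hv, ?_⟩
    · exact mul_mem ((Subgroup.mem_normalizer_iff.1 hd u).1 hu) (inv_mem (pow_mem hu 2))
    · intro u hu _
      rw [eq_upt hu, upt_pow]
      refine Subtype.ext ?_
      simp only [Matrix.SpecialLinearGroup.coe_mul, Matrix.SpecialLinearGroup.coe_inv, upt_coe,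
        dia_coe, Matrix.adjugate_fin_two]
      ext i j
      fin_cases i <;> fin_cases j <;> simp [Matrix.mul_apply, Fin.sum_univ_two, hp2] <;>
        field_simp <;> ring
  · exact ⟨wey, by rw [mem_normalizer_upper, wey_coe]; simp⟩
  · intro a b ha hb
    rw [mem_normalizer_upper] at ha hb
    refine ⟨upt ((b.1 0 0 * a.1 1 0 - b.1 1 0 * a.1 0 0) / (b.1 1 0 * a.1 1 0)), upt_mem _, ?_⟩
    rw [mem_normalizer_upper]
    simp only [Matrix.SpecialLinearGroup.coe_mul, Matrix.SpecialLinearGroup.coe_inv, upt_coe,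
      Matrix.adjugate_fin_two]
    simp [Matrix.mul_apply, Fin.sum_univ_two]
    field_simp
    ring
  · intro a ha e he h
    rw [mem_normalizer_upper] at ha
    rw [eq_upt he] at h ⊢
    have h1 := h.2.1
    rw [(conj_upt a _).2] at h1
    have h2 : e.1 0 1 = 0 := by simpa [ha] using h1
    rw [h2]
    exact Subtype.ext (by
      rw [upt_coe, Matrix.SpecialLinearGroup.coe_one]
      ext i j; fin_cases i <;> fin_cases j <;> simp)
  · exact hperf
  · intro K hK hne
    exact (normal_SL_le_center_or_eq_top hperf K).resolve_right hne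
  · intro c hc hcp
    obtain ⟨r, -, hr⟩ := Matrix.SpecialLinearGroup.mem_center_iff.1 hc
    have h1 := congrArg (fun A : SL(2, F) => A.1 0 0) hcp
    simp only [Matrix.SpecialLinearGroup.coe_pow, ← hr, Matrix.SpecialLinearGroup.coe_one,
      Matrix.scalar_apply, Matrix.diagonal_pow, Matrix.diagonal_apply_eq, Pi.pow_apply,
      Matrix.one_apply_eq] at h1
    have hr1 : r = 1 := field_eq_one (k := 1) (p := p) (by rw [pow_one]; exact h1)
    exact Subtype.ext (by rw [← hr, hr1, map_one, Matrix.SpecialLinearGroup.coe_one])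

end SL

section SU

variable {F : Type*} [Field F] {σ : F →+* F} {q : ℕ}

theorem data_SU [Finite F] [CharP F p] (hF : Nat.card F = q ^ 2) (hq : 3 ≤ q) (h5 : 5 ≤ p) :
    ∃ U : Subgroup (Cfsg.SU 3 F q), Data p (Cfsg.SU 3 F q) U := by
  obtain ⟨σ, h⟩ := exists_uFrob hF
  obtain ⟨x, hx0, hxx⟩ := MinIdx.Un.exists_iso_vector (m := 3) h (by norm_num)
  obtain ⟨y, P, s⟩ := exists_split (m := 1) h hx0 hxx
  obtain ⟨θ, hθ⟩ := exists_trace h
  obtain ⟨k₀, hk0, hks⟩ := exists_skew h
  let U : Subgroup (Cfsg.SU 3 F q) :=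
    { carrier := {g | g.1.1 *ᵥ x = x}
      one_mem' := su_one_mulVec x
      mul_mem' := fun {a b} ha hb => by
        simp only [Set.mem_setOf_eq] at *
        rw [su_mul_mulVec, hb, ha]
      inv_mem' := fun {a} ha => by
        simp only [Set.mem_setOf_eq] at *
        conv_lhs => rw [← ha]
        rw [su_inv_mulVec] }
  have hU : ∀ {g}, g ∈ U ↔ g.1.1 *ᵥ x = x := Iff.rfl
  have hue : ∀ {a c : F}, Ok σ x (a • uv P) c → ue h x (a • uv P) c ∈ U := fun he =>
    hU.2 (ue_x h s he)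
  have hform : ∀ g ∈ U, ∃ a c : F, Ok σ x (a • uv P) c ∧ g = ue h x (a • uv P) c := fun g hg =>
    fix_x h s hg
  have hok : ∀ b : F, Ok σ x (b • uv P) (-(θ * (b * σ b))) := fun b => (ok_iff h s).2 (by
    rw [map_neg, map_mul, map_mul, h.invol]
    linear_combination (-(b * σ b)) * hθ)
  have hmul : ∀ a b c d : F, Ok σ x (a • uv P) c → Ok σ x (b • uv P) d →
      Ok σ x ((a + b) • uv P) (c + d - b * σ a) ∧
      ue h x (a • uv P) c * ue h x (b • uv P) d = ue h x ((a + b) • uv P) (c + d - b * σ a) := by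
    intro a b c d h1 h2
    have e : uh σ (b • uv P) (a • uv P) = b * σ a := by
      rw [uh_smul_left, uh_smul_right, uv_self h s, mul_one]
    have := h1.add h h2
    have h3 := h1.mul h h2
    rw [e, ← add_smul] at this h3
    exact ⟨this, h3⟩
  -- same `w` coordinate: equal up to a central element
  have hcen : ∀ a c c' : F, Ok σ x (a • uv P) c → Ok σ x (a • uv P) c' → ∀ v ∈ U,
      ue h x (a • uv P) c * (ue h x (a • uv P) c')⁻¹ * v =
        v * (ue h x (a • uv P) c * (ue h x (a • uv P) c')⁻¹) := by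
    intro a c c' h1 h2 v hv
    obtain ⟨b, d, h3, rfl⟩ := hform v hv
    have hskw : Ok σ x ((0 : F) • uv P) (c - c') := (ok_iff h s).2 (by
      have e1 := (ok_iff h s).1 h1
      have e2 := (ok_iff h s).1 h2
      rw [map_sub, map_zero, mul_zero, add_zero]
      linear_combination e1 - e2)
    have e : ue h x (a • uv P) c * (ue h x (a • uv P) c')⁻¹ = ue h x ((0 : F) • uv P) (c - c') := by
      rw [mul_inv_eq_iff_eq_mul, (hmul _ _ _ _ hskw h2).2]
      simp
    rw [e, (hmul _ _ _ _ hskw h3).2, (hmul _ _ _ _ h3 hskw).2]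
    simp [add_comm]
  have hpow : ∀ a c : F, Ok σ x (a • uv P) c → ∀ n : ℕ, ∃ d,
      Ok σ x (((n : F) * a) • uv P) d ∧ (ue h x (a • uv P) c) ^ n = ue h x (((n : F) * a) • uv P) d ∧
        (a = 0 → d = (n : F) * c) := fun a c h1 n => ue_pow h s h1 n
  have hzero : ∀ a c : F, Ok σ x (a • uv P) c →
      (∀ v ∈ U, ue h x (a • uv P) c * v = v * ue h x (a • uv P) c) → a = 0 := by
    intro a c h1 hc
    have key : ∀ b : F, b * σ a = a * σ b := by
      intro b
      have h2 := hc _ (hue (hok b))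
      rw [(hmul _ _ _ _ h1 (hok b)).2, (hmul _ _ _ _ (hok b) h1).2] at h2
      have := (ue_inj h s (hmul _ _ _ _ h1 (hok b)).1 (hmul _ _ _ _ (hok b) h1).1 h2).2
      linear_combination -this
    have e1 := key 1
    rw [map_one, one_mul, mul_one] at e1
    have e2 := key k₀
    rw [e1, show σ k₀ = -k₀ by linear_combination hks] at e2
    have h20 : (2 : F) ≠ 0 := by simpa using natCast_ne_zero (F := F) (p := p) two_pos (by omega)
    have : (2 * k₀) * a = 0 := by linear_combination e2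
    exact (mul_eq_zero.1 this).resolve_left (mul_ne_zero h20 hk0)
  have hone : ∀ g ∈ U, ∀ z : Fin 3 → F, z ≠ 0 → uh σ z z = 0 → (∀ r : F, z ≠ r • x) →
      (∃ lam : F, g.1.1 *ᵥ z = lam • z) → g = 1 := by
    rintro g hg z hz0 hzz hne ⟨lam, hl⟩
    obtain ⟨a, c, h1, rfl⟩ := hform g hg
    exact ue_only_fix h s h1 hz0 hzz hne hl
  have hN : ∀ g, g ∈ Subgroup.normalizer (U : Set (Cfsg.SU 3 F q)) ↔
      ∃ r : F, g.1.1 *ᵥ x = r • x := by
    intro g
    constructor
    · intro hg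
      by_contra hne
      have hu := hue ((ok_iff h s).2 (show k₀ + σ k₀ + (0 : F) * σ 0 = 0 by simpa using hks))
      have h1 := (Subgroup.mem_normalizer_iff''.1 hg _).1 hu
      have h2 : ue h x ((0 : F) • uv P) k₀ = 1 := by
        refine hone _ hu (g.1.1 *ᵥ x) ?_ (by rw [su_uh h, hxx]) (fun r hr => hne ⟨r, hr⟩) ⟨1, ?_⟩
        · intro h0
          exact hne ⟨0, by rw [h0, zero_smul]⟩
        · have h3 := hU.1 h1
          rw [su_mul_mulVec, su_mul_mulVec] at h3
          rw [one_smul]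
          conv_rhs => rw [← h3]
          rw [su_mulVec_inv]
      have h4 : ue h x ((0 : F) • uv P) (0 : F) = 1 := by rw [zero_smul, ue_one]
      exact hk0 (ue_inj h s ((ok_iff h s).2 (by simpa using hks))
        ((ok_iff h s).2 (by simp)) (h2.trans h4.symm)).2
    · rintro ⟨r, hr⟩
      refine Subgroup.mem_normalizer_fintype fun u hu => hU.2 ?_
      have hr0 : r ≠ 0 := fun h0 => hx0 (by rw [← su_inv_mulVec g x, hr, h0, zero_smul, mulVec_zero])
      have h1 : (g⁻¹).1.1 *ᵥ x = r⁻¹ • x := by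
        rw [eq_inv_smul_iff₀ hr0, ← mulVec_smul, ← hr, su_inv_mulVec]
      rw [su_mul_mulVec, su_mul_mulVec, h1, mulVec_smul, hU.1 hu, mulVec_smul, hr,
        inv_smul_smul₀ hr0]
  refine ⟨U, ?_⟩
  constructor
  · rintro ⟨g, hg⟩
    refine ⟨2, Subtype.ext ?_⟩
    obtain ⟨a, c, h1, rfl⟩ := hform g hg
    exact ue_pow_char h s h1 (CharP.cast_eq_zero F p)
  · rintro g hg ⟨k, hk⟩
    obtain ⟨r, hr⟩ := (hN g).1 hg
    have h1 : ∀ n : ℕ, (g ^ n).1.1 *ᵥ x = r ^ n • x := by
      intro n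
      induction n with
      | zero => simp [su_one_mulVec]
      | succ n ih => rw [pow_succ, su_mul_mulVec, hr, mulVec_smul, ih, smul_smul, pow_succ']
    have h2 := h1 (p ^ k)
    rw [hk, su_one_mulVec] at h2
    have h3 : (1 : F) = r ^ p ^ k := smul_left_injective F hx0 (by simpa using h2)
    rw [field_eq_one h3.symm, one_smul] at hr
    exact hU.2 hr
  · intro u hu v hv w hw
    obtain ⟨a, c, h1, rfl⟩ := hform u hu
    obtain ⟨b, d, h2, rfl⟩ := hform v hv
    obtain ⟨h3, h3'⟩ := hmul _ _ _ _ h1 h2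
    obtain ⟨h4, h4'⟩ := hmul _ _ _ _ h2 h1
    rw [add_comm b a] at h4 h4'
    have := hcen _ _ _ h3 h4 w hw
    rw [← h3', ← h4', _root_.mul_inv_rev] at this
    simpa [mul_assoc] using this
  · have h20 : (2 : F) ≠ 0 := by simpa using natCast_ne_zero (F := F) (p := p) two_pos (by omega)
    obtain ⟨g, hgx, -, hgu⟩ := exists_torus h s h20
    have hσ2 : σ 2 = 2 := map_ofNat σ 2
    have hmu : mu σ 2 = 2 := by rw [mu, hσ2, div_self h20, mul_one]
    have hgN : g ∈ Subgroup.normalizer (U : Set (Cfsg.SU 3 F q)) := (hN g).2 ⟨2, hgx⟩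
    refine ⟨g, hgN, ?_, ?_⟩
    · intro u hu v hv
      obtain ⟨a, c, h1, rfl⟩ := hform u hu
      obtain ⟨h2, h3⟩ := conj_torus h s hgx hgu h20 h1
      obtain ⟨d, h4, h5', -⟩ := hpow a c h1 2
      rw [hmu, hσ2] at h2 h3
      rw [Nat.cast_ofNat] at h4 h5'
      rw [h3, h5']
      exact hcen _ _ _ h2 h4 v hv
    · intro u hu hc
      obtain ⟨a, c, h1, rfl⟩ := hform u hu
      obtain rfl := hzero a c h1 hc
      obtain ⟨h2, h3⟩ := conj_torus h s hgx hgu h20 h1
      obtain ⟨d, h4, h5', h6⟩ := hpow 0 c h1 4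
      rw [h3, h5', h6 rfl, hσ2]
      norm_num
  · have s' : Split σ 1 y x P :=
      { xx := s.yy, yy := s.xx, xy := s.yx h, frame := s.frame, px := s.py, py := s.px,
        dec := fun v => by
          conv_rhs => rw [← s.dec v]
          rw [add_comm (uh σ v x • y)] }
    have h1 : Ok σ y ((1 : F) • uv P) (-θ) := (ok_iff h s').2 (by
      rw [map_neg, map_one]; linear_combination -hθ)
    refine ⟨ue h y ((1 : F) • uv P) (-θ), fun hmem => ?_⟩
    obtain ⟨r, hr⟩ := (hN _).1 hmem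
    rw [ue_y h s' h1] at hr
    have h2 := congrArg (fun w => uh σ w (uv P)) hr
    simp [← neg_smul, uh_add_left, uh_smul_left, uv_self h s, h.swap_zero (uv_x s),
      h.swap_zero (uv_y s)] at h2
  · intro a b ha hb
    have hpt : ∀ g : Cfsg.SU 3 F q, g ∉ Subgroup.normalizer (U : Set (Cfsg.SU 3 F q)) →
        ∃ (β : F) (t : Cfsg.SU 3 F q), t ∈ U ∧ g.1.1 *ᵥ x = β • (t.1.1 *ᵥ y) := by
      intro g hg
      rw [hN] at hg
      obtain ⟨β, a, c, -, he, e⟩ := point_coords h s (z := g.1.1 *ᵥ x)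
        (fun h0 => hg ⟨0, by rw [h0, zero_smul]⟩) (by rw [su_uh h, hxx]) (fun r hr => hg ⟨r, hr⟩)
      exact ⟨β, ue h x (a • uv P) c, hue he, by rw [e, ue_y h s he]⟩
    obtain ⟨α, ta, hta, ea⟩ := hpt a ha
    obtain ⟨β, tb, htb, eb⟩ := hpt b hb
    refine ⟨tb * ta⁻¹, mul_mem htb (inv_mem hta), (hN _).2 ⟨α / β, ?_⟩⟩
    have hβ : β ≠ 0 := fun h0 => hb ((hN b).2 ⟨0, by rw [eb, h0, zero_smul, zero_smul]⟩)
    rw [su_mul_mulVec, su_mul_mulVec, su_mul_mulVec, ea, mulVec_smul, su_inv_mulVec, mulVec_smul,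
      show tb.1.1 *ᵥ y = β⁻¹ • (b.1.1 *ᵥ x) by rw [eb, inv_smul_smul₀ hβ], mulVec_smul, mulVec_smul,
      su_inv_mulVec, smul_smul, div_eq_mul_inv]
  · intro a ha e he h1
    rw [hN] at ha
    refine hone e he (a.1.1 *ᵥ x) (fun h0 => ha ⟨0, by rw [h0, zero_smul]⟩) (by rw [su_uh h, hxx])
      (fun r hr => ha ⟨r, hr⟩) ⟨1, ?_⟩
    have h2 := hU.1 h1
    rw [su_mul_mulVec, su_mul_mulVec] at h2
    rw [one_smul]
    conv_rhs => rw [← h2]
    rw [su_mulVec_inv]
  · exact su_commutator_eq_top hF h le_rfl fun _ => hq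
  · intro K hK hne
    exact (normal_su_le_center_or_eq_top hF h le_rfl (fun _ => hq) K).resolve_right hne
  · intro c hc hcp
    obtain ⟨r, -, -, hr⟩ := SU_center_scalar hF (by norm_num) hc
    have h1 := congrArg (fun A : Cfsg.SU 3 F q => A.1.1 0 0) hcp
    simp only [SubgroupClass.coe_pow, Matrix.SpecialLinearGroup.coe_pow, hr, Matrix.diagonal_pow,
      Matrix.diagonal_apply_eq, Pi.pow_apply, OneMemClass.coe_one,
      Matrix.SpecialLinearGroup.coe_one, Matrix.one_apply_eq] at h1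
    refine su_ext fun v => ?_
    have hr1 : r = 1 := field_eq_one (k := 1) (p := p) (by rw [pow_one]; simpa using h1)
    rw [su_one_mulVec, hr, hr1, Matrix.diagonal_one, Matrix.one_mulVec]

end SU

end CfsgLib.LocalEven.RankOneOuter
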