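import Cfsg.Agent.Lib.Base.Cores
import Cfsg.Prelude.Def_Transfer

/-!
A `p`-element commuting with a Sylow normaliser in a group with a normal rank one subgroup of
`p`-power index and trivial `p`-core is trivial (`p ≥ 5`).
-/

set_option autoImplicit false

namespace CfsgLib.LocalEven.RankOneOuter

open Subgroup

/-- The facts used about a rank one group: a Sylow subgroup of class two, a torus element, a
regular action on the other points, and quasisimplicity. -/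
structure Data (p : ℕ) (H : Type*) [Group H] (U : Subgroup H) : Prop where
  pgrp : IsPGroup p U
  max : ∀ y ∈ normalizer (U : Set H), (∃ k : ℕ, y ^ p ^ k = 1) → y ∈ U
  class_two : ∀ u ∈ U, ∀ v ∈ U, ∀ w ∈ U, (u * v * u⁻¹ * v⁻¹) * w = w * (u * v * u⁻¹ * v⁻¹)
  torus : ∃ g : H, g ∈ normalizer (U : Set H) ∧
    (∀ u ∈ U, ∀ v ∈ U, g * u * g⁻¹ * (u ^ 2)⁻¹ * v = v * (g * u * g⁻¹ * (u ^ 2)⁻¹)) ∧
    ∀ u ∈ U, (∀ v ∈ U, u * v = v * u) → g * u * g⁻¹ = u ^ 4
  moved : ∃ a : H, a ∉ normalizer (U : Set H)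
  trans : ∀ a b : H, a ∉ normalizer (U : Set H) → b ∉ normalizer (U : Set H) →
    ∃ u ∈ U, b⁻¹ * u * a ∈ normalizer (U : Set H)
  regular : ∀ a : H, a ∉ normalizer (U : Set H) → ∀ e ∈ U, a⁻¹ * e * a ∈ U → e = 1
  perfect : commutator H = ⊤
  normal : ∀ K : Subgroup H, K.Normal → K ≠ ⊤ → K ≤ center H
  centre : ∀ c ∈ center H, c ^ p = 1 → c = 1

variable {p : ℕ} [hp : Fact p.Prime]

omit hp in
theorem eq_one_of_pow_four (h5 : 5 ≤ p) (hp : p.Prime) {X : Type*} [Group X] {u : X} {k : ℕ}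
    (hk : u ^ p ^ k = 1) (h4 : u ^ 4 = u) : u = 1 := by
  have h3 : u ^ 3 = 1 := by
    have : u ^ 3 * u = 1 * u := by rw [one_mul, ← pow_succ]; exact h4
    exact mul_right_cancel this
  have hc : Nat.Coprime (p ^ k) 3 := Nat.Coprime.pow_left k
    ((Nat.coprime_primes hp Nat.prime_three).2 (by omega))
  have := pow_gcd_eq_one.2 ⟨hk, h3⟩
  rwa [hc, pow_one] at this

omit hp in
/-- A central `p`-element is trivial. -/
theorem centre_pow {H : Type*} [Group H] {U : Subgroup H} (d : Data p H U) :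
    ∀ (k : ℕ) (c : H), c ∈ center H → c ^ p ^ k = 1 → c = 1
  | 0, c, _, h => by simpa using h
  | k + 1, c, hc, h => by
    refine d.centre c hc (centre_pow d k (c ^ p) (pow_mem hc p) ?_)
    rw [← pow_mul, ← pow_succ']; exact h

/-- The data pass to a quotient by a central subgroup. -/
theorem Data.map {H : Type*} [Group H] [Finite H] {U : Subgroup H} (d : Data p H U)
    {R : Type*} [Group R] (f : H →* R) (hf : Function.Surjective f) (hker : f.ker ≤ center H) :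
    Data p R (U.map f) := by
  have hcoef : ∀ k : ℕ, ∀ c ∈ f.ker, c ^ p ^ k = 1 → c = 1 := fun k c hc h =>
    centre_pow d k c (hker hc) h
  have hinjU : ∀ u ∈ U, f u = 1 → u = 1 := fun u hu h => by
    obtain ⟨k, hk⟩ := d.pgrp ⟨u, hu⟩
    exact hcoef k u h (congrArg Subtype.val hk)
  -- an element of `U · ker f` with `p`-power order lies in `U`
  have hmem : ∀ y : H, (∃ k : ℕ, y ^ p ^ k = 1) → f y ∈ U.map f → y ∈ U := by
    rintro y ⟨k, hk⟩ ⟨u, hu, hfu⟩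
    have hc : u⁻¹ * y ∈ f.ker := by rw [MonoidHom.mem_ker, map_mul, map_inv, hfu, inv_mul_cancel]
    have hcm : Commute u⁻¹ y := by
      have h1 : Commute u (u⁻¹ * y) := (mem_center_iff.1 (hker hc) u)
      have h2 : u * y = y * u := by
        have h3 := h1.eq
        rw [mul_inv_cancel_left] at h3
        calc u * y = u * (u⁻¹ * y * u) := by rw [← h3]
          _ = y * u := by group
      exact Commute.inv_left h2
    obtain ⟨l, hl⟩ := d.pgrp ⟨u⁻¹, inv_mem hu⟩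
    have hl' : (u⁻¹) ^ p ^ l = 1 := congrArg Subtype.val hl
    have h1 : (u⁻¹ * y) ^ p ^ (k + l) = 1 := by
      rw [hcm.mul_pow, pow_add, pow_mul' u⁻¹, hl', one_pow, pow_mul y, hk, one_pow, one_mul]
    have := hcoef _ _ hc h1
    rw [inv_mul_eq_one] at this
    exact this ▸ hu
  have hN : ∀ a : H, f a ∈ normalizer ((U.map f : Subgroup R) : Set R) →
      a ∈ normalizer (U : Set H) := by
    intro a ha
    refine mem_normalizer_fintype fun u hu => hmem _ ?_ ?_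
    · obtain ⟨k, hk⟩ := d.pgrp ⟨u, hu⟩
      refine ⟨k, ?_⟩
      rw [conj_pow, show u ^ p ^ k = 1 from congrArg Subtype.val hk, mul_one, mul_inv_cancel]
    · rw [map_mul, map_mul, map_inv]
      exact (mem_normalizer_iff.1 ha _).1 (mem_map_of_mem f hu)
  have := Finite.of_surjective f hf
  have hN' : ∀ a : H, a ∈ normalizer (U : Set H) →
      f a ∈ normalizer ((U.map f : Subgroup R) : Set R) := by
    intro a ha
    refine mem_normalizer_fintype ?_
    rintro _ ⟨u, hu, rfl⟩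
    exact ⟨a * u * a⁻¹, (mem_normalizer_iff.1 ha u).1 hu, by simp⟩
  constructor
  · exact d.pgrp.map f
  · intro y hy hk
    obtain ⟨a, rfl⟩ := hf y
    obtain ⟨k, hk⟩ := hk
    obtain ⟨i, m, hm, e⟩ := Nat.exists_eq_pow_mul_and_not_dvd (orderOf_pos a).ne' p hp.out.ne_one
    -- replace `a` by its `p`-part
    obtain ⟨s, t, hst⟩ : ∃ s t : ℤ, s * (p ^ k : ℤ) + t * m = 1 := by
      have : IsCoprime ((p : ℤ) ^ k) (m : ℤ) :=
        (Nat.isCoprime_iff_coprime.2 ((hp.out.coprime_iff_not_dvd.2 hm))).pow_left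
      exact this
    have hfa : f (a ^ (t * m)) = f a := by
      have h1 : f a ^ (s * (p ^ k : ℤ)) = 1 := by
        rw [mul_comm, zpow_mul, ← Nat.cast_pow, zpow_natCast, hk, one_zpow]
      rw [map_zpow]
      calc f a ^ (t * m) = f a ^ (s * (p ^ k : ℤ) + t * m) := by rw [zpow_add, h1, one_mul]
        _ = f a := by rw [hst, zpow_one]
    have hpow : (a ^ (t * m : ℤ)) ^ p ^ i = 1 := by
      rw [← zpow_natCast, ← zpow_mul, mul_assoc, mul_comm, zpow_mul, ← Nat.cast_mul, zpow_natCast,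
        mul_comm m, ← e, pow_orderOf_eq_one, one_zpow]
    rw [← hfa]
    exact mem_map_of_mem f (d.max _ (hN _ (hfa ▸ hy)) ⟨i, hpow⟩)
  · rintro _ ⟨u, hu, rfl⟩ _ ⟨v, hv, rfl⟩ _ ⟨w, hw, rfl⟩
    simpa using congrArg f (d.class_two u hu v hv w hw)
  · obtain ⟨g, hg, h2, h4⟩ := d.torus
    refine ⟨f g, hN' g hg, ?_, ?_⟩
    · rintro _ ⟨u, hu, rfl⟩ _ ⟨v, hv, rfl⟩
      simpa using congrArg f (h2 u hu v hv)
    · rintro _ ⟨u, hu, rfl⟩ hc
      have hc' : ∀ v ∈ U, u * v = v * u := fun v hv => by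
        have h1 := hc (f v) (mem_map_of_mem f hv)
        have h3 : u * v * u⁻¹ * v⁻¹ = 1 := by
          refine hinjU _ (mul_mem (mul_mem (mul_mem hu hv) (inv_mem hu)) (inv_mem hv)) ?_
          simp [h1]
        exact commutatorElement_eq_one_iff_mul_comm.1 h3
      simpa using congrArg f (h4 u hu hc')
  · obtain ⟨a, ha⟩ := d.moved
    exact ⟨f a, fun h => ha (hN a h)⟩
  · intro a b ha hb
    obtain ⟨a, rfl⟩ := hf a
    obtain ⟨b, rfl⟩ := hf b
    obtain ⟨u, hu, h⟩ := d.trans a b (fun h => ha (hN' a h)) (fun h => hb (hN' b h))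
    exact ⟨f u, mem_map_of_mem f hu, by simpa using hN' _ h⟩
  · intro a ha e he h
    obtain ⟨a, rfl⟩ := hf a
    obtain ⟨e, he', rfl⟩ := he
    have h1 : a⁻¹ * e * a ∈ U := by
      refine hmem _ ?_ (by simpa using h)
      obtain ⟨k, hk⟩ := d.pgrp ⟨e, he'⟩
      refine ⟨k, ?_⟩
      have := conj_pow (i := p ^ k) (a := a⁻¹) (b := e)
      rw [inv_inv] at this
      rw [this, show e ^ p ^ k = 1 from congrArg Subtype.val hk, mul_one, inv_mul_cancel]
    rw [d.regular a (fun h => ha (hN' a h)) e he' h1, map_one]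
  · rw [_root_.commutator_def, ← map_top_of_surjective f hf, ← map_commutator, ← _root_.commutator_def,
      d.perfect]
  · intro K hK hne
    have hc := d.normal (K.comap f) (hK.comap f) fun h => hne (by
      rw [← map_comap_eq_self_of_surjective hf K, h, map_top_of_surjective f hf])
    intro k hk
    obtain ⟨a, rfl⟩ := hf k
    refine mem_center_iff.2 fun r => ?_
    obtain ⟨b, rfl⟩ := hf r
    rw [← map_mul, ← map_mul, mem_center_iff.1 (hc (show a ∈ K.comap f from hk)) b]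
  · intro c hc hcp
    obtain ⟨a, rfl⟩ := hf c
    have hne : (center R).comap f ≠ ⊤ := fun h => by
      obtain ⟨b, hb⟩ := d.moved
      refine hb (hN b (mem_normalizer_fintype ?_))
      intro u hu
      have : f b ∈ center R := mem_comap.1 (h ▸ mem_top b)
      rw [← mem_center_iff.1 this u, mul_inv_cancel_right]
      exact hu
    have hcen := d.normal _ (inferInstance : ((center R).comap f).Normal) hne
    have ha : a ^ p ∈ f.ker := by rw [MonoidHom.mem_ker, map_pow, hcp]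
    obtain ⟨i, m, hm, e⟩ := Nat.exists_eq_pow_mul_and_not_dvd (orderOf_pos a).ne' p hp.out.ne_one
    have h1 : a ^ m = 1 := centre_pow d i _ (pow_mem (hcen (mem_comap.2 hc)) m) (by
      rw [← pow_mul, mul_comm, ← e, pow_orderOf_eq_one])
    have h2 := pow_gcd_eq_one.2 ⟨hcp, (show f a ^ m = 1 by rw [← map_pow, h1, map_one])⟩
    rwa [(hp.out.coprime_iff_not_dvd.2 hm : Nat.Coprime p m), pow_one] at h2

/-- The main step. -/
theorem eq_one (h5 : 5 ≤ p) {X : Type*} [Group X] [Finite X] (R : Subgroup X) [R.Normal]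
    (U₀ : Subgroup ↥R) (d : Data p ↥R U₀)
    (hpq : ∀ x : X, ∃ k : ℕ, x ^ p ^ k ∈ R) (hcore : Cfsg.pCore p X = ⊥)
    (S : Sylow p X) {z : X} (hzS : z ∈ (S : Subgroup X))
    (hz : ∀ n ∈ normalizer ((S : Subgroup X) : Set X), n * z = z * n) : z = 1 := by
  set U : Subgroup X := U₀.map R.subtype with hU
  have hUR : U ≤ R := map_subtype_le U₀
  have hUp : IsPGroup p U := d.pgrp.map _
  have hNU : ∀ r : ↥R, r ∈ normalizer (U₀ : Set ↥R) ↔ (r : X) ∈ normalizer (U : Set X) := by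
    intro r
    constructor
    · intro hr
      refine mem_normalizer_fintype ?_
      rintro _ ⟨u, hu, rfl⟩
      exact ⟨r * u * r⁻¹, (mem_normalizer_iff.1 hr u).1 hu, rfl⟩
    · intro hr
      refine mem_normalizer_fintype fun u hu => ?_
      obtain ⟨v, hv, e⟩ := (mem_normalizer_iff.1 hr (u : X)).1 (mem_map_of_mem _ hu)
      rwa [← show v = r * u * r⁻¹ from Subtype.ext e]
  -- move `U` into `S`
  obtain ⟨S', hUS⟩ := hUp.exists_le_sylow
  obtain ⟨y, rfl⟩ := MulAction.exists_smul_eq X S S'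
  suffices h : y * z * y⁻¹ = 1 by
    have h' : y * z * y⁻¹ = y * 1 * y⁻¹ := by rw [h, mul_one, mul_inv_cancel]
    simpa using h'
  have hzS' : y * z * y⁻¹ ∈ ((y • S : Sylow p X) : Subgroup X) := ⟨z, hzS, rfl⟩
  have hz' : ∀ n ∈ normalizer (((y • S : Sylow p X) : Subgroup X) : Set X),
      n * (y * z * y⁻¹) = y * z * y⁻¹ * n := by
    intro n hn
    have h1 : y⁻¹ * n * y ∈ normalizer ((S : Subgroup X) : Set X) := by
      refine Sylow.smul_eq_iff_mem_normalizer.1 ?_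
      rw [mul_smul, mul_smul, Sylow.smul_eq_iff_mem_normalizer.2 hn, inv_smul_smul]
    have h2 := hz _ h1
    calc n * (y * z * y⁻¹) = y * ((y⁻¹ * n * y) * z) * y⁻¹ := by group
      _ = y * (z * (y⁻¹ * n * y)) * y⁻¹ := by rw [h2]
      _ = y * z * y⁻¹ * n := by group
  generalize y * z * y⁻¹ = z at hzS' hz' ⊢
  generalize (y • S : Sylow p X) = S at hUS hzS' hz'
  -- `S ⊓ R = U`
  have hSN : (S : Subgroup X) ≤ normalizer (U : Set X) := by
    have heq : (S : Subgroup X) ⊓ R = U := by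
      rcases eq_or_lt_of_le (le_inf hUS hUR : U ≤ (S : Subgroup X) ⊓ R) with e | hlt
      · exact e.symm
      · exfalso
        have hnil : Group.IsNilpotent ↥((S : Subgroup X) ⊓ R : Subgroup X) :=
          (S.2.to_le inf_le_left).isNilpotent
        have hlt' : U.subgroupOf ((S : Subgroup X) ⊓ R) < ⊤ :=
          lt_top_iff_ne_top.2 fun h => hlt.not_ge (subgroupOf_eq_top.1 h)
        obtain ⟨n, hn, hnU⟩ :=
          SetLike.exists_of_lt (Group.normalizerCondition_of_isNilpotent _ hlt')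
        refine hnU ?_
        rw [mem_subgroupOf]
        have hnN : (⟨n, n.2.2⟩ : ↥R) ∈ normalizer (U₀ : Set ↥R) := by
          rw [hNU]
          refine mem_normalizer_fintype fun u hu => ?_
          exact (mem_normalizer_iff.1 hn ⟨u, hlt.le hu⟩).1 hu
        obtain ⟨k, hk⟩ := S.2 ⟨n, n.2.1⟩
        exact mem_map_of_mem _ (d.max _ hnN ⟨k, Subtype.ext (congrArg Subtype.val hk :)⟩)
    refine fun s hs => mem_normalizer_fintype fun u hu => ?_
    rw [← heq] at hu ⊢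
    exact ⟨(S : Subgroup X).mul_mem ((S : Subgroup X).mul_mem hs hu.1) ((S : Subgroup X).inv_mem hs),
      (inferInstance : R.Normal).conj_mem u hu.2 s⟩
  -- the torus element may be chosen in the normaliser of `S`
  obtain ⟨g₀, hg₀N, hg₂, hg₄⟩ := d.torus
  have hgN : (g₀ : X) ∈ normalizer (U : Set X) := (hNU g₀).1 hg₀N
  have hg2 : ∀ u ∈ U, ∀ v ∈ U,
      (g₀ : X) * u * (g₀ : X)⁻¹ * (u ^ 2)⁻¹ * v = v * ((g₀ : X) * u * (g₀ : X)⁻¹ * (u ^ 2)⁻¹) := by
    rintro _ ⟨u, hu, rfl⟩ _ ⟨v, hv, rfl⟩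
    simpa using congrArg R.subtype (hg₂ u hu v hv)
  have hg4 : ∀ u ∈ U, (∀ v ∈ U, u * v = v * u) → (g₀ : X) * u * (g₀ : X)⁻¹ = u ^ 4 := by
    rintro _ ⟨u, hu, rfl⟩ hc
    have := hg₄ u hu fun v hv => Subtype.ext (by simpa using hc v (mem_map_of_mem _ hv))
    simpa using congrArg R.subtype this
  have hcl : ∀ u ∈ U, ∀ v ∈ U, ∀ w ∈ U, u * v * u⁻¹ * v⁻¹ * w = w * (u * v * u⁻¹ * v⁻¹) := by
    rintro _ ⟨u, hu, rfl⟩ _ ⟨v, hv, rfl⟩ _ ⟨w, hw, rfl⟩
    simpa using congrArg R.subtype (d.class_two u hu v hv w hw)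
  set CU : Subgroup X := centralizer (U : Set X) with hCU
  have hcu : ∀ {x : X}, x ∈ CU ↔ ∀ v ∈ U, x * v = v * x := by
    intro x
    exact ⟨fun h v hv => (mem_centralizer_iff.1 h v hv).symm,
      fun h => mem_centralizer_iff.2 fun v hv => (h v hv).symm⟩
  have hCUn : ∀ n ∈ normalizer (U : Set X), ∀ c ∈ CU, n * c * n⁻¹ ∈ CU := by
    intro n hn c hc
    refine hcu.2 fun v hv => ?_
    have h1 := hcu.1 hc _ ((mem_normalizer_iff''.1 hn v).1 hv)
    calc n * c * n⁻¹ * v = n * (c * (n⁻¹ * v * n)) * n⁻¹ := by group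
      _ = n * ((n⁻¹ * v * n) * c) * n⁻¹ := by rw [h1]
      _ = v * (n * c * n⁻¹) := by group
  set Z : Subgroup X := U ⊓ CU with hZ
  have hZn : ∀ n ∈ normalizer (U : Set X), ∀ c ∈ Z, n * c * n⁻¹ ∈ Z := fun n hn c hc =>
    ⟨(mem_normalizer_iff.1 hn c).1 hc.1, hCUn n hn c hc.2⟩
  have hZc : ∀ a ∈ Z, ∀ v ∈ U, a * v = v * a := fun a ha => hcu.1 ha.2
  have hgU : ∀ u ∈ U, (g₀ : X) * u * (g₀ : X)⁻¹ * (u ^ 2)⁻¹ ∈ Z := fun u hu =>
    ⟨U.mul_mem ((mem_normalizer_iff.1 hgN u).1 hu) (U.inv_mem (U.pow_mem hu 2)), hcu.2 (hg2 u hu)⟩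
  -- `V`: the elements acting trivially on `U / Z` and on `Z`
  let V : Subgroup X :=
    { carrier := {c | c ∈ normalizer (U : Set X) ∧ (∀ a ∈ Z, c * a * c⁻¹ = a) ∧
        ∀ u ∈ U, c * u * c⁻¹ * u⁻¹ ∈ Z}
      one_mem' := ⟨one_mem _, by simp, by simp⟩
      mul_mem' := by
        rintro b c ⟨hb, hb1, hb2⟩ ⟨hc, hc1, hc2⟩
        refine ⟨mul_mem hb hc, fun a ha => ?_, fun u hu => ?_⟩
        · calc b * c * a * (b * c)⁻¹ = b * (c * a * c⁻¹) * b⁻¹ := by group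
            _ = a := by rw [hc1 a ha, hb1 a ha]
        · have e : b * c * u * (b * c)⁻¹ * u⁻¹ =
              (b * (c * u * c⁻¹ * u⁻¹) * b⁻¹) * (b * u * b⁻¹ * u⁻¹) := by group
          rw [e]
          exact mul_mem (hZn b hb _ (hc2 u hu)) (hb2 u hu)
      inv_mem' := by
        rintro c ⟨hc, hc1, hc2⟩
        refine ⟨inv_mem hc, fun a ha => ?_, fun u hu => ?_⟩
        · calc c⁻¹ * a * c⁻¹⁻¹ = c⁻¹ * (c * a * c⁻¹) * c := by rw [hc1 a ha, inv_inv]
            _ = a := by group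
        · have e : c⁻¹ * u * c⁻¹⁻¹ * u⁻¹ = c⁻¹ * (c * u * c⁻¹ * u⁻¹)⁻¹ * c⁻¹⁻¹ := by group
          rw [e]
          exact hZn _ (inv_mem hc) _ (inv_mem (hc2 u hu)) }
  have hSV : (S : Subgroup X) ≤ normalizer (V : Set X) := by
    intro s hs
    refine mem_normalizer_fintype ?_
    rintro c ⟨hc, hc1, hc2⟩
    have hs' := hSN hs
    refine ⟨mul_mem (mul_mem hs' hc) (inv_mem hs'), fun a ha => ?_, fun u hu => ?_⟩
    · calc s * c * s⁻¹ * a * (s * c * s⁻¹)⁻¹ = s * (c * (s⁻¹ * a * s⁻¹⁻¹) * c⁻¹) * s⁻¹ := by group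
        _ = s * (s⁻¹ * a * s⁻¹⁻¹) * s⁻¹ := by rw [hc1 _ (hZn _ (inv_mem hs') a ha)]
        _ = a := by group
    · have e : s * c * s⁻¹ * u * (s * c * s⁻¹)⁻¹ * u⁻¹ =
          s * (c * (s⁻¹ * u * s) * c⁻¹ * (s⁻¹ * u * s)⁻¹) * s⁻¹ := by group
      rw [e]
      exact hZn s hs' _ (hc2 _ ((mem_normalizer_iff''.1 hs' u).1 hu))
  have hsgV : ∀ s ∈ (S : Subgroup X), (g₀ : X)⁻¹ * s * g₀ * s⁻¹ ∈ V := by
    intro s hs
    have hs' := hSN hs
    have hn : (g₀ : X)⁻¹ * s * g₀ * s⁻¹ ∈ normalizer (U : Set X) :=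
      mul_mem (mul_mem (mul_mem (inv_mem hgN) hs') hgN) (inv_mem hs')
    refine ⟨hn, fun a ha => ?_, fun u hu => ?_⟩
    · have hb := hZn _ (inv_mem hs') a ha
      rw [inv_inv] at hb
      have h1 := hg4 _ hb.1 (hZc _ hb)
      have h3 := hg4 _ ha.1 (hZc _ ha)
      calc (g₀ : X)⁻¹ * s * g₀ * s⁻¹ * a * ((g₀ : X)⁻¹ * s * g₀ * s⁻¹)⁻¹
          = (g₀ : X)⁻¹ * (s * ((g₀ : X) * (s⁻¹ * a * s) * (g₀ : X)⁻¹) * s⁻¹) * g₀ := by group
        _ = (g₀ : X)⁻¹ * (s * (s⁻¹ * a * s) ^ 4 * s⁻¹) * g₀ := by rw [h1]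
        _ = (g₀ : X)⁻¹ * (a ^ 4) * g₀ := by rw [← conj_pow]; group
        _ = a := by rw [← h3]; group
    · have hb := (mem_normalizer_iff''.1 hs' u).1 hu
      have h1 := hgU _ hb
      have h3 := hgU _ hu
      -- both sides are `g₀⁻¹ (·) g₀` of `u²` up to `Z`
      have h5 := mul_mem (hZn s hs' _ h1)
        (show (u ^ 2) * ((g₀ : X) * u * (g₀ : X)⁻¹)⁻¹ ∈ Z by
          have := inv_mem h3; simpa [mul_inv_rev] using this)
      have h6 : s * ((g₀ : X) * (s⁻¹ * u * s) * (g₀ : X)⁻¹) * s⁻¹ * ((g₀ : X) * u * (g₀ : X)⁻¹)⁻¹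
          ∈ Z := by
        have e : s * ((g₀ : X) * (s⁻¹ * u * s) * (g₀ : X)⁻¹ * ((s⁻¹ * u * s) ^ 2)⁻¹) * s⁻¹ *
            (u ^ 2 * ((g₀ : X) * u * (g₀ : X)⁻¹)⁻¹) =
            s * ((g₀ : X) * (s⁻¹ * u * s) * (g₀ : X)⁻¹) * s⁻¹ * ((g₀ : X) * u * (g₀ : X)⁻¹)⁻¹ := by
          simp only [sq]; group
        rwa [e] at h5
      have h7 := hZn _ (inv_mem hgN) _ h6
      have e : (g₀ : X)⁻¹ * s * g₀ * s⁻¹ * u * ((g₀ : X)⁻¹ * s * g₀ * s⁻¹)⁻¹ * u⁻¹ =
          (g₀ : X)⁻¹ * (s * ((g₀ : X) * (s⁻¹ * u * s) * (g₀ : X)⁻¹) * s⁻¹ *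
            ((g₀ : X) * u * (g₀ : X)⁻¹)⁻¹) * (g₀ : X)⁻¹⁻¹ := by group
      rw [e]; exact h7
  obtain ⟨g, hgS, hgN', hgU', hgZ'⟩ : ∃ g : X, g ∈ normalizer ((S : Subgroup X) : Set X) ∧
      g ∈ normalizer (U : Set X) ∧ (∀ u ∈ U, g * u * g⁻¹ * (u ^ 2)⁻¹ ∈ Z) ∧
      ∀ a ∈ Z, g * a * g⁻¹ = a ^ 4 := by
    set W : Subgroup X := (S : Subgroup X) ⊔ V with hW
    have hmap : ((g₀ : X)⁻¹ • S : Sylow p X).1 ≤ W := by
      rintro _ ⟨s, hs, rfl⟩
      have : (g₀ : X)⁻¹ * s * g₀ * s⁻¹ * s ∈ W :=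
        mul_mem (mem_sup_right (hsgV s hs)) (mem_sup_left hs)
      simpa using this
    obtain ⟨w, hw⟩ := MulAction.exists_smul_eq ↥W (((g₀ : X)⁻¹ • S).subtype hmap)
      (S.subtype (le_sup_left : (S : Subgroup X) ≤ W))
    rw [Sylow.smul_subtype] at hw
    have hw' := Sylow.subtype_injective hw
    obtain ⟨s, hs, c, hc, e⟩ : ∃ s ∈ (S : Subgroup X), ∃ c ∈ V, s * c = (w : X) := by
      have h0 : (w : X) ∈ (((S : Subgroup X) ⊔ V : Subgroup X) : Set X) := w.2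
      rw [coe_mul_of_left_le_normalizer_right _ _ hSV] at h0
      exact Set.mem_mul.1 h0
    have h1 : (c * (g₀ : X)⁻¹) • S = S := by
      have h2 : ((w : X) * (g₀ : X)⁻¹) • S = S := by rw [mul_smul]; exact hw'
      rw [← e, mul_assoc, mul_smul] at h2
      rw [← smul_left_cancel_iff s, h2]
      exact (Sylow.smul_eq_iff_mem_normalizer.2 (le_normalizer hs)).symm
    obtain ⟨hcN, hc1, hc2⟩ := hc
    refine ⟨(g₀ : X) * c⁻¹, ?_, mul_mem hgN (inv_mem hcN), fun u hu => ?_, fun a ha => ?_⟩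
    · have h4 := inv_mem (Sylow.smul_eq_iff_mem_normalizer.1 h1)
      rwa [mul_inv_rev, inv_inv] at h4
    · have hu' := (mem_normalizer_iff.1 (inv_mem hcN) u).1 hu
      have h3 : c⁻¹ * u * c⁻¹⁻¹ * u⁻¹ ∈ Z := by
        have e : c⁻¹ * u * c⁻¹⁻¹ * u⁻¹ = c⁻¹ * (c * u * c⁻¹ * u⁻¹)⁻¹ * c⁻¹⁻¹ := by group
        rw [e]
        exact hZn _ (inv_mem hcN) _ (inv_mem (hc2 u hu))
      have e : (g₀ : X) * c⁻¹ * u * ((g₀ : X) * c⁻¹)⁻¹ * (u ^ 2)⁻¹ =
          ((g₀ : X) * (c⁻¹ * u * c⁻¹⁻¹ * u⁻¹) * (g₀ : X)⁻¹) *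
            ((g₀ : X) * u * (g₀ : X)⁻¹ * (u ^ 2)⁻¹) := by group
      rw [e]
      exact mul_mem (hZn _ hgN _ h3) (hgU u hu)
    · calc (g₀ : X) * c⁻¹ * a * ((g₀ : X) * c⁻¹)⁻¹
          = (g₀ : X) * (c⁻¹ * (c * a * c⁻¹) * c) * (g₀ : X)⁻¹ := by rw [hc1 a ha]; group
        _ = (g₀ : X) * a * (g₀ : X)⁻¹ := by group
        _ = a ^ 4 := hg4 a ha.1 (hZc a ha)
  -- reduce to an element of order `p`
  by_contra hne
  obtain ⟨k, hk⟩ := S.2 ⟨z, hzS'⟩
  have hk' : z ^ p ^ k = 1 := congrArg Subtype.val hk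
  obtain ⟨j, hj, hne'⟩ : ∃ j, (z ^ p ^ j) ^ p = 1 ∧ z ^ p ^ j ≠ 1 := by
    clear hk
    induction k with
    | zero => exact absurd (by simpa using hk') hne
    | succ k ih =>
      by_cases h : z ^ p ^ k = 1
      · exact ih h
      · exact ⟨k, by rw [← pow_mul, ← pow_succ]; exact hk', h⟩
  set w := z ^ p ^ j with hw
  have hwS : w ∈ (S : Subgroup X) := pow_mem hzS' _
  have hwc : ∀ n ∈ normalizer ((S : Subgroup X) : Set X), n * w = w * n := fun n hn =>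
    (Commute.pow_right (hz' n hn) _).eq
  have hwU : ∀ v ∈ U, w * v = v * w := fun v hv => (hwc v (le_normalizer (hUS hv))).symm
  have hwg : g * w * g⁻¹ = w := by rw [hwc g hgS, mul_inv_cancel_right]
  by_cases hwR : w ∈ R
  · have hwU' : w ∈ U := mem_map.2 ⟨⟨w, hwR⟩, d.max _ ((hNU ⟨w, hwR⟩).2 (hSN hwS))
      ⟨1, Subtype.ext (by simpa using hj)⟩, rfl⟩
    have h4 := hgZ' w ⟨hwU', hcu.2 hwU⟩
    rw [hwg] at h4
    exact hne' (eq_one_of_pow_four h5 hp.out (k := 1) (by simpa using hj) h4.symm)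
  -- the outer case
  have hwN : w ∈ normalizer (U : Set X) := hSN hwS
  have hconjN : ∀ (n : X), n ∈ normalizer (U : Set X) → ∀ a : ↥R, a ∉ normalizer (U₀ : Set ↥R) →
      (⟨n * a * n⁻¹, (inferInstance : R.Normal).conj_mem _ a.2 n⟩ : ↥R) ∉
        normalizer (U₀ : Set ↥R) := by
    intro n hn a ha h
    refine ha ((hNU a).2 ?_)
    have h' := mul_mem (mul_mem (inv_mem hn) ((hNU _).1 h)) hn
    simpa [mul_assoc] using h'
  have htr : ∀ a b : ↥R, a ∉ normalizer (U₀ : Set ↥R) → b ∉ normalizer (U₀ : Set ↥R) →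
      ∃ u ∈ U, (b : X)⁻¹ * u * a ∈ normalizer (U : Set X) := by
    intro a b ha hb
    obtain ⟨u, hu, h⟩ := d.trans a b ha hb
    exact ⟨u, mem_map_of_mem _ hu, (hNU _).1 h⟩
  have hreg : ∀ a : ↥R, a ∉ normalizer (U₀ : Set ↥R) → ∀ e ∈ U,
      (a : X)⁻¹ * e * a ∈ normalizer (U : Set X) → e = 1 := by
    rintro a ha _ ⟨e, he, rfl⟩ h
    obtain ⟨k, hk⟩ := d.pgrp ⟨e, he⟩
    have hk' : e ^ p ^ k = 1 := congrArg Subtype.val hk
    have h1 : a⁻¹ * e * a ∈ U₀ := by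
      refine d.max _ ((hNU _).2 h) ⟨k, ?_⟩
      have := conj_pow (i := p ^ k) (a := a⁻¹) (b := e)
      rw [inv_inv] at this
      rw [this, hk', mul_one, inv_mul_cancel]
    rw [d.regular a ha e he h1, map_one]
  obtain ⟨a, ha⟩ := d.moved
  obtain ⟨t, ht, hta⟩ := htr a _ ha (hconjN w hwN a ha)
  set w' := t⁻¹ * w with hw'
  -- `w'` fixes the point `a`
  have hwa : (a : X)⁻¹ * w' * a ∈ normalizer (U : Set X) := by
    have e : (a : X)⁻¹ * w' * a =
        (((w * (a : X) * w⁻¹)⁻¹ * t * (a : X)))⁻¹ * w := by rw [hw']; group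
    rw [e]
    exact mul_mem (inv_mem hta) hwN
  -- `t` is central in `U`
  obtain ⟨u₁, hu₁, hn₁⟩ := htr _ a (hconjN g hgN' a ha) ha
  have htZ : t ∈ Z := by
    set d' := u₁⁻¹ with hd'
    set n := (a : X)⁻¹ * u₁ * (g * a * g⁻¹) with hn
    have hgt : g * t * g⁻¹ ∈ U := (mem_normalizer_iff.1 hgN' t).1 ht
    have e1 : (a : X)⁻¹ * (u₁ * (g * t * g⁻¹)⁻¹ * u₁⁻¹ * w) * a ∈ normalizer (U : Set X) := by
      have h1 := mul_mem (mul_mem hgN' hwa) (inv_mem hgN')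
      have h2 := mul_mem (mul_mem hn₁ h1) (inv_mem hn₁)
      have e : n * (g * ((a : X)⁻¹ * w' * a) * g⁻¹) * n⁻¹ =
          (a : X)⁻¹ * (u₁ * (g * t⁻¹ * g⁻¹) * (g * w * g⁻¹) * u₁⁻¹) * a := by
        rw [hn, hw']; group
      rw [e, hwg, mul_assoc _ w, hwU _ (inv_mem hu₁)] at h2
      simpa [mul_assoc, mul_inv_rev] using h2
    have h3 : u₁ * (g * t * g⁻¹)⁻¹ * u₁⁻¹ * t = 1 := by
      refine hreg a ha _ (mul_mem (mul_mem (mul_mem hu₁ (inv_mem hgt)) (inv_mem hu₁)) ht) ?_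
      have h4 := mul_mem e1 (inv_mem hwa)
      have e : (a : X)⁻¹ * (u₁ * (g * t * g⁻¹)⁻¹ * u₁⁻¹ * w) * a * ((a : X)⁻¹ * w' * a)⁻¹ =
          (a : X)⁻¹ * (u₁ * (g * t * g⁻¹)⁻¹ * u₁⁻¹ * t) * a := by rw [hw']; group
      rwa [e] at h4
    have h4 : g * t * g⁻¹ = u₁⁻¹ * t * u₁ := by
      have : t = u₁ * (g * t * g⁻¹) * u₁⁻¹ := by
        have h3' : (u₁ * (g * t * g⁻¹)⁻¹ * u₁⁻¹)⁻¹ = t := inv_eq_of_mul_eq_one_right h3
        conv_lhs => rw [← h3']
        group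
      conv_rhs => rw [this]
      group
    have h5 : t ∈ CU := by
      have h6 := hgU' t ht
      rw [h4] at h6
      have h7 : u₁⁻¹ * t * u₁⁻¹⁻¹ * t⁻¹ ∈ CU := hcu.2 (hcl _ (inv_mem hu₁) _ ht)
      have h8 : (t ^ 2)⁻¹ * t ∈ CU := by
        have := mul_mem (inv_mem h7) h6.2
        have e : (u₁⁻¹ * t * u₁⁻¹⁻¹ * t⁻¹)⁻¹ * (u₁⁻¹ * t * u₁ * (t ^ 2)⁻¹) = t * (t ^ 2)⁻¹ := by
          group
        rw [e] at this
        have e2 : (t ^ 2)⁻¹ * t = t * (t ^ 2)⁻¹ :=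
          ((Commute.refl t).pow_right 2).inv_right.eq.symm
        rwa [e2]
      rw [sq, mul_inv_rev, inv_mul_cancel_right] at h8
      exact inv_mem_iff.1 h8
    exact ⟨ht, h5⟩
  have hw'U : w' ∈ CU := mul_mem (inv_mem htZ.2) (hcu.2 hwU)
  have hw'N : w' ∈ normalizer (U : Set X) := mul_mem (inv_mem (le_normalizer ht)) hwN
  have hall : ∀ b : ↥R, (b : X)⁻¹ * w' * b ∈ normalizer (U : Set X) := by
    intro b
    by_cases hb : b ∈ normalizer (U₀ : Set ↥R)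
    · exact mul_mem (mul_mem (inv_mem ((hNU b).1 hb)) hw'N) ((hNU b).1 hb)
    obtain ⟨v, hv, hn⟩ := htr b a hb ha
    have h1 := mul_mem (mul_mem (inv_mem hn) hwa) hn
    have e : ((a : X)⁻¹ * v * b)⁻¹ * ((a : X)⁻¹ * w' * a) * ((a : X)⁻¹ * v * b) =
        (b : X)⁻¹ * (v⁻¹ * w' * v) * b := by group
    rw [e, mul_assoc v⁻¹, hcu.1 hw'U v hv, inv_mul_cancel_left] at h1
    exact h1
  let K₁ : Subgroup X :=
    { carrier := {x | ∀ b : ↥R, (b : X)⁻¹ * x * b ∈ normalizer (U : Set X)}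
      one_mem' := fun b => by simp
      mul_mem' := fun {x y} hx hy b => by
        have := mul_mem (hx b) (hy b)
        simpa [mul_assoc] using this
      inv_mem' := fun {x} hx b => by
        have := inv_mem (hx b)
        simpa [mul_assoc] using this }
  have hK₁ : ∀ x ∈ K₁, ∀ r : ↥R, (r : X) * x * (r : X)⁻¹ ∈ K₁ := fun x hx r b => by
    have := hx (r⁻¹ * b)
    simpa [mul_assoc] using this
  let K : Subgroup ↥R := K₁.subgroupOf R
  have hKn : K.Normal := ⟨fun x hx r => by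
    simpa [K, mem_subgroupOf] using hK₁ _ (show (x : X) ∈ K₁ from hx) r⟩
  have hKtop : K ≠ ⊤ := fun h => ha ((hNU a).2 (by
    simpa using (show (a : X) ∈ K₁ from (h ▸ mem_top a : a ∈ K)) 1))
  have hKc := d.normal K hKn hKtop
  have hcom : ∀ r : ↥R, (⟨w' * r * w'⁻¹ * (r : X)⁻¹, mul_mem
      ((inferInstance : R.Normal).conj_mem _ r.2 w') (inv_mem r.2)⟩ : ↥R) ∈ center ↥R := fun r => by
    refine hKc (show w' * r * w'⁻¹ * (r : X)⁻¹ ∈ K₁ from ?_)
    have := mul_mem (show w' ∈ K₁ from hall) (hK₁ _ (inv_mem (show w' ∈ K₁ from hall)) r)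
    simpa [mul_assoc] using this
  let φ : ↥R →* ↥(center ↥R) :=
    { toFun := fun r => ⟨_, hcom r⟩
      map_one' := by ext; simp
      map_mul' := fun r s => by
        apply Subtype.ext; apply Subtype.ext
        have h1 := congrArg Subtype.val (mem_center_iff.1 (hcom s) r)
        simp only [Subgroup.coe_mul] at h1 ⊢
        calc w' * ((r : X) * s) * w'⁻¹ * ((r : X) * s)⁻¹
            = w' * r * w'⁻¹ * ((w' * s * w'⁻¹ * (s : X)⁻¹) * (r : X)⁻¹) := by group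
          _ = w' * r * w'⁻¹ * ((r : X)⁻¹ * ((r : X) * (w' * s * w'⁻¹ * (s : X)⁻¹)) * (r : X)⁻¹) := by
              group
          _ = w' * r * w'⁻¹ * ((r : X)⁻¹ * ((w' * s * w'⁻¹ * (s : X)⁻¹) * r) * (r : X)⁻¹) := by
              rw [h1]
          _ = w' * r * w'⁻¹ * (r : X)⁻¹ * (w' * s * w'⁻¹ * (s : X)⁻¹) := by group }
  have hφ : commutator ↥R ≤ φ.ker := by
    rw [_root_.commutator_def, commutator_le]
    intro r _ s _
    rw [MonoidHom.mem_ker, map_commutatorElement, commutatorElement_eq_one_iff_mul_comm]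
    exact Subtype.ext (mem_center_iff.1 (φ s).2 (φ r : ↥R))
  have hC : w' ∈ centralizer (R : Set X) := mem_centralizer_iff.2 fun r hr => by
    have h1 : (⟨r, hr⟩ : ↥R) ∈ φ.ker := hφ (d.perfect ▸ mem_top _)
    have h2 : w' * r * w'⁻¹ * r⁻¹ = 1 :=
      congrArg (fun v : ↥(center ↥R) => ((v : ↥R) : X)) h1
    rw [mul_inv_eq_one, mul_inv_eq_iff_eq_mul] at h2
    exact h2.symm
  -- `C_X(R)` has no nontrivial `p`-element
  set C := centralizer (R : Set X) with hCdef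
  haveI : C.Normal := inferInstance
  have hPC : ∀ Q : Sylow p ↥C, (Q : Subgroup ↥C) = ⊥ := by
    intro Q
    have hnorm : normalizer ((Q : Subgroup ↥C) : Set ↥C) = ⊤ := by
      set Z' : Subgroup ↥C := R.subgroupOf C with hZ'
      set N := normalizer ((Q : Subgroup ↥C) : Set ↥C) with hN
      have hZN : Z' ≤ N := fun c hc => by
        refine mem_normalizer_fintype fun x hx => ?_
        have h1 : (c : X) * x = (x : X) * c := mem_centralizer_iff.1 x.2 _ hc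
        rwa [show c * x * c⁻¹ = x from Subtype.ext (by
          simp only [Subgroup.coe_mul, Subgroup.coe_inv]; rw [h1, mul_inv_cancel_right])]
      rw [← index_eq_one]
      by_contra hne1
      obtain ⟨r, hr, hrd⟩ := Nat.exists_prime_and_dvd hne1
      haveI : Fact r.Prime := ⟨hr⟩
      have hrp : r = p := by
        have hZ'n : Z'.Normal := inferInstance
        have hq : IsPGroup p (↥C ⧸ Z') := fun c => by
          obtain ⟨c, rfl⟩ := QuotientGroup.mk'_surjective Z' c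
          obtain ⟨k, hk⟩ := hpq (c : X)
          refine ⟨k, ?_⟩
          rw [← map_pow]
          exact (QuotientGroup.eq_one_iff _).2 (by simpa [Z', mem_subgroupOf] using hk)
        obtain ⟨m, hm⟩ := IsPGroup.iff_card.1 hq
        have h1 : r ∣ p ^ m := by
          rw [← hm]; exact hrd.trans (index_dvd_of_le hZN)
        exact (Nat.prime_dvd_prime_iff_eq hr hp.out).1 (hr.dvd_of_dvd_pow h1)
      subst hrp
      exact Q.not_dvd_index (hrd.trans (index_dvd_of_le le_normalizer))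
    haveI : (Q : Subgroup ↥C).Normal := normalizer_eq_top_iff.1 hnorm
    have hchar : (Q : Subgroup ↥C).Characteristic := Q.characteristic_of_normal inferInstance
    have hn : ((Q : Subgroup ↥C).map C.subtype).Normal := inferInstance
    have hle : (Q : Subgroup ↥C).map C.subtype ≤ ⊥ :=
      hcore ▸ CfsgLib.Base.le_pCore (Q.2.map _)
    exact le_bot_iff.1 ((map_subtype_inj (H := C)).1 ((le_bot_iff.1 hle).trans (Subgroup.map_bot _).symm)).le
  have hw'p : (⟨w', hC⟩ : ↥C) = 1 := by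
    obtain ⟨i, hi⟩ := d.pgrp.map R.subtype ⟨t⁻¹, inv_mem ht⟩
    have hi' : t⁻¹ ^ p ^ i = 1 := congrArg Subtype.val hi
    have hcm : Commute t⁻¹ w := (hwU _ (inv_mem ht)).symm
    have hpw : w' ^ p ^ (i + 1) = 1 := by
      rw [hw', hcm.mul_pow, pow_succ, pow_mul t⁻¹, hi', one_pow, one_mul, pow_mul', hj, one_pow]
    have hgrp : IsPGroup p (zpowers (⟨w', hC⟩ : ↥C)) := by
      rintro ⟨x, hx⟩
      obtain ⟨m, rfl⟩ := hx
      refine ⟨i + 1, Subtype.ext (Subtype.ext ?_)⟩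
      simp only [SubgroupClass.coe_pow, SubgroupClass.coe_zpow, OneMemClass.coe_one]
      rw [← zpow_natCast, ← zpow_mul, mul_comm, zpow_mul, zpow_natCast, hpw, one_zpow]
    obtain ⟨Q, hQ⟩ := hgrp.exists_le_sylow
    exact mem_bot.1 (hPC Q ▸ hQ (mem_zpowers _))
  have : w = t := by
    have h1 : t⁻¹ * w = 1 := congrArg Subtype.val hw'p
    exact (inv_mul_eq_one.1 h1).symm
  exact hwR (this ▸ hUR ht)

end CfsgLib.LocalEven.RankOneOuter
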