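import Cfsg.Agent.Lib.PLocal.GlaubermanReplacement
import Cfsg.Agent.Lib.Coprime.Basic
import Cfsg.Prelude.Def_PLocal

/-!
# The replacement does not lower the rank
-/

namespace CfsgLib.LocalEven.ReplaceRank

open Subgroup CfsgLib.PLocal
open scoped commutatorElement

variable {S : Type*} [Group S] [Finite S] {p : ℕ}

theorem mem_omegaOne_iff {H : Subgroup S} (hH : IsMulCommutative H) {x : S} :
    x ∈ Cfsg.omegaOne p H ↔ x ∈ H ∧ x ^ p = 1 := by
  refine ⟨fun hx => ?_, fun hx => subset_closure hx⟩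
  induction hx using closure_induction with
  | mem x hx => exact hx
  | one => exact ⟨one_mem H, one_pow p⟩
  | mul u v _ _ hu hv =>
    exact ⟨mul_mem hu.1 hv.1, by
      rw [(show Commute u v from comm_of_mem hH hu.1 hv.1).mul_pow, hu.2, hv.2, one_mul]⟩
  | inv u _ hu => exact ⟨inv_mem hu.1, by rw [inv_pow, hu.2, inv_one]⟩

theorem card_pow {H W : Subgroup S} (hH : IsMulCommutative H) (hWH : W ≤ H) (f : H →* H)
    (hf : ∀ x : H, f x = x ^ p) :
    Nat.card W = Nat.card (Cfsg.omegaOne p W) * Nat.card ((W.subgroupOf H).map f) := by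
  have hW : IsMulCommutative W :=
    ⟨⟨fun a c => Subtype.ext (comm_of_mem hH (hWH a.2) (hWH c.2))⟩⟩
  rw [← Nat.card_congr (subgroupOfEquivOfLe hWH).toEquiv,
    card_eq_of_hom (f.comp (W.subgroupOf H).subtype), MonoidHom.range_comp, range_subtype]
  congr 1
  refine Nat.card_congr
    ⟨fun x => ⟨(x.1.1 : S), ?_⟩, fun y => ⟨⟨⟨y.1, hWH ((mem_omegaOne_iff hW).1 y.2).1⟩,
      ((mem_omegaOne_iff hW).1 y.2).1⟩, ?_⟩, fun x => rfl, fun y => rfl⟩
  · refine (mem_omegaOne_iff hW).2 ⟨x.1.2, ?_⟩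
    have h := MonoidHom.mem_ker.1 x.2
    simp only [MonoidHom.comp_apply, Subgroup.coe_subtype, hf] at h
    simpa using congrArg Subtype.val h
  · rw [MonoidHom.mem_ker]
    simp only [MonoidHom.comp_apply, Subgroup.coe_subtype, hf]
    exact Subtype.ext (by simpa using ((mem_omegaOne_iff hW).1 y.2).2)

theorem rank_le [Fact p.Prime] (hp : p ≠ 2) {A B : Subgroup S} [B.Normal] {b : S}
    (hA : IsMulCommutative A) (hBA : ⁅B, B⁆ ≤ A) (hb : b ∈ B)
    (hbN : b ∈ normalizer ((normalizer (A : Set S)) : Set S)) (h : ReplaceFacts A B b) :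
    Nat.card (Cfsg.omegaOne p A) ≤ Nat.card (Cfsg.omegaOne p (replaced A b)) := by
  classical
  set R := replaced A b with hR
  set M := A ⊓ A.map (MulAut.conj b⁻¹).toMonoidHom with hM
  set K := A ⊓ A.map (MulAut.conj b).toMonoidHom with hK
  let x : S → S := fun a => b⁻¹ * a * b * a⁻¹
  have hMR : M ≤ R := le_sup_left
  have hxR : ∀ a ∈ A, x a ∈ R := fun a ha => by
    have e : x a = (a * b⁻¹ * a⁻¹ * b)⁻¹ := by simp only [x]; group
    rw [e]; exact inv_mem (mem_sup_right (subset_closure ⟨a, ha, rfl⟩))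
  have hA'mem : ∀ z, z ∈ A.map (MulAut.conj b⁻¹).toMonoidHom ↔ b * z * b⁻¹ ∈ A := fun z => by
    constructor
    · rintro ⟨a, ha, rfl⟩; simpa [mul_assoc] using ha
    · intro h; exact ⟨b * z * b⁻¹, h, by simp [mul_assoc]⟩
  have hxB : ∀ a, x a ∈ B := fun a => by
    have e : x a = b⁻¹ * (a * b * a⁻¹) := by simp only [x]; group
    rw [e]; exact mul_mem (inv_mem hb) (‹B.Normal›.conj_mem b hb a)
  have hBmem : ∀ u ∈ B, u ∈ A → u ∈ M := fun u hu huA => ⟨huA, by
    show u ∈ A.map (MulAut.conj b⁻¹).toMonoidHom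
    rw [hA'mem]
    have e : b * u * b⁻¹ = ⁅b, u⁆ * u := by group
    rw [e]
    exact mul_mem (hBA (commutator_mem_commutator hb hu)) huA⟩
  have hA'N : A.map (MulAut.conj b⁻¹).toMonoidHom ≤ normalizer (A : Set S) :=
    h.le_sup.trans (sup_le h.repl_le_normalizer le_normalizer)
  let pw : R →* R :=
    { toFun := fun z => z ^ p
      map_one' := one_pow p
      map_mul' := fun u v => (show Commute u v from h.comm.is_comm.comm u v).mul_pow p }
  set Mp := (M.subgroupOf R).map pw with hMp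
  haveI : Mp.Normal := ⟨fun n hn g => by
    rw [h.comm.is_comm.comm g n, mul_inv_cancel_right]; exact hn⟩
  let q := QuotientGroup.mk' Mp
  have hqM : ∀ (m : S) (hm : m ∈ M), q (pw ⟨m, hMR hm⟩) = 1 := fun m hm =>
    (QuotientGroup.eq_one_iff _).2 ⟨⟨m, hMR hm⟩, hm, rfl⟩
  have hmulm : ∀ a ∈ A, ∀ c ∈ A, ∃ m, ∃ _ : m ∈ M, x (a * c) = x a * x c * m := by
    intro a ha c hc
    refine ⟨(x c)⁻¹ * (a * x c * a⁻¹), hBmem _ ?_ ?_, by simp only [x]; group⟩
    · exact mul_mem (inv_mem (hxB c)) (‹B.Normal›.conj_mem _ (hxB c) a)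
    · have e : (x c)⁻¹ * (a * x c * a⁻¹) = ((x c)⁻¹ * a * (x c)⁻¹⁻¹) * a⁻¹ := by group
      rw [e]
      exact mul_mem ((mem_normalizer_iff.1 (inv_mem (h.repl_le_normalizer (hxR c hc))) a).1 ha)
        (inv_mem ha)
  let ψ : A →* R ⧸ Mp :=
    { toFun := fun a => q (pw ⟨x a, hxR a a.2⟩)
      map_one' := by
        have e : (⟨x ((1 : A) : S), hxR _ (1 : A).2⟩ : R) = 1 := Subtype.ext (by simp [x])
        rw [e, map_one, map_one]
      map_mul' := fun a c => by
        obtain ⟨m, hm, he⟩ := hmulm a a.2 c c.2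
        have e : (⟨x ((a * c : A) : S), hxR _ (a * c).2⟩ : R)
            = (⟨x a, hxR a a.2⟩ * ⟨x c, hxR c c.2⟩) * ⟨m, hMR hm⟩ := Subtype.ext he
        rw [e, map_mul, map_mul, hqM m hm, mul_one, map_mul, map_mul] }
  -- the kernel
  set Ω := Cfsg.omegaOne p A with hΩ
  have hKΩ : (K ⊔ Ω).subgroupOf A ≤ ψ.ker := by
    have hle : K ⊔ Ω ≤ ψ.ker.map A.subtype := by
      refine sup_le (fun k hk => ⟨⟨k, hk.1⟩, ?_, rfl⟩) (fun a ha => ?_)
      · show q (pw ⟨x k, _⟩) = 1
        refine hqM _ (hBmem _ (hxB k) ?_)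
        obtain ⟨c, hc, he⟩ := hk.2
        have : x k = c * k⁻¹ := by
          simp only [x, ← he, MulEquiv.coe_toMonoidHom, MulAut.conj_apply]; group
        rw [this]; exact mul_mem hc (inv_mem hk.1)
      · obtain ⟨haA, hap⟩ := (mem_omegaOne_iff hA).1 ha
        refine ⟨⟨a, haA⟩, ?_, rfl⟩
        set u := b⁻¹ * a * b with hu
        have huA' : u ∈ A.map (MulAut.conj b⁻¹).toMonoidHom := by
          rw [hA'mem, hu]; convert haA using 1; group
        set w := ⁅a⁻¹, u⁆ with hw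
        have hwM : w ∈ M := by
          refine ⟨?_, ?_⟩
          · have e : w = a⁻¹ * (u * a * u⁻¹) := by rw [hw]; group
            rw [e]
            exact A.mul_mem (A.inv_mem haA) ((mem_normalizer_iff.1 (hA'N huA') a).1 haA)
          · show w ∈ A.map (MulAut.conj b⁻¹).toMonoidHom
            have hnA : ∀ n ∈ normalizer (A : Set S), ∀ z ∈ A.map (MulAut.conj b⁻¹).toMonoidHom,
                n * z * n⁻¹ ∈ A.map (MulAut.conj b⁻¹).toMonoidHom := by
              intro n hn z hz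
              rw [hA'mem] at hz ⊢
              have e : b * (n * z * n⁻¹) * b⁻¹ =
                  (b * n * b⁻¹) * (b * z * b⁻¹) * (b * n * b⁻¹)⁻¹ := by group
              rw [e]
              exact (mem_normalizer_iff.1 ((mem_normalizer_iff.1 hbN n).1 hn) _).1 hz
            have e : w = (a⁻¹ * u * a⁻¹⁻¹) * u⁻¹ := by rw [hw]; group
            rw [e]; exact mul_mem (hnA _ (le_normalizer (inv_mem haA)) u huA') (inv_mem huA')
        have c2 : Commute w a⁻¹ := comm_of_mem hA hwM.1 (inv_mem haA)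
        have c1 : Commute w u := by
          have h1 := comm_of_mem hA ((hA'mem w).1 hwM.2) ((hA'mem u).1 huA')
          show w * u = u * w
          calc w * u = b⁻¹ * ((b * w * b⁻¹) * (b * u * b⁻¹)) * b := by group
            _ = b⁻¹ * ((b * u * b⁻¹) * (b * w * b⁻¹)) * b := by rw [h1]
            _ = _ := by group
        obtain ⟨k, hk⟩ := odd_dvd_choose_two ((Fact.out : p.Prime).odd_of_ne_two hp)
        have hxp : x a ^ p = (w ^ k) ^ p := by
          have e : x a = u * a⁻¹ := by simp only [x, hu]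
          have hup : u ^ p = 1 := by
            rw [hu, show b⁻¹ * a * b = b⁻¹ * a * b⁻¹⁻¹ by group, conj_pow, hap]; group
          rw [e, mul_pow_of_class_two c1 c2, inv_pow, hap, inv_one, mul_one, hup, one_mul, hk,
            mul_comm p k, pow_mul]
        show q (pw ⟨x a, _⟩) = 1
        rw [show pw ⟨x a, hxR a haA⟩ = pw ⟨w ^ k, hMR (pow_mem hwM k)⟩ from
          Subtype.ext (by simpa [pw] using hxp)]
        exact hqM _ (pow_mem hwM k)
    intro a ha
    obtain ⟨c, hc, he⟩ := hle ha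
    rw [← (Subtype.ext he : c = a)]; exact hc
  -- the range
  have hrange : ((R.subgroupOf R).map pw).map q ≤ ψ.range := by
    rintro _ ⟨_, ⟨z, -, rfl⟩, rfl⟩
    have hle : R ≤ ((ψ.range.comap q).comap pw).map R.subtype := by
      conv_lhs => rw [hR, replaced]
      refine sup_le (fun m hm => ⟨⟨m, hMR hm⟩, ?_, rfl⟩) ((closure_le _).2 ?_)
      · show q (pw ⟨m, hMR hm⟩) ∈ ψ.range
        rw [hqM m hm]; exact one_mem _
      · rintro _ ⟨a, ha, rfl⟩
        refine ⟨⟨x a, hxR a ha⟩⁻¹, inv_mem ?_, ?_⟩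
        · exact ⟨⟨a, ha⟩, rfl⟩
        · simp [x, mul_assoc]
    obtain ⟨c, hc, he⟩ := hle z.2
    rw [← (Subtype.ext he : c = z)]; exact hc
  have hRR := card_pow (p := p) h.comm le_rfl pw fun _ => rfl
  have hMM := card_pow (p := p) h.comm hMR pw fun _ => rfl
  rw [← hMp] at hMM
  -- `#R^p ≤ #M^p · #ψ(A)`
  have hP : Nat.card ((R.subgroupOf R).map pw) ≤ Nat.card Mp * Nat.card ψ.range := by
    rw [card_eq_of_hom (q.comp ((R.subgroupOf R).map pw).subtype), MonoidHom.range_comp,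
      range_subtype]
    refine Nat.mul_le_mul ?_ (card_le_of_le hrange)
    refine Nat.card_le_card_of_injective (fun w => (⟨w.1.1, ?_⟩ : Mp)) fun u v huv => ?_
    · exact (QuotientGroup.eq_one_iff _).1 w.2
    · have h9 : (u.1.1 : R) = v.1.1 := congrArg (fun w : Mp => (w : R)) huv
      exact Subtype.ext (Subtype.ext h9)
  have hA1 := card_eq_of_hom ψ
  -- the sup
  have hΩA : Ω ≤ A := fun a ha => ((mem_omegaOne_iff hA).1 ha).1
  have hsup : Nat.card (K ⊔ Ω : Subgroup S) ≤ Nat.card ψ.ker := by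
    rw [← Nat.card_congr (subgroupOfEquivOfLe (sup_le inf_le_left hΩA)).toEquiv]
    exact card_le_of_le hKΩ
  have hKn : K ≤ normalizer (Ω : Set S) := fun k hk => mem_normalizer_fintype fun a ha => by
    show k * a * k⁻¹ ∈ Ω
    rw [comm_of_mem hA hk.1 (hΩA ha), mul_inv_cancel_right]; exact ha
  have hKc : IsMulCommutative K :=
    ⟨⟨fun u v => Subtype.ext (comm_of_mem hA u.2.1 v.2.1)⟩⟩
  have hKΩi : K ⊓ Ω = Cfsg.omegaOne p K := by
    ext a
    rw [mem_inf, hΩ, mem_omegaOne_iff hA, mem_omegaOne_iff hKc]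
    exact ⟨fun h => ⟨h.1, h.2.2⟩, fun h => ⟨h.1, h.1.1, h.2⟩⟩
  have hcard := CfsgLib.Coprime.card_sup_mul_card_inf hKn
  rw [hKΩi] at hcard
  have hinj : Function.Injective (MulAut.conj b⁻¹).toMonoidHom := (MulAut.conj b⁻¹).injective
  have hMK : K.map (MulAut.conj b⁻¹).toMonoidHom = M := by
    rw [hK, Subgroup.map_inf _ _ _ hinj, Subgroup.map_map, hM, inf_comm]
    congr 1
    conv_rhs => rw [← map_id A]
    congr 1
    ext y
    simp [mul_assoc]
  have hcK : Nat.card K = Nat.card M := by rw [← hMK, card_map_of_injective' hinj]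
  have hcK1 : Nat.card (Cfsg.omegaOne p K) = Nat.card (Cfsg.omegaOne p M) := by
    rw [← card_map_of_injective' hinj, Cfsg.omegaOne, MonoidHom.map_closure, Cfsg.omegaOne, ← hMK]
    refine congrArg (fun W : Subgroup S => Nat.card W) (congrArg Subgroup.closure ?_)
    ext y
    constructor
    · rintro ⟨z, ⟨hz, hzp⟩, rfl⟩; exact ⟨⟨z, hz, rfl⟩, by rw [← map_pow, hzp, map_one]⟩
    · rintro ⟨⟨z, hz, rfl⟩, hzp⟩
      exact ⟨z, ⟨hz, hinj (by rw [map_pow, map_one, hzp])⟩, rfl⟩
  -- arithmetic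
  set r1 := Nat.card (Cfsg.omegaOne p R)
  set rp := Nat.card ((R.subgroupOf R).map pw)
  set m1 := Nat.card (Cfsg.omegaOne p M)
  set mp := Nat.card Mp
  set t := Nat.card ψ.range
  set a1 := Nat.card Ω
  set ker := Nat.card ψ.ker
  set s := Nat.card (K ⊔ Ω : Subgroup S)
  have hAR : Nat.card R = Nat.card A := h.card_eq
  have hpos : 0 < t ∧ 0 < mp ∧ 0 < m1 := ⟨Nat.card_pos, Nat.card_pos, Nat.card_pos⟩
  have h1 : s * m1 = m1 * mp * a1 := by rw [hcK1, hcK, hMM] at hcard; exact hcard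
  have h2 : s = mp * a1 := by
    refine Nat.eq_of_mul_eq_mul_right hpos.2.2 ?_
    rw [h1]; ring
  have h3 : rp * a1 ≤ Nat.card A := by
    calc rp * a1 ≤ mp * t * a1 := Nat.mul_le_mul_right a1 hP
      _ = s * t := by rw [h2]; ring
      _ ≤ ker * t := Nat.mul_le_mul_right t hsup
      _ = Nat.card A := hA1.symm
  rw [← hAR, hRR] at h3
  have hrp : 0 < rp := Nat.card_pos
  exact Nat.le_of_mul_le_mul_left (by rwa [mul_comm r1 rp] at h3) hrp

/-- The replacement theorem. -/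
theorem replacement [Fact p.Prime] (hp : p ≠ 2) (hS : IsPGroup p S) (A B : Subgroup S) [B.Normal]
    (hA : IsMulCommutative A) (hBA : ⁅B, B⁆ ≤ A) (hBnA : ¬ B ≤ normalizer (A : Set S)) :
    ∃ R : Subgroup S, IsMulCommutative R ∧ Nat.card R = Nat.card A ∧ A ⊓ B < R ⊓ B ∧
      R ≤ normalizer (A : Set S) ∧ (∀ D : Subgroup S, D.Normal → A ≤ D → R ≤ D) ∧
      Monoid.exponent R ∣ Monoid.exponent A ∧
      Nat.card (Cfsg.omegaOne p A) ≤ Nat.card (Cfsg.omegaOne p R) := by
  obtain ⟨b, hb, hbN, hbA⟩ := exists_mem_normalizer_normalizer hS B A hBnA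
  have h := replaceFacts (B := B) hS (fun h2 => absurd h2 hp) hA hBA hb hbN hbA
  refine ⟨replaced A b, h.comm, h.card_eq, h.inf_lt, h.repl_le_normalizer, h.le_normal, ?_,
    rank_le hp hA hBA hb hbN h⟩
  refine Monoid.exponent_dvd_of_forall_pow_eq_one fun z => Subtype.ext ?_
  rw [SubgroupClass.coe_pow]
  refine h.exponent _ (Or.inl ?_) (fun a ha => ?_) z z.2
  · obtain ⟨n, hn⟩ := IsPGroup.iff_card.1 (hS.to_subgroup A)
    exact Odd.of_dvd_nat (hn ▸ ((Fact.out : p.Prime).odd_of_ne_two hp).pow)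
      Group.exponent_dvd_nat_card
  · exact congrArg Subtype.val (Monoid.pow_exponent_eq_one (⟨a, ha⟩ : A))

/-- The same for `B` normalized by `A` only. -/
theorem replacement_rel {G : Type*} [Group G] [Finite G] [Fact p.Prime] (hp : p ≠ 2)
    (hG : IsPGroup p G) (A B : Subgroup G) (hA : IsMulCommutative A) (hBA : ⁅B, B⁆ ≤ A)
    (hAB : A ≤ normalizer (B : Set G)) (hBnA : ¬ B ≤ normalizer (A : Set G)) :
    ∃ R : Subgroup G, IsMulCommutative R ∧ Nat.card R = Nat.card A ∧ A ⊓ B < R ⊓ B ∧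
      R ≤ normalizer (A : Set G) ∧ R ≤ normalClosure (A : Set G) ∧
      Monoid.exponent R ∣ Monoid.exponent A ∧
      Nat.card (Cfsg.omegaOne p A) ≤ Nat.card (Cfsg.omegaOne p R) := by
  set T := A ⊔ B with hT
  have hiT : Function.Injective T.subtype := T.subtype_injective
  set A0 := A.subgroupOf T with hA0
  set B0 := B.subgroupOf T with hB0
  have hmA : A0.map T.subtype = A := map_subgroupOf_eq_of_le le_sup_left
  have hmB : B0.map T.subtype = B := map_subgroupOf_eq_of_le le_sup_right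
  haveI : B0.Normal :=
    (normal_subgroupOf_iff_le_normalizer (le_sup_right : B ≤ T)).2 (sup_le hAB le_normalizer)
  have hA0c : IsMulCommutative A0 :=
    ⟨⟨fun u v => Subtype.ext (Subtype.ext (comm_of_mem hA u.2 v.2))⟩⟩
  have hBA0 : ⁅B0, B0⁆ ≤ A0 := by
    rw [← map_le_map_iff_of_injective hiT, map_commutator, hmA, hmB]; exact hBA
  have hBn0 : ¬ B0 ≤ normalizer (A0 : Set T) := fun hle => hBnA fun u hu =>
    mem_normalizer_fintype fun a ha =>
      (mem_normalizer_iff.1 (hle (x := ⟨u, mem_sup_right hu⟩) hu) ⟨a, mem_sup_left ha⟩).1 ha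
  obtain ⟨R, hRc, hcard, hlt, hRn, hRD, hexp, hrk⟩ :=
    replacement hp (hG.to_subgroup T) A0 B0 hA0c hBA0 hBn0
  have homega : ∀ H : Subgroup T,
      Nat.card (Cfsg.omegaOne p (H.map T.subtype)) = Nat.card (Cfsg.omegaOne p H) := by
    intro H
    have : Cfsg.omegaOne p (H.map T.subtype) = (Cfsg.omegaOne p H).map T.subtype := by
      rw [Cfsg.omegaOne, Cfsg.omegaOne, MonoidHom.map_closure]
      congr 1
      ext y
      constructor
      · rintro ⟨⟨z, hz, rfl⟩, hzp⟩
        exact ⟨z, ⟨hz, hiT (by rw [map_pow, map_one, hzp])⟩, rfl⟩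
      · rintro ⟨z, ⟨hz, hzp⟩, rfl⟩; exact ⟨⟨z, hz, rfl⟩, by rw [← map_pow, hzp, map_one]⟩
    rw [this, Nat.card_congr (equivMapOfInjective _ _ hiT).toEquiv.symm]
  refine ⟨R.map T.subtype, ?_, ?_, ?_, ?_, ?_, ?_, ?_⟩
  · exact ⟨⟨by
      rintro ⟨_, u, hu, rfl⟩ ⟨_, v, hv, rfl⟩
      exact Subtype.ext (congrArg T.subtype (comm_of_mem hRc hu hv) : _)⟩⟩
  · rw [Nat.card_congr (equivMapOfInjective _ _ hiT).toEquiv.symm, hcard,
      Nat.card_congr (subgroupOfEquivOfLe (le_sup_left : A ≤ T)).toEquiv]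
  · have := (map_lt_map_iff_of_injective hiT).2 hlt
    rwa [Subgroup.map_inf _ _ _ hiT, Subgroup.map_inf _ _ _ hiT, hmA, hmB] at this
  · calc R.map T.subtype ≤ (normalizer (A0 : Set T)).map T.subtype := map_mono hRn
      _ ≤ normalizer ((A0.map T.subtype : Subgroup G) : Set G) := le_normalizer_map _
      _ = normalizer (A : Set G) := by rw [hmA]
  · refine (map_mono (hRD ((normalClosure (A : Set G)).subgroupOf T) inferInstance
      fun a ha => subset_normalClosure ha)).trans ?_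
    rw [subgroupOf_map_subtype]; exact inf_le_left
  · rw [← Monoid.exponent_eq_of_mulEquiv (equivMapOfInjective R _ hiT),
      ← Monoid.exponent_eq_of_mulEquiv (subgroupOfEquivOfLe (le_sup_left : A ≤ T))]
    exact hexp
  · rw [homega R]
    rw [← hmA, homega A0]
    exact hrk

end CfsgLib.LocalEven.ReplaceRank
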