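import Cfsg.Agent.Lib.LocalEven.S4FreeMin
import Cfsg.Agent.Lib.LocalEven.CharP
import Cfsg.Agent.Lib.LocalEven.StrongEmb
import Cfsg.Agent.Lib.Fusion.Invariant
import Cfsg.Agent.Lib.Transfer.Alperin
import Cfsg.Agent.Lib.Transfer.S4Recognition

/-!
# No minimal offenders in a group with a unique maximal overgroup of a Sylow subgroup

The double counting of the pairs `(v, a)` with `[v, a]` central shows that commutation with a minimal
offender is surjective; a natural `S₃`-plane follows.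
-/

set_option autoImplicit false
set_option linter.unusedSectionVars false

namespace CfsgLib.LocalEven.S4F

open Cfsg CfsgLib.PLocal
open CD (cj cen)
open scoped commutatorElement

universe u

variable {G : Type u} [Group G] [Finite G] {V : Subgroup G}

theorem card_lt {H K : Subgroup G} (h : H < K) : Nat.card H < Nat.card K :=
  CfsgLib.Transfer.card_lt_card_of_lt h

theorem mem_cj {x y : G} {R : Subgroup G} : y ∈ cj x R ↔ x⁻¹ * y * x ∈ R := by
  constructor
  · rintro ⟨r, hr, rfl⟩; simpa [mul_assoc] using hr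
  · intro h; exact ⟨_, h, by simp [mul_assoc]⟩

theorem cj_le_cj_iff {x : G} {A B : Subgroup G} : cj x A ≤ cj x B ↔ A ≤ B :=
  Subgroup.map_le_map_iff_of_injective (MulAut.conj x).injective

theorem cj_of_mem {x : G} {M : Subgroup G} (hx : x ∈ M) : cj x M = M :=
  CD.cj_eq_of_mem_normalizer (Subgroup.le_normalizer hx)

theorem cj_normal (x : G) (N : Subgroup G) [N.Normal] : cj x N = N :=
  CD.cj_eq_of_mem_normalizer (by rw [Subgroup.normalizer_eq_top]; trivial)

/-- The hypotheses: a unique maximal subgroup over `S`, containing the two normalizers, and the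
generation statement for proper subgroups. -/
structure Setting (V : Subgroup G) (S : Sylow 2 G) (M : Subgroup G) : Prop where
  elem : IsElementaryAbelian 2 V
  hC : ∀ D : Subgroup G, D.Normal → cen V ≤ D → (∃ k, (cen V).relIndex D = 2 ^ k) → D = cen V
  proper : M ≠ ⊤
  hS : (S : Subgroup G) ≤ M
  unique : ∀ L : Subgroup G, (S : Subgroup G) ≤ L → L ≠ ⊤ → L ≤ M
  hZ : cen (V ⊓ cen (S : Subgroup G)) ≤ M
  hJ : Subgroup.normalizer (J V (S : Subgroup G) : Set G) ≤ M
  hrec : ∀ L : Subgroup G, V ≤ L → L ≠ ⊤ → ∀ T : Subgroup G, CfsgLib.Fusion.IsSylIn 2 T L →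
    ∀ M' : Subgroup G, L ⊓ cen (V ⊓ cen T) ≤ M' →
      L ⊓ Subgroup.normalizer (J V T : Set G) ≤ M' → L ≤ M'

namespace Setting

variable [V.Normal] {S : Sylow 2 G} {M : Subgroup G} (hyp : Setting V S M)

include hyp

theorem V_le_cen : V ≤ cen V := fun _ hv w hw => comm_of_mem hyp.elem.1 hw hv

theorem V_le_sylow : V ≤ (S : Subgroup G) :=
  (isPGroup_elem hyp.elem).le_sylow_of_normal S

theorem cen_le : cen V ≤ M := (CD.cen_anti inf_le_left).trans hyp.hZ

theorem inf_normal (K : Subgroup G) [K.Normal] (hK : K ≤ M) :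
    ((S : Subgroup G) ⊓ K).Normal ∧ (S : Subgroup G) ⊓ K ≤ cen V := by
  haveI : Fact (Nat.Prime 2) := ⟨Nat.prime_two⟩
  have hsyl : CfsgLib.Fusion.IsSylIn 2 ((S : Subgroup G) ⊓ K) K := CfsgLib.Fusion.isSylIn_inf
    (⟨le_top, S.2, fun C hC hle _ => S.3 hC hle⟩ :
      CfsgLib.Fusion.IsSylIn 2 (S : Subgroup G) ⊤)
    le_top fun b _ n hn => ‹K.Normal›.conj_mem n hn b
  obtain ⟨Q, hQ⟩ := (CfsgLib.Fusion.exists_sylow_iff inf_le_right).2 hsyl
  have hfr := Sylow.normalizer_sup_eq_top Q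
  rw [hQ, Subgroup.map_subgroupOf_eq_of_le inf_le_right] at hfr
  set P := (S : Subgroup G) ⊓ K
  have hn : Subgroup.normalizer (P : Set G) = ⊤ := by
    by_contra hne
    refine hyp.proper (eq_top_iff.2 (hfr ▸ sup_le (hyp.unique _ ?_ hne) hK))
    intro s hs
    refine mem_normalizer_of_conj (Subgroup.map_inf _ _ _ (MulAut.conj s).injective |>.trans ?_)
    rw [cj_of_mem hs |> fun e : (S : Subgroup G).map (MulAut.conj s).toMonoidHom = S => e]
    exact congrArg _ (cj_normal s K)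
  haveI hPn : P.Normal := Subgroup.normalizer_eq_top_iff.1 hn
  refine ⟨hPn, ?_⟩
  have hD : cen V ⊔ P = cen V := by
    refine hyp.hC _ inferInstance le_sup_left ?_
    obtain ⟨k, hk⟩ := IsPGroup.iff_card.1 (S.2.to_le (inf_le_left : P ≤ _))
    obtain ⟨j, -, hj⟩ := (Nat.dvd_prime_pow Nat.prime_two).1
      (hk ▸ ((cen V).subgroupOf P).index_dvd_card :
        ((cen V).subgroupOf P).index ∣ 2 ^ k)
    refine ⟨j, ?_⟩
    rw [sup_comm, Subgroup.relIndex_sup_right]
    exact hj
  exact le_sup_right.trans hD.le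

theorem kernel_normal : ((S : Subgroup G) ⊓ cen V).Normal := (hyp.inf_normal (cen V) hyp.cen_le).1

/-- Normalizers of subgroups of `S` carrying a minimal offender lie in `M`. -/
theorem normalizer_le : ∀ H : Subgroup G, H ≤ (S : Subgroup G) → (S : Subgroup G) ⊓ cen V ≤ H →
    (∃ A, A ≤ H ∧ Min V A) → Subgroup.normalizer (H : Set G) ≤ M := by
  haveI : Fact (Nat.Prime 2) := ⟨Nat.prime_two⟩
  set C₀ := (S : Subgroup G) ⊓ cen V with hC₀
  haveI hC₀n : C₀.Normal := hyp.kernel_normal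
  by_contra hcon
  push Not at hcon
  let P : Subgroup G → Prop := fun H => H ≤ (S : Subgroup G) ∧ C₀ ≤ H ∧ (∃ A, A ≤ H ∧ Min V A) ∧
    ¬ Subgroup.normalizer (H : Set G) ≤ M
  have hne : {H | P H}.Nonempty := by
    obtain ⟨H, h1, h2, h3, h4⟩ := hcon
    exact ⟨H, h1, h2, h3, h4⟩
  obtain ⟨H, ⟨hHS, hC₀H, ⟨A, hAH, hA⟩, hHM⟩, hmax⟩ := Set.exists_max_image {H | P H}
    (fun H => Nat.card ↥((S : Subgroup G) ⊓ Subgroup.normalizer (H : Set G))) (Set.toFinite _) hne
  set N := Subgroup.normalizer (H : Set G) with hN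
  set U := (S : Subgroup G) ⊓ N with hU
  have hHU : H ≤ U := le_inf hHS Subgroup.le_normalizer
  have hUp : IsPGroup 2 U := S.2.to_le inf_le_left
  have hNtop : N ≠ ⊤ := fun h => by
    haveI : H.Normal := Subgroup.normalizer_eq_top_iff.1 h
    have hle := hyp.inf_normal H (hHS.trans hyp.hS)
    exact not_le_cen hA ((le_inf (hAH.trans hHS) hAH).trans hle.2)
  have hUS : U < (S : Subgroup G) := lt_of_le_of_ne inf_le_left fun e =>
    hHM (hyp.unique N (e ▸ inf_le_right) hNtop)
  have hbig : ∀ H' : Subgroup G, U < (S : Subgroup G) ⊓ Subgroup.normalizer (H' : Set G) →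
      ¬ P H' := fun H' hlt hP => (hmax H' hP).not_gt (card_lt hlt)
  have hsylM : CfsgLib.Fusion.IsSylIn 2 (S : Subgroup G) M :=
    ⟨hyp.hS, S.2, fun C hC hle _ => S.3 hC hle⟩
  have hsylNM : ∀ C : Subgroup G, IsPGroup 2 C → U ≤ C → C ≤ N → C ≤ M → C = U := by
    intro C hC hUC hCN hCM
    by_contra hne'
    obtain ⟨m, hm, hmC⟩ := hsylM.exists_conj_le hC hCM
    refine (hmax (cj m H) ⟨?_, ?_, ⟨cj m A, CD.cj_mono m hAH, hA.cj m⟩, ?_⟩).not_gt ?_
    · rintro _ ⟨h, hh, rfl⟩; exact hmC h (hUC (hHU hh))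
    · rw [← cj_normal m C₀]; exact CD.cj_mono m hC₀H
    · intro h
      refine hHM fun n hn => ?_
      have h1 : m * n * m⁻¹ ∈ Subgroup.normalizer (cj m H : Set G) := by
        refine mem_normalizer_of_conj ?_
        rw [conj_map_conj_map, show m * n * m⁻¹ * m = m * n by group, ← conj_map_conj_map,
          conj_map_eq_of_mem_normalizer hn]
      have := M.mul_mem (M.mul_mem (M.inv_mem hm) (h h1)) hm
      simpa [mul_assoc] using this
    · refine (card_lt (lt_of_le_of_ne hUC (Ne.symm hne'))).trans_le ?_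
      rw [← CD.card_cj m C]
      refine Subgroup.card_le_of_le (le_inf ?_ ?_)
      · rintro _ ⟨h, hh, rfl⟩; exact hmC h hh
      · rintro _ ⟨h, hh, rfl⟩
        refine mem_normalizer_of_conj ?_
        change (cj m H).map (MulAut.conj (m * h * m⁻¹)).toMonoidHom = _
        rw [conj_map_conj_map, show m * h * m⁻¹ * m = m * h by group, ← conj_map_conj_map,
          conj_map_eq_of_mem_normalizer (hCN hh)]
  have hC₀U : C₀ ≤ U := hC₀H.trans hHU
  have hsyl : CfsgLib.Fusion.IsSylIn 2 U N := by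
    by_contra h
    obtain ⟨b, hbN, hbU, hbn, k, hk⟩ := CfsgLib.Fusion.exists_normalizing inf_le_right hUp h
    have hbM : b ∈ M := by
      by_contra hbM
      exact hbig U (CfsgLib.Fusion.lt_inf_normalizer S.2 hUS)
        ⟨inf_le_left, hC₀U, ⟨A, hAH.trans hHU, hA⟩, fun h' => hbM (h' hbn)⟩
    have hzp : IsPGroup 2 (Subgroup.zpowers b) := by
      obtain ⟨j, -, hj⟩ := (Nat.dvd_prime_pow Nat.prime_two).1 (orderOf_dvd_of_pow_eq_one hk)
      exact IsPGroup.iff_card.2 ⟨j, by rw [Nat.card_zpowers, hj]⟩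
    have hC : U ⊔ Subgroup.zpowers b = U := hsylNM _
      (IsPGroup.to_sup_of_normal_left' hUp hzp (Subgroup.zpowers_le.2 hbn)) le_sup_left
      (sup_le inf_le_right (Subgroup.zpowers_le.2 hbN))
      (sup_le (inf_le_left.trans hyp.hS) (Subgroup.zpowers_le.2 hbM))
    exact hbU (hC.le (Subgroup.mem_sup_right (Subgroup.mem_zpowers b)))
  have hVN : V ≤ N := (le_inf hyp.V_le_sylow hyp.V_le_cen).trans (hC₀H.trans Subgroup.le_normalizer)
  refine hHM (hyp.hrec N hVN hNtop U hsyl M ?_ ?_)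
  · exact inf_le_right.trans ((CD.cen_anti (inf_le_inf_left _ (CD.cen_anti inf_le_left))).trans hyp.hZ)
  · set H' := J V U ⊔ C₀ with hH'
    have hH'U : H' ≤ U := sup_le (J_le V U) hC₀U
    have hnn : ∀ n ∈ Subgroup.normalizer (J V U : Set G), n ∈ Subgroup.normalizer (H' : Set G) :=
      fun n hn => mem_normalizer_of_conj (by
        rw [hH', Subgroup.map_sup, conj_map_eq_of_mem_normalizer hn]
        exact congrArg _ (cj_normal n C₀))
    by_contra h
    refine hbig H' ((CfsgLib.Fusion.lt_inf_normalizer S.2 hUS).trans_le (inf_le_inf_left _ ?_))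
      ⟨hH'U.trans inf_le_left, le_sup_right,
        ⟨A, (le_J (hAH.trans hHU) hA).trans le_sup_left, hA⟩, fun h' => h fun n hn => h' (hnn n hn.2)⟩
    exact fun n hn => hnn n (normalizer_le_normalizer_J hn)

/-- A minimal offender of `S` lies in no conjugate of `M` other than `M`. -/
theorem not_le_conj {A : Subgroup G} (hA : Min V A) (hAS : A ≤ (S : Subgroup G)) {g : G}
    (hg : g ∉ M) : ¬ A ≤ cj g M := by
  intro hAg
  haveI : Fact (Nat.Prime 2) := ⟨Nat.prime_two⟩
  set C₀ := (S : Subgroup G) ⊓ cen V with hC₀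
  haveI hC₀n : C₀.Normal := hyp.kernel_normal
  let X : Set G := {g | g ∉ M ∧ ∃ A, Min V A ∧ A ≤ (S : Subgroup G) ∧ A ≤ cj g M}
  have hne : X.Nonempty := ⟨g, hg, A, hA, hAS, hAg⟩
  obtain ⟨g, ⟨hg, A, hA, hAS, hAg⟩, hmax⟩ := Set.exists_max_image X
    (fun g => Nat.card ↥((S : Subgroup G) ⊓ cj g M)) (Set.toFinite _) hne
  set T := (S : Subgroup G) ⊓ cj g M with hT
  have hAT : A ≤ T := le_inf hAS hAg
  have hC₀T : C₀ ≤ T := le_inf inf_le_left (by
    rw [← cj_normal g C₀]; exact CD.cj_mono g (inf_le_left.trans hyp.hS))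
  have hsylM : CfsgLib.Fusion.IsSylIn 2 (S : Subgroup G) M :=
    ⟨hyp.hS, S.2, fun C hC hle _ => S.3 hC hle⟩
  have hTN := hyp.normalizer_le T inf_le_left hC₀T ⟨A, hAT, hA⟩
  have hTp : IsPGroup 2 T := S.2.to_le inf_le_left
  obtain ⟨m, hm, hmT⟩ := hsylM.exists_conj_le (hTp.map (MulAut.conj g⁻¹).toMonoidHom) (by
    rintro _ ⟨t, ht, rfl⟩
    have := mem_cj.1 ht.2
    simpa [mul_assoc] using this)
  set c := g * m⁻¹ with hc
  have hcM : c ∉ M := fun h => hg (by simpa [hc] using M.mul_mem h hm)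
  have hcg : cj c M = cj g M := by
    rw [hc, ← CD.cj_cj, cj_of_mem (M.inv_mem hm)]
  set Q := cj c (S : Subgroup G) with hQ
  have hQp : IsPGroup 2 Q := S.2.map _
  have hTQ : T ≤ Q := by
    intro t ht
    refine mem_cj.2 ?_
    have := hmT _ ⟨t, ht, rfl⟩
    simpa [hc, mul_assoc] using this
  have hQM : Q ≤ cj g M := hcg ▸ CD.cj_mono c hyp.hS
  have hlt : T < Q := by
    refine lt_of_le_of_ne hTQ fun e => hcM ?_
    have hTS : T = (S : Subgroup G) := Subgroup.eq_of_le_of_card_ge inf_le_left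
      (le_of_eq (by rw [e, hQ, CD.card_cj]))
    refine hyp.normalizer_le (S : Subgroup G) le_rfl inf_le_left ⟨A, hAS, hA⟩
      (mem_normalizer_of_conj ?_)
    show cj c (S : Subgroup G) = S
    rw [← hQ, ← e, hTS]
  set T2 := Q ⊓ Subgroup.normalizer (T : Set G) with hT2
  have hlt2 : T < T2 := CfsgLib.Fusion.lt_inf_normalizer hQp hlt
  obtain ⟨n, hn, hnT⟩ := hsylM.exists_conj_le (hQp.to_le inf_le_left)
    (show T2 ≤ M from inf_le_right.trans hTN)
  refine (hmax (n * g) ⟨fun h => hg (by simpa [mul_assoc] using M.mul_mem (M.inv_mem hn) h),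
    cj n A, hA.cj n, ?_, ?_⟩).not_gt ?_
  · rintro _ ⟨a, ha, rfl⟩; exact hnT a (hlt2.le (hAT ha))
  · rw [← CD.cj_cj]; exact CD.cj_mono n hAg
  · refine (card_lt hlt2).trans_le ?_
    rw [← CD.card_cj n T2]
    refine Subgroup.card_le_of_le (le_inf ?_ ?_)
    · rintro _ ⟨t, ht, rfl⟩; exact hnT t ht
    · rw [← CD.cj_cj]; exact CD.cj_mono n (inf_le_left.trans hQM)

/-- A conjugate of a minimal offender and an element outside its maximal subgroup generate `G`
together with the kernel. -/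
theorem sup_eq_top {A : Subgroup G} (hA : Min V A) (hAS : A ≤ (S : Subgroup G)) {a h : G}
    (ha : a ∉ cj h M) : cen V ⊔ Subgroup.zpowers a ⊔ cj h A = ⊤ := by
  haveI : Fact (Nat.Prime 2) := ⟨Nat.prime_two⟩
  by_contra hL
  set L := cen V ⊔ Subgroup.zpowers a ⊔ cj h A with hLdef
  set C₀ := (S : Subgroup G) ⊓ cen V with hC₀
  haveI hC₀n : C₀.Normal := hyp.kernel_normal
  have hC₀L : C₀ ≤ L := inf_le_right.trans (le_sup_left.trans le_sup_left)
  have hhL : cj h A ≤ L := le_sup_right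
  have hgp : IsPGroup 2 ↥(cj h A ⊔ C₀) :=
    (isPGroup_elem (hA.cj h).elem).to_sup_of_normal_right' (S.2.to_le inf_le_left)
      (by rw [Subgroup.normalizer_eq_top]; exact le_top)
  obtain ⟨T₀, hT₀⟩ := (hgp.comap_subtype (K := L)).exists_le_sylow
  set T := (T₀ : Subgroup L).map L.subtype with hT
  have hTL : T ≤ L := Subgroup.map_subtype_le _
  have hsyl : CfsgLib.Fusion.IsSylIn 2 T L := (CfsgLib.Fusion.exists_sylow_iff hTL).1
    ⟨T₀, (Subgroup.comap_map_eq_self_of_injective L.subtype_injective _).symm⟩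
  have hgT : cj h A ⊔ C₀ ≤ T := fun y hy =>
    ⟨⟨y, sup_le hhL hC₀L hy⟩, hT₀ (Subgroup.mem_subgroupOf.2 hy), rfl⟩
  obtain ⟨R, hR⟩ := (show IsPGroup 2 T from T₀.2.map _).exists_le_sylow
  obtain ⟨x, hx⟩ := MulAction.exists_smul_eq G S R
  have hTx : T ≤ cj x (S : Subgroup G) := fun y hy => by
    have h1 : y ∈ ((x • S : Sylow 2 G) : Subgroup G) := hx ▸ hR hy
    rw [Sylow.coe_subgroup_smul, ← CfsgLib.Base.map_conj_eq_smul] at h1
    exact h1
  have hA' : cj x⁻¹ (cj h A) ≤ (S : Subgroup G) := fun y hy => by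
    have := mem_cj.1 hy
    have h2 := mem_cj.1 (hTx (hgT (Subgroup.mem_sup_left this)))
    simpa [mul_assoc] using h2
  have hxh : x⁻¹ * h ∈ M := by
    by_contra hne
    refine hyp.not_le_conj ((hA.cj h).cj x⁻¹) hA' hne ?_
    rw [← CD.cj_cj]
    exact CD.cj_mono _ (CD.cj_mono h (hAS.trans hyp.hS))
  have hxM : cj h M = cj x M := by
    conv_lhs => rw [show h = x * (x⁻¹ * h) by group, ← CD.cj_cj, cj_of_mem hxh]
  refine ha ?_
  rw [hxM]
  refine hyp.hrec L ((hyp.V_le_cen).trans (le_sup_left.trans le_sup_left)) hL T hsyl _ ?_ ?_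
    (Subgroup.mem_sup_left (Subgroup.mem_sup_right (Subgroup.mem_zpowers a)))
  · refine inf_le_right.trans (le_trans ?_ (CD.cj_mono x hyp.hZ))
    rw [← CD.cen_cj]
    refine CD.cen_anti ?_
    show (V ⊓ cen (S : Subgroup G)).map (MulAut.conj x).toMonoidHom ≤ _
    rw [Subgroup.map_inf _ _ _ (MulAut.conj x).injective]
    show cj x V ⊓ cj x (cen (S : Subgroup G)) ≤ _
    rw [← CD.cen_cj, cj_normal x V]
    exact inf_le_inf_left _ (CD.cen_anti hTx)
  · intro n hn
    set H := cj x⁻¹ (J V T ⊔ C₀) with hH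
    have hHS : H ≤ (S : Subgroup G) := fun y hy => by
      have h1 := mem_cj.1 hy
      have h2 := mem_cj.1 (hTx (sup_le (J_le V T) (le_sup_right.trans hgT) h1))
      simpa [mul_assoc] using h2
    have hN := hyp.normalizer_le H hHS (by
        rw [hH]; exact (cj_normal x⁻¹ C₀).ge.trans (CD.cj_mono _ le_sup_right))
      ⟨cj x⁻¹ (cj h A), CD.cj_mono _ ((le_J (le_sup_left.trans hgT) (hA.cj h)).trans le_sup_left),
        (hA.cj h).cj x⁻¹⟩
    refine mem_cj.2 (hN (mem_normalizer_of_conj ?_))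
    show cj (x⁻¹ * n * x) H = H
    rw [hH, CD.cj_cj, show x⁻¹ * n * x * x⁻¹ = x⁻¹ * n by group, ← CD.cj_cj]
    congr 1
    rw [cj, Subgroup.map_sup, conj_map_eq_of_mem_normalizer hn.2]
    exact congrArg _ (cj_normal n C₀)

/-- The fixed points of `G` in `V`. -/
theorem inf_fixed_le {A : Subgroup G} (hA : Min V A) (hAS : A ≤ (S : Subgroup G)) {h : G}
    (hh : h ∉ M) : (V ⊓ cen A) ⊓ (V ⊓ cen (cj h A)) ≤ V ⊓ Subgroup.center G := by
  rintro v ⟨⟨hvV, hvA⟩, -, hvA'⟩
  obtain ⟨a, haA, ha⟩ := SetLike.not_le_iff_exists.1 (hyp.not_le_conj hA hAS hh)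
  refine ⟨hvV, ?_⟩
  have htop : (⊤ : Subgroup G) ≤ Subgroup.centralizer {v} := hyp.sup_eq_top hA hAS ha ▸
    sup_le (sup_le (fun c hc => Subgroup.mem_centralizer_singleton_iff.2 (hc v hvV).symm)
      (Subgroup.zpowers_le.2 (Subgroup.mem_centralizer_singleton_iff.2 (hvA a haA))))
      (fun c hc => Subgroup.mem_centralizer_singleton_iff.2 (hvA' c hc))
  exact Subgroup.mem_center_iff.2 fun y =>
    Subgroup.mem_centralizer_singleton_iff.1 (htop (Subgroup.mem_top y))

end Setting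

/-- `[v, a]` for an involution-like `v`. -/
def gam (v a : G) : G := v * (a * v * a⁻¹)

theorem gam_mul_left {v w a : G} (hV : IsElementaryAbelian 2 V) [V.Normal] (hv : v ∈ V) (hw : w ∈ V) :
    gam (v * w) a = gam v a * gam w a := by
  have h1 : a * v * a⁻¹ ∈ V := ‹V.Normal›.conj_mem v hv a
  unfold gam
  rw [conj_mul_aux, mul_assoc v w, ← mul_assoc w (a * v * a⁻¹), comm_of_mem hV.1 hw h1]
  group
where
  conj_mul_aux {a v w : G} : a * (v * w) * a⁻¹ = (a * v * a⁻¹) * (a * w * a⁻¹) := by group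

theorem gam_mul_right [V.Normal] (hV : IsElementaryAbelian 2 V) {v a b : G} (hv : v ∈ V)
    (hfix : a * gam v b * a⁻¹ = gam v b) : gam v (a * b) = gam v a * gam v b := by
  have e : b * v * b⁻¹ = v * gam v b := by
    rw [gam, ← mul_assoc, sq_eq_one hV hv, one_mul]
  unfold gam at hfix ⊢
  calc v * (a * b * v * (a * b)⁻¹) = v * (a * (b * v * b⁻¹) * a⁻¹) := by group
    _ = v * (a * v * a⁻¹) * (a * (v * (b * v * b⁻¹)) * a⁻¹) := by
        conv_lhs => rw [e]
        unfold gam; group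
    _ = _ := by rw [hfix]

theorem gam_mem [V.Normal] {v a : G} (hv : v ∈ V) : gam v a ∈ V :=
  V.mul_mem hv (‹V.Normal›.conj_mem v hv a)

theorem conj_of_commute {a v : G} (h : a * v = v * a) : a * v * a⁻¹ = v := by
  rw [h, mul_inv_cancel_right]

theorem gam_eq_one [V.Normal] (hV : IsElementaryAbelian 2 V) {v a : G} (hv : v ∈ V)
    (h : a * v = v * a) : gam v a = 1 := by
  rw [gam, conj_of_commute h, sq_eq_one hV hv]

theorem gam_fixed [V.Normal] (hV : IsElementaryAbelian 2 V) {A : Subgroup G} (hA : Min V A)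
    {v a : G} (hv : v ∈ V) (ha : a ∈ A) : gam v a ∈ V ⊓ cen A := by
  refine hA.quadratic hV ?_
  have h := Subgroup.commutator_mem_commutator hv ha
  have e : ⁅v, a⁆ = gam v a := by
    have h1 := inv_eq_self hV (‹V.Normal›.conj_mem v hv a)
    calc ⁅v, a⁆ = v * (a * v * a⁻¹)⁻¹ := by rw [commutatorElement_def]; group
      _ = _ := by rw [h1]; rfl
  rwa [e] at h

namespace Setting

variable [V.Normal] {S : Sylow 2 G} {M : Subgroup G} (hyp : Setting V S M)

include hyp

/-- An element of `A` moves only central vectors into the centre, among the fixed points of a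
suitable conjugate. -/
theorem moved_inf_le {A : Subgroup G} (hA : Min V A) (hAS : A ≤ (S : Subgroup G)) {a h : G}
    (hh : h ∉ M) (ha : a ∉ cj h M) {v : G} (hv : v ∈ V ⊓ cen (cj h A))
    (hva : gam v a ∈ V ⊓ Subgroup.center G) : v ∈ V ⊓ Subgroup.center G := by
  have hcen : ∀ {x b : G}, gam v x ∈ V ⊓ Subgroup.center G → b * gam v x * b⁻¹ = gam v x :=
    fun hx => conj_of_commute (Subgroup.mem_center_iff.1 hx.2 _)
  let H : Subgroup G :=
    { carrier := {x | gam v x ∈ V ⊓ Subgroup.center G}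
      one_mem' := by
        show gam v 1 ∈ V ⊓ Subgroup.center G
        rw [gam_eq_one hyp.elem hv.1 (by rw [one_mul, mul_one])]
        exact one_mem _
      mul_mem' := fun {x y} hx hy => by
        show gam v (x * y) ∈ V ⊓ Subgroup.center G
        rw [gam_mul_right hyp.elem hv.1 (hcen hy)]
        exact mul_mem hx hy
      inv_mem' := fun {x} hx => by
        show gam v x⁻¹ ∈ V ⊓ Subgroup.center G
        have e : gam v x⁻¹ = gam v x := by
          have h1 := hcen (b := x⁻¹) hx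
          have hxinv : x⁻¹ * gam v x * x⁻¹⁻¹ = gam v x := h1
          have h2 : x⁻¹ * v * x⁻¹⁻¹ * v = gam v x := by
            rw [← hxinv, gam]; group
          rw [← h2, gam, comm_of_mem hyp.elem.1 hv.1 (‹V.Normal›.conj_mem v hv.1 x⁻¹)]
        rw [e]; exact hx }
  have htop : (⊤ : Subgroup G) ≤ H := by
    rw [← hyp.sup_eq_top hA hAS ha]
    refine sup_le (sup_le (fun c hc => ?_) (Subgroup.zpowers_le.2 hva)) fun c hc => ?_
    · show gam v c ∈ V ⊓ Subgroup.center G
      rw [gam_eq_one hyp.elem hv.1 (hc v hv.1).symm]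
      exact one_mem _
    · show gam v c ∈ V ⊓ Subgroup.center G
      rw [gam_eq_one hyp.elem hv.1 (hv.2 c hc)]
      exact one_mem _
  refine hyp.inf_fixed_le hA hAS hh ⟨⟨hv.1, fun b hb => ?_⟩, hv⟩
  -- conjugation does not change the value
  have hall : ∀ x, gam v x ∈ V ⊓ Subgroup.center G := fun x => htop (Subgroup.mem_top x)
  have hmul : ∀ x y, gam v (x * y) = gam v x * gam v y := fun x y =>
    gam_mul_right hyp.elem hv.1 (hcen (hall y))
  have h1 : gam v (h * b * h⁻¹) = 1 :=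
    gam_eq_one hyp.elem hv.1 (hv.2 _ ⟨b, hb, rfl⟩)
  have h2 : gam v b = 1 := by
    rw [hmul, hmul, mul_comm_of] at h1
    · rw [mul_assoc, ← hmul, mul_inv_cancel,
        gam_eq_one (a := (1 : G)) hyp.elem hv.1 (by rw [one_mul, mul_one]), mul_one] at h1
      exact h1
    · exact comm_of_mem hyp.elem.1 (hall h).1 (hall b).1
  have h3 : b * v * b⁻¹ = v := by
    calc b * v * b⁻¹ = v * gam v b := by rw [gam, ← mul_assoc, sq_eq_one hyp.elem hv.1, one_mul]
      _ = v := by rw [h2, mul_one]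
  exact mul_inv_eq_iff_eq_mul.1 h3
where
  mul_comm_of {x y z : G} (h : x * y = y * x) : x * y * z = y * x * z := by rw [h]

/-- The number of vectors moved by `a ∈ A` into the centre. -/
theorem card_moved {A : Subgroup G} (hA : Min V A) (hAS : A ≤ (S : Subgroup G)) {a : G}
    (ha : a ∈ A) (ha1 : a ≠ 1) :
    Nat.card {v : V // gam (v : G) a ∈ V ⊓ Subgroup.center G} * Nat.card ↥(V ⊓ cen A) ≤
      Nat.card V * Nat.card ↥(V ⊓ Subgroup.center G) := by
  obtain ⟨h, hah⟩ : ∃ h, a ∉ cj h M := by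
    by_contra hcon
    push Not at hcon
    have haK : a ∈ M.normalCore := fun g => by
      have := mem_cj.1 (hcon g⁻¹)
      simpa using this
    haveI := M.normalCore_normal
    exact ha1 ((Subgroup.eq_bot_iff_forall _).1 hA.faith a
      ⟨ha, (hyp.inf_normal M.normalCore M.normalCore_le).2 ⟨hAS ha, haK⟩⟩)
  have hh : h ∉ M := fun hhM => hah (by rw [cj_of_mem hhM]; exact hyp.hS (hAS ha))
  let C' : Subgroup G :=
    { carrier := {v | v ∈ V ∧ gam v a ∈ V ⊓ Subgroup.center G}
      one_mem' := ⟨one_mem _, by simp [gam, one_mem]⟩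
      mul_mem' := fun {x y} hx hy => ⟨mul_mem hx.1 hy.1, by
        rw [gam_mul_left hyp.elem hx.1 hy.1]; exact mul_mem hx.2 hy.2⟩
      inv_mem' := fun {x} hx => by rw [inv_eq_self hyp.elem hx.1]; exact hx }
  have hcard : Nat.card {v : V // gam (v : G) a ∈ V ⊓ Subgroup.center G} = Nat.card C' :=
    Nat.card_congr ⟨fun v => ⟨v.1.1, v.1.2, v.2⟩, fun v => ⟨⟨v.1, v.2.1⟩, v.2.2⟩,
      fun _ => rfl, fun _ => rfl⟩
  set F' := V ⊓ cen (cj h A) with hF'
  have hF : Nat.card F' = Nat.card ↥(V ⊓ cen A) := by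
    have e : F' = cj h (V ⊓ cen A) := by
      show F' = (V ⊓ cen A).map (MulAut.conj h).toMonoidHom
      rw [Subgroup.map_inf _ _ _ (MulAut.conj h).injective]
      show F' = cj h V ⊓ cj h (cen A)
      rw [← CD.cen_cj, cj_normal h V]
    rw [e, CD.card_cj]
  rw [hcard, ← hF, ← card_sup_mul_card_inf C' F'
    ((show C' ≤ V from fun v hv => hv.1).trans (le_normalizer_of_abelian hyp.elem.1 inf_le_left))]
  exact Nat.mul_le_mul (Subgroup.card_le_of_le (sup_le (fun v hv => hv.1) inf_le_left))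
    (Subgroup.card_le_of_le fun v hv => hyp.moved_inf_le hA hAS hh hah hv.2 hv.1.2)

/-- Commutation with a minimal offender is surjective onto its fixed points modulo the centre. -/
theorem surjective {A : Subgroup G} (hA : Min V A) (hAS : A ≤ (S : Subgroup G)) {v y : G}
    (hv : v ∈ V) (hvF : v ∉ V ⊓ cen A) (hy : y ∈ V ⊓ cen A) :
    ∃ a ∈ A, gam v a * y ∈ V ⊓ Subgroup.center G := by
  classical
  letI := Fintype.ofFinite G
  set F := V ⊓ cen A with hFdef
  set N := V ⊓ Subgroup.center G with hNdef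
  have hNF : N ≤ F := fun z hz => ⟨hz.1, fun b _ => Subgroup.mem_center_iff.1 hz.2 b⟩
  have hFv : ∀ w ∈ V, ∀ b ∈ A, gam w b ∈ F := fun w hw b hb => gam_fixed hyp.elem hA hw hb
  let f : V → (A →* ↥F) := fun w => MonoidHom.mk' (fun b => ⟨gam w b, hFv w w.2 b b.2⟩)
    fun b c => Subtype.ext (gam_mul_right hyp.elem w.2
      (conj_of_commute ((hFv w w.2 c c.2).2 b b.2)))
  let K : V → ℕ := fun w => Nat.card {b : A // gam (w : G) b ∈ N}
  let ψ : V → (A →* ↥F ⧸ N.subgroupOf F) := fun w => (QuotientGroup.mk' _).comp (f w)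
  have hker : ∀ w, Nat.card (ψ w).ker = K w := fun w =>
    Nat.card_congr (Equiv.subtypeEquivRight fun b => by
      rw [MonoidHom.mem_ker]
      exact (QuotientGroup.eq_one_iff _).trans Subgroup.mem_subgroupOf)
  have hAeq : ∀ w, Nat.card A = Nat.card (ψ w).range * K w := fun w => by
    rw [Subgroup.card_eq_card_quotient_mul_card_subgroup (ψ w).ker,
      Nat.card_congr (QuotientGroup.quotientKerEquivRange (ψ w)).toEquiv, hker]
  have hFeq : Nat.card F = Nat.card (↥F ⧸ N.subgroupOf F) * Nat.card N := by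
    rw [Subgroup.card_eq_card_quotient_mul_card_subgroup (N.subgroupOf F),
      Nat.card_congr (Subgroup.subgroupOfEquivOfLe hNF).toEquiv]
  have hle : ∀ w, Nat.card A * Nat.card N ≤ Nat.card F * K w := fun w => by
    rw [hAeq w, hFeq, mul_right_comm]
    exact Nat.mul_le_mul_right _ (Nat.mul_le_mul_right _ (Subgroup.card_le_card_group _))
  by_contra hcon
  push Not at hcon
  have hlt : Nat.card A * Nat.card N < Nat.card F * K ⟨v, hv⟩ := by
    rw [hAeq ⟨v, hv⟩, hFeq, mul_right_comm]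
    refine (Nat.mul_lt_mul_right ?_).2 ((Nat.mul_lt_mul_right Nat.card_pos).2 ?_)
    · rw [← hker]; exact Nat.card_pos
    refine lt_of_le_of_ne (Subgroup.card_le_card_group _) fun e => ?_
    obtain ⟨b, hb⟩ : (QuotientGroup.mk' _ ⟨y, hy⟩) ∈ (ψ ⟨v, hv⟩).range :=
      (Subgroup.card_eq_iff_eq_top _).1 e ▸ Subgroup.mem_top _
    have h1 := (QuotientGroup.eq.1 hb)
    rw [Subgroup.mem_subgroupOf] at h1
    refine hcon b b.2 ?_
    have h2 : ((f ⟨v, hv⟩ b : ↥F) : G) = gam v b := rfl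
    rw [Subgroup.coe_mul, Subgroup.coe_inv, h2, inv_eq_self hyp.elem (gam_mem hv)] at h1
    exact h1
  -- double counting
  have hswap : ∑ w : V, K w = ∑ b : A, Nat.card {w : V // gam (w : G) b ∈ N} := by
    simp only [K, Nat.card_eq_fintype_card, Fintype.card_subtype, Finset.card_filter]
    rw [Finset.sum_comm]
  have hAle : ∀ b : A, Nat.card F * Nat.card {w : V // gam (w : G) b ∈ N} ≤
      if b = 1 then Nat.card F * Nat.card V else Nat.card V * Nat.card N := by
    intro b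
    split_ifs with hb
    · exact Nat.mul_le_mul_left _ (Nat.card_le_card_of_injective _ Subtype.val_injective)
    · rw [mul_comm]
      exact hyp.card_moved hA hAS b.2 fun e => hb (Subtype.ext e)
  have hVle : ∀ w : V, (if (w : G) ∈ F then Nat.card F * Nat.card A else Nat.card A * Nat.card N) ≤
      Nat.card F * K w := by
    intro w
    split_ifs with hw
    · refine le_of_eq (congrArg _ (Nat.card_congr (Equiv.subtypeUnivEquiv fun b => ?_)).symm)
      rw [gam_eq_one hyp.elem w.2 (hw.2 b b.2)]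
      exact one_mem _
    · exact hle w
  have h1 : ∑ w : V, (if (w : G) ∈ F then Nat.card F * Nat.card A else Nat.card A * Nat.card N) <
      Nat.card F * ∑ w : V, K w := by
    rw [Finset.mul_sum]
    refine Finset.sum_lt_sum (fun w _ => hVle w) ⟨⟨v, hv⟩, Finset.mem_univ _, ?_⟩
    rw [if_neg hvF]
    exact hlt
  have h2 : Nat.card F * ∑ w : V, K w ≤
      ∑ b : A, if b = 1 then Nat.card F * Nat.card V else Nat.card V * Nat.card N := by
    rw [hswap, Finset.mul_sum]
    exact Finset.sum_le_sum fun b _ => hAle b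
  have hcF : (Finset.univ.filter fun w : V => (w : G) ∈ F).card = Nat.card F := by
    rw [← Fintype.card_subtype, ← Nat.card_eq_fintype_card]
    exact Nat.card_congr ⟨fun w => ⟨w.1.1, w.2⟩, fun w => ⟨⟨w.1, w.2.1⟩, w.2⟩,
      fun _ => rfl, fun _ => rfl⟩
  have hsum := Finset.card_filter_add_card_filter_not
    (s := (Finset.univ : Finset V)) (fun w : V => (w : G) ∈ F)
  rw [hcF, Finset.card_univ, ← Nat.card_eq_fintype_card, ← hA.meas, offMeasure, ← hFdef] at hsum
  rw [Finset.sum_ite, Finset.sum_const, Finset.sum_const, smul_eq_mul, smul_eq_mul, hcF] at h1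
  rw [Finset.sum_ite, Finset.sum_const, Finset.sum_const, smul_eq_mul, smul_eq_mul,
    Finset.filter_eq' Finset.univ (1 : A), if_pos (Finset.mem_univ _), Finset.card_singleton,
    one_mul] at h2
  have hsum' := Finset.card_filter_add_card_filter_not
    (s := (Finset.univ : Finset A)) (fun b : A => b = 1)
  rw [Finset.filter_eq' Finset.univ (1 : A), if_pos (Finset.mem_univ _), Finset.card_singleton,
    Finset.card_univ, ← Nat.card_eq_fintype_card] at hsum'
  have hmeas : Nat.card V = Nat.card A * Nat.card F := hA.meas.symm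
  rw [hmeas] at h2
  set c := (Finset.univ.filter fun w : V => ¬ (w : G) ∈ F).card
  set d := (Finset.univ.filter fun b : A => ¬ b = 1).card
  have hd : (Nat.card A * Nat.card N) * c =
      d * (Nat.card A * Nat.card F * Nat.card N) := by
    have : c = d * Nat.card F := by
      have h3 : Nat.card F + c = Nat.card F + d * Nat.card F := by
        rw [hsum, ← hsum']; ring
      omega
    rw [this]; ring
  nlinarith [h1, h2, hd]

/-- No minimal offender. -/
theorem false_of_min (hS4 : ¬ InvHom (Equiv.Perm (Fin 4)) G) {A : Subgroup G} (hA : Min V A)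
    (hAS : A ≤ (S : Subgroup G)) : False := by
  haveI : Fact (Nat.Prime 2) := ⟨Nat.prime_two⟩
  set F := V ⊓ cen A with hF
  set N := V ⊓ Subgroup.center G with hN
  haveI : N.Normal := Subgroup.normal_inf_normal V (Subgroup.center G)
  by_cases hFN : F ≤ N
  · -- `A` would stabilise a central series of `V`
    let D : Subgroup G :=
      { carrier := {x | ∀ v ∈ V, gam v x ∈ N}
        one_mem' := fun v hv => by
          rw [gam_eq_one hyp.elem hv (by rw [one_mul, mul_one])]; exact one_mem _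
        mul_mem' := fun {x y} hx hy v hv => by
          rw [gam_mul_right hyp.elem hv (conj_of_commute (Subgroup.mem_center_iff.1 (hy v hv).2 x))]
          exact mul_mem (hx v hv) (hy v hv)
        inv_mem' := fun {x} hx v hv => by
          have h1 := hx _ (‹V.Normal›.conj_mem v hv x⁻¹)
          have e : gam (x⁻¹ * v * x⁻¹⁻¹) x = x⁻¹ * v * x⁻¹⁻¹ * v := by rw [gam]; group
          rw [e, comm_of_mem hyp.elem.1 (‹V.Normal›.conj_mem v hv x⁻¹) hv] at h1
          exact h1 }
    haveI hDn : D.Normal := ⟨fun x hx w v hv => by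
      have h1 := hx _ (‹V.Normal›.conj_mem' v hv w)
      have h2 := Subgroup.Normal.conj_mem inferInstance _ h1 w
      have e : w * gam (w⁻¹ * v * w) x * w⁻¹ = gam v (w * x * w⁻¹) := by simp only [gam]; group
      rwa [e] at h2⟩
    have hCD : cen V ≤ D := fun c hc v hv => by
      rw [gam_eq_one hyp.elem hv (hc v hv).symm]; exact one_mem _
    have hsq : ∀ x ∈ D, x ^ 2 ∈ cen V := fun x hx v hv => by
      have h1 : gam v (x * x) = gam v x * gam v x :=
        gam_mul_right hyp.elem hv (conj_of_commute (Subgroup.mem_center_iff.1 (hx v hv).2 x))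
      rw [sq_eq_one hyp.elem (gam_mem hv)] at h1
      have h3 : (x * x) * v * (x * x)⁻¹ = v := by
        calc (x * x) * v * (x * x)⁻¹ = v * gam v (x * x) := by
              rw [gam, ← mul_assoc, sq_eq_one hyp.elem hv, one_mul]
          _ = v := by rw [h1, mul_one]
      rw [sq]
      exact (mul_inv_eq_iff_eq_mul.1 h3).symm
    have hquot : IsPGroup 2 (D ⧸ (cen V).subgroupOf D) := fun q => by
      obtain ⟨d, rfl⟩ := QuotientGroup.mk'_surjective _ q
      refine ⟨1, ?_⟩
      rw [pow_one, ← map_pow]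
      exact (QuotientGroup.eq_one_iff _).2 (Subgroup.mem_subgroupOf.2 (hsq d d.2))
    obtain ⟨k, hk⟩ := IsPGroup.iff_card.1 hquot
    have hD := hyp.hC D hDn hCD ⟨k, (Subgroup.index_eq_card _).trans hk⟩
    refine not_le_cen hA fun a ha => hD.le fun v hv => hFN (gam_fixed hyp.elem hA hv ha)
  obtain ⟨y, hyF, hyN⟩ := SetLike.not_le_iff_exists.1 hFN
  obtain ⟨g, hg⟩ : ∃ g, g ∉ M := by
    by_contra h
    push Not at h
    exact hyp.proper (eq_top_iff.2 fun x _ => h x)
  have hcjN : ∀ z ∈ N, ∀ x : G, x * z * x⁻¹ = z := fun z hz x =>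
    conj_of_commute (Subgroup.mem_center_iff.1 hz.2 x)
  have hNF : ∀ z ∈ N, z ∈ F := fun z hz => ⟨hz.1, fun b _ => Subgroup.mem_center_iff.1 hz.2 b⟩
  have hinter := hyp.inf_fixed_le hA hAS hg
  set u₀ := g * y * g⁻¹ with hu₀
  have hu₀' : u₀ ∈ V ⊓ cen (cj g A) := by
    refine ⟨‹V.Normal›.conj_mem y hyF.1 g, ?_⟩
    rintro _ ⟨b, hb, rfl⟩
    show g * b * g⁻¹ * (g * y * g⁻¹) = g * y * g⁻¹ * (g * b * g⁻¹)
    rw [show g * b * g⁻¹ * (g * y * g⁻¹) = g * (b * y) * g⁻¹ by group, hyF.2 b hb]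
    group
  have hu₀N : u₀ ∉ N := fun h => hyN (by
    have := ‹N.Normal›.conj_mem' _ h g
    simpa [hu₀, mul_assoc] using this)
  have hu₀F : u₀ ∉ F := fun h => hu₀N (hinter ⟨h, hu₀'⟩)
  obtain ⟨a, ha, hwy⟩ := hyp.surjective hA hAS hu₀'.1 hu₀F hyF
  set w := gam u₀ a with hw
  have hwF : w ∈ F := gam_fixed hyp.elem hA hu₀'.1 ha
  have hwN : w ∉ N := fun h => hyN (by
    have := mul_mem (inv_mem h) hwy
    simpa using this)
  have hwF' : g⁻¹ * w * g ∉ F := fun h => hwN (hinter ⟨hwF, hwF.1, by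
    rintro _ ⟨b, hb, rfl⟩
    show g * b * g⁻¹ * w = w * (g * b * g⁻¹)
    calc g * b * g⁻¹ * w = g * (b * (g⁻¹ * w * g)) * g⁻¹ := by group
      _ = w * (g * b * g⁻¹) := by rw [h.2 b hb]; group⟩)
  obtain ⟨b, hb, hub⟩ := hyp.surjective hA hAS (‹V.Normal›.conj_mem' w hwF.1 g) hwF' hyF
  set u := gam w (g * b * g⁻¹) with hu
  have e : u * u₀ = g * (gam (g⁻¹ * w * g) b * y) * g⁻¹ := by
    simp only [hu, hu₀, gam]; group
  have hN' : u * u₀ ∈ N := by rw [e]; exact ‹N.Normal›.conj_mem _ hub g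
  have huV : u ∈ V := gam_mem hwF.1
  have hau : gam u a = w := by
    have e2 : u = (u * u₀) * u₀ := by rw [mul_assoc, sq_eq_one hyp.elem hu₀'.1, mul_one]
    rw [e2, gam_mul_left hyp.elem hN'.1 hu₀'.1,
      gam_eq_one hyp.elem hN'.1 (Subgroup.mem_center_iff.1 hN'.2 a), one_mul]
  have hbu : u ∈ V ⊓ cen (cj g A) := by
    have e2 : u = (u * u₀) * u₀ := by rw [mul_assoc, sq_eq_one hyp.elem hu₀'.1, mul_one]
    rw [e2]
    exact mul_mem ⟨hN'.1, fun b _ => Subgroup.mem_center_iff.1 hN'.2 b⟩ hu₀'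
  have hane : a * w * a⁻¹ = w := conj_of_commute (hwF.2 a ha)
  refine hS4 (CfsgLib.Transfer.invHom_s4_of_plane (a := a) (b := g * b * g⁻¹) (u := u) (w := w)
    ?_ ?_ (sq_eq_one hyp.elem huV) (sq_eq_one hyp.elem hwF.1) (comm_of_mem hyp.elem.1 huV hwF.1)
    hane ?_ ?_ ?_ (fun h => hwN (h ▸ one_mem N)) fun h => ?_)
  · have := hA.elem.2 a ha; rwa [sq] at this
  · have := hA.elem.2 b hb
    rw [sq] at this
    rw [show g * b * g⁻¹ * (g * b * g⁻¹) = g * (b * b) * g⁻¹ by group, this]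
    group
  · rw [← hau, gam, ← mul_assoc, sq_eq_one hyp.elem huV, one_mul]
  · exact conj_of_commute (hbu.2 _ ⟨b, hb, rfl⟩)
  · rw [hu, gam, ← mul_assoc, sq_eq_one hyp.elem hwF.1, one_mul]
  · exact hwN (hinter ⟨hwF, h ▸ hbu⟩)

end Setting

end CfsgLib.LocalEven.S4F
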