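import Cfsg.Agent.Lib.LocalEven.S4FreeCount
import Cfsg.Agent.Lib.Transfer.ControlZJ
import Cfsg.Agent.Lib.Transfer.ThompsonComplement
import Cfsg.Agent.Lib.PLocal.QdLocal

/-!
# Generation of a group of characteristic two without section `S₄`

`G = ⟨N(Z(S)), N(J(S))⟩` when `C(O₂(G)) ≤ O₂(G)` and `G` has no section `S₄`.
-/

set_option autoImplicit false
set_option linter.unusedSectionVars false

namespace CfsgLib.LocalEven.S4F

open Cfsg CfsgLib.PLocal
open CD (cj cen zOf)

universe u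

variable {G : Type u} [Group G] [Finite G]

/-- A normal subgroup with `2`-group image in `G / C` lies in `C S`. -/
theorem le_sup_sylow (S : Sylow 2 G) {C D : Subgroup G} [C.Normal] (hD : D.Normal) (hCD : C ≤ D)
    {k : ℕ} (hk : C.relIndex D = 2 ^ k) : D ≤ C ⊔ (S : Subgroup G) := by
  haveI : Fact (Nat.Prime 2) := ⟨Nat.prime_two⟩
  set π := QuotientGroup.mk' C
  haveI : (D.map π).Normal := hD.map π (QuotientGroup.mk'_surjective C)
  have hp : IsPGroup 2 (D.map π) := by
    refine IsPGroup.of_card (n := k) ?_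
    rw [← hk, ← Subgroup.relIndex_bot_left]
    conv_lhs => rw [← QuotientGroup.map_mk'_self C]
    rw [Subgroup.relIndex_map_map, QuotientGroup.ker_mk', sup_idem, sup_eq_left.2 hCD]
  have hle : D.map π ≤ (S : Subgroup G).map π :=
    hp.le_sylow_of_normal (S.mapSurjective (QuotientGroup.mk'_surjective C))
  have h := Subgroup.comap_mono (f := π) hle
  rw [Subgroup.comap_map_eq, Subgroup.comap_map_eq, QuotientGroup.ker_mk', sup_eq_left.2 hCD,
    sup_comm] at h
  exact h

/-- A quotient in which odd order elements vanish is a `2`-group. -/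
theorem isPGroup_quot {C Q : Subgroup G} [(Q.subgroupOf C).Normal]
    (h : ∀ d ∈ C, Nat.Coprime (orderOf d) 2 → d ∈ Q) : IsPGroup 2 (C ⧸ Q.subgroupOf C) := by
  haveI : Fact (Nat.Prime 2) := ⟨Nat.prime_two⟩
  intro q
  obtain ⟨d, rfl⟩ := QuotientGroup.mk'_surjective _ q
  obtain ⟨k, m, hm, e⟩ := Nat.exists_eq_two_pow_mul_odd (orderOf_pos (d : G)).ne'
  refine ⟨k, ?_⟩
  rw [← map_pow]
  refine (QuotientGroup.eq_one_iff _).2 (Subgroup.mem_subgroupOf.2 (h _ (d ^ 2 ^ k).2 ?_))
  rw [SubgroupClass.coe_pow, orderOf_pow_of_dvd (by positivity) (by rw [e]; exact dvd_mul_right _ _), e,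
    Nat.mul_div_cancel_left _ (by positivity)]
  exact hm.coprime_two_right

/-- Frattini for a normal subgroup inside the unique maximal overgroup of `S`. -/
theorem inf_normal_of_unique {S : Sylow 2 G} {M : Subgroup G} (hM : M ≠ ⊤)
    (hu : ∀ L : Subgroup G, (S : Subgroup G) ≤ L → L ≠ ⊤ → L ≤ M) (K : Subgroup G) [K.Normal]
    (hK : K ≤ M) : ((S : Subgroup G) ⊓ K).Normal := by
  haveI : Fact (Nat.Prime 2) := ⟨Nat.prime_two⟩
  have hsyl : CfsgLib.Fusion.IsSylIn 2 ((S : Subgroup G) ⊓ K) K := CfsgLib.Fusion.isSylIn_inf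
    (⟨le_top, S.2, fun C hC hle _ => S.3 hC hle⟩ :
      CfsgLib.Fusion.IsSylIn 2 (S : Subgroup G) ⊤)
    le_top fun b _ n hn => ‹K.Normal›.conj_mem n hn b
  obtain ⟨Q, hQ⟩ := (CfsgLib.Fusion.exists_sylow_iff inf_le_right).2 hsyl
  have hfr := Sylow.normalizer_sup_eq_top Q
  rw [hQ, Subgroup.map_subgroupOf_eq_of_le inf_le_right] at hfr
  refine Subgroup.normalizer_eq_top_iff.1 ?_
  by_contra hne
  refine hM (eq_top_iff.2 (hfr ▸ sup_le (hu _ ?_ hne) hK))
  intro s hs
  refine mem_normalizer_of_conj (Subgroup.map_inf _ _ _ (MulAut.conj s).injective |>.trans ?_)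
  rw [cj_of_mem hs |> fun e : (S : Subgroup G).map (MulAut.conj s).toMonoidHom = S => e]
  exact congrArg _ (cj_normal s K)

/-- The statement for minimal parabolic configurations. -/
def NoMin (G : Type u) [Group G] [Finite G] : Prop :=
  ∀ V : Subgroup G, V.Normal → IsElementaryAbelian 2 V →
    (∀ D : Subgroup G, D.Normal → cen V ≤ D → (∃ k, (cen V).relIndex D = 2 ^ k) → D = cen V) →
    ∀ (S : Sylow 2 G) (M : Subgroup G), M ≠ ⊤ → (S : Subgroup G) ≤ M →
      (∀ L : Subgroup G, (S : Subgroup G) ≤ L → L ≠ ⊤ → L ≤ M) → ∀ A, ¬ Min V A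

/-- The generation statement. -/
def Gen (G : Type u) [Group G] [Finite G] : Prop :=
  ∀ V : Subgroup G, V.Normal → IsElementaryAbelian 2 V → ∀ (S : Sylow 2 G) (M : Subgroup G),
    cen (V ⊓ cen (S : Subgroup G)) ≤ M →
    Subgroup.normalizer (J V (S : Subgroup G) : Set G) ≤ M → M = ⊤

theorem map_inf_cen {L V Q : Subgroup G} (hV : V ≤ L) (hQ : Q ≤ L) :
    (V.subgroupOf L ⊓ cen (Q.subgroupOf L)).map L.subtype = V ⊓ cen Q := by
  ext x
  constructor
  · rintro ⟨y, ⟨hy, hyQ⟩, rfl⟩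
    exact ⟨hy, fun q hq => congrArg Subtype.val (hyQ ⟨q, hQ hq⟩ hq)⟩
  · rintro ⟨hx, hxQ⟩
    exact ⟨⟨x, hV hx⟩, ⟨hx, fun q hq => Subtype.ext (hxQ q hq)⟩, rfl⟩

theorem map_sub {L : Subgroup G} (B : Subgroup L) :
    (B.map L.subtype).subgroupOf L = B :=
  Subgroup.comap_map_eq_self_of_injective L.subtype_injective B

theorem offMeasure_sub {L V : Subgroup G} (hV : V ≤ L) (B : Subgroup L) :
    offMeasure (V.subgroupOf L) B = offMeasure V (B.map L.subtype) := by
  show Nat.card B * _ = Nat.card (B.map L.subtype) * _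
  rw [← map_inf_cen hV (Subgroup.map_subtype_le B), map_sub,
    Subgroup.card_map_of_injective L.subtype_injective,
    Subgroup.card_map_of_injective L.subtype_injective]

theorem min_sub_iff {L V : Subgroup G} (hV : V ≤ L) (A : Subgroup L) :
    Min (V.subgroupOf L) A ↔ Min V (A.map L.subtype) := by
  have hinj := L.subtype_injective
  have hcardV : Nat.card (V.subgroupOf L) = Nat.card V :=
    Nat.card_congr (Subgroup.subgroupOfEquivOfLe hV).toEquiv
  have hfaith : A ⊓ cen (V.subgroupOf L) = ⊥ ↔ A.map L.subtype ⊓ cen V = ⊥ := by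
    rw [Subgroup.eq_bot_iff_forall, Subgroup.eq_bot_iff_forall]
    constructor
    · rintro h _ ⟨⟨a, ha, rfl⟩, hc⟩
      exact congrArg Subtype.val (h a ⟨ha, fun v hv => Subtype.ext (hc v hv)⟩)
    · intro h a ⟨ha, hc⟩
      exact Subtype.ext (h a ⟨⟨a, ha, rfl⟩, fun v hv => congrArg Subtype.val (hc ⟨v, hV hv⟩ hv)⟩)
  have helem : IsElementaryAbelian 2 A ↔ IsElementaryAbelian 2 (A.map L.subtype) := by
    constructor
    · intro h
      exact ⟨⟨⟨fun ⟨_, a, ha, ea⟩ ⟨_, b, hb, eb⟩ => Subtype.ext (by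
        subst ea; subst eb
        show L.subtype a * L.subtype b = L.subtype b * L.subtype a
        rw [← map_mul, ← map_mul, comm_of_mem h.1 ha hb])⟩⟩, by
          rintro _ ⟨a, ha, rfl⟩
          rw [← map_pow, h.2 a ha, map_one]⟩
    · intro h
      exact ⟨⟨⟨fun a b => Subtype.ext (Subtype.ext
          (comm_of_mem h.1 ⟨a, a.2, rfl⟩ ⟨b, b.2, rfl⟩))⟩⟩,
        fun a ha => hinj (by rw [map_pow, h.2 _ ⟨a, ha, rfl⟩, map_one])⟩
  constructor
  · intro h
    refine ⟨helem.1 h.elem, hfaith.1 h.faith,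
      fun e => h.ne_bot ((Subgroup.map_eq_bot_iff_of_injective _ hinj).1 e),
      by rw [← offMeasure_sub hV, h.meas, hcardV], fun B hB hne hne0 => ?_⟩
    have hBL : B ≤ L := hB.trans (Subgroup.map_subtype_le A)
    have e : (B.subgroupOf L).map L.subtype = B := Subgroup.map_subgroupOf_eq_of_le hBL
    rw [← e, ← offMeasure_sub hV, ← hcardV]
    refine h.least _ ?_ (fun e' => hne (by rw [← e, e'])) fun e' => hne0 (by rw [← e, e', Subgroup.map_bot])
    intro x hx
    obtain ⟨a, ha, hax⟩ := hB hx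
    exact hinj hax ▸ ha
  · intro h
    refine ⟨helem.2 h.elem, hfaith.2 h.faith, fun e => h.ne_bot (by rw [e, Subgroup.map_bot]),
      by rw [offMeasure_sub hV, h.meas, hcardV], fun B hB hne hne0 => ?_⟩
    rw [offMeasure_sub hV, hcardV]
    exact h.least _ (Subgroup.map_mono hB) (fun e => hne (Subgroup.map_injective hinj e))
      fun e => hne0 ((Subgroup.map_eq_bot_iff_of_injective _ hinj).1 e)

theorem map_J {L V T : Subgroup G} (hV : V ≤ L) (hT : T ≤ L) :
    (J (V.subgroupOf L) (T.subgroupOf L)).map L.subtype = J V T := by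
  refine le_antisymm ?_ (sSup_le fun A hA => ?_)
  · rw [Subgroup.map_le_iff_le_comap]
    refine sSup_le fun A hA => ?_
    rw [← Subgroup.map_le_iff_le_comap]
    refine le_J ?_ ((min_sub_iff hV A).1 hA.2)
    rintro _ ⟨a, ha, rfl⟩
    exact hA.1 ha
  · have e : (A.subgroupOf L).map L.subtype = A :=
      Subgroup.map_subgroupOf_eq_of_le (hA.1.trans hT)
    rw [← e]
    exact Subgroup.map_mono (le_J (Subgroup.comap_mono hA.1) ((min_sub_iff hV _).2 (e.symm ▸ hA.2)))

/-- The generation statement for a subgroup. -/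
theorem gen_sub {V L T M : Subgroup G} [V.Normal] (hV : IsElementaryAbelian 2 V) (hg : Gen L)
    (hVL : V ≤ L) (hT : CfsgLib.Fusion.IsSylIn 2 T L) (hZ : L ⊓ cen (V ⊓ cen T) ≤ M)
    (hJ : L ⊓ Subgroup.normalizer (J V T : Set G) ≤ M) : L ≤ M := by
  obtain ⟨Q, hQ⟩ := (CfsgLib.Fusion.exists_sylow_iff hT.1).2 hT
  have hV' : IsElementaryAbelian 2 (V.subgroupOf L) :=
    ⟨⟨⟨fun a b => Subtype.ext (Subtype.ext (comm_of_mem hV.1 a.2 b.2))⟩⟩,
      fun a ha => Subtype.ext (by rw [SubgroupClass.coe_pow]; exact hV.2 _ ha)⟩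
  refine Subgroup.subgroupOf_eq_top.1 (hg _ inferInstance hV' Q (M.subgroupOf L) ?_ ?_)
  · intro x hx
    refine hZ ⟨x.2, ?_⟩
    rw [hQ] at hx
    intro v hv
    rw [← map_inf_cen hVL hT.1] at hv
    obtain ⟨w, hw, rfl⟩ := hv
    exact congrArg Subtype.val (hx w hw)
  · intro x hx
    refine hJ ⟨x.2, ?_⟩
    rw [← map_J hVL hT.1, ← hQ]
    exact Subgroup.le_normalizer_map L.subtype ⟨x, hx, rfl⟩

theorem gen_of_noMin_proper (hB : NoMin G)
    (hP : ∀ L : Subgroup G, L ≠ ⊤ → Gen L) : Gen G := by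
  haveI : Fact (Nat.Prime 2) := ⟨Nat.prime_two⟩
  intro V hVn hV S M hZ hJ
  by_contra hM
  set C := cen V with hC
  haveI : C.Normal := inferInstanceAs (Subgroup.centralizer (V : Set G)).Normal
  have hVS : V ≤ (S : Subgroup G) := (isPGroup_elem hV).le_sylow_of_normal S
  have hSM : (S : Subgroup G) ≤ M :=
    ((CD.le_cen_cen (S : Subgroup G)).trans (CD.cen_anti inf_le_right)).trans hZ
  have hu : ∀ L : Subgroup G, (S : Subgroup G) ≤ L → L ≠ ⊤ → L ≤ M := fun L hL hLt =>
    gen_sub hV (hP L hLt) (hVS.trans hL) ⟨hL, S.2, fun D hD hle _ => S.3 hD hle⟩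
      (inf_le_right.trans hZ) (inf_le_right.trans hJ)
  set D₂ := (pCore 2 (G ⧸ C)).comap (QuotientGroup.mk' C) with hD₂def
  haveI hD₂n : D₂.Normal := (inferInstance : (pCore 2 (G ⧸ C)).Normal).comap _
  have hCD : C ≤ D₂ := QuotientGroup.le_comap_mk' C _
  have hD₂ : D₂ ≤ C ⊔ (S : Subgroup G) := by
    obtain ⟨k, hk⟩ := CfsgLib.Base.pCore_eq_pow_card 2 (G ⧸ C)
    refine le_sup_sylow S hD₂n hCD (k := k) ?_
    rw [← hk, ← Subgroup.relIndex_bot_left]
    conv_rhs => rw [← QuotientGroup.map_mk'_self C, ← Subgroup.map_comap_eq_self_of_surjective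
      (QuotientGroup.mk'_surjective C) (pCore 2 (G ⧸ C))]
    rw [Subgroup.relIndex_map_map, QuotientGroup.ker_mk', sup_idem, sup_eq_left.2 hCD]
  set W := V ⊓ cen D₂ with hWdef
  haveI hWn : W.Normal := Subgroup.normal_inf_normal V (cen D₂)
  have hWV : W ≤ V := inf_le_left
  have hfix : V ⊓ cen (S : Subgroup G) ≤ W := fun v hv => ⟨hv.1, fun d hd => by
    have h : C ⊔ (S : Subgroup G) ≤ Subgroup.centralizer {v} := sup_le
      (fun c hc => Subgroup.mem_centralizer_singleton_iff.2 (hc v hv.1).symm)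
      (fun s hs => Subgroup.mem_centralizer_singleton_iff.2 (hv.2 s hs))
    exact Subgroup.mem_centralizer_singleton_iff.1 (h (hD₂ hd))⟩
  set E := cen W with hE
  haveI : E.Normal := inferInstanceAs (Subgroup.centralizer (W : Set G)).Normal
  have hEM : E ≤ M := (CD.cen_anti hfix).trans hZ
  have hWe : IsElementaryAbelian 2 W := isElementaryAbelian_of_le hV hWV
  have hDE : ∀ D : Subgroup G, D.Normal → E ≤ D → (∃ k, E.relIndex D = 2 ^ k) → D = E := by
    intro D hDn hED ⟨k, hk⟩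
    have hle := le_sup_sylow S hDn hED hk
    haveI : ((S : Subgroup G) ⊓ D).Normal :=
      inf_normal_of_unique hM hu D (hle.trans (sup_le hEM hSM))
    have h2 : (S : Subgroup G) ⊓ D ≤ D₂ := by
      rw [hD₂def, ← Subgroup.map_le_iff_le_comap]
      haveI := (inferInstance : ((S : Subgroup G) ⊓ D).Normal).map (QuotientGroup.mk' C)
        (QuotientGroup.mk'_surjective C)
      exact CfsgLib.Base.le_pCore ((S.2.to_le inf_le_left).map _)
    refine le_antisymm (fun d hd => ?_) hED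
    obtain ⟨e, he, s, hs, rfl⟩ := Subgroup.mem_sup_of_normal_left.1 (hle hd)
    have hsD : s ∈ D := by simpa using D.mul_mem (D.inv_mem (hED he)) hd
    exact E.mul_mem he fun w hw => (hw.2 s (h2 ⟨hs, hsD⟩)).symm
  have hno := hB W hWn hWe hDE S M hM hSM hu
  have hall : ∀ A ≤ (S : Subgroup G), Min V A → A ≤ (S : Subgroup G) ⊓ E := by
    intro A hAS hA
    refine le_inf hAS ?_
    by_contra hAE
    have hWF : W ⊓ (V ⊓ cen A) = W ⊓ cen A := by
      rw [← inf_assoc, inf_eq_left.2 hWV]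
    have hm : Nat.card ↥(A ⊓ E) * Nat.card ↥(W ⊔ (V ⊓ cen A)) ≤ Nat.card V := by
      have hle : W ⊔ (V ⊓ cen A) ≤ V ⊓ cen (A ⊓ E) :=
        sup_le (le_inf hWV ((CD.le_cen_cen W).trans (CD.cen_anti inf_le_right)))
          (inf_le_inf_left _ (CD.cen_anti inf_le_left))
      refine (Nat.mul_le_mul_left _ (Subgroup.card_le_of_le hle)).trans ?_
      by_cases h0 : A ⊓ E = ⊥
      · rw [h0, Subgroup.card_bot, one_mul]
        exact Subgroup.card_le_of_le inf_le_left
      · exact (hA.least _ inf_le_left (fun e => hAE (e ▸ inf_le_right)) h0).le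
    have hcs := card_sup_mul_card_inf W (V ⊓ cen A)
      (hWV.trans (le_normalizer_of_abelian hV.1 inf_le_left))
    rw [hWF] at hcs
    obtain ⟨B, -, hB'⟩ := exists_min hWe hA.elem hAE (V := W) (by
      refine Nat.le_of_mul_le_mul_right ?_ (Nat.card_pos (α := ↥(V ⊓ cen A)))
      calc Nat.card W * Nat.card ↥(A ⊓ cen W) * Nat.card ↥(V ⊓ cen A)
          = Nat.card ↥(A ⊓ E) * Nat.card ↥(W ⊔ (V ⊓ cen A)) * Nat.card ↥(W ⊓ cen A) := by
            rw [mul_assoc (Nat.card ↥(A ⊓ E)), hcs, hE]; ring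
        _ ≤ Nat.card V * Nat.card ↥(W ⊓ cen A) := Nat.mul_le_mul_right _ hm
        _ = _ := by rw [← hA.meas]; unfold offMeasure; ring)
    exact hno B hB'
  haveI := inf_normal_of_unique hM hu E hEM
  refine hM (eq_top_iff.2 ?_)
  refine le_trans ?_ hJ
  rw [← J_congr inf_le_left hall]
  calc (⊤ : Subgroup G) = Subgroup.normalizer (((S : Subgroup G) ⊓ E : Subgroup G) : Set G) :=
        (Subgroup.normalizer_eq_top_iff.2 inferInstance).symm
    _ ≤ _ := normalizer_le_normalizer_J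

theorem noMin_aux (hS4 : ¬ InvHom (Equiv.Perm (Fin 4)) G)
    (hP : ∀ L : Subgroup G, L ≠ ⊤ → Gen L)
    (hQ : ∀ (Z : Subgroup G) [Z.Normal], Z ≠ ⊥ → NoMin (G ⧸ Z)) : NoMin G := by
  haveI : Fact (Nat.Prime 2) := ⟨Nat.prime_two⟩
  intro V hVn hV hC S M hM hSM hu A hA
  set C := cen V with hCdef
  haveI : C.Normal := inferInstanceAs (Subgroup.centralizer (V : Set G)).Normal
  -- move `A` into `S`
  obtain ⟨R, hR⟩ := (isPGroup_elem hA.elem).exists_le_sylow
  obtain ⟨x, hx⟩ := MulAction.exists_smul_eq G R S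
  have hA' := hA.cj x
  have hAS : cj x A ≤ (S : Subgroup G) := by
    rw [← hx, Sylow.coe_subgroup_smul, ← CfsgLib.Base.map_conj_eq_smul]
    exact Subgroup.map_mono hR
  have hJS : (S : Subgroup G) ≤ Subgroup.normalizer (J V (S : Subgroup G) : Set G) :=
    Subgroup.le_normalizer.trans normalizer_le_normalizer_J
  have hJne : Subgroup.normalizer (J V (S : Subgroup G) : Set G) ≠ ⊤ := by
    intro htop
    haveI : (J V (S : Subgroup G)).Normal := Subgroup.normalizer_eq_top_iff.1 htop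
    have hJp : IsPGroup 2 (J V (S : Subgroup G)) := S.2.to_le (J_le _ _)
    have hD : C ⊔ J V (S : Subgroup G) = C := by
      refine hC _ inferInstance le_sup_left ?_
      obtain ⟨k, hk⟩ := IsPGroup.iff_card.1 hJp
      obtain ⟨j, -, hj⟩ := (Nat.dvd_prime_pow Nat.prime_two).1
        (hk ▸ (C.subgroupOf (J V (S : Subgroup G))).index_dvd_card :
          (C.subgroupOf (J V (S : Subgroup G))).index ∣ 2 ^ k)
      refine ⟨j, ?_⟩
      rw [sup_comm, Subgroup.relIndex_sup_right]
      exact hj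
    exact not_le_cen hA' ((le_J hAS hA').trans (le_sup_right.trans hD.le))
  set Z := V ⊓ cen (S : Subgroup G) with hZdef
  have hSZ : (S : Subgroup G) ≤ cen Z := (CD.le_cen_cen _).trans (CD.cen_anti inf_le_right)
  by_cases hZtop : cen Z = ⊤
  swap
  · exact Setting.false_of_min (S := S) (M := M) ⟨hV, hC, hM, hSM, hu, hu _ hSZ hZtop, hu _ hJS hJne,
      fun L hVL hLt T hT M' h1 h2 => gen_sub hV (hP L hLt) hVL hT h1 h2⟩ hS4 hA' hAS
  -- `Z` is central
  have hVS : V ≤ (S : Subgroup G) := (isPGroup_elem hV).le_sylow_of_normal S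
  have hV0 : V ≠ ⊥ := fun e => not_le_cen hA (by rw [e]; intro a _ v hv; rw [Subgroup.mem_bot.1 hv]; simp)
  have hZ0 : Z ≠ ⊥ := CfsgLib.Transfer.inf_centralizer_ne_bot_of_normal S.2 hVS
    (by rw [Subgroup.normalizer_eq_top]; exact le_top) hV0
  have hZc : ∀ z ∈ Z, ∀ g : G, g * z = z * g := fun z hz g =>
    ((hZtop.symm ▸ Subgroup.mem_top g : g ∈ cen Z) z hz).symm
  haveI hZn : Z.Normal := ⟨fun z hz g => by rw [hZc z hz g, mul_inv_cancel_right]; exact hz⟩
  set π := QuotientGroup.mk' Z with hπ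
  have hπs : Function.Surjective π := QuotientGroup.mk'_surjective Z
  set V' := V.map π with hV'def
  haveI hV'n : V'.Normal := hVn.map π hπs
  have hZV : Z ≤ V := inf_le_left
  have hVC : V ≤ C := fun v hv w hw => comm_of_mem hV.1 hw hv
  have hZC : Z ≤ C := hZV.trans hVC
  have hV'e : IsElementaryAbelian 2 V' :=
    ⟨⟨⟨fun ⟨_, a, ha, ea⟩ ⟨_, b, hb, eb⟩ => Subtype.ext (by
      subst ea; subst eb
      show π a * π b = π b * π a
      rw [← map_mul, ← map_mul, comm_of_mem hV.1 ha hb])⟩⟩, by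
      rintro _ ⟨a, ha, rfl⟩
      rw [← map_pow, hV.2 a ha, map_one]⟩
  have hcen' : (cen V').comap π = C := by
    refine hC _ inferInstance (fun c hc => ?_) ?_
    · rintro _ ⟨v, hv, rfl⟩
      rw [← map_mul, ← map_mul, hc v hv]
    set D := (cen V').comap π
    have hsq : ∀ d ∈ D, d ^ 2 ∈ C := by
      intro d hd v hv
      have h1 : π (d * v * d⁻¹ * v⁻¹) = 1 := by
        rw [map_mul, map_mul, map_mul, map_inv, map_inv, ← hd (π v) ⟨v, hv, rfl⟩,
          mul_inv_cancel_right, mul_inv_cancel]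
      have hz : d * v * d⁻¹ * v⁻¹ ∈ Z := (QuotientGroup.eq_one_iff _).1 h1
      set z := d * v * d⁻¹ * v⁻¹ with hzdef
      have h2 : d * v * d⁻¹ = z * v := by rw [hzdef]; group
      have h3 : d ^ 2 * v * (d ^ 2)⁻¹ = v := by
        calc d ^ 2 * v * (d ^ 2)⁻¹ = d * (d * v * d⁻¹) * d⁻¹ := by rw [sq]; group
          _ = d * (z * v) * d⁻¹ := by rw [h2]
          _ = (d * z * d⁻¹) * (d * v * d⁻¹) := by group
          _ = z * (z * v) := by rw [hZc z hz d, mul_inv_cancel_right, h2]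
          _ = v := by rw [← mul_assoc, sq_eq_one hV (hZV hz), one_mul]
      exact (mul_inv_eq_iff_eq_mul.1 h3).symm
    have hquot : IsPGroup 2 (D ⧸ C.subgroupOf D) := fun q => by
      obtain ⟨d, rfl⟩ := QuotientGroup.mk'_surjective _ q
      refine ⟨1, ?_⟩
      rw [pow_one, ← map_pow]
      exact (QuotientGroup.eq_one_iff _).2 (Subgroup.mem_subgroupOf.2 (hsq d d.2))
    obtain ⟨k, hk⟩ := IsPGroup.iff_card.1 hquot
    exact ⟨k, (Subgroup.index_eq_card _).trans hk⟩
  set A' := cj x A with hA'def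
  have hAZ : ∀ a ∈ A', π a = 1 → a = 1 := fun a ha h =>
    (Subgroup.eq_bot_iff_forall _).1 hA'.faith a ⟨ha, hZC ((QuotientGroup.eq_one_iff a).1 h)⟩
  have hAe : IsElementaryAbelian 2 (A'.map π) :=
    ⟨⟨⟨fun ⟨_, a, ha, ea⟩ ⟨_, b, hb, eb⟩ => Subtype.ext (by
      subst ea; subst eb
      show π a * π b = π b * π a
      rw [← map_mul, ← map_mul, comm_of_mem hA'.elem.1 ha hb])⟩⟩, by
      rintro _ ⟨a, ha, rfl⟩
      rw [← map_pow, hA'.elem.2 a ha, map_one]⟩
  have hAC : A'.map π ⊓ cen V' = ⊥ := (Subgroup.eq_bot_iff_forall _).2 fun y hy => by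
    obtain ⟨a, ha, rfl⟩ := hy.1
    have hac : a ∈ C := hcen'.le (show a ∈ (cen V').comap π from hy.2)
    rw [(Subgroup.eq_bot_iff_forall _).1 hA'.faith a ⟨ha, hac⟩, map_one]
  obtain ⟨B, -, hB⟩ := exists_min hV'e hAe (fun hle => hA'.ne_bot ((Subgroup.eq_bot_iff_forall _).2
    fun a ha => hAZ a ha ((Subgroup.eq_bot_iff_forall _).1 hAC _ ⟨⟨a, ha, rfl⟩, hle ⟨a, ha, rfl⟩⟩)))
    (by
      rw [hAC, Subgroup.card_bot, mul_one]
      have hcA : Nat.card (A'.map π) = Nat.card A' := by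
        refine (Nat.card_congr (Equiv.ofBijective (fun a : A' => (⟨π a, a, a.2, rfl⟩ : A'.map π))
          ⟨fun a b e => ?_, fun ⟨_, a, ha, rfl⟩ => ⟨⟨a, ha⟩, rfl⟩⟩)).symm
        have h := congrArg Subtype.val e
        refine Subtype.ext (div_eq_one.1 (hAZ _ (div_mem a.2 b.2) ?_))
        rw [map_div, show π (a : G) = π b from h, div_self']
      set F := V ⊓ cen A'
      have hZF : Z ≤ F := le_inf hZV fun z hz a _ => hZc z hz a
      have hcard : ∀ K : Subgroup G, Z ≤ K → Nat.card K = Nat.card (K.map π) * Nat.card Z :=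
        fun K hK => by
          rw [Subgroup.card_eq_card_quotient_mul_card_subgroup (π.comp K.subtype).ker,
            Nat.card_congr (QuotientGroup.quotientKerEquivRange (π.comp K.subtype)).toEquiv,
            MonoidHom.range_comp, Subgroup.range_subtype,
            ← MonoidHom.comap_ker, hπ, QuotientGroup.ker_mk']
          congr 1
          exact Nat.card_congr (Subgroup.subgroupOfEquivOfLe hK).toEquiv
      have hF : F.map π ≤ V' ⊓ cen (A'.map π) := by
        rintro _ ⟨v, hv, rfl⟩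
        refine ⟨⟨v, hv.1, rfl⟩, ?_⟩
        rintro _ ⟨a, ha, rfl⟩
        rw [← map_mul, ← map_mul, hv.2 a ha]
      refine Nat.le_of_mul_le_mul_right ?_ (Nat.card_pos (α := Z))
      rw [← hcard V hZV, ← hA'.meas]
      show Nat.card A' * Nat.card F ≤ Nat.card (A'.map π) * _ * _
      rw [hcard F hZF, hcA, mul_assoc]
      exact Nat.mul_le_mul_left _ (Nat.mul_le_mul_right _ (Subgroup.card_le_of_le hF)))
  refine hQ Z hZ0 V' hV'n hV'e (fun D hDn hCD hk => ?_) (S.mapSurjective hπs) (M.map π) ?_ ?_ ?_ B hB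
  · haveI : (D.comap π).Normal := hDn.comap π
    have h1 : C ≤ D.comap π := hcen'.ge.trans (Subgroup.comap_mono hCD)
    have h2 := hC (D.comap π) inferInstance h1 (by
      obtain ⟨k, hk⟩ := hk
      refine ⟨k, ?_⟩
      rw [← hcen', Subgroup.relIndex_comap, Subgroup.map_comap_eq_self_of_surjective hπs]
      exact hk)
    rw [← Subgroup.map_comap_eq_self_of_surjective hπs D, h2, ← hcen',
      Subgroup.map_comap_eq_self_of_surjective hπs]
  · intro h
    have := congrArg (Subgroup.comap π) h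
    rw [Subgroup.comap_map_eq, hπ, QuotientGroup.ker_mk', Subgroup.comap_top,
      sup_eq_left.2 (hZV.trans (hVS.trans hSM))] at this
    exact hM this
  · exact Subgroup.map_mono hSM
  · intro L hL hLt
    rw [← Subgroup.map_comap_eq_self_of_surjective hπs L]
    refine Subgroup.map_mono (hu _ (fun s hs => hL ⟨s, hs, rfl⟩) fun h => hLt ?_)
    rw [← Subgroup.map_comap_eq_self_of_surjective hπs L, h,
      Subgroup.map_top_of_surjective π hπs]

theorem noMin_gen (n : ℕ) : ∀ (G : Type u) [Group G] [Finite G], Nat.card G = n →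
    ¬ InvHom (Equiv.Perm (Fin 4)) G → NoMin G ∧ Gen G := by
  induction n using Nat.strong_induction_on with
  | _ n IH =>
  intro G _ _ hn hS4
  have hP : ∀ L : Subgroup G, L ≠ ⊤ → Gen L := fun L hL =>
    (IH _ (hn ▸ lt_of_le_of_ne L.card_le_card_group fun e => hL (L.card_eq_iff_eq_top.1 e)) L rfl
      fun h => hS4 h.of_subgroup).2
  have hB : NoMin G := noMin_aux hS4 hP fun Z _ hZ => (IH _ (by
    rw [← hn, Subgroup.card_eq_card_quotient_mul_card_subgroup Z]
    exact lt_mul_of_one_lt_right Nat.card_pos ((Subgroup.one_lt_card_iff_ne_bot _).2 hZ))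
      (G ⧸ Z) rfl fun h => hS4 (InvHom.of_surjective (QuotientGroup.mk' Z)
        (QuotientGroup.mk'_surjective Z) h)).1
  exact ⟨hB, gen_of_noMin_proper hB hP⟩

/-- **Generation.** A group of characteristic `2` without section `S₄` is generated by the
normalizers of `Z(S)` and `J(S)`. -/
theorem eq_top_of_normalizers {G : Type u} [Group G] [Finite G]
    (hc : Subgroup.centralizer (pCore 2 G : Set G) ≤ pCore 2 G)
    (hS4 : ¬ InvHom (Equiv.Perm (Fin 4)) G) (S : Sylow 2 G) {M : Subgroup G}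
    (hZ : Subgroup.normalizer (zOf (S : Subgroup G) : Set G) ≤ M)
    (hJ : Subgroup.normalizer (thompsonSubgroupOf 2 (S : Subgroup G) : Set G) ≤ M) : M = ⊤ := by
  haveI : Fact (Nat.Prime 2) := ⟨Nat.prime_two⟩
  induction hn : Nat.card G using Nat.strong_induction_on generalizing G with
  | _ n IH =>
  subst hn
  by_contra hM
  set H := pCore 2 G with hH
  have hHS : H ≤ (S : Subgroup G) := CfsgLib.Base.pCore_le_sylow S
  have hSM : (S : Subgroup G) ≤ M :=
    (Subgroup.le_normalizer.trans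
      (CfsgLib.Transfer.normalizer_le_normalizer_thompsonSubgroupOf _)).trans hJ
  have hu : ∀ L : Subgroup G, (S : Subgroup G) ≤ L → L ≠ ⊤ → L ≤ M := by
    intro L hSL hLt
    have hHL : H ≤ L := hHS.trans hSL
    have hsub : H.subgroupOf L ≤ pCore 2 L := by
      haveI : (H.subgroupOf L).Normal := inferInstance
      exact CfsgLib.Base.le_pCore ((CfsgLib.Base.isPGroup_pCore 2 G).of_equiv
        (Subgroup.subgroupOfEquivOfLe hHL).symm)
    refine Subgroup.subgroupOf_eq_top.1 (IH (Nat.card L)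
      (lt_of_le_of_ne L.card_le_card_group fun e => hLt (L.card_eq_iff_eq_top.1 e))
      (G := L) (fun x hx => hsub (hc fun y hy => congrArg Subtype.val (hx ⟨y, hHL hy⟩ (hsub hy))))
      (fun h => hS4 h.of_subgroup) (S.subtype hSL) ?_ ?_ rfl)
    · intro y hy
      refine hZ ?_
      have e : (zOf ((S.subtype hSL : Sylow 2 L) : Subgroup L)).map L.subtype = zOf (S : Subgroup G) := by
        rw [Sylow.coe_subtype]
        show ((S : Subgroup G).subgroupOf L ⊓ cen ((S : Subgroup G).subgroupOf L)).map L.subtype = _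
        exact map_inf_cen hSL hSL
      rw [← e]
      exact Subgroup.le_normalizer_map L.subtype ⟨y, hy, rfl⟩
    · intro y hy
      refine hJ ?_
      have e : (thompsonSubgroupOf 2 ((S.subtype hSL : Sylow 2 L) : Subgroup L)).map L.subtype =
          thompsonSubgroupOf 2 (S : Subgroup G) := by
        rw [Sylow.coe_subtype, CfsgLib.PLocal.map_thompsonSubgroupOf L.subtype_injective,
          Subgroup.map_subgroupOf_eq_of_le hSL]
      rw [← e]
      exact Subgroup.le_normalizer_map L.subtype ⟨y, hy, rfl⟩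
  -- the module
  set Zh := H ⊓ cen H with hZh
  haveI : Zh.Normal := Subgroup.normal_inf_normal H (cen H)
  have hzS : zOf (S : Subgroup G) ≤ Zh := fun z hz => by
    have h1 : z ∈ cen H := CD.cen_anti hHS hz.2
    exact ⟨hc h1, h1⟩
  set Vz := Subgroup.normalClosure (zOf (S : Subgroup G) : Set G) with hVz
  have hVzle : Vz ≤ Zh := Subgroup.normalClosure_le_normal hzS
  have hVzp : IsPGroup 2 Vz := (CfsgLib.Base.isPGroup_pCore 2 G).to_le (hVzle.trans inf_le_left)
  have hVza : Vz ≤ cen Vz := fun y hy w hw => (hVzle hy).2 w (hVzle hw).1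
  set V := omegaOne 2 Vz with hV
  haveI hVn : V.Normal := CfsgLib.Transfer.omegaOne_normal inferInstance
  have hVe : IsElementaryAbelian 2 V := isElementaryAbelian_omegaOne hVza
  have hVle : V ≤ Zh := (CfsgLib.PLocal.omegaOne_le 2 Vz).trans hVzle
  set C := cen V with hC
  haveI : C.Normal := inferInstanceAs (Subgroup.centralizer (V : Set G)).Normal
  set Q := cen Vz with hQdef
  haveI : Q.Normal := inferInstanceAs (Subgroup.centralizer (Vz : Set G)).Normal
  have hQM : Q ≤ M := (CD.cen_anti Subgroup.le_normalClosure).trans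
    ((Subgroup.centralizer_le_normalizer _).trans hZ)
  have hCM : C ≤ M := by
    have hquot : IsPGroup 2 (C ⧸ Q.subgroupOf C) := by
      refine isPGroup_quot fun d hd hdo => ?_
      exact CfsgLib.Transfer.mem_centralizer_of_omegaOne inferInstance hVzp hVza hdo hd
    obtain ⟨k, hk⟩ := IsPGroup.iff_card.1 hquot
    exact (le_sup_sylow S inferInstance (CD.cen_anti (CfsgLib.PLocal.omegaOne_le 2 Vz))
      ((Subgroup.index_eq_card _).trans hk)).trans (sup_le hQM hSM)
  have hHC : H ≤ C := (CD.le_cen_cen H).trans (CD.cen_anti (hVle.trans inf_le_right))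
  have hCD : ∀ D : Subgroup G, D.Normal → C ≤ D → (∃ k, C.relIndex D = 2 ^ k) → D = C := by
    intro D hDn hD ⟨k, hk⟩
    have hle := le_sup_sylow S hDn hD hk
    haveI : ((S : Subgroup G) ⊓ D).Normal :=
      inf_normal_of_unique hM hu D (hle.trans (sup_le hCM hSM))
    have h2 : (S : Subgroup G) ⊓ D ≤ C :=
      (CfsgLib.Base.le_pCore (S.2.to_le inf_le_left)).trans hHC
    refine le_antisymm (fun d hd => ?_) hD
    obtain ⟨e, he, s, hs, rfl⟩ := Subgroup.mem_sup_of_normal_left.1 (hle hd)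
    have hsD : s ∈ D := by simpa using D.mul_mem (D.inv_mem (hD he)) hd
    exact C.mul_mem he (h2 ⟨hs, hsD⟩)
  have hno := (noMin_gen (Nat.card G) G rfl hS4).1 V hVn hVe hCD S M hM hSM hu
  have hVS : V ≤ (S : Subgroup G) := (isPGroup_elem hVe).le_sylow_of_normal S
  have hJC : thompsonSubgroupOf 2 (S : Subgroup G) ≤ (S : Subgroup G) ⊓ C := by
    rw [thompsonSubgroupOf_eq_sSup]
    refine sSup_le fun A hA => le_inf hA.1 ?_
    by_contra hAC
    obtain ⟨B, -, hB⟩ := exists_min hVe hA.2.1 hAC (V := V) (by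
      refine le_trans (le_of_eq ?_) ((isBestOffenderOn_of_maxEAOf hVe hVS hA).1 (A ⊓ cen V) inf_le_left)
      rw [mul_comm]
      congr 2
      rw [show V ⊓ Subgroup.centralizer ((A ⊓ cen V : Subgroup G) : Set G) = V from
        inf_eq_left.2 ((CD.le_cen_cen V).trans (CD.cen_anti inf_le_right))])
    exact hno B hB
  haveI := inf_normal_of_unique hM hu C hCM
  refine hM (eq_top_iff.2 (le_trans ?_ hJ))
  rw [← thompsonSubgroupOf_eq_of_le hJC inf_le_left]
  calc (⊤ : Subgroup G) = Subgroup.normalizer (((S : Subgroup G) ⊓ C : Subgroup G) : Set G) :=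
        (Subgroup.normalizer_eq_top_iff.2 inferInstance).symm
    _ ≤ _ := CfsgLib.Transfer.normalizer_le_normalizer_thompsonSubgroupOf _

end CfsgLib.LocalEven.S4F
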