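import Mathlib
import Cfsg.Agent.Lib.PLocal.Offender
import Cfsg.Agent.Lib.LocalEven.CDNormal
import Cfsg.Agent.Lib.LocalEven.OrbitProd
import Cfsg.Agent.Lib.Base.Cores

/-!
# Minimal offenders for the prime two

`Min V A`: the elementary abelian subgroup `A` acts faithfully on `V`, `|A| |C_V(A)| = |V|`, and no
proper nontrivial subgroup of `A` has this property.
-/

set_option autoImplicit false
set_option linter.unusedSectionVars false

namespace CfsgLib.LocalEven.S4F

open Cfsg CfsgLib.PLocal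
open CD (cj cen)

universe u

variable {G : Type u} [Group G]

/-- A minimal offender on `V`. -/
structure Min (V A : Subgroup G) : Prop where
  elem : IsElementaryAbelian 2 A
  faith : A ⊓ cen V = ⊥
  ne_bot : A ≠ ⊥
  meas : offMeasure V A = Nat.card V
  least : ∀ B ≤ A, B ≠ A → B ≠ ⊥ → offMeasure V B < Nat.card V

/-- The subgroup generated by the minimal offenders inside `T`. -/
def J (V T : Subgroup G) : Subgroup G := sSup {A | A ≤ T ∧ Min V A}

theorem J_le (V T : Subgroup G) : J V T ≤ T := sSup_le fun _ hA => hA.1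

theorem le_J {V T A : Subgroup G} (hA : A ≤ T) (h : Min V A) : A ≤ J V T := le_sSup ⟨hA, h⟩

theorem not_le_cen {V A : Subgroup G} (h : Min V A) : ¬ A ≤ cen V := fun hle =>
  h.ne_bot (by rw [← h.faith, inf_eq_left.2 hle])

theorem J_congr {V T T' : Subgroup G} (hT : T' ≤ T) (h : ∀ A ≤ T, Min V A → A ≤ T') :
    J V T' = J V T :=
  le_antisymm (sSup_le_sSup fun _ hA => ⟨hA.1.trans hT, hA.2⟩)
    (sSup_le fun A hA => le_J (h A hA.1 hA.2) hA.2)

theorem sq_eq_one {V : Subgroup G} (hV : IsElementaryAbelian 2 V) {v : G} (hv : v ∈ V) :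
    v * v = 1 := by
  have := hV.2 v hv
  rwa [sq] at this

theorem inv_eq_self {V : Subgroup G} (hV : IsElementaryAbelian 2 V) {v : G} (hv : v ∈ V) :
    v⁻¹ = v := inv_eq_of_mul_eq_one_right (sq_eq_one hV hv)

variable [Finite G]

theorem J_conj {V T : Subgroup G} {x : G} (hV : cj x V = V) :
    cj x (J V T) = J V (cj x T) := by
  have key : ∀ y : G, cj y V = V → ∀ T : Subgroup G, cj y (J V T) ≤ J V (cj y T) := by
    intro y hy T
    rw [cj, Subgroup.map_le_iff_le_comap]
    refine sSup_le fun A hA => ?_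
    rw [← Subgroup.map_le_iff_le_comap]
    refine le_J (CD.cj_mono y hA.1) ?_
    have hm : ∀ B : Subgroup G, offMeasure V (cj y B) = offMeasure V B := by
      intro B
      have e : V ⊓ cen (cj y B) = cj y (V ⊓ cen B) := by
        show V ⊓ cen (cj y B) = (V ⊓ cen B).map (MulAut.conj y).toMonoidHom
        rw [Subgroup.map_inf _ _ _ (MulAut.conj y).injective, CD.cen_cj]
        exact congrArg (· ⊓ cj y (cen B)) hy.symm
      show Nat.card (cj y B) * Nat.card ↥(V ⊓ cen (cj y B)) = _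
      rw [e, CD.card_cj, CD.card_cj]
      rfl
    refine ⟨?_, ?_, ?_, ?_, ?_⟩
    · exact ⟨⟨⟨fun ⟨a, a', ha', ea⟩ ⟨b, b', hb', eb⟩ => Subtype.ext (by
        show a * b = b * a
        rw [← ea, ← eb, ← map_mul, ← map_mul, comm_of_mem hA.2.elem.1 ha' hb'])⟩⟩, by
        rintro _ ⟨a, ha, rfl⟩
        rw [← map_pow, hA.2.elem.2 a ha, map_one]⟩
    · show cj y A ⊓ cen V = ⊥
      conv_lhs => rw [← hy, CD.cen_cj]
      rw [cj, cj, ← Subgroup.map_inf _ _ _ (MulAut.conj y).injective, hA.2.faith, Subgroup.map_bot]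
    · exact fun h => hA.2.ne_bot ((Subgroup.map_eq_bot_iff_of_injective _
        (MulAut.conj y).injective).1 h)
    · rw [hm, hA.2.meas]
    · intro B hB hne hne0
      have e : cj y (cj y⁻¹ B) = B := by rw [CD.cj_cj, mul_inv_cancel, CD.cj_one]
      rw [← e, hm]
      refine hA.2.least _ ?_ (fun h => hne ?_) fun h => hne0 ?_
      · have := CD.cj_mono y⁻¹ hB
        rwa [CD.cj_cj, inv_mul_cancel, CD.cj_one] at this
      · rw [← e, h]
      · rw [← e, h, cj, Subgroup.map_bot]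
  refine le_antisymm (key x hV T) ?_
  have hV' : cj x⁻¹ V = V := by
    conv_lhs => rw [← hV, CD.cj_cj, inv_mul_cancel, CD.cj_one]
  have h := CD.cj_mono x (key x⁻¹ hV' (cj x T))
  rwa [CD.cj_cj, CD.cj_cj, mul_inv_cancel, CD.cj_one, inv_mul_cancel, CD.cj_one] at h

theorem normalizer_le_normalizer_J {V T : Subgroup G} [V.Normal] :
    Subgroup.normalizer (T : Set G) ≤ Subgroup.normalizer (J V T : Set G) := fun x hx => by
  refine Subgroup.mem_normalizer_iff_map_conj_eq.2 ?_
  have h := J_conj (T := T) (x := x)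
    (CD.cj_eq_of_mem_normalizer (show x ∈ Subgroup.normalizer (V : Set G) by
      rw [Subgroup.normalizer_eq_top]; trivial))
  rwa [CD.cj_eq_of_mem_normalizer hx] at h

/-- A conjugate of a minimal offender is a minimal offender. -/
theorem Min.cj {V A : Subgroup G} [V.Normal] (h : Min V A) (x : G) : Min V (CD.cj x A) := by
  have hV : CD.cj x V = V := CD.cj_eq_of_mem_normalizer (by
    rw [Subgroup.normalizer_eq_top]; trivial)
  have hm : ∀ B : Subgroup G, offMeasure V (CD.cj x B) = offMeasure V B := by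
    intro B
    have e : V ⊓ cen (CD.cj x B) = CD.cj x (V ⊓ cen B) := by
      show V ⊓ cen (CD.cj x B) = (V ⊓ cen B).map (MulAut.conj x).toMonoidHom
      rw [Subgroup.map_inf _ _ _ (MulAut.conj x).injective, CD.cen_cj]
      exact congrArg (· ⊓ CD.cj x (cen B)) hV.symm
    show Nat.card (CD.cj x B) * Nat.card ↥(V ⊓ cen (CD.cj x B)) = _
    rw [e, CD.card_cj, CD.card_cj]
    rfl
  refine ⟨⟨⟨⟨fun ⟨a, a', ha', ea⟩ ⟨b, b', hb', eb⟩ => Subtype.ext (by
      show a * b = b * a
      rw [← ea, ← eb, ← map_mul, ← map_mul, comm_of_mem h.elem.1 ha' hb'])⟩⟩, ?_⟩, ?_, ?_, ?_, ?_⟩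
  · rintro _ ⟨a, ha, rfl⟩
    rw [← map_pow, h.elem.2 a ha, map_one]
  · conv_lhs => rw [← hV, CD.cen_cj]
    rw [CD.cj, CD.cj, ← Subgroup.map_inf _ _ _ (MulAut.conj x).injective, h.faith, Subgroup.map_bot]
  · exact fun e => h.ne_bot ((Subgroup.map_eq_bot_iff_of_injective _
      (MulAut.conj x).injective).1 e)
  · rw [hm, h.meas]
  · intro B hB hne hne0
    have e : CD.cj x (CD.cj x⁻¹ B) = B := by rw [CD.cj_cj, mul_inv_cancel, CD.cj_one]
    rw [← e, hm]
    refine h.least _ ?_ (fun e' => hne ?_) fun e' => hne0 ?_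
    · have := CD.cj_mono x⁻¹ hB
      rwa [CD.cj_cj, inv_mul_cancel, CD.cj_one] at this
    · rw [← e, e']
    · rw [← e, e', CD.cj, Subgroup.map_bot]

theorem isPGroup_elem {A : Subgroup G} (hA : IsElementaryAbelian 2 A) : IsPGroup 2 A :=
  fun a => ⟨1, Subtype.ext (by simpa using hA.2 a a.2)⟩

/-- An offender contains a minimal one. -/
theorem exists_min {V A : Subgroup G} (hV : IsElementaryAbelian 2 V)
    (hA : IsElementaryAbelian 2 A) (hne : ¬ A ≤ cen V)
    (hoff : Nat.card V * Nat.card ↥(A ⊓ cen V) ≤ offMeasure V A) :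
    ∃ B ≤ A, Min V B := by
  haveI : Fact (Nat.Prime 2) := ⟨Nat.prime_two⟩
  -- a complement of the kernel
  obtain ⟨B, ⟨hBA, hBC⟩, hmax⟩ := Set.exists_max_image
    {B : Subgroup G | B ≤ A ∧ B ⊓ cen V = ⊥} (fun B => Nat.card B) (Set.toFinite _)
    ⟨⊥, bot_le, bot_inf_eq _⟩
  set K := A ⊓ cen V with hK
  have hBn : B ≤ Subgroup.normalizer (K : Set G) :=
    hBA.trans (le_normalizer_of_abelian hA.1 inf_le_left)
  have hsup : B ⊔ K = A := by
    refine le_antisymm (sup_le hBA inf_le_left) fun a ha => ?_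
    by_contra hcon
    have hlt : B < B ⊔ Subgroup.zpowers a := lt_of_le_of_ne le_sup_left fun e =>
      hcon (Subgroup.mem_sup_left (e ▸ Subgroup.mem_sup_right (Subgroup.mem_zpowers a)))
    refine (hmax _ ⟨sup_le hBA (Subgroup.zpowers_le.2 ha), ?_⟩).not_gt
      (lt_of_le_of_ne (Subgroup.card_le_of_le hlt.le) fun e =>
        hlt.ne (Subgroup.eq_of_le_of_card_ge hlt.le e.ge))
    refine (Subgroup.eq_bot_iff_forall _).2 fun x hx => ?_
    have hz : Subgroup.zpowers a ≤ Subgroup.normalizer (B : Set G) :=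
      (Subgroup.zpowers_le.2 ha).trans (le_normalizer_of_abelian hA.1 hBA)
    have h1 : x ∈ ((B ⊔ Subgroup.zpowers a : Subgroup G) : Set G) := hx.1
    rw [Subgroup.coe_mul_of_right_le_normalizer_left _ _ hz] at h1
    obtain ⟨b, hb, c, ⟨i, rfl⟩, rfl⟩ := h1
    dsimp only at hx ⊢
    have ha2 : a ^ (2 : ℤ) = 1 := by
      rw [show (2 : ℤ) = ((2 : ℕ) : ℤ) from rfl, zpow_natCast]; exact hA.2 a ha
    rcases Int.even_or_odd i with ⟨j, rfl⟩ | ⟨j, rfl⟩
    · have e : a ^ (j + j) = 1 := by rw [← two_mul, zpow_mul, ha2, one_zpow]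
      rw [e, mul_one] at hx ⊢
      exact (Subgroup.eq_bot_iff_forall _).1 hBC b ⟨hb, hx.2⟩
    · have e : a ^ (2 * j + 1) = a := by rw [zpow_add, zpow_mul, ha2, one_zpow, one_mul, zpow_one]
      rw [e] at hx
      exfalso
      refine hcon ?_
      have h2 : b⁻¹ * (b * a) ∈ B ⊔ K :=
        mul_mem (Subgroup.mem_sup_left (inv_mem hb))
          (Subgroup.mem_sup_right ⟨mul_mem (hBA hb) ha, hx.2⟩)
      rwa [inv_mul_cancel_left] at h2
  have hB0 : B ≠ ⊥ := fun e => hne (by rw [← hsup, e, bot_sup_eq]; exact inf_le_right)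
  have hfix : V ⊓ cen B = V ⊓ cen A := by
    refine le_antisymm (le_inf inf_le_left ?_) (inf_le_inf_left _ (CD.cen_anti hBA))
    show V ⊓ cen B ≤ cen A
    conv_rhs => rw [← hsup, CD.cen_sup]
    exact le_inf inf_le_right (inf_le_left.trans ((CD.le_cen_cen V).trans (CD.cen_anti inf_le_right)))
  have hcard : Nat.card B * Nat.card K = Nat.card A := by
    have h := card_sup_mul_card_inf B K hBn
    rw [hsup, show B ⊓ K = ⊥ from le_bot_iff.1 (hBC ▸ inf_le_inf_left _ inf_le_right),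
      Subgroup.card_bot, mul_one] at h
    exact h.symm
  have hBoff : Nat.card V ≤ offMeasure V B := by
    refine Nat.le_of_mul_le_mul_right (hoff.trans (le_of_eq ?_)) (Nat.card_pos (α := K))
    show Nat.card A * Nat.card ↥(V ⊓ cen A) = Nat.card B * Nat.card ↥(V ⊓ cen B) * Nat.card K
    rw [hfix, ← hcard]; ring
  -- shrink it
  obtain ⟨C, ⟨hCB, hC0, hCoff⟩, hmin⟩ := Set.exists_min_image
    {C : Subgroup G | C ≤ B ∧ C ≠ ⊥ ∧ Nat.card V ≤ offMeasure V C} (fun C => Nat.card C)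
    (Set.toFinite _) ⟨B, le_rfl, hB0, hBoff⟩
  have hCA : C ≤ A := hCB.trans hBA
  have hCC : C ⊓ cen V = ⊥ := le_bot_iff.1 (hBC ▸ inf_le_inf_right _ hCB)
  have hleast : ∀ D ≤ C, D ≠ C → D ≠ ⊥ → offMeasure V D < Nat.card V := by
    intro D hD hne' hD0
    by_contra hlt
    push Not at hlt
    exact hne' (Subgroup.eq_of_le_of_card_ge hD (hmin D ⟨hD.trans hCB, hD0, hlt⟩))
  have hCe : IsElementaryAbelian 2 C := isElementaryAbelian_of_le hA hCA
  refine ⟨C, hCA, hCe, hCC, hC0, le_antisymm ?_ hCoff, hleast⟩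
  obtain ⟨C₁, -, hC₁, hcC, b, hbC, hbC₁, -⟩ :=
    exists_index_p (p := 2) (isPGroup_elem hCe) (bot_lt_iff_ne_bot.2 hC0)
  set F := V ⊓ cen C
  have hFV : F ≤ V := inf_le_left
  show Nat.card C * Nat.card F ≤ Nat.card V
  obtain ⟨k, hk⟩ := IsPGroup.iff_card.1 (isPGroup_elem hV)
  obtain ⟨l, hl⟩ := IsPGroup.iff_card.1 ((isPGroup_elem hV).to_le hFV)
  obtain ⟨i, hi⟩ := IsPGroup.iff_card.1 ((isPGroup_elem hCe).to_le hC₁)
  rw [hcC, hi, hl, hk, ← pow_succ', ← pow_add]
  refine Nat.pow_le_pow_right (by norm_num) ?_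
  by_cases hC₁0 : C₁ = ⊥
  · have hne' : F ≠ V := fun e => hC0 (by
      rw [← hCC]
      refine (inf_eq_left.2 ?_).symm
      exact (CD.le_cen_cen C).trans (CD.cen_anti ((inf_eq_left.1 e))))
    have h0 : i = 0 := by
      rw [hC₁0, Subgroup.card_bot] at hi
      rcases Nat.eq_zero_or_pos i with h | h
      · exact h
      · exact absurd hi.symm (Nat.one_lt_pow h.ne' (by norm_num)).ne'
    have hlk : l < k := by
      rw [← Nat.pow_lt_pow_iff_right (show 1 < 2 by norm_num), ← hl, ← hk]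
      exact lt_of_le_of_ne (Subgroup.card_le_of_le hFV) fun e =>
        hne' (Subgroup.eq_of_le_of_card_ge hFV e.ge)
    omega
  · have h := hleast C₁ hC₁ (fun e => hbC₁ (e ▸ hbC)) hC₁0
    have h2 : 2 ^ i * 2 ^ l < 2 ^ k := by
      rw [← hi, ← hl, ← hk]
      exact lt_of_le_of_lt (Nat.mul_le_mul_left _
        (Subgroup.card_le_of_le (inf_le_inf_left _ (CD.cen_anti hC₁)))) h
    rw [← pow_add] at h2
    have := (Nat.pow_lt_pow_iff_right (show 1 < 2 by norm_num)).1 h2
    omega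

/-- A minimal offender acts quadratically. -/
theorem Min.quadratic {V A : Subgroup G} [V.Normal] (hV : IsElementaryAbelian 2 V) (h : Min V A) :
    ⁅V, A⁆ ≤ V ⊓ cen A := by
  haveI : Fact (Nat.Prime 2) := ⟨Nat.prime_two⟩
  have hAV : A ≤ Subgroup.normalizer (V : Set G) := by rw [Subgroup.normalizer_eq_top]; exact le_top
  have hab : ⁅A, A⁆ ≤ Subgroup.centralizer (V : Set G) := by
    rw [Subgroup.commutator_self_eq_bot_iff.2 h.elem.1]; exact bot_le
  have hmax : ∀ X, X ≤ A → offMeasure V X ≤ offMeasure V A := by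
    intro X hX
    rw [h.meas]
    by_cases hX0 : X = ⊥
    · subst hX0
      simp [offMeasure]
      exact Subgroup.card_le_of_le inf_le_left
    by_cases hXA : X = A
    · rw [hXA, h.meas]
    exact (h.least X hX hXA hX0).le
  have hVA : ⁅V, A⁆ ≠ ⊥ := fun e => not_le_cen h
    (Subgroup.le_centralizer_iff.1 (Subgroup.commutator_eq_bot_iff_le_centralizer.1 e))
  obtain ⟨hm, -⟩ := replacement hV.1 hAV hab hmax (le_refl V)
  have hnt := replacement_nontrivial hV.1 (isPGroup_elem hV) hAV hab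
    (fun a ha => ⟨1, by rw [pow_one, h.elem.2 a ha]; exact one_mem _⟩) hmax (le_refl V) hVA
  set B := A ⊓ Subgroup.centralizer ((⁅V, A⁆ : Subgroup G) : Set G)
  have hBA : B = A := by
    by_contra hne
    refine absurd (h.least B inf_le_left hne fun e => hnt ?_) (by rw [hm, h.meas]; exact lt_irrefl _)
    rw [e, Subgroup.commutator_bot_right]
  exact le_inf (Subgroup.commutator_le_left V A) (Subgroup.le_centralizer_iff.1 (inf_eq_left.1 hBA))

end CfsgLib.LocalEven.S4F
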