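import Cfsg.Prelude.Def_LocalEven
import Cfsg.Prelude.Def_BaumannBlocks
import Cfsg.Agent.Lib.LocalEven.SL2Natural

/-!
From a conjugation action of `SL₂(F)` to a module, and from coordinates back to natural sections.
-/

set_option autoImplicit false

namespace CfsgLib.LocalEven.SL2Bridge

open Matrix CfsgLib.Classical
open scoped commutatorElement

variable {X : Type*} [Group X] {F : Type*} [Field F]

local notation "SL₂" => Matrix.SpecialLinearGroup (Fin 2) F

/-- The module given by a homomorphism into the automorphisms. -/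
@[reducible] def moduleAction {A : Type*} [CommGroup A]
    (φ : Matrix.SpecialLinearGroup (Fin 2) F →* MulAut A) :
    DistribMulAction (Matrix.SpecialLinearGroup (Fin 2) F) (Additive A) where
  smul g m := Additive.ofMul (φ g (Additive.toMul m))
  one_smul m := by show Additive.ofMul (φ 1 _) = m; rw [map_one]; rfl
  mul_smul g h m := by show Additive.ofMul (φ (g * h) _) = _; rw [map_mul]; rfl
  smul_zero g := by show Additive.ofMul (φ g 1) = 0; rw [map_one]; rfl
  smul_add g m m' := by show Additive.ofMul (φ g (_ * _)) = _; rw [map_mul]; rfl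

/-- Coordinates in the natural module give a natural section with trivial bottom. -/
theorem acts_of_coord {E U : Subgroup X} (hEU : E ≤ Subgroup.normalizer (U : Set X))
    (ρ : ↥E →* Matrix.SpecialLinearGroup (Fin 2) F) (hρ : Function.Surjective ρ)
    (f : ↥U → (Fin 2 → F)) (hf : Function.Bijective f) (hadd : ∀ u v, f (u * v) = f u + f v)
    (hact : ∀ (e : ↥E) (u w : ↥U), (w : X) = (e : X) * u * (e : X)⁻¹ → f w = (ρ e).1.mulVec (f u)) :
    Cfsg.ActsAsSL2OnSection F ⊤ E U ⊥ := by
  have h1 : f 1 = 0 := by have := hadd 1 1; rw [mul_one] at this; simpa using this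
  refine ⟨hEU, bot_le, ρ, MonoidHom.mk' (fun u => Multiplicative.ofAdd (f u))
    (fun u v => by rw [hadd]; rfl), MonoidHom.range_eq_top.2 hρ,
    fun w => (hf.2 (Multiplicative.toAdd w)).imp fun u hu => by simp [hu], fun u => ?_, fun e u => ?_⟩
  · show Multiplicative.ofAdd (f u) = 1 ↔ _
    rw [Subgroup.mem_bot, ofAdd_eq_one]
    exact ⟨fun h => congrArg Subtype.val (hf.1 (h.trans h1.symm)),
      fun h => by rw [show u = 1 from Subtype.ext h, h1]⟩
  · exact ⟨⟨_, (Subgroup.mem_normalizer_iff.1 (hEU e.2) u).1 u.2⟩, rfl, hact e u _ rfl⟩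

/-- Change coordinates in `SL₂` so that a given Sylow subgroup is upper unitriangular. -/
theorem exists_adapted [Finite F] {G : Type*} [Group G] [Finite G] {p : ℕ} [Fact p.Prime] [CharP F p]
    (e : G ≃* Matrix.SpecialLinearGroup (Fin 2) F) (S : Sylow p G) :
    ∃ e' : G ≃* Matrix.SpecialLinearGroup (Fin 2) F, (S : Subgroup G).map e'.toMonoidHom = uSubgroup F := by
  obtain ⟨g, hg⟩ := MulAction.exists_smul_eq (Matrix.SpecialLinearGroup (Fin 2) F)
    (S.mapSurjective (f := e.toMonoidHom) e.surjective) (uSylow (F := F) p)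
  refine ⟨e.trans (MulAut.conj g), ?_⟩
  have h1 : ((g • S.mapSurjective (f := e.toMonoidHom) e.surjective : Sylow p _) : Subgroup _) = uSubgroup F := by
    rw [hg]; rfl
  rw [← h1]
  ext x
  simp only [Subgroup.mem_map, mem_sylow_smul, Sylow.coe_mapSurjective]
  exact ⟨fun ⟨s, hs, h⟩ => ⟨e s, ⟨s, hs, rfl⟩, h⟩, fun ⟨_, ⟨s, hs, rfl⟩, h⟩ => ⟨s, hs, h⟩⟩

/-- An irreducible quadratic or small module of `SL₂(F)` is natural. -/
theorem acts_of_irreducible [Finite X] {p : ℕ} [Fact p.Prime] (G V : Subgroup X)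
    (hV : Cfsg.IsElementaryAbelian p V) (hGV : G ≤ Subgroup.normalizer (V : Set X))
    [Fintype F] [CharP F p] (hG : Nonempty (↥G ≃* Matrix.SpecialLinearGroup (Fin 2) F))
    (hirr : ∀ U : Subgroup X, U ≤ V → G ≤ Subgroup.normalizer (U : Set X) → U = ⊥ ∨ U = V)
    (hnt : ⁅V, G⁆ ≠ ⊥) (S : Sylow p ↥G)
    (hyp : ⁅⁅V, (S : Subgroup ↥G).map G.subtype⁆, (S : Subgroup ↥G).map G.subtype⁆ = ⊥ ∨
      Nat.card ↥V ≤ Nat.card ↥(V ⊓ Subgroup.centralizer
        (((S : Subgroup ↥G).map G.subtype : Subgroup X) : Set X)) ^ 2) :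
    Cfsg.ActsAsSL2OnSection F ⊤ G V ⊥ := by
  classical
  obtain ⟨e₀⟩ := hG
  obtain ⟨e, he⟩ := exists_adapted e₀ S
  haveI : IsMulCommutative ↥V := hV.1
  letI : CommGroup ↥V := { (inferInstance : Group ↥V) with mul_comm := hV.1.is_comm.comm }
  let c : ↥G →* MulAut ↥V :=
      MonoidHom.mk' (fun g : ↥G => ({
        toFun := fun v => ⟨(g : X) * v * (g : X)⁻¹, (Subgroup.mem_normalizer_iff.1 (hGV g.2) v).1 v.2⟩
        invFun := fun v => ⟨(g : X)⁻¹ * v * (g : X), by
          simpa using (Subgroup.mem_normalizer_iff.1 (hGV (inv_mem g.2)) v).1 v.2⟩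
        left_inv := fun v => Subtype.ext (by simp [mul_assoc])
        right_inv := fun v => Subtype.ext (by simp [mul_assoc])
        map_mul' := fun v w => Subtype.ext (by simp [mul_assoc]) } : MulAut ↥V))
        (fun g h => MulEquiv.ext fun v => Subtype.ext (by simp [mul_assoc]))
  letI := moduleAction (c.comp e.symm.toMonoidHom)
  have hsmul : ∀ (g : SL₂) (m : Additive ↥V), ((Additive.toMul (g • m) : ↥V) : X) =
      (e.symm g : X) * (Additive.toMul m : ↥V) * (e.symm g : X)⁻¹ := fun g m => rfl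
  have hmemS : ∀ g : ↥G, (g : X) ∈ (S : Subgroup ↥G).map G.subtype ↔ ∃ a : F, e g = uSL a := fun g => by
    refine (Subgroup.mem_map_iff_mem (K := (S : Subgroup ↥G)) G.subtype_injective).trans ?_
    rw [← Subgroup.mem_map_iff_mem (K := (S : Subgroup ↥G)) (f := e.toMonoidHom) e.injective, he,
      mem_uSubgroup_iff]
    exact exists_congr fun a => eq_comm
  have hmemU : ∀ a : F, (e.symm (uSL a) : X) ∈ (S : Subgroup ↥G).map G.subtype := fun a =>
    (hmemS _).2 ⟨a, e.apply_symm_apply _⟩
  have hirr' : ∀ Y : AddSubgroup (Additive ↥V), (∀ (g : SL₂), ∀ x ∈ Y, g • x ∈ Y) → Y = ⊥ ∨ Y = ⊤ := by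
    intro Y hY
    rcases hirr ((AddSubgroup.toSubgroup' Y).map V.subtype) (Subgroup.map_subtype_le _) (by
        intro g hg
        refine Subgroup.mem_normalizer_iff.2 fun x => ⟨?_, fun hx => ?_⟩
        · rintro ⟨v, hv, rfl⟩
          refine ⟨Additive.toMul (e ⟨g, hg⟩ • Additive.ofMul v), hY _ _ hv, ?_⟩
          show ((Additive.toMul (e ⟨g, hg⟩ • Additive.ofMul v) : ↥V) : X) = _
          rw [hsmul, MulEquiv.symm_apply_apply]
          rfl
        · obtain ⟨v, hv, hve⟩ := hx
          refine ⟨Additive.toMul ((e ⟨g, hg⟩)⁻¹ • Additive.ofMul v), hY _ _ hv, ?_⟩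
          show ((Additive.toMul ((e ⟨g, hg⟩)⁻¹ • Additive.ofMul v) : ↥V) : X) = _
          rw [hsmul, map_inv, MulEquiv.symm_apply_apply]
          show g⁻¹ * (v : X) * g⁻¹⁻¹ = x
          rw [show (v : X) = g * x * g⁻¹ from hve]
          group) with h | h
    · left
      refine (AddSubgroup.eq_bot_iff_forall _).2 fun x hx => ?_
      have : ((Additive.toMul x : ↥V) : X) ∈ (⊥ : Subgroup X) := h ▸ ⟨_, hx, rfl⟩
      exact Additive.toMul.injective (Subtype.ext (Subgroup.mem_bot.1 this))
    · right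
      refine AddSubgroup.eq_top_iff' _ |>.2 fun x => ?_
      obtain ⟨v, hv, hve⟩ := (h.symm ▸ (Additive.toMul x).2 :
        ((Additive.toMul x : ↥V) : X) ∈ (AddSubgroup.toSubgroup' Y).map V.subtype)
      rw [show x = Additive.ofMul v from congrArg Additive.ofMul (Subtype.ext hve).symm]
      exact hv
  have hnt' : ∃ (g : SL₂) (m : Additive ↥V), g • m ≠ m := by
    by_contra h
    push Not at h
    refine hnt (Subgroup.commutator_eq_bot_iff_le_centralizer.2 fun v hv => Subgroup.mem_centralizer_iff.2 fun g hg => ?_)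
    have := congrArg (fun m => ((Additive.toMul m : ↥V) : X)) (h (e ⟨g, hg⟩) (Additive.ofMul ⟨v, hv⟩))
    simp only [hsmul, MulEquiv.symm_apply_apply, toMul_ofMul] at this
    exact mul_inv_eq_iff_eq_mul.1 this
  have hexp : ∀ m : Additive ↥V, p • m = 0 := fun m =>
    Additive.toMul.injective (Subtype.ext (by
      rw [toMul_nsmul, toMul_zero, SubmonoidClass.coe_pow]
      exact hV.2 _ (Additive.toMul m).2))
  have hyp' : (∀ (a b : F) (m : Additive ↥V),
        (uSL a : SL₂) • ((uSL b : SL₂) • m - m) = (uSL b : SL₂) • m - m) ∨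
      Nat.card (Additive ↥V) ≤ Nat.card (SL2Natural.fixU F (Additive ↥V)) ^ 2 := by
    rcases hyp with h | h
    · left
      intro a b m
      obtain ⟨d, hd⟩ : ∃ d, (uSL b : SL₂) • m - m = d := ⟨_, rfl⟩
      rw [hd]
      refine Additive.toMul.injective (Subtype.ext ?_)
      rw [hsmul, mul_inv_eq_iff_eq_mul]
      have hd' : ((Additive.toMul d : ↥V) : X) = ⁅((Additive.toMul m : ↥V) : X), (e.symm (uSL b) : X)⁆⁻¹ := by
        rw [← hd, toMul_sub, div_eq_mul_inv, Subgroup.coe_mul, Subgroup.coe_inv, hsmul, commutatorElement_inv,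
          commutatorElement_def]
      have hmem : ((Additive.toMul d : ↥V) : X) ∈ ⁅V, (S : Subgroup ↥G).map G.subtype⁆ := by
        rw [hd']
        exact inv_mem (Subgroup.commutator_mem_commutator (Additive.toMul m).2 (hmemU b))
      exact Subgroup.mem_centralizer_iff.1 (Subgroup.commutator_eq_bot_iff_le_centralizer.1 h hmem) _ (hmemU a)
    · right
      rw [Nat.card_congr Additive.toMul]
      refine h.trans (Nat.pow_le_pow_left ?_ 2)
      refine Nat.card_le_card_of_injective (fun x => ⟨Additive.ofMul (⟨x.1, x.2.1⟩ : ↥V), fun a => ?_⟩) ?_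
      · refine Additive.toMul.injective (Subtype.ext ?_)
        rw [hsmul, mul_inv_eq_iff_eq_mul]
        exact Subgroup.mem_centralizer_iff.1 x.2.2 _ (hmemU a)
      · intro x y hxy
        exact Subtype.ext (congrArg (fun m => ((Additive.toMul m : ↥V) : X)) (Subtype.ext_iff.1 hxy))
  have hS := SL2Natural.split_of_irreducible hexp hirr' hnt' hyp'
  obtain ⟨k, Φ, hΦ⟩ := hS.exists_natural
  obtain ⟨g₀, m₀, hm₀⟩ := hnt'
  have hk : ∀ i j : Fin k, i = j := by
    intro i j
    by_contra hij
    let Y : AddSubgroup (Additive ↥V) :=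
      { carrier := {m | Φ m j = 0}
        zero_mem' := by simp
        add_mem' := fun {x y} hx hy => by simp_all
        neg_mem' := fun {x} hx => by simp_all }
    rcases hirr' Y (fun g x hx => by show Φ (g • x) j = 0; rw [hΦ, hx, Matrix.mulVec_zero]) with h | h
    · have hm : Φ.symm (Function.update 0 i ![1, 0]) ∈ Y := by
        show Φ _ j = 0; rw [Φ.apply_symm_apply, Function.update_of_ne (Ne.symm hij)]; rfl
      rw [h, AddSubgroup.mem_bot] at hm
      have := congrArg (fun m => Φ m i 0) hm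
      simp at this
    · have hm : Φ.symm (Function.update 0 j ![1, 0]) ∈ Y := h ▸ AddSubgroup.mem_top _
      have := congrFun (show Φ (Φ.symm (Function.update 0 j ![1, 0])) j = 0 from hm) 0
      simp at this
  rcases Nat.eq_zero_or_pos k with hk0 | hk0
  · subst hk0
    exact absurd (Φ.injective (funext fun i => i.elim0)) hm₀
  refine acts_of_coord hGV e.toMonoidHom e.surjective (fun u => Φ (Additive.ofMul u) ⟨0, hk0⟩) ⟨?_, ?_⟩
    (fun u v => by rw [ofMul_mul, map_add]; rfl) (fun g u w hw => ?_)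
  · intro u v h
    refine Additive.ofMul.injective (Φ.injective (funext fun i => ?_))
    rw [hk i ⟨0, hk0⟩]; exact h
  · intro w
    exact ⟨Additive.toMul (Φ.symm fun _ => w), by simp⟩
  · have : Additive.ofMul w = e g • Additive.ofMul u := Additive.toMul.injective (Subtype.ext (by
      rw [hsmul, MulEquiv.symm_apply_apply]; exact hw))
    rw [this, hΦ]
    rfl

end CfsgLib.LocalEven.SL2Bridge
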