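import Cfsg.Agent.Lib.LocalEven.SL2Natural
import Mathlib.Algebra.CharP.Two

/-!
Higman: a finite 2-group module of `SL₂(2ⁿ)`, `n ≥ 2`, in which an element of order three fixes only
zero is a sum of natural modules, and admits no symmetric equivariant pairing.
-/

set_option autoImplicit false
set_option linter.unusedSectionVars false

namespace CfsgLib.LocalEven.SL2Fpf

open Matrix Matrix.SpecialLinearGroup CfsgLib.Classical SL2Natural

variable {F : Type*} [Field F] [CharP F 2]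

local notation "SL₂" => Matrix.SpecialLinearGroup (Fin 2) F

theorem two_zero : (2 : F) = 0 := CharP.cast_eq_zero F 2

theorem neg_self (a : F) : -a = a := CharTwo.neg_eq a

theorem nSL_mul_self {a : F} (ha : a ≠ 0) : (nSL a : SL₂) * nSL a = 1 := by
  simpa [neg_self] using nSL_mul_neg ha

theorem uSL_mul_self (a : F) : (uSL a : SL₂) * uSL a = 1 := by
  rw [← uSL_add, CharTwo.add_self_eq_zero, SL2Natural.uSL_zero]

theorem nSL_mul_one {a : F} (ha : a ≠ 0) : (nSL a : SL₂) * nSL 1 = hSL a := by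
  simpa [neg_self] using nSL_mul_nSL_one ha

theorem hSL_nSL_one {a : F} (ha : a ≠ 0) : (hSL a : SL₂) * nSL 1 = nSL a := by
  rw [← nSL_mul_one ha, mul_assoc, nSL_mul_self one_ne_zero, mul_one]

theorem hSL_one : (hSL (1 : F) : SL₂) = 1 := by
  rw [← nSL_mul_one one_ne_zero, nSL_mul_self one_ne_zero]

theorem exists_sqrt [Finite F] (a : F) : ∃ c : F, c ^ 2 = a := by
  have := Fintype.ofFinite F
  obtain ⟨c, hc⟩ := FiniteField.isSquare_of_char_two (ringChar.eq F 2) a
  exact ⟨c, by rw [hc, pow_two]⟩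

theorem ySL_cube {a : F} (ha : a ≠ 0) : ((nSL a : SL₂) * uSL a) ^ 3 = 1 := by
  have h2 : (2 : F) = 0 := two_zero
  refine Subtype.ext ?_
  rw [pow_succ, pow_two, coe_mul, coe_mul, coe_mul, nSL_coe ha, uSL_coe, coe_one]
  ext i j
  fin_cases i <;> fin_cases j <;> simp [Matrix.mul_apply, Fin.sum_univ_two, ha, neg_self] <;>
    grind

variable {M : Type*} [AddCommGroup M] [DistribMulAction (Matrix.SpecialLinearGroup (Fin 2) F) M]

/-- An element of order three fixes only zero. -/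
def Fpf (F : Type*) [Field F] (M : Type*) [AddCommGroup M]
    [DistribMulAction (Matrix.SpecialLinearGroup (Fin 2) F) M] : Prop :=
  ∀ m : M, ((nSL (1 : F) : Matrix.SpecialLinearGroup (Fin 2) F) * uSL 1) • m = m → m = 0

theorem relation [Finite F] (hf : Fpf F M) {a : F} (ha : a ≠ 0) (m : M) :
    (uSL a : SL₂) • (nSL a : SL₂) • (uSL a : SL₂) • m + (uSL a : SL₂) • m + (nSL a : SL₂) • m = 0 := by
  obtain ⟨g, hg⟩ : ∃ g, (nSL a : SL₂) * uSL a = g := ⟨_, rfl⟩
  have hfix : ∀ x : M, g • x = x → x = 0 := by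
    intro x hx
    obtain ⟨c, hc⟩ := exists_sqrt a
    have hc0 : c ≠ 0 := fun e => ha (by rw [← hc, e]; simp)
    have e : g * hSL c = hSL c * ((nSL 1 : SL₂) * uSL 1) := by
      rw [← hg]
      refine Subtype.ext ?_
      simp only [coe_mul, nSL_coe ha, nSL_coe (one_ne_zero : (1 : F) ≠ 0), uSL_coe, hSL_coe hc0]
      subst hc
      ext i j
      fin_cases i <;> fin_cases j <;> simp [Matrix.mul_apply, Fin.sum_univ_two] <;> field_simp
    obtain ⟨y, rfl⟩ := MulAction.surjective (hSL c : SL₂) x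
    rw [smul_smul, e, mul_smul] at hx
    show (hSL c : SL₂) • y = 0
    rw [hf y (MulAction.injective _ hx), smul_zero]
  have hz : g • g • m + g • m + m = 0 := by
    refine hfix _ ?_
    have h3 : g • g • g • m = m := by
      rw [smul_smul, smul_smul, ← pow_two, ← pow_succ, ← hg, ySL_cube ha, one_smul]
    rw [smul_add, smul_add, h3]
    abel
  have := congrArg ((nSL a : SL₂) • ·) hz
  simp only [smul_add, smul_zero, ← hg, mul_smul] at this
  rwa [smul_smul (nSL a : SL₂) (nSL a) _, nSL_mul_self ha, one_smul,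
    smul_smul (nSL a : SL₂) (nSL a) _, nSL_mul_self ha, one_smul] at this

theorem nofix (hf : Fpf F M) : NoFix F M := fun m hm => hf m (hm _)

theorem neg_of_two {x : M} (h : 2 • x = 0) : -x = x := by
  rw [two_nsmul] at h
  exact neg_eq_of_add_eq_zero_left h

theorem smul_nsmul (g : SL₂) (n : ℕ) (x : M) : g • n • x = n • g • x :=
  map_nsmul (DistribSMul.toAddMonoidHom M g) n x

theorem two_smul_smul {x : M} (h : 2 • x = 0) (g : SL₂) : 2 • (g • x) = 0 := by
  rw [← smul_nsmul, h, smul_zero]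

theorem half [Finite F] (hf : Fpf F M) {w : M} (hw : w ∈ fixU F M) (h2 : 2 • w = 0) {a : F} (ha : a ≠ 0) :
    (uSL a : SL₂) • (nSL a : SL₂) • w = (nSL a : SL₂) • w + w := by
  have h := relation hf ha w
  rw [hw a] at h
  have := eq_neg_of_add_eq_zero_left ((add_assoc _ _ _).symm.trans h)
  rw [this, neg_add_rev, neg_of_two h2, neg_of_two (two_smul_smul h2 _)]

theorem root_on_opposite [Finite F] (hf : Fpf F M) {v : M} (hv : v ∈ fixL F M) (h2 : 2 • v = 0)
    {a : F} (ha : a ≠ 0) : (uSL a : SL₂) • v = v + (nSL a : SL₂) • v := by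
  have := half hf (nSL_smul_fixL ha hv) (two_smul_smul h2 (nSL a : SL₂)) ha
  rwa [smul_smul (nSL a : SL₂) (nSL a), nSL_mul_self ha, one_smul] at this

variable (F M) in
/-- Sums of fixed points of exponent two. -/
def span2 : AddSubgroup M where
  carrier := {m | ∃ w ∈ fixU F M, ∃ v ∈ fixL F M, 2 • w = 0 ∧ 2 • v = 0 ∧ m = w + v}
  zero_mem' := ⟨0, zero_mem _, 0, zero_mem _, by simp⟩
  add_mem' := by
    rintro _ _ ⟨w, hw, v, hv, a, b, rfl⟩ ⟨w', hw', v', hv', a', b', rfl⟩
    exact ⟨w + w', add_mem hw hw', v + v', add_mem hv hv', by rw [nsmul_add, a, a', add_zero],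
      by rw [nsmul_add, b, b', add_zero], add_add_add_comm _ _ _ _⟩
  neg_mem' := by
    rintro _ ⟨w, hw, v, hv, a, b, rfl⟩
    exact ⟨-w, neg_mem hw, -v, neg_mem hv, by rw [neg_nsmul, a, neg_zero], by rw [neg_nsmul, b, neg_zero],
      neg_add _ _⟩

/-- The functional equation of an extension. -/
theorem functional {W : Type*} [AddCommGroup W] [Module F W] [Finite F] (d : F → W)
    (hadd : ∀ a b, d (a + b) = d a + d b) (p : W) {t : F} (ht0 : t ≠ 0) (ht1 : t ≠ 1)
    (heq : ∀ b c : F, b ≠ 0 → c ≠ 0 →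
      c • d (b / c ^ 2) + b • (d (1 / c) + p) = b • d (c / b ^ 2) + c • (d (1 / b) + p)) :
    (∀ a, d a = a • d 1) ∧ p = 0 := by
  have h2 : (2 : F) = 0 := two_zero
  have hd0 : d 0 = 0 := by have := hadd 0 0; rw [add_zero] at this; exact left_eq_add.1 this
  let f : F → W := fun a => d a + a • d 1
  have hfadd : ∀ a b, f (a + b) = f a + f b := fun a b => by
    simp only [f, hadd, add_smul]; abel
  have hf1 : f 1 = 0 := by
    show d 1 + (1 : F) • d 1 = 0
    match_scalars
    grind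
  have g1 : ∀ c : F, c ≠ 0 → f c = c • f (1 / c ^ 2) + f (1 / c) + (1 + c) • p := by
    intro c hc
    have h := heq 1 c one_ne_zero hc
    simp only [one_pow, div_one, one_smul] at h
    show d c + c • d 1 = c • (d (1 / c ^ 2) + (1 / c ^ 2) • d 1) + (d (1 / c) + (1 / c) • d 1) + (1 + c) • p
    linear_combination (norm := (match_scalars <;> field_simp <;> grind)) -h
  have g2 : ∀ x : F, x ≠ 0 → f (1 / x) = (1 / x) • f x + (1 + 1 / x) • p := by
    intro x hx
    obtain ⟨c, rfl⟩ := exists_sqrt x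
    have hc : c ≠ 0 := fun e => hx (by simp [e])
    have e1 := g1 c hc
    have e2 := g1 (1 / c) (one_div_ne_zero hc)
    rw [one_div_one_div, show (1 : F) / (1 / c) ^ 2 = c ^ 2 by field_simp] at e2
    rw [e2] at e1
    linear_combination (norm := (match_scalars <;> field_simp <;> grind)) (1 / c) • e1
  have hsq : ∀ c : F, f (c ^ 2) = (c + 1) • f c := by
    intro c
    rcases eq_or_ne c 0 with rfl | hc
    · simp [f, hd0]
    have e1 := g1 c hc
    rw [g2 _ (pow_ne_zero 2 hc), g2 c hc] at e1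
    linear_combination (norm := (match_scalars <;> field_simp <;> grind)) c • e1
  have hf : ∀ c, f c = 0 := by
    intro c
    have h := hsq (c + 1)
    rw [show (c + 1) ^ 2 = c ^ 2 + 1 by grind, hfadd, hsq, hfadd, hf1, add_zero, add_zero] at h
    linear_combination (norm := (match_scalars <;> grind)) h
  refine ⟨fun a => ?_, ?_⟩
  · have := hf a
    linear_combination (norm := (simp only [f]; match_scalars <;> grind)) this
  · have h := g2 t ht0
    rw [hf, hf, smul_zero, zero_add] at h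
    refine (smul_eq_zero.1 h.symm).resolve_left fun e => ht1 ?_
    field_simp at e
    grind

/-- An element moved into the span by every root element lies in it and has order at most two. -/
theorem extension [Finite F] [Finite M] (hf : Fpf F M) {t : F} (ht0 : t ≠ 0) (ht1 : t ≠ 1) {m : M}
    (h4 : 4 • m = 0) (hp : 2 • m ∈ fixU F M) (hd : ∀ a : F, (uSL a : SL₂) • m - m ∈ span2 F M) :
    2 • m = 0 ∧ m ∈ span2 F M := by
  have hno := nofix hf
  set p := 2 • m with hpdef
  have hp2 : 2 • p = 0 := by rw [hpdef, ← mul_nsmul]; exact h4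
  let d : F → M := fun a => (uSL a : SL₂) • m - m
  have hUm : ∀ a, (uSL a : SL₂) • m = m + d a := fun a => (add_sub_cancel _ _).symm
  have hd2 : ∀ a, 2 • d a = 0 := fun a => by
    show 2 • ((uSL a : SL₂) • m - m) = 0
    rw [nsmul_sub, ← smul_nsmul, ← hpdef, hp a, sub_self]
  have hdW : ∀ a, d a ∈ fixU F M := by
    intro a
    rcases eq_or_ne a 0 with rfl | ha
    · show (uSL (0 : F) : SL₂) • m - m ∈ _
      rw [SL2Natural.uSL_zero, one_smul, sub_self]; exact zero_mem _
    obtain ⟨w, hw, v, hv, hw2, hv2, e⟩ := hd a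
    have hUd : (uSL a : SL₂) • d a = d a := by
      show (uSL a : SL₂) • ((uSL a : SL₂) • m - m) = d a
      rw [smul_sub, smul_smul, uSL_mul_self, one_smul, ← neg_sub, neg_of_two (hd2 a)]
    rw [show d a = w + v from e, smul_add, hw a, root_on_opposite hf hv hv2 ha, add_right_inj] at hUd
    have hv0 : v = 0 := MulAction.injective (nSL a : SL₂) ((left_eq_add.1 hUd.symm).trans (smul_zero _).symm)
    rw [show d a = w + v from e, hv0, add_zero]
    exact hw
  let W2 : AddSubgroup M :=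
    { carrier := {w | w ∈ fixU F M ∧ 2 • w = 0}
      zero_mem' := ⟨zero_mem _, smul_zero _⟩
      add_mem' := fun {x y} hx hy => ⟨add_mem hx.1 hy.1, by rw [nsmul_add, hx.2, hy.2, add_zero]⟩
      neg_mem' := fun {x} hx => ⟨neg_mem hx.1, by rw [neg_nsmul, hx.2, neg_zero]⟩ }
  have hsc : ∀ (a : F) (w : W2), a ≠ 0 →
      (uSL a : SL₂) • (nSL 1 : SL₂) • (w : M) - (nSL 1 : SL₂) • (w : M) = (hSL a : SL₂) • (w : M) := by
    intro a w ha
    rw [root_on_opposite hf (nSL_smul_fixU one_ne_zero w.2.1) (two_smul_smul w.2.2 _) ha, smul_smul,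
      nSL_mul_one ha, add_sub_cancel_left]
  have hscm : ∀ (a : F) (w : W2),
      (uSL a : SL₂) • (nSL 1 : SL₂) • (w : M) - (nSL 1 : SL₂) • (w : M) ∈ W2 := by
    intro a w
    rcases eq_or_ne a 0 with rfl | ha
    · rw [SL2Natural.uSL_zero, one_smul, sub_self]; exact zero_mem _
    · rw [hsc a w ha]; exact ⟨hSL_smul_fixU ha w.2.1, two_smul_smul w.2.2 _⟩
  let σ : F →+* AddMonoid.End W2 :=
    { toFun := fun a => AddMonoidHom.mk' (fun w => ⟨_, hscm a w⟩) (fun v w => Subtype.ext (by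
        show (uSL a : SL₂) • (nSL 1 : SL₂) • ((v : M) + w) - (nSL 1 : SL₂) • ((v : M) + w) = _
        rw [smul_add, smul_add, add_sub_add_comm]
        rfl))
      map_zero' := AddMonoidHom.ext fun w => Subtype.ext (by
        show (uSL (0 : F) : SL₂) • (nSL 1 : SL₂) • (w : M) - (nSL 1 : SL₂) • (w : M) = 0
        rw [SL2Natural.uSL_zero, one_smul, sub_self])
      map_add' := fun a b => AddMonoidHom.ext fun w => Subtype.ext (by
        show (uSL (a + b) : SL₂) • (nSL 1 : SL₂) • (w : M) - (nSL 1 : SL₂) • (w : M) =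
          ((uSL a : SL₂) • (nSL 1 : SL₂) • (w : M) - (nSL 1 : SL₂) • (w : M)) +
          ((uSL b : SL₂) • (nSL 1 : SL₂) • (w : M) - (nSL 1 : SL₂) • (w : M))
        have hb := (hscm b w).1 a
        rw [smul_sub] at hb
        rw [uSL_add, mul_smul, ← hb]
        abel)
      map_one' := AddMonoidHom.ext fun w => Subtype.ext (by
        show (uSL (1 : F) : SL₂) • (nSL 1 : SL₂) • (w : M) - (nSL 1 : SL₂) • (w : M) = (w : M)
        rw [hsc 1 w one_ne_zero, hSL_one, one_smul])
      map_mul' := fun a b => AddMonoidHom.ext fun w => Subtype.ext (by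
        show (uSL (a * b) : SL₂) • (nSL 1 : SL₂) • (w : M) - (nSL 1 : SL₂) • (w : M) =
          (uSL a : SL₂) • (nSL 1 : SL₂) • ((⟨_, hscm b w⟩ : W2) : M) -
            (nSL 1 : SL₂) • ((⟨_, hscm b w⟩ : W2) : M)
        rcases eq_or_ne b 0 with rfl | hb
        · simp [SL2Natural.uSL_zero]
        rcases eq_or_ne a 0 with rfl | ha
        · simp [SL2Natural.uSL_zero]
        rw [hsc _ w (mul_ne_zero ha hb), hsc a ⟨_, hscm b w⟩ ha]
        show _ = (hSL a : SL₂) • ((uSL b : SL₂) • (nSL 1 : SL₂) • (w : M) - (nSL 1 : SL₂) • (w : M))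
        rw [hsc b w hb, smul_smul, hSL_mul ha hb]) }
  letI : Module F W2 := Module.compHom _ σ
  have hsmul : ∀ (a : F) (w : W2), a ≠ 0 → ((a • w : W2) : M) = (hSL a : SL₂) • (w : M) :=
    fun a w ha => hsc a w ha
  let D : F → W2 := fun a => ⟨d a, hdW a, hd2 a⟩
  let P : W2 := ⟨p, hp, hp2⟩
  have hDadd : ∀ a b, D (a + b) = D a + D b := fun a b => Subtype.ext (by
    show (uSL (a + b) : SL₂) • m - m = d a + d b
    rw [uSL_add, mul_smul, hUm b, smul_add, hdW b a, hUm a]
    abel)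
  set m' := (nSL 1 : SL₂) • m with hm'
  let e : F → M := fun c => (uSL c : SL₂) • m' - m'
  have he : ∀ c : F, c ≠ 0 → e c = -((hSL c : SL₂) • m) + (nSL 1 : SL₂) • (d (1 / c) + p) := by
    intro c hc
    have ha : (1 : F) / c ≠ 0 := one_div_ne_zero hc
    obtain ⟨a, hadef⟩ : ∃ a : F, a = 1 / c := ⟨_, rfl⟩
    rw [← hadef] at ha ⊢
    obtain ⟨x, hx⟩ : ∃ x, x = (nSL a : SL₂) • m := ⟨_, rfl⟩
    have hrel := relation hf ha m
    rw [hUm a, smul_add, smul_add, half hf (hdW a) (hd2 a) ha, ← hx] at hrel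
    have hδ : (uSL a : SL₂) • x - x = -m + (nSL a : SL₂) • (d a + p) := by
      have h1 : 2 • x = (nSL a : SL₂) • p := by rw [hx, hpdef, smul_nsmul]
      have h2d := hd2 a
      have h3 : 2 • ((nSL a : SL₂) • d a) = 0 := two_smul_smul (hd2 a) _
      have h4 : 2 • ((nSL a : SL₂) • p) = 0 := two_smul_smul hp2 _
      rw [two_nsmul] at h1 h2d h3 h4
      rw [smul_add]
      linear_combination (norm := abel) hrel - h1 - h3 - h2d - h4
    have hcx : (hSL c : SL₂) • x = m' := by
      rw [hx, hm', ← hSL_nSL_one ha, smul_smul, ← mul_assoc, hSL_mul hc ha,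
        show c * a = 1 by rw [hadef]; field_simp, hSL_one, one_mul]
    have hcn : (hSL c : SL₂) * nSL a = nSL 1 := by
      rw [← hSL_nSL_one ha, ← mul_assoc, hSL_mul hc ha,
        show c * a = 1 by rw [hadef]; field_simp, hSL_one, one_mul]
    have hcu : (hSL c : SL₂) * uSL a = uSL c * hSL c := by
      rw [hSL_mul_uSL hc, show c ^ 2 * a = c by rw [hadef]; field_simp]
    have := congrArg ((hSL c : SL₂) • ·) hδ
    simp only [smul_sub, smul_add, smul_neg, smul_smul, hcu, hcn] at this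
    rw [mul_smul, hcx] at this
    show (uSL c : SL₂) • m' - m' = _
    rw [this, smul_add]
  have hD : ∀ b c : F, b ≠ 0 → c ≠ 0 → (uSL b : SL₂) • e c - e c =
      (hSL c : SL₂) • d (b / c ^ 2) + (hSL b : SL₂) • (d (1 / c) + p) := by
    intro b c hb hc
    obtain ⟨q, hq⟩ : ∃ q, q = d (1 / c) + p := ⟨_, rfl⟩
    have hqW : q ∈ fixU F M := hq ▸ add_mem (hdW _) hp
    have hq2 : 2 • q = 0 := by rw [hq, nsmul_add, hd2, hp2, add_zero]
    rw [he c hc, ← hq, smul_add, smul_neg, smul_smul, root_on_opposite hf (nSL_smul_fixU one_ne_zero hqW)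
      (two_smul_smul hq2 _) hb, smul_smul (nSL b : SL₂), nSL_mul_one hb]
    have e1 : (uSL b : SL₂) * hSL c = hSL c * uSL (b / c ^ 2) := by
      rw [hSL_mul_uSL hc, mul_div_cancel₀ b (pow_ne_zero 2 hc)]
    rw [e1, mul_smul, hUm, smul_add]
    have := neg_of_two (two_smul_smul (hd2 (b / c ^ 2)) (hSL c : SL₂))
    rw [neg_add_rev, this]
    abel
  have hcomm : ∀ b c : F, (uSL b : SL₂) • e c - e c = (uSL c : SL₂) • e b - e b := fun b c => by
    simp only [e, smul_sub, smul_smul]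
    rw [show (uSL b : SL₂) * uSL c = uSL c * uSL b by rw [← uSL_add, ← uSL_add, add_comm]]
    abel
  obtain ⟨hlin, hP⟩ := functional D hDadd P ht0 ht1 (fun b c hb hc => Subtype.ext (by
    rw [AddSubgroup.coe_add, AddSubgroup.coe_add, hsmul c _ hc, hsmul b _ hb, hsmul b _ hb, hsmul c _ hc,
      AddSubgroup.coe_add, AddSubgroup.coe_add]
    show (hSL c : SL₂) • d (b / c ^ 2) + (hSL b : SL₂) • (d (1 / c) + p) =
      (hSL b : SL₂) • d (c / b ^ 2) + (hSL c : SL₂) • (d (1 / b) + p)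
    rw [← hD b c hb hc, ← hD c b hc hb, hcomm]))
  have hp0 : p = 0 := congrArg Subtype.val hP
  refine ⟨hp0, ?_⟩
  obtain ⟨v, hv⟩ : ∃ v, v = (nSL 1 : SL₂) • d 1 := ⟨_, rfl⟩
  have hvL : v ∈ fixL F M := hv ▸ nSL_smul_fixU one_ne_zero (hdW 1)
  have hv2 : 2 • v = 0 := hv ▸ two_smul_smul (hd2 1) _
  refine ⟨m + v, fun a => ?_, v, hvL, by rw [nsmul_add, ← hpdef, hp0, hv2, add_zero], hv2, ?_⟩
  · rcases eq_or_ne a 0 with rfl | ha
    · rw [SL2Natural.uSL_zero, one_smul]
    have h1 : d a = (hSL a : SL₂) • d 1 := (congrArg Subtype.val (hlin a)).trans (hsmul a _ ha)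
    have h2 : 2 • d a = 0 := hd2 a
    rw [smul_add, root_on_opposite hf hvL hv2 ha, hUm a]
    nth_rewrite 2 [hv]
    rw [smul_smul, nSL_mul_one ha, ← h1]
    rw [two_nsmul] at h2
    grind
  · rw [two_nsmul] at hv2
    rw [add_assoc, hv2, add_zero]

/-- Higman: the module is a sum of natural modules. -/
theorem split [Finite F] [Finite M] (hf : Fpf F M) (hM : ∀ m : M, ∃ k, 2 ^ k • m = 0)
    {t : F} (ht0 : t ≠ 0) (ht1 : t ≠ 1) : Split F M ∧ ∀ m : M, 2 • m = 0 := by
  haveI : Fact (Nat.Prime 2) := ⟨Nat.prime_two⟩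
  have hU := isPGroup_mul F 2
  let T : AddSubgroup M :=
    { carrier := {m | 2 • m = 0}
      zero_mem' := smul_zero _
      add_mem' := fun {x y} (hx : 2 • x = 0) (hy : 2 • y = 0) => by
        show 2 • (x + y) = 0; rw [nsmul_add, hx, hy, add_zero]
      neg_mem' := fun {x} (hx : 2 • x = 0) => by show 2 • -x = 0; rw [neg_nsmul, hx, neg_zero] }
  have hXinv : ∀ (a : F), ∀ x ∈ span2 F M, (uSL a : SL₂) • x ∈ span2 F M := by
    intro a x hx
    rcases eq_or_ne a 0 with rfl | ha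
    · rwa [SL2Natural.uSL_zero, one_smul]
    obtain ⟨w, hw, v, hv, hw2, hv2, rfl⟩ := hx
    rw [smul_add, hw a, root_on_opposite hf hv hv2 ha]
    exact ⟨w + (nSL a : SL₂) • v, add_mem hw (nSL_smul_fixL ha hv), v, hv,
      by rw [nsmul_add, hw2, two_smul_smul hv2, add_zero], hv2, by abel⟩
  have hTX : T ≤ span2 F M := by
    by_contra h
    have hle : span2 F M ≤ T := by
      rintro _ ⟨w, -, v, -, a, b, rfl⟩
      show 2 • (w + v) = 0
      rw [nsmul_add, a, b, add_zero]
    obtain ⟨m, hm, hmX, hd⟩ := exists_fix_mod hU hM hle h hXinv (fun a y hy => two_smul_smul hy _)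
    have hm' : 2 • m = 0 := hm
    refine hmX (extension hf ht0 ht1 ?_ (hm'.symm ▸ zero_mem _) hd).2
    rw [show (4 : ℕ) = 2 * 2 from rfl, mul_nsmul, hm', smul_zero]
  have hexp : ∀ m : M, 2 • m = 0 := by
    intro m
    by_contra hm
    let Y : AddSubgroup M :=
      { carrier := {y | ∃ x : M, 4 • x = 0 ∧ 2 • x = y}
        zero_mem' := ⟨0, smul_zero _, smul_zero _⟩
        add_mem' := by
          rintro _ _ ⟨x, hx, rfl⟩ ⟨x', hx', rfl⟩
          exact ⟨x + x', by rw [nsmul_add, hx, hx', add_zero], nsmul_add _ _ _⟩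
        neg_mem' := by
          rintro _ ⟨x, hx, rfl⟩
          exact ⟨-x, by rw [neg_nsmul, hx, neg_zero], neg_nsmul _ _⟩ }
    have hY : ¬ Y ≤ ⊥ := by
      intro hY
      obtain ⟨k, hk⟩ := hM m
      induction k with
      | zero => exact hm (by rw [pow_zero, one_nsmul] at hk; rw [hk, smul_zero])
      | succ k ih =>
        rcases k with - | k
        · exact hm (by simpa using hk)
        · refine ih ?_
          rw [pow_succ', mul_comm 2, mul_nsmul] at *
          refine (AddSubgroup.mem_bot).1 (hY ⟨2 ^ k • m, ?_, rfl⟩)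
          rw [← mul_nsmul, show 2 ^ k * 4 = 2 ^ (k + 1 + 1) by ring]
          rw [← mul_nsmul] at hk
          rw [← hk]
          congr 1
    obtain ⟨p, ⟨x, hx, hxp⟩, hp0, hpfix⟩ := exists_fix_mod hU hM (bot_le : ⊥ ≤ Y) hY
      (fun a x hx => by rw [AddSubgroup.mem_bot] at hx ⊢; rw [hx, smul_zero])
      (fun a y ⟨x, hx, e⟩ => ⟨(uSL a : SL₂) • x, by rw [← smul_nsmul, hx, smul_zero],
        by rw [← smul_nsmul, e]⟩)
    have hpW : p ∈ fixU F M := fun a => sub_eq_zero.1 ((AddSubgroup.mem_bot).1 (hpfix a))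
    refine hp0 ((AddSubgroup.mem_bot).2 ?_)
    rw [← hxp]
    refine (extension hf ht0 ht1 hx (hxp ▸ hpW) fun a => hTX ?_).1
    show 2 • ((uSL a : SL₂) • x - x) = 0
    rw [nsmul_sub, ← smul_nsmul, hxp, hpW a, sub_self]
  refine ⟨⟨nofix hf, fun m => ?_, fun v hv a => ?_⟩, hexp⟩
  · obtain ⟨w, hw, v, hv, -, -, e⟩ := hTX (hexp m : m ∈ T)
    exact ⟨w, hw, v, hv, e⟩
  · rcases eq_or_ne a 0 with rfl | ha
    · rw [SL2Natural.uSL_zero, one_smul, sub_self]; exact zero_mem _
    · rw [root_on_opposite hf hv (hexp v) ha, add_sub_cancel_left]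
      exact nSL_smul_fixL ha hv

variable {Z : Type*} [AddCommGroup Z] [DistribMulAction (Matrix.SpecialLinearGroup (Fin 2) F) Z]

/-- No symmetric equivariant pairing between sums of natural modules is nonzero. -/
theorem pairing_eq_zero (hM : Split F M) (hZ : Split F Z) (hM2 : ∀ m : M, 2 • m = 0)
    (hZ2 : ∀ z : Z, 2 • z = 0) {t : F} (ht0 : t ≠ 0) (ht1 : t ≠ 1) (β : M →+ M →+ Z)
    (hsymm : ∀ x y, β x y = β y x) (heq : ∀ (g : SL₂) x y, g • β x y = β (g • x) (g • y)) :
    ∀ x y, β x y = 0 := by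
  have hP0 : ∀ {x y}, x ∈ fixU F M → y ∈ fixU F M → β x y ∈ fixU F Z := fun {x y} hx hy a => by
    rw [heq, hx a, hy a]
  -- the mixed term determines the pure one
  have key : ∀ {x y}, x ∈ fixU F M → y ∈ fixU F M → ∃ r ∈ fixU F Z, ∃ r' ∈ fixL F Z,
      β x ((nSL 1 : SL₂) • y) = r + r' ∧
        ∀ a : F, a ≠ 0 → β x ((hSL a : SL₂) • y) = (hSL a : SL₂) • β x y := by
    intro x y hx hy
    obtain ⟨r, hr, r', hr', e⟩ := hZ.full (β x ((nSL 1 : SL₂) • y))
    have hform : ∀ a : F, a ≠ 0 → β x ((hSL a : SL₂) • y) = (nSL a : SL₂) • r' := by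
      intro a ha
      have hv := nSL_smul_fixU (F := F) one_ne_zero hy
      have hUv : (uSL a : SL₂) • ((nSL 1 : SL₂) • y) =
          (nSL 1 : SL₂) • y + (hSL a : SL₂) • y := by
        rw [sub_eq_iff_eq_add'.1 (hM.formula hv ha), smul_smul, nSL_mul_one ha]
      have h := heq (uSL a : SL₂) x ((nSL 1 : SL₂) • y)
      rw [hx a, hUv, map_add, e, smul_add, hr a, sub_eq_iff_eq_add'.1 (hZ.formula hr' ha), ← add_assoc] at h
      exact (add_left_cancel h).symm
    refine ⟨r, hr, r', hr', e, fun a ha => ?_⟩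
    have h1 := hform 1 one_ne_zero
    rw [hSL_one, one_smul] at h1
    rw [hform a ha, h1, smul_smul, hSL_nSL_one ha]
  have hP : ∀ {x y}, x ∈ fixU F M → y ∈ fixU F M → β x y = 0 := by
    intro x y hx hy
    obtain ⟨-, -, -, -, -, h1⟩ := key hx hy
    obtain ⟨-, -, -, -, -, h2⟩ := key (hSL_smul_fixU ht0 hx) hy
    obtain ⟨-, -, -, -, -, h3⟩ := key hy hx
    have hfix : (hSL t : SL₂) • β x y = β x y := by
      have e := h2 t ht0
      rw [← heq, hsymm ((hSL t : SL₂) • x) y, h3 t ht0, hsymm y x] at e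
      exact (MulAction.injective (hSL t : SL₂) e).symm
    let v : fixL F Z := ⟨(nSL 1 : SL₂) • β x y, nSL_smul_fixU one_ne_zero (hP0 hx hy)⟩
    letI : Module F (fixL F Z) := Module.compHom _ hZ.scalar
    have hv : (1 / t) • v = v := Subtype.ext (by
      show ((hZ.scalar (1 / t) v : fixL F Z) : Z) = _
      rw [hZ.scalar_apply, hZ.formula v.2 (one_div_ne_zero ht0), smul_smul,
        nSL_neg_one_mul (one_div_ne_zero ht0), one_div, inv_inv]
      show (hSL t : SL₂) • (nSL 1 : SL₂) • β x y = (nSL 1 : SL₂) • β x y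
      have e : (hSL t : SL₂) * nSL 1 = nSL 1 * hSL t⁻¹ := by rw [hSL_nSL_one ht0, nSL_eq ht0]
      rw [smul_smul, e, mul_smul]
      congr 1
      conv_lhs => rw [← hfix]
      rw [smul_smul, hSL_mul (inv_ne_zero ht0) ht0, inv_mul_cancel₀ ht0, hSL_one, one_smul])
    have hv0 : v = 0 := by
      have h0 : (1 / t - 1) • v = 0 := by rw [sub_smul, hv, one_smul, sub_self]
      exact (smul_eq_zero.1 h0).resolve_left fun e => ht1 (by field_simp at e; grind)
    exact MulAction.injective (nSL 1 : SL₂) ((congrArg Subtype.val hv0).trans (smul_zero _).symm)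
  have hR : ∀ {x y}, x ∈ fixU F M → y ∈ fixU F M → β x ((nSL 1 : SL₂) • y) ∈ fixU F Z := by
    intro x y hx hy a
    rcases eq_or_ne a 0 with rfl | ha
    · rw [SL2Natural.uSL_zero, one_smul]
    rw [heq, hx a, sub_eq_iff_eq_add'.1 (hM.formula (nSL_smul_fixU one_ne_zero hy) ha), map_add,
      hP hx (nSL_smul_fixL ha (nSL_smul_fixU one_ne_zero hy)), add_zero]
  have hQ : ∀ {x y}, x ∈ fixU F M → y ∈ fixU F M → β x ((nSL 1 : SL₂) • y) = 0 := by
    intro x y hx hy
    refine MulAction.injective (nSL 1 : SL₂) ((eq_zero_of_fixed hZ.nofix ?_ (nSL_smul_fixU one_ne_zero (hR hx hy))).trans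
      (smul_zero _).symm)
    rw [heq, smul_smul, nSL_mul_self one_ne_zero, one_smul, hsymm]
    exact hR hy hx
  have hdec : ∀ m : M, ∃ w ∈ fixU F M, ∃ w' ∈ fixU F M, m = w + (nSL 1 : SL₂) • w' := fun m => by
    obtain ⟨w, hw, v, hv, rfl⟩ := hM.full m
    exact ⟨w, hw, _, nSL_smul_fixL one_ne_zero hv, by rw [smul_smul, nSL_mul_self one_ne_zero, one_smul]⟩
  intro x y
  obtain ⟨x₁, hx₁, x₂, hx₂, rfl⟩ := hdec x
  obtain ⟨y₁, hy₁, y₂, hy₂, rfl⟩ := hdec y
  simp only [map_add, AddMonoidHom.add_apply]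
  rw [hP hx₁ hy₁, hQ hx₁ hy₂, hsymm _ y₁, hQ hy₁ hx₂,
    ← heq, hP hx₂ hy₂, smul_zero]
  simp

end CfsgLib.LocalEven.SL2Fpf
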