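import Cfsg.Agent.Lib.LocalEven.SL2Fpf
import Cfsg.Agent.Lib.LocalEven.SL2Bridge

/-!
Higman: a normal 2-subgroup with quotient `SL₂(2ⁿ)` on which an element of order three acts without
fixed points is a direct product of natural modules.
-/

set_option autoImplicit false
set_option linter.unusedSectionVars false

namespace CfsgLib.LocalEven.SL2Higman

open Matrix Matrix.SpecialLinearGroup CfsgLib.Classical SL2Natural
open scoped commutatorElement

variable {K : Type*} [Field K] [CharP K 2]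

local notation "SL₂" => Matrix.SpecialLinearGroup (Fin 2) K

/-- Elements of order three are conjugate to the standard one. -/
theorem exists_conj [Finite K] {g : SL₂} (h3 : g ^ 3 = 1) (h1 : g ≠ 1) :
    ∃ P : SL₂, g * P = P * ((nSL 1 : SL₂) * uSL 1) := by
  have hdet := g.2
  rw [Matrix.det_fin_two] at hdet
  have h2 : (2 : K) = 0 := SL2Fpf.two_zero
  obtain ⟨a, ha⟩ : ∃ a, g.1 0 0 = a := ⟨_, rfl⟩
  obtain ⟨b, hb⟩ : ∃ b, g.1 0 1 = b := ⟨_, rfl⟩
  obtain ⟨c, hc⟩ : ∃ c, g.1 1 0 = c := ⟨_, rfl⟩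
  obtain ⟨d, hd⟩ : ∃ d, g.1 1 1 = d := ⟨_, rfl⟩
  rw [ha, hb, hc, hd] at hdet
  have hcube := congrArg Subtype.val h3
  rw [pow_succ, pow_two, coe_mul, coe_mul, coe_one] at hcube
  have e00 := congrFun (congrFun hcube 0) 0
  have e01 := congrFun (congrFun hcube 0) 1
  have e10 := congrFun (congrFun hcube 1) 0
  have e11 := congrFun (congrFun hcube 1) 1
  simp [Matrix.mul_apply, Fin.sum_univ_two, ha, hb, hc, hd] at e00 e01 e10 e11
  have hne : ¬ (b = 0 ∧ c = 0 ∧ a = d) := fun ⟨hb0, hc0, had⟩ => h1 (by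
    have ha1 : a = 1 := by grind
    refine Subtype.ext ?_
    rw [coe_one]
    ext i j
    fin_cases i <;> fin_cases j <;> simp [ha, hb, hc, hd, hb0, hc0, ← had, ha1])
  have htr : a + d = 1 := by grind
  obtain ⟨v0, v1, hv⟩ : ∃ v0 v1 : K, v0 * (c * v0 + d * v1) - (a * v0 + b * v1) * v1 ≠ 0 := by
    by_cases hc0 : c = 0
    · by_cases hb0 : b = 0
      · exact ⟨1, 1, fun e => hne ⟨hb0, hc0, by grind⟩⟩
      · exact ⟨0, 1, by simpa using hb0⟩
    · exact ⟨1, 0, by simpa using hc0⟩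
  obtain ⟨s, hs⟩ := SL2Fpf.exists_sqrt (1 / (v0 * (c * v0 + d * v1) - (a * v0 + b * v1) * v1))
  refine ⟨⟨!![s * v0, s * (a * v0 + b * v1); s * v1, s * (c * v0 + d * v1)], ?_⟩, Subtype.ext ?_⟩
  · rw [Matrix.det_fin_two_of]
    rw [eq_div_iff hv] at hs
    linear_combination hs
  · show g.1 * !![s * v0, s * (a * v0 + b * v1); s * v1, s * (c * v0 + d * v1)] =
      !![s * v0, s * (a * v0 + b * v1); s * v1, s * (c * v0 + d * v1)] * ((nSL 1 : SL₂).1 * (uSL 1 : SL₂).1)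
    rw [nSL_coe one_ne_zero, uSL_coe]
    ext i j
    fin_cases i <;> fin_cases j <;> simp [Matrix.mul_apply, Fin.sum_univ_two, ha, hb, hc, hd, SL2Fpf.neg_self] <;>
      grind

theorem exists_ne_zero_one {n : ℕ} [Fintype K] (hn : 2 ≤ n) (hK : Fintype.card K = 2 ^ n) :
    ∃ t : K, t ≠ 0 ∧ t ≠ 1 := by
  classical
  obtain ⟨t, -, ht⟩ := Finset.exists_mem_notMem_of_card_lt_card (s := ({0, 1} : Finset K)) (t := Finset.univ) (by
    have := Finset.card_le_two (a := (0 : K)) (b := 1)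
    have : 4 ≤ 2 ^ n := le_trans (by norm_num) (Nat.pow_le_pow_right (by norm_num) hn)
    rw [Finset.card_univ, hK]; omega)
  exact ⟨t, by simpa using ht⟩

variable {G : Type*} [Group G] {Q A : Subgroup G} [Q.Normal]

/-- The action of the quotient on an abelian normal subgroup centralised by the kernel. -/
noncomputable def act [A.Normal] (e : G ⧸ Q ≃* Matrix.SpecialLinearGroup (Fin 2) K)
    (hQA : Q ≤ Subgroup.centralizer (A : Set G)) :
    Matrix.SpecialLinearGroup (Fin 2) K →* MulAut ↥A :=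
  (QuotientGroup.lift Q (MulAut.conjNormal (H := A)) (fun q hq => by
    rw [MonoidHom.mem_ker]
    refine MulEquiv.ext fun a => Subtype.ext ?_
    rw [MulAut.conjNormal_apply, MulAut.one_apply, mul_inv_eq_iff_eq_mul]
    exact (Subgroup.mem_centralizer_iff.1 (hQA hq) a a.2).symm)).comp e.symm.toMonoidHom

theorem act_apply [A.Normal] (e : G ⧸ Q ≃* Matrix.SpecialLinearGroup (Fin 2) K)
    (hQA : Q ≤ Subgroup.centralizer (A : Set G)) (g : G) (a : A) :
    ((act e hQA (e (g : G ⧸ Q)) a : A) : G) = g * a * g⁻¹ := by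
  simp [act]

theorem isPGroup_nsmul {A : Type*} [CommGroup A] {p : ℕ} (h : IsPGroup p A) (m : Additive A) :
    ∃ k, p ^ k • m = 0 := by
  obtain ⟨k, hk⟩ := h (Additive.toMul m)
  exact ⟨k, Additive.toMul.injective (by rw [toMul_nsmul, hk]; rfl)⟩

/-- The module of an abelian normal 2-subgroup is natural. -/
theorem split_of_fpf [Finite G] [Finite K] [A.Normal] (hQ : IsPGroup 2 ↥Q) (hAQ : A ≤ Q) [hc : IsMulCommutative ↥A]
    (e : G ⧸ Q ≃* Matrix.SpecialLinearGroup (Fin 2) K) (hQA : Q ≤ Subgroup.centralizer (A : Set G))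
    {x : G} (hx : orderOf x = 3) (hfpf : ∀ q ∈ Q, x * q * x⁻¹ = q → q = 1) {t : K} (ht0 : t ≠ 0) (ht1 : t ≠ 1) :
    letI : CommGroup ↥A := { (inferInstance : Group ↥A) with mul_comm := hc.is_comm.comm }
    letI := SL2Bridge.moduleAction (act e hQA)
    Split K (Additive ↥A) ∧ ∀ m : Additive ↥A, 2 • m = 0 := by
  letI : CommGroup ↥A := { (inferInstance : Group ↥A) with mul_comm := hc.is_comm.comm }
  letI := SL2Bridge.moduleAction (act e hQA)
  haveI : Fact (Nat.Prime 2) := ⟨Nat.prime_two⟩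
  refine SL2Fpf.split ?_ (isPGroup_nsmul (hQ.to_le hAQ)) ht0 ht1
  intro m hm
  have hx3 : x ^ 3 = 1 := hx ▸ pow_orderOf_eq_one x
  have hxQ : x ∉ Q := fun h => by
    obtain ⟨k, hk⟩ := hQ ⟨x, h⟩
    have := orderOf_dvd_of_pow_eq_one (congrArg Subtype.val hk : x ^ 2 ^ k = 1)
    rw [hx] at this
    exact absurd (Nat.prime_three.dvd_of_dvd_pow this) (by norm_num)
  obtain ⟨P, hP⟩ := exists_conj (g := e (x : G ⧸ Q))
    (by rw [← map_pow, ← QuotientGroup.mk_pow, hx3, QuotientGroup.mk_one, map_one])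
    (fun h => hxQ ((QuotientGroup.eq_one_iff x).1 (e.injective (h.trans (map_one e).symm))))
  obtain ⟨P', rfl⟩ := e.surjective P
  induction P' using QuotientGroup.induction_on with | _ p => ?_
  have hy : (nSL 1 : SL₂) * uSL 1 = e ((p⁻¹ * x * p : G) : G ⧸ Q) := by
    rw [QuotientGroup.mk_mul, QuotientGroup.mk_mul, QuotientGroup.mk_inv, map_mul, map_mul, map_inv, mul_assoc, hP,
      inv_mul_cancel_left]
  have h := congrArg (fun m => ((Additive.toMul m : ↥A) : G)) hm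
  change ((act e hQA ((nSL 1 : SL₂) * uSL 1) (Additive.toMul m) : A) : G) = _ at h
  rw [hy, act_apply] at h
  have := hfpf (p * (Additive.toMul m : ↥A) * p⁻¹) (‹Q.Normal›.conj_mem _ (hAQ (Additive.toMul m).2) p) (by
    conv_rhs => rw [← h]
    group)
  rw [mul_inv_eq_one, mul_eq_left] at this
  exact Additive.toMul.injective (Subtype.ext this)

/-- Fixed-point-free automorphisms lift from a central quotient. -/
theorem fpf_quotient [Finite G] {Z : Subgroup G} [Z.Normal] (hZQ : Z ≤ Q)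
    (hQZ : Q ≤ Subgroup.centralizer (Z : Set G)) {x : G} (hfpf : ∀ q ∈ Q, x * q * x⁻¹ = q → q = 1) :
    ∀ q ∈ Q, x * q * x⁻¹ * q⁻¹ ∈ Z → q ∈ Z := by
  intro q hq hz
  have hcz : ∀ a ∈ Z, ∀ b ∈ Z, a * b = b * a := fun a ha b hb =>
    Subgroup.mem_centralizer_iff.1 (hQZ (hZQ hb)) a ha
  let f : Z → Z := fun w => ⟨x * w * x⁻¹ * (w : G)⁻¹, Z.mul_mem (‹Z.Normal›.conj_mem _ w.2 x) (Z.inv_mem w.2)⟩
  have hf : Function.Injective f := by
    intro a b hab
    have h : x * (a : G) * x⁻¹ * (a : G)⁻¹ = x * b * x⁻¹ * (b : G)⁻¹ := congrArg Subtype.val hab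
    refine Subtype.ext (mul_inv_eq_one.1 (hfpf _ (Q.mul_mem (hZQ a.2) (Q.inv_mem (hZQ b.2))) ?_))
    have hb := ‹Z.Normal›.conj_mem _ (Z.inv_mem b.2) x
    calc x * ((a : G) * (b : G)⁻¹) * x⁻¹ = x * a * x⁻¹ * (x * (b : G)⁻¹ * x⁻¹) := by group
      _ = (x * b * x⁻¹ * (b : G)⁻¹) * a * (x * (b : G)⁻¹ * x⁻¹) := by rw [← h]; group
      _ = (x * b * x⁻¹ * (b : G)⁻¹) * ((x * (b : G)⁻¹ * x⁻¹) * a) := by rw [mul_assoc, hcz _ a.2 _ hb]
      _ = x * b * x⁻¹ * ((b : G)⁻¹ * (x * (b : G)⁻¹ * x⁻¹)) * a := by group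
      _ = x * b * x⁻¹ * ((x * (b : G)⁻¹ * x⁻¹) * (b : G)⁻¹) * a := by rw [hcz _ (Z.inv_mem b.2) _ hb]
      _ = (b : G)⁻¹ * a := by group
      _ = a * (b : G)⁻¹ := hcz _ (Z.inv_mem b.2) _ a.2
  obtain ⟨w, hw⟩ := (Finite.injective_iff_surjective.1 hf) ⟨_, Z.inv_mem hz⟩
  have hw' : x * (w : G) * x⁻¹ * (w : G)⁻¹ = (x * q * x⁻¹ * q⁻¹)⁻¹ := congrArg Subtype.val hw
  have hfix : x * (q * (w : G)) * x⁻¹ = q * w := by
    have e1 : x * (w : G) * x⁻¹ = (x * q * x⁻¹ * q⁻¹)⁻¹ * w := by rw [← hw', inv_mul_cancel_right]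
    calc x * (q * (w : G)) * x⁻¹ = (x * q * x⁻¹) * (x * w * x⁻¹) := by group
      _ = (x * q * x⁻¹ * q⁻¹) * (q * (x * q * x⁻¹ * q⁻¹)⁻¹) * w := by rw [e1]; group
      _ = (x * q * x⁻¹ * q⁻¹) * ((x * q * x⁻¹ * q⁻¹)⁻¹ * q) * w := by
        rw [Subgroup.mem_centralizer_iff.1 (hQZ hq) _ (Z.inv_mem hz)]
      _ = q * w := by group
  have := hfpf _ (Q.mul_mem hq (hZQ w.2)) hfix
  rw [mul_eq_one_iff_eq_inv] at this
  exact this ▸ Z.inv_mem w.2

universe u

/-- Such a normal subgroup is commutative. -/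
theorem comm.{v} {K : Type v} [Field K] [CharP K 2] [Finite K] {t : K} (ht0 : t ≠ 0) (ht1 : t ≠ 1) (n : ℕ) :
    ∀ (G : Type u) [Group G] [Finite G] (Q : Subgroup G) [Q.Normal], Nat.card Q = n → IsPGroup 2 ↥Q →
      ∀ (_e : G ⧸ Q ≃* Matrix.SpecialLinearGroup (Fin 2) K) (x : G), orderOf x = 3 →
        (∀ q ∈ Q, x * q * x⁻¹ = q → q = 1) → IsMulCommutative ↥Q := by
  induction n using Nat.strong_induction_on with
  | _ n ih =>
  intro G _ _ Q _ hn hQ e x hx hfpf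
  by_cases hQ1 : Q = ⊥
  · subst hQ1; exact ⟨⟨fun a b => Subsingleton.elim _ _⟩⟩
  set Z := Q ⊓ Subgroup.centralizer (Q : Set G) with hZdef
  have hZQ : Z ≤ Q := inf_le_left
  have hQZ : Q ≤ Subgroup.centralizer (Z : Set G) := Subgroup.le_centralizer_iff.1 inf_le_right
  haveI : Z.Normal := by rw [hZdef]; infer_instance
  haveI hZc : IsMulCommutative ↥Z :=
    ⟨⟨fun a b => Subtype.ext (Subgroup.mem_centralizer_iff.1 (hQZ (hZQ b.2)) a a.2)⟩⟩
  letI : CommGroup ↥Z := { (inferInstance : Group ↥Z) with mul_comm := hZc.is_comm.comm }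
  haveI : Fact (Nat.Prime 2) := ⟨Nat.prime_two⟩
  have hZ1 : Z ≠ ⊥ := by
    intro h
    haveI : Nontrivial ↥Q := (Subgroup.nontrivial_iff_ne_bot Q).2 hQ1
    haveI := hQ.center_nontrivial
    obtain ⟨⟨z, hz⟩, hz1⟩ := exists_ne (1 : Subgroup.center ↥Q)
    have : (z : G) ∈ Z := ⟨z.2, Subgroup.mem_centralizer_iff.2 fun q hq =>
      congrArg Subtype.val (Subgroup.mem_center_iff.1 hz ⟨q, hq⟩)⟩
    rw [h, Subgroup.mem_bot] at this
    exact hz1 (Subtype.ext (Subtype.ext this))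
  set π := QuotientGroup.mk' Z with hπ
  set Q' := Q.map π with hQ'
  haveI : Q'.Normal := Subgroup.Normal.map inferInstance π (QuotientGroup.mk'_surjective Z)
  have hQ'p : IsPGroup 2 ↥Q' := hQ.map π
  let e' : (G ⧸ Z) ⧸ Q' ≃* Matrix.SpecialLinearGroup (Fin 2) K :=
    (QuotientGroup.quotientQuotientEquivQuotient Z Q hZQ).trans e
  have hxQ : x ∉ Q := fun h => by
    obtain ⟨k, hk⟩ := hQ ⟨x, h⟩
    have := orderOf_dvd_of_pow_eq_one (congrArg Subtype.val hk : x ^ 2 ^ k = 1)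
    rw [hx] at this
    exact absurd (Nat.prime_three.dvd_of_dvd_pow this) (by norm_num)
  have hx' : orderOf (π x) = 3 := by
    rcases (Nat.dvd_prime Nat.prime_three).1 (hx ▸ orderOf_map_dvd π x) with h | h
    · exact absurd (hZQ ((QuotientGroup.eq_one_iff x).1 (orderOf_eq_one_iff.1 h))) hxQ
    · exact h
  have hfpf' : ∀ q ∈ Q', π x * q * (π x)⁻¹ = q → q = 1 := by
    rintro _ ⟨q, hq, rfl⟩ h
    rw [← map_inv, ← map_mul, ← map_mul, ← mul_inv_eq_one, ← map_inv, ← map_mul] at h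
    exact (QuotientGroup.eq_one_iff q).2 (fpf_quotient hZQ hQZ hfpf q hq ((QuotientGroup.eq_one_iff _).1 h))
  have hlt : Nat.card Q' < n := by
    have h1 : Nat.card Q' * Nat.card Z = Nat.card Q := by
      have := (π.subgroupMap Q).ker.card_mul_index
      rw [Subgroup.index_ker, MonoidHom.range_eq_top.2 (π.subgroupMap_surjective Q), Subgroup.card_top] at this
      rw [← this, mul_comm]
      congr 1
      have hker : (π.subgroupMap Q).ker = Z.subgroupOf Q := by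
        ext a
        rw [MonoidHom.mem_ker, Subgroup.mem_subgroupOf, ← QuotientGroup.eq_one_iff (N := Z) (a : G)]
        exact ⟨fun h => congrArg Subtype.val h, fun h => Subtype.ext h⟩
      rw [hker]
      exact (Nat.card_congr (Subgroup.subgroupOfEquivOfLe hZQ).toEquiv).symm
    have h2 : 1 < Nat.card Z := (Subgroup.one_lt_card_iff_ne_bot Z).2 hZ1
    rw [← hn, ← h1]
    exact lt_mul_of_one_lt_right Nat.card_pos h2
  haveI hQ'c := ih _ hlt (G ⧸ Z) Q' rfl hQ'p e' (π x) hx' hfpf'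
  letI : CommGroup ↥Q' := { (inferInstance : Group ↥Q') with mul_comm := hQ'c.is_comm.comm }
  have hQ'self : Q' ≤ Subgroup.centralizer (Q' : Set (G ⧸ Z)) := Subgroup.le_centralizer_iff_isMulCommutative.2 hQ'c
  letI := SL2Bridge.moduleAction (act e hQZ)
  letI := SL2Bridge.moduleAction (act e' hQ'self)
  obtain ⟨hsZ, hZ2⟩ := split_of_fpf hQ hZQ e hQZ hx hfpf ht0 ht1
  obtain ⟨hsM, hM2⟩ := split_of_fpf hQ'p le_rfl e' hQ'self hx' hfpf' ht0 ht1
  have hcom : ∀ a ∈ Q, ∀ b ∈ Q, ⁅a, b⁆ ∈ Z := fun a ha b hb => by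
    refine (QuotientGroup.eq_one_iff _).1 ?_
    show π ⁅a, b⁆ = 1
    rw [map_commutatorElement, commutatorElement_eq_one_iff_mul_comm]
    exact congrArg Subtype.val (hQ'c.is_comm.comm ⟨π a, a, ha, rfl⟩ ⟨π b, b, hb, rfl⟩)
  have hlift : ∀ m : Additive ↥Q', ∃ q : ↥Q, π q = ((Additive.toMul m : ↥Q') : G ⧸ Z) := fun m => by
    obtain ⟨q, hq, h⟩ := (Additive.toMul m).2
    exact ⟨⟨q, hq⟩, h⟩
  choose L hL using hlift
  let b₀ : Additive ↥Q' → Additive ↥Q' → Additive ↥Z := fun m m' =>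
    Additive.ofMul ⟨⁅(L m : G), (L m' : G)⁆, hcom _ (L m).2 _ (L m').2⟩
  have hb₀ : ∀ m m', ∀ a ∈ Q, ∀ b ∈ Q, π a = ((Additive.toMul m : ↥Q') : G ⧸ Z) →
      π b = ((Additive.toMul m' : ↥Q') : G ⧸ Z) → ((Additive.toMul (b₀ m m') : ↥Z) : G) = ⁅a, b⁆ := by
    intro m m' a ha b hb hpa hpb
    show ⁅(L m : G), (L m' : G)⁆ = ⁅a, b⁆
    obtain ⟨z, hz, rfl⟩ : ∃ z ∈ Z, a = (L m : G) * z := by
      obtain ⟨z, hz, h⟩ := (QuotientGroup.mk'_eq_mk' Z).1 ((hL m).trans hpa.symm)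
      exact ⟨z, hz, h.symm⟩
    obtain ⟨w, hw, rfl⟩ : ∃ w ∈ Z, b = (L m' : G) * w := by
      obtain ⟨w, hw, h⟩ := (QuotientGroup.mk'_eq_mk' Z).1 ((hL m').trans hpb.symm)
      exact ⟨w, hw, h.symm⟩
    have cz : ∀ {z}, z ∈ Z → ∀ q ∈ Q, z * q = q * z := fun {z} hz q hq =>
      Subgroup.mem_centralizer_iff.1 (hQZ hq) z hz
    have e1 : ⁅(L m : G) * z, (L m' : G) * w⁆ = (L m : G) * (z * ((L m' : G) * w)) * z⁻¹ * (L m : G)⁻¹ * w⁻¹ * (L m' : G)⁻¹ := by
      simp only [commutatorElement_def]; group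
    rw [e1, cz hz _ hb]
    have e2 : (L m : G) * ((L m' : G) * w * z) * z⁻¹ * (L m : G)⁻¹ = (L m : G) * (L m' : G) * (w * (L m : G)⁻¹) := by
      group
    rw [e2, cz hw _ (Q.inv_mem (L m).2), commutatorElement_def]
    group
  have hadd : ∀ m m' k, b₀ (m + m') k = b₀ m k + b₀ m' k := by
    intro m m' k
    refine Additive.toMul.injective (Subtype.ext ?_)
    rw [hb₀ (m + m') k ((L m : G) * L m') (Q.mul_mem (L m).2 (L m').2) (L k) (L k).2
      (by rw [map_mul, hL, hL]; rfl) (hL k)]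
    show _ = ⁅(L m : G), (L k : G)⁆ * ⁅(L m' : G), (L k : G)⁆
    rw [show ⁅(L m : G) * (L m' : G), (L k : G)⁆ = (L m : G) * ⁅(L m' : G), (L k : G)⁆ * (L m : G)⁻¹ * ⁅(L m : G), (L k : G)⁆ by
      simp only [commutatorElement_def]; group]
    have hz := hcom _ (L m').2 _ (L k).2
    rw [← Subgroup.mem_centralizer_iff.1 (hQZ (L m).2) _ hz, mul_inv_cancel_right]
    exact Subgroup.mem_centralizer_iff.1 (hQZ (hZQ (hcom _ (L m).2 _ (L k).2))) _ hz
  have hsymm : ∀ m k, b₀ m k = b₀ k m := fun m k => by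
    have h := hZ2 (b₀ m k)
    rw [two_nsmul] at h
    rw [← neg_eq_of_add_eq_zero_left h]
    refine Additive.toMul.injective (Subtype.ext ?_)
    show (⁅(L m : G), (L k : G)⁆)⁻¹ = ⁅(L k : G), (L m : G)⁆
    rw [commutatorElement_inv]
  have hadd' : ∀ m k k', b₀ m (k + k') = b₀ m k + b₀ m k' := fun m k k' => by
    rw [hsymm, hadd, hsymm k, hsymm k']
  let β : Additive ↥Q' →+ Additive ↥Q' →+ Additive ↥Z :=
    AddMonoidHom.mk' (fun m => AddMonoidHom.mk' (b₀ m) (hadd' m)) (fun m m' => AddMonoidHom.ext (hadd m m'))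
  have heq : ∀ (g : Matrix.SpecialLinearGroup (Fin 2) K) m k, g • β m k = β (g • m) (g • k) := by
    intro g m k
    obtain ⟨g', rfl⟩ := e.surjective g
    induction g' using QuotientGroup.induction_on with | _ r => ?_
    have hee : e (r : G ⧸ Q) = e' ((π r : G ⧸ Z) : (G ⧸ Z) ⧸ Q') := rfl
    refine Additive.toMul.injective (Subtype.ext ?_)
    show ((act e hQZ (e (r : G ⧸ Q)) (Additive.toMul (b₀ m k)) : ↥Z) : G) = _
    rw [act_apply]
    refine Eq.trans ?_ (hb₀ _ _ (r * L m * r⁻¹) (‹Q.Normal›.conj_mem _ (L m).2 r) (r * L k * r⁻¹)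
      (‹Q.Normal›.conj_mem _ (L k).2 r) ?_ ?_).symm
    · show r * ⁅(L m : G), (L k : G)⁆ * r⁻¹ = _
      simp only [commutatorElement_def]; group
    · rw [hee]
      show _ = ((act e' hQ'self (e' ((π r : G ⧸ Z) : (G ⧸ Z) ⧸ Q')) (Additive.toMul m) : ↥Q') : G ⧸ Z)
      rw [act_apply, map_mul, map_mul, map_inv, hL]
    · rw [hee]
      show _ = ((act e' hQ'self (e' ((π r : G ⧸ Z) : (G ⧸ Z) ⧸ Q')) (Additive.toMul k) : ↥Q') : G ⧸ Z)
      rw [act_apply, map_mul, map_mul, map_inv, hL]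
  have hzero := SL2Fpf.pairing_eq_zero hsM hsZ hM2 hZ2 ht0 ht1 β hsymm heq
  refine ⟨⟨fun a b => Subtype.ext ?_⟩⟩
  have h := congrArg (fun z => ((Additive.toMul z : ↥Z) : G))
    (hzero (Additive.ofMul ⟨π a, a, a.2, rfl⟩) (Additive.ofMul ⟨π b, b, b.2, rfl⟩))
  change ((Additive.toMul (b₀ _ _) : ↥Z) : G) = _ at h
  rw [hb₀ _ _ a a.2 b b.2 rfl rfl] at h
  exact commutatorElement_eq_one_iff_mul_comm.1 h

end CfsgLib.LocalEven.SL2Higman
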