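import Cfsg.Prelude.Def_SubgroupEmbedding
import Cfsg.Agent.Lib.Base.Cores
import Cfsg.Agent.Lib.FgsB.OddInverted

/-!
The Sidki pair conclusion for a nontrivial elementary abelian `2`-group of order at most `4`.
-/

set_option autoImplicit false

namespace CfsgLib.LocalEven.SidkiSmall

variable {G : Type*} [Group G] [Finite G]

theorem sq_commute_cancel {x y : G} (hy : Odd (orderOf y)) (h : Commute x (y ^ 2)) :
    Commute x y := by
  obtain ⟨m, hm⟩ := exists_pow_eq_self_of_coprime (x := y) (n := 2)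
    (Nat.coprime_two_left.2 hy)
  exact hm ▸ h.pow_right m

theorem eq_one_of_self_inv {x : G} (hx : Odd (orderOf x)) (h : x⁻¹ = x) : x = 1 := by
  have h2 : x ^ 2 = 1 := by rw [sq]; exact inv_eq_iff_mul_eq_one.1 h
  have h1 := sq_commute_cancel (x := x) hx (by rw [h2]; exact Commute.one_right x)
  obtain ⟨m, hm⟩ := exists_pow_eq_self_of_coprime (x := x) (n := 2) (Nat.coprime_two_left.2 hx)
  rw [h2, one_pow] at hm
  exact hm.symm

theorem mem_pCore_of_no_inverted {v : G} (hv : v ^ 2 = 1)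
    (h : ∀ x : G, Odd (orderOf x) → v * x * v⁻¹ = x⁻¹ → x = 1) : v ∈ Cfsg.pCore 2 G := by
  have : Fact (Nat.Prime 2) := ⟨Nat.prime_two⟩
  by_contra hn
  obtain ⟨x, r, hr, hr2, hxo, hinv⟩ := CfsgLib.FgsB.exists_odd_prime_inverted_by hv
    (fun N hN hp hvN => hn (CfsgLib.Base.le_pCore (hN := hN) hp hvN))
  have h1 := h x (hxo ▸ hr.odd_of_ne_two hr2) hinv
  rw [h1, orderOf_one] at hxo
  exact hr.one_lt.ne hxo

/-- No element is inverted by `a` and centralized by `b` while another one is inverted by `a` and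
centralized by `c = a * b`, under the Sidki condition. -/
theorem not_both {a b c x y : G} (hab : Commute a b) (hc : c = a * b)
    (hS : ∀ h : G, Odd (orderOf h) → c * h * c⁻¹ = h⁻¹ → h ≠ 1 → Commute a h ∨ Commute b h)
    (hSa : ∀ h : G, Odd (orderOf h) → a * h * a⁻¹ = h⁻¹ → h ≠ 1 → Commute b h ∨ Commute c h)
    (hx : Odd (orderOf x)) (hxa : a * x * a⁻¹ = x⁻¹) (hxb : Commute b x)
    (hy : Odd (orderOf y)) (hya : a * y * a⁻¹ = y⁻¹) (hyc : Commute c y) :
    x = 1 ∨ y = 1 := by
  by_contra hne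
  push Not at hne
  obtain ⟨hx1, hy1⟩ := hne
  have hax : MulAut.conj a x = x⁻¹ := hxa
  have hay : MulAut.conj a y = y⁻¹ := hya
  have hcx : MulAut.conj c x = x⁻¹ := by
    rw [hc, map_mul, MulAut.mul_apply]
    have : MulAut.conj b x = x := by rw [MulAut.conj_apply, hxb.eq, mul_inv_cancel_right]
    rw [this, hax]
  have hcy : MulAut.conj c y = y := by rw [MulAut.conj_apply, hyc.eq, mul_inv_cancel_right]
  have hby : MulAut.conj b y = y⁻¹ := by
    have hb : b = a⁻¹ * c := by rw [hc, inv_mul_cancel_left]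
    rw [hb, map_mul, MulAut.mul_apply, hcy, map_inv, MulAut.inv_apply,
      MulEquiv.symm_apply_eq, map_inv, hay, inv_inv]
  have hbx : MulAut.conj b x = x := by rw [MulAut.conj_apply, hxb.eq, mul_inv_cancel_right]
  -- `x` and `y` commute
  set z := y⁻¹ * x * y with hz
  have hzo : Odd (orderOf z) := by
    have e : z = MulAut.conj y⁻¹ x := by rw [hz, MulAut.conj_apply, inv_inv]
    rw [e, MulEquiv.orderOf_eq]
    exact hx
  have hzc : c * z * c⁻¹ = z⁻¹ := by
    show MulAut.conj c z = z⁻¹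
    rw [hz, map_mul, map_mul, map_inv, hcx, hcy]
    group
  have hz1 : z ≠ 1 := by
    intro h
    apply hx1
    calc x = y * z * y⁻¹ := by rw [hz]; group
      _ = 1 := by rw [h]; group
  have hxy : Commute x y := by
    rcases hS z hzo hzc hz1 with h | h
    · have e : MulAut.conj a z = z := by rw [MulAut.conj_apply, h.eq, mul_inv_cancel_right]
      rw [hz, map_mul, map_mul, map_inv, hax, hay, inv_inv] at e
      -- `y⁻²·x·y² = x⁻¹`
      have e2 : (y ^ 2)⁻¹ * x * y ^ 2 = x⁻¹ := by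
        calc (y ^ 2)⁻¹ * x * y ^ 2 = y⁻¹ * (y⁻¹ * x * y) * y := by simp only [sq]; group
          _ = y⁻¹ * (y * x⁻¹ * y⁻¹) * y := by rw [e]
          _ = _ := by group
      refine sq_commute_cancel hy (sq_commute_cancel ?_ ?_)
      · exact hy.of_dvd_nat (orderOf_pow_dvd 2)
      · have e3 : (y ^ 2)⁻¹ * ((y ^ 2)⁻¹ * x * y ^ 2) * y ^ 2 = x := by
          rw [e2]
          calc (y ^ 2)⁻¹ * x⁻¹ * y ^ 2 = ((y ^ 2)⁻¹ * x * y ^ 2)⁻¹ := by group
            _ = x := by rw [e2, inv_inv]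
        show x * (y ^ 2) ^ 2 = (y ^ 2) ^ 2 * x
        conv_rhs => rw [← e3]
        group
    · have e : MulAut.conj b z = z := by rw [MulAut.conj_apply, h.eq, mul_inv_cancel_right]
      rw [hz, map_mul, map_mul, map_inv, hbx, hby, inv_inv] at e
      refine sq_commute_cancel hy ?_
      show x * y ^ 2 = y ^ 2 * x
      calc x * y ^ 2 = y * (y⁻¹ * x * y) * y := by simp only [sq]; group
        _ = y * (y * x * y⁻¹) * y := by rw [e]
        _ = _ := by simp only [sq]; group
  have ho : Odd (orderOf (x * y)) :=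
    (hx.mul hy).of_dvd_nat hxy.orderOf_mul_dvd_mul_orderOf
  have hi : a * (x * y) * a⁻¹ = (x * y)⁻¹ := by
    show MulAut.conj a (x * y) = _
    rw [map_mul, hax, hay, mul_inv_rev, hxy.inv_inv.eq]
  have hxy1 : x * y ≠ 1 := by
    intro h
    have hyx : y = x⁻¹ := eq_inv_of_mul_eq_one_right h
    apply hy1
    refine eq_one_of_self_inv hy ?_
    have h2 := hby
    rw [hyx, map_inv, hbx, inv_inv] at h2
    rw [hyx, inv_inv]
    exact h2.symm
  rcases hSa (x * y) ho hi hxy1 with h | h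
  · have e : MulAut.conj b (x * y) = x * y := by
      rw [MulAut.conj_apply, h.eq, mul_inv_cancel_right]
    rw [map_mul, hbx, hby] at e
    exact hy1 (eq_one_of_self_inv hy (mul_left_cancel e))
  · have e : MulAut.conj c (x * y) = x * y := by
      rw [MulAut.conj_apply, h.eq, mul_inv_cancel_right]
    rw [map_mul, hcx, hcy] at e
    exact hx1 (eq_one_of_self_inv hx (mul_right_cancel e))

/-- The Sidki pair conclusion in order at most four. -/
theorem sidki_small (V : Subgroup G) (hV : Cfsg.IsElementaryAbelian 2 V) (hV1 : V ≠ ⊥)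
    (hS : Cfsg.IsSidkiPair V) (h4 : Nat.card V ≤ 4) : V ⊓ Cfsg.pCore 2 G ≠ ⊥ := by
  classical
  intro hbot
  have hcomm : ∀ a ∈ V, ∀ b ∈ V, Commute a b := fun a ha b hb =>
    congrArg Subtype.val (hV.1.1.1 ⟨a, ha⟩ ⟨b, hb⟩)
  have hsq : ∀ a ∈ V, a * a = 1 := fun a ha => by rw [← sq]; exact hV.2 a ha
  -- every nontrivial element inverts a nontrivial element of odd order
  have hwit : ∀ v ∈ V, v ≠ 1 →
      ∃ h : G, Odd (orderOf h) ∧ v * h * v⁻¹ = h⁻¹ ∧ h ≠ 1 := by
    intro v hv hv1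
    by_contra hno
    push Not at hno
    have := mem_pCore_of_no_inverted (hV.2 v hv) (fun x hx hi => hno x hx hi)
    exact hv1 (Subgroup.mem_bot.1 (hbot ▸ ⟨hv, this⟩))
  -- the element centralizing it is a different one
  have hoth : ∀ v ∈ V, ∀ h : G, Odd (orderOf h) → v * h * v⁻¹ = h⁻¹ → h ≠ 1 →
      ∃ w ∈ V, w ≠ 1 ∧ w ≠ v ∧ Commute w h := by
    intro v hv h ho hi h1
    obtain ⟨w, hw, hw1, hwc⟩ := hS h v hv ho hi
    refine ⟨w, hw, hw1, ?_, hwc⟩
    rintro rfl
    rw [hwc, mul_inv_cancel_right] at hi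
    exact h1 (eq_one_of_self_inv ho hi.symm)
  have : Nontrivial V := (Subgroup.nontrivial_iff_ne_bot V).2 hV1
  obtain ⟨⟨a, ha⟩, ha'⟩ := exists_ne (1 : V)
  have ha1 : a ≠ 1 := fun h => ha' (Subtype.ext h)
  obtain ⟨h, ho, hi, h1⟩ := hwit a ha ha1
  obtain ⟨b, hb, hb1, hba, hbh⟩ := hoth a ha h ho hi h1
  set c := a * b with hcdef
  have hc : c ∈ V := mul_mem ha hb
  have hc1 : c ≠ 1 := fun e => hba (by
    calc b = a * a * b := by rw [hsq a ha, one_mul]
      _ = a := by rw [mul_assoc, ← hcdef, e, mul_one])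
  have hca : c ≠ a := fun e => hb1 (by simpa [hcdef] using e)
  have hcb : c ≠ b := fun e => ha1 (by simpa [hcdef] using e)
  -- the group has exactly these elements
  have hall : ∀ w ∈ V, w ≠ 1 → w = a ∨ w = b ∨ w = c := by
    intro w hw hw1
    by_contra hne
    push Not at hne
    obtain ⟨hwa, hwb, hwc⟩ := hne
    let f : Fin 5 → V := ![1, ⟨a, ha⟩, ⟨b, hb⟩, ⟨c, hc⟩, ⟨w, hw⟩]
    have hf : Function.Injective f := by
      intro i j hij
      have hij' : (f i : G) = (f j : G) := congrArg Subtype.val hij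
      fin_cases i <;> fin_cases j <;>
        simp [f, ha1, hb1, hc1, hw1, hba, hca, hcb, hwa, hwb, hwc,
          Ne.symm ha1, Ne.symm hb1, Ne.symm hc1, Ne.symm hw1, Ne.symm hba, Ne.symm hca,
          Ne.symm hcb, Ne.symm hwa, Ne.symm hwb, Ne.symm hwc] at hij' ⊢
    have := Nat.card_le_card_of_injective f hf
    rw [Nat.card_eq_fintype_card, Fintype.card_fin] at this
    omega
  have hS2 : ∀ u v w : G, (u ∈ V) → (∀ t ∈ V, t ≠ 1 → t = u ∨ t = v ∨ t = w) →
      ∀ h : G, Odd (orderOf h) → u * h * u⁻¹ = h⁻¹ → h ≠ 1 → Commute v h ∨ Commute w h := by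
    intro u v w hu huvw h ho hi h1
    obtain ⟨t, ht, ht1, htu, htc⟩ := hoth u hu h ho hi h1
    rcases huvw t ht ht1 with rfl | rfl | rfl
    · exact absurd rfl htu
    · exact Or.inl htc
    · exact Or.inr htc
  have hSa := hS2 a b c ha hall
  have hSb := hS2 b a c hb (fun t ht ht1 => by
    rcases hall t ht ht1 with e | e | e <;> simp [e])
  have hSc := hS2 c a b hc (fun t ht ht1 => by
    rcases hall t ht ht1 with e | e | e <;> simp [e])
  have hab := hcomm a ha b hb
  -- every nontrivial element inverted by `a` commutes with `b`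
  have hA : ∀ k : G, Odd (orderOf k) → a * k * a⁻¹ = k⁻¹ → k ≠ 1 → Commute b k := by
    intro k hko hki hk1
    rcases hSa k hko hki hk1 with hk | hk
    · exact hk
    · rcases not_both hab hcdef hSc hSa ho hi hbh hko hki hk with e | e
      · exact absurd e h1
      · exact absurd e hk1
  have hconj : ∀ u v k : G, Commute v k → (u * v) * k * (u * v)⁻¹ = u * k * u⁻¹ := by
    intro u v k hk
    rw [mul_inv_rev, mul_assoc u v k, hk.eq]
    group
  have hhc : c * h * c⁻¹ = h⁻¹ := by rw [hcdef, hconj a b h hbh, hi]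
  -- every nontrivial element inverted by `c` commutes with `b`
  have hC : ∀ k : G, Odd (orderOf k) → c * k * c⁻¹ = k⁻¹ → k ≠ 1 → Commute b k := by
    intro k hko hki hk1
    rcases hSc k hko hki hk1 with hk | hk
    · have hcb2 : a = c * b := by rw [hcdef, mul_assoc, hsq b hb, mul_one]
      rcases not_both (hcomm c hc b hb) hcb2 (fun z hz1 hz2 hz3 => (hSa z hz1 hz2 hz3).symm)
        (fun z hz1 hz2 hz3 => (hSc z hz1 hz2 hz3).symm) ho hhc hbh hko hki hk with e | e
      · exact absurd e h1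
      · exact absurd e hk1
    · exact hk
  obtain ⟨k, hko, hki, hk1⟩ := hwit b hb hb1
  have hfalse : Commute b k → False := fun hbk => by
    rw [hbk.eq, mul_inv_cancel_right] at hki
    exact hk1 (eq_one_of_self_inv hko hki.symm)
  rcases hSb k hko hki hk1 with hk | hk
  · refine hfalse (hC k hko ?_ hk1)
    rw [hcdef, hab.eq, hconj b a k hk, hki]
  · refine hfalse (hA k hko ?_ hk1)
    have hab2 : a = b * c := by rw [hcdef, hab.eq, ← mul_assoc, hsq b hb, one_mul]
    rw [hab2, hconj b c k hk, hki]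

end CfsgLib.LocalEven.SidkiSmall
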