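import Mathlib
import Cfsg.Prelude.Def_SubgroupEmbedding
import Cfsg.Prelude.Def_AlmostLie
import Cfsg.Agent.Lib.LocalEven.CharP

/-!
Short lemmas: offenders on submodules, Sidki pairs, semi-extraspecial groups, quadratic action.
-/

set_option autoImplicit false

namespace CfsgLib.LocalEven.SmallTwo

open scoped commutatorElement

theorem offender_sub {G V : Type*} [Group G] [Finite G] [AddCommGroup V] [Finite V] (p : ℕ)
    [Module (ZMod p) V] (ρ : Representation (ZMod p) G V) (W : Submodule (ZMod p) V)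
    (A : Subgroup G)
    (hP : ∀ B : Subgroup G, B ≤ A →
      Nat.card ↥B * Nat.card {v : V // ∀ b ∈ B, ρ b v = v} ≤
        Nat.card ↥A * Nat.card {v : V // ∀ a ∈ A, ρ a v = v})
    (B : Subgroup G) (hBA : B ≤ A) :
    Nat.card ↥B * Nat.card {w : W // ∀ b ∈ B, ρ b w = w} ≤
      Nat.card ↥A * Nat.card {w : W // ∀ a ∈ A, ρ a w = w} := by
  let fixed : Subgroup G → AddSubgroup V := fun X =>
    { carrier := {v | ∀ b ∈ X, ρ b v = v}
      zero_mem' := fun b _ => map_zero _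
      add_mem' := fun ha hb b hbX => by rw [map_add, ha b hbX, hb b hbX]
      neg_mem' := fun ha b hbX => by rw [map_neg, ha b hbX] }
  have hW : ∀ X, Nat.card {w : W // ∀ b ∈ X, ρ b w = w} =
      Nat.card ↥(fixed X ⊓ W.toAddSubgroup) := fun X =>
    Nat.card_congr
      { toFun := fun w => ⟨w.1.1, w.2, w.1.2⟩
        invFun := fun v => ⟨⟨v.1, v.2.2⟩, v.2.1⟩
        left_inv := fun _ => rfl
        right_inv := fun _ => rfl }
  have hV : ∀ X : Subgroup G, Nat.card {v : V // ∀ b ∈ X, ρ b v = v} = Nat.card ↥(fixed X) :=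
    fun _ => rfl
  have key : Nat.card ↥(fixed A) * Nat.card ↥(fixed B ⊓ W.toAddSubgroup) ≤
      Nat.card ↥(fixed B) * Nat.card ↥(fixed A ⊓ W.toAddSubgroup) := by
    have hab : fixed A ≤ fixed B := fun v hv b hb => hv b (hBA hb)
    set U := fixed A
    set U' := fixed B ⊓ W.toAddSubgroup with hU'
    -- the addition map
    let f : U × U' →+ ↥(fixed B) :=
      { toFun := fun z => ⟨z.1.1 + z.2.1, (fixed B).add_mem (hab z.1.2) z.2.2.1⟩
        map_zero' := Subtype.ext (by simp)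
        map_add' := fun a b => Subtype.ext (by simp; abel) }
    have e1 : Nat.card (U × U') = Nat.card f.ker * Nat.card f.range := by
      rw [AddSubgroup.card_eq_card_quotient_mul_card_addSubgroup f.ker,
        Nat.card_congr (QuotientAddGroup.quotientKerEquivRange f).toEquiv, mul_comm]
    rw [Nat.card_prod] at e1
    rw [e1, mul_comm (Nat.card ↥(fixed B))]
    refine Nat.mul_le_mul ?_ (AddSubgroup.card_le_card_addGroup f.range)
    refine Nat.card_le_card_of_injective (fun z => ⟨z.1.1.1, z.1.1.2, ?_⟩) fun a b h => ?_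
    · have h0 : z.1.1.1 + z.1.2.1 = 0 := congrArg Subtype.val (AddMonoidHom.mem_ker.1 z.2)
      rw [eq_neg_of_add_eq_zero_left h0]
      exact W.neg_mem z.1.2.2.2
    · have h' : a.1.1.1 = b.1.1.1 := (congrArg Subtype.val h : _)
      have ha : a.1.1.1 + a.1.2.1 = 0 := congrArg Subtype.val (AddMonoidHom.mem_ker.1 a.2)
      have hb : b.1.1.1 + b.1.2.1 = 0 := congrArg Subtype.val (AddMonoidHom.mem_ker.1 b.2)
      refine Subtype.ext (Prod.ext (Subtype.ext h') (Subtype.ext ?_))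
      rw [eq_neg_of_add_eq_zero_right ha, eq_neg_of_add_eq_zero_right hb, h']
  rw [hW, hW]
  refine Nat.le_of_mul_le_mul_right ?_ (Nat.card_pos (α := ↥(fixed A)))
  calc Nat.card B * Nat.card ↥(fixed B ⊓ W.toAddSubgroup) * Nat.card ↥(fixed A)
      = Nat.card B * (Nat.card ↥(fixed A) * Nat.card ↥(fixed B ⊓ W.toAddSubgroup)) := by ring
    _ ≤ Nat.card B * (Nat.card ↥(fixed B) * Nat.card ↥(fixed A ⊓ W.toAddSubgroup)) :=
        Nat.mul_le_mul_left _ key
    _ = Nat.card B * Nat.card ↥(fixed B) * Nat.card ↥(fixed A ⊓ W.toAddSubgroup) := by ring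
    _ ≤ Nat.card A * Nat.card ↥(fixed A) * Nat.card ↥(fixed A ⊓ W.toAddSubgroup) :=
        Nat.mul_le_mul_right _ (by have := hP B hBA; rwa [hV, hV] at this)
    _ = _ := by ring

variable {G : Type*} [Group G] [Finite G]

/-- In a finite group an element of odd order is a power of its square. -/
theorem commute_of_commute_sq {w h : G} (ho : Odd (orderOf h)) (hw : Commute w (h ^ 2)) :
    Commute w h := by
  obtain ⟨m, hm⟩ := exists_pow_eq_self_of_coprime (x := h) (n := 2)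
    (Nat.coprime_two_left.2 ho)
  exact hm ▸ hw.pow_right m

theorem sidki_quotient (V K : Subgroup G) [K.Normal] (hV : Cfsg.IsElementaryAbelian 2 V)
    (hS : Cfsg.IsSidkiPair V) (hVK : V ⊓ K = ⊥) :
    Cfsg.IsSidkiPair (V.map (QuotientGroup.mk' K)) := by
  set π := QuotientGroup.mk' K
  rintro hb _ ⟨v, hv, rfl⟩ ho hinv
  obtain ⟨h, rfl⟩ := QuotientGroup.mk'_surjective K hb
  have hv2 : v * v = 1 := by rw [← sq]; exact hV.2 v hv
  have hvi : v⁻¹ = v := inv_eq_of_mul_eq_one_right hv2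
  set x := h * (v * h * v⁻¹)⁻¹ with hx
  have hxi : v * x * v⁻¹ = x⁻¹ := by
    rw [hx]
    simp only [hvi, mul_inv_rev, inv_inv]
    calc v * (h * (v * (h⁻¹ * v))) * v = v * h * v * h⁻¹ * (v * v) := by group
      _ = v * h * v * h⁻¹ := by rw [hv2, mul_one]
      _ = _ := by group
  have hxb : π x = π h ^ 2 := by
    rw [hx, map_mul, map_inv, map_mul, map_mul, map_inv, hinv, inv_inv, sq]
  obtain ⟨a, m, hm, ham⟩ := Nat.exists_eq_pow_mul_and_not_dvd (orderOf_pos x).ne' 2 (by norm_num)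
  have hy : Odd (orderOf (x ^ 2 ^ a)) := by
    rw [orderOf_pow, ham, Nat.gcd_eq_right (dvd_mul_right _ _), Nat.mul_div_cancel_left _ (by positivity)]
    exact Nat.odd_iff.2 (Nat.two_dvd_ne_zero.1 hm)
  obtain ⟨w, hw, hw1, hwc⟩ := hS (x ^ 2 ^ a) v hv hy (by rw [← conj_pow, hxi, inv_pow])
  refine ⟨π w, ⟨w, hw, rfl⟩, fun h1 => hw1 ?_, ?_⟩
  · rw [← Subgroup.mem_bot, ← hVK]
    exact ⟨hw, (QuotientGroup.eq_one_iff w).1 h1⟩
  · have h1 : Commute (π w) (π h ^ 2 ^ (a + 1)) := by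
      rw [pow_succ', pow_mul, ← hxb, ← map_pow]
      exact (show Commute w (x ^ 2 ^ a) from hwc).map π
    obtain ⟨i, hi⟩ := exists_pow_eq_self_of_coprime (x := π h) (n := 2 ^ (a + 1))
      ((Nat.coprime_two_left.2 ho).pow_left _)
    exact (hi ▸ h1.pow_right i : Commute (π w) (π h))

theorem sidki_centralizer (V : Subgroup G) (hV : Cfsg.IsElementaryAbelian 2 V)
    (hS : Cfsg.IsSidkiPair V) (v x : G) (hv : v ∈ V) (hx : Odd (orderOf x))
    (hinv : v * x * v⁻¹ = x⁻¹) (C : Subgroup G)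
    (hC : C = Subgroup.centralizer ({v} : Set G) ⊓ Subgroup.centralizer ({x} : Set G)) :
    C ⊓ V ≠ ⊥ ∧ Cfsg.IsSidkiPair ((C ⊓ V).subgroupOf C) := by
  have hVc : ∀ a ∈ V, ∀ b ∈ V, Commute a b := fun a ha b hb =>
    congrArg Subtype.val (hV.1.1.1 ⟨a, ha⟩ ⟨b, hb⟩)
  have hmem : ∀ w ∈ V, Commute w x → w ∈ C := by
    intro w hw hc
    rw [hC]
    exact ⟨Subgroup.mem_centralizer_singleton_iff.2 (hVc w hw v hv).eq,
      Subgroup.mem_centralizer_singleton_iff.2 hc.eq⟩
  refine ⟨fun h => ?_, ?_⟩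
  · obtain ⟨w, hw, hw1, hwc⟩ := hS x v hv hx hinv
    exact hw1 (Subgroup.mem_bot.1 (h ▸ ⟨hmem w hw hwc, hw⟩))
  rintro ⟨h, hhC⟩ ⟨u, huC⟩ hu ho hinv'
  rw [Subgroup.mem_subgroupOf] at hu
  have huV : u ∈ V := hu.2
  rw [Subgroup.orderOf_mk] at ho
  replace hinv' : u * h * u⁻¹ = h⁻¹ := congrArg Subtype.val hinv'
  rw [hC] at hhC huC
  have hhv : Commute h v := Subgroup.mem_centralizer_singleton_iff.1 hhC.1
  have hhx : Commute h x := Subgroup.mem_centralizer_singleton_iff.1 hhC.2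
  have hux : Commute u x := Subgroup.mem_centralizer_singleton_iff.1 huC.2
  have huv := hVc u huV v hv
  have hi : (v * u) * (x * h) * (v * u)⁻¹ = (x * h)⁻¹ := by
    calc (v * u) * (x * h) * (v * u)⁻¹ = v * ((u * x * u⁻¹) * (u * h * u⁻¹)) * v⁻¹ := by group
      _ = v * (x * h⁻¹) * v⁻¹ := by rw [hux.eq, mul_inv_cancel_right, hinv']
      _ = (v * x * v⁻¹) * (v * h⁻¹ * v⁻¹) := by group
      _ = x⁻¹ * h⁻¹ := by rw [hinv, hhv.inv_left.symm.eq, mul_inv_cancel_right]
      _ = _ := by rw [mul_inv_rev, (hhx.symm.inv_inv).eq]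
  have hodd : Odd (orderOf (x * h)) :=
    (hx.mul ho).of_dvd_nat (hhx.symm.orderOf_mul_dvd_mul_orderOf)
  obtain ⟨w, hw, hw1, hwc⟩ := hS _ _ (mul_mem hv huV) hodd hi
  have hwc' : Commute w (x * h) := hwc
  have hwc2 : Commute w (x⁻¹ * h) := by
    have h1 := hwc'.map (MulAut.conj v)
    simp only [MulAut.conj_apply] at h1
    rw [(hVc v hv w hw).eq, mul_inv_cancel_right] at h1
    have e : v * (x * h) * v⁻¹ = (v * x * v⁻¹) * (v * h * v⁻¹) := by group
    rwa [e, hinv, hhv.symm.eq, mul_inv_cancel_right] at h1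
  have hwh : Commute w h := by
    refine commute_of_commute_sq ho ?_
    have e : h ^ 2 = (x * h) * (x⁻¹ * h) := by
      calc h ^ 2 = h * x * x⁻¹ * h := by rw [sq]; group
        _ = x * h * x⁻¹ * h := by rw [hhx.eq]
        _ = _ := by group
    rw [e]
    exact hwc'.mul_right hwc2
  have hwx : Commute w x := by
    have h1 := hwc'.mul_right hwh.inv_right
    rwa [mul_inv_cancel_right] at h1
  refine ⟨⟨w, hmem w hw hwx⟩, ?_, fun h1 => hw1 (congrArg Subtype.val h1), Subtype.ext hwh.eq⟩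
  rw [Subgroup.mem_subgroupOf]
  exact ⟨hmem w hw hwx, hw⟩

theorem semiExtraspecial {X : Type*} [Group X] [Finite X] {p : ℕ} [Fact p.Prime]
    (hX : Cfsg.IsSemiExtraspecial p X) (x : X) (hx : x ∉ Subgroup.center X) :
    (Subgroup.centralizer ({x} : Set X)).index = Nat.card ↥(Subgroup.center X) ∧
      {z : X | ∃ y : X, z = x * y * x⁻¹ * y⁻¹} = (Subgroup.center X : Set X) := by
  obtain ⟨⟨hp, -, hcomm⟩, hY⟩ := hX
  have hz : ∀ y, x * y * x⁻¹ * y⁻¹ ∈ Subgroup.center X := fun y =>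
    hcomm ▸ Subgroup.commutator_mem_commutator (Subgroup.mem_top x) (Subgroup.mem_top y)
  let f : X →* ↥(Subgroup.center X) :=
    { toFun := fun y => ⟨x * y * x⁻¹ * y⁻¹, hz y⟩
      map_one' := Subtype.ext (by simp)
      map_mul' := fun a b => Subtype.ext <| by
        show x * (a * b) * x⁻¹ * (a * b)⁻¹ = (x * a * x⁻¹ * a⁻¹) * (x * b * x⁻¹ * b⁻¹)
        calc x * (a * b) * x⁻¹ * (a * b)⁻¹ = (x * a * x⁻¹) * (x * b * x⁻¹ * b⁻¹) * a⁻¹ := by group
          _ = (x * a * x⁻¹) * ((x * b * x⁻¹ * b⁻¹) * a⁻¹) := by group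
          _ = (x * a * x⁻¹) * (a⁻¹ * (x * b * x⁻¹ * b⁻¹)) := by
            rw [Subgroup.mem_center_iff.1 (hz b) a⁻¹]
          _ = _ := by group }
  have hker : f.ker = Subgroup.centralizer ({x} : Set X) := by
    ext y
    rw [MonoidHom.mem_ker, Subgroup.mem_centralizer_singleton_iff, Subtype.ext_iff]
    show x * y * x⁻¹ * y⁻¹ = 1 ↔ _
    rw [mul_inv_eq_one, mul_inv_eq_iff_eq_mul, eq_comm]
  have hrange : f.range = ⊤ := by
    by_contra hne
    obtain ⟨Y', hY', hle⟩ := (eq_top_or_exists_le_coatom f.range).resolve_left hne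
    set Y := Y'.map (Subgroup.center X).subtype with hYdef
    obtain ⟨hn, hE⟩ := hY Y (Subgroup.map_subtype_le _)
      (by rwa [hYdef, Subgroup.subgroupOf, Subgroup.comap_map_eq_self_of_injective
        (Subgroup.center X).subtype_injective])
    set π := QuotientGroup.mk' Y
    have hxc : π x ∈ Subgroup.center (X ⧸ Y) := by
      refine Subgroup.mem_center_iff.2 fun q => ?_
      obtain ⟨y, rfl⟩ := QuotientGroup.mk'_surjective Y q
      have : x * y * x⁻¹ * y⁻¹ ∈ Y := ⟨f y, hle ⟨y, rfl⟩, rfl⟩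
      have h1 : π (x * y * x⁻¹ * y⁻¹) = 1 := (QuotientGroup.eq_one_iff _).2 this
      rw [map_mul, map_mul, map_mul, map_inv, map_inv, mul_inv_eq_one, mul_inv_eq_iff_eq_mul] at h1
      exact h1.symm
    have hle' : (Subgroup.center X).map π ≤ Subgroup.center (X ⧸ Y) := by
      rintro _ ⟨c, hc, rfl⟩
      refine Subgroup.mem_center_iff.2 fun q => ?_
      obtain ⟨y, rfl⟩ := QuotientGroup.mk'_surjective Y q
      rw [← map_mul, ← map_mul, Subgroup.mem_center_iff.1 hc y]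
    have heq : (Subgroup.center X).map π = Subgroup.center (X ⧸ Y) := by
      refine Subgroup.eq_of_le_of_card_ge hle' ?_
      rw [hE.2]
      obtain ⟨k, hk⟩ := IsPGroup.iff_card.1 ((hp.to_subgroup (Subgroup.center X)).map π)
      rw [hk]
      refine Nat.le_self_pow (fun h0 => ?_) p
      rw [h0, pow_zero, Subgroup.card_eq_one, Subgroup.map_eq_bot_iff, QuotientGroup.ker_mk'] at hk
      refine hY'.1 (top_le_iff.1 fun z _ => ?_)
      obtain ⟨z', hz', hzz⟩ := hk z.2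
      rwa [Subtype.ext hzz] at hz'
    rw [← heq] at hxc
    obtain ⟨z, hz', hzx⟩ := hxc
    refine hx ?_
    have h1 := QuotientGroup.eq.1 hzx
    have := mul_mem hz' (Subgroup.map_subtype_le Y' h1)
    simpa using this
  refine ⟨?_, ?_⟩
  · rw [← hker, Subgroup.index_ker, hrange, Subgroup.card_top]
  · ext z
    constructor
    · rintro ⟨y, rfl⟩; exact hz y
    · intro hzc
      obtain ⟨y, hy⟩ := (hrange ▸ Subgroup.mem_top (⟨z, hzc⟩ : ↥(Subgroup.center X)) :
        (⟨z, hzc⟩ : ↥(Subgroup.center X)) ∈ f.range)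
      exact ⟨y, (congrArg Subtype.val hy).symm⟩

theorem quadratic_pCore {H : Type*} [Group H] [Finite H] {p : ℕ} [Fact p.Prime] (K : Subgroup H)
    (hO : Cfsg.pCore p ↥K = ⊥) (Y : Subgroup H) (hY : IsPGroup p ↥Y)
    (hYK : Y ≤ Subgroup.normalizer (K : Set H)) (hq : ⁅⁅K, Y⁆, Y⁆ = ⊥) : ⁅K, Y⁆ = ⊥ := by
  set N := ⁅K, Y⁆ with hN
  have hNK : N ≤ K := by
    refine Subgroup.commutator_le.2 fun k hk y hy => ?_
    have e : ⁅k, y⁆ = k * (y * k⁻¹ * y⁻¹) := by simp only [commutatorElement_def]; group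
    rw [e]
    exact mul_mem hk ((Subgroup.mem_normalizer_iff.1 (hYK hy) _).1 (inv_mem hk))
  have hYN : Y ≤ Subgroup.centralizer (N : Set H) :=
    Subgroup.le_centralizer_iff.1 (Subgroup.commutator_eq_bot_iff_le_centralizer.1 hq)
  have hyc : ∀ n ∈ N, ∀ y ∈ Y, Commute y n := fun n hn y hy => (hYN hy n hn).symm
  have hKN : ∀ k ∈ K, ∀ n ∈ N, k * n * k⁻¹ ∈ N := by
    intro k hk n hn
    induction hn using Subgroup.closure_induction with
    | mem z hz =>
      obtain ⟨a, ha, y, hy, rfl⟩ := hz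
      have e : k * ⁅a, y⁆ * k⁻¹ = ⁅k * a, y⁆ * ⁅k, y⁆⁻¹ := by
        simp only [commutatorElement_def]; group
      rw [e]
      exact mul_mem (Subgroup.commutator_mem_commutator (mul_mem hk ha) hy)
        (inv_mem (Subgroup.commutator_mem_commutator hk hy))
    | one => simp
    | mul a b _ _ ha hb =>
      rw [show k * (a * b) * k⁻¹ = k * a * k⁻¹ * (k * b * k⁻¹) by group]
      exact mul_mem ha hb
    | inv a _ ha =>
      rw [show k * a⁻¹ * k⁻¹ = (k * a * k⁻¹)⁻¹ by group]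
      exact inv_mem ha
  have hab : N ≤ Subgroup.centralizer (N : Set H) := by
    have h1 : ∀ k ∈ K, ∀ y ∈ Y, ⁅k, y⁆ ∈ Subgroup.centralizer (N : Set H) := by
      intro k hk y hy n hn
      show n * ⁅k, y⁆ = ⁅k, y⁆ * n
      have hkn : k⁻¹ * n * k ∈ N := by simpa using hKN k⁻¹ (inv_mem hk) n hn
      have c1 := (hyc _ hkn y hy).eq
      have c2 := (hyc n hn y⁻¹ (inv_mem hy)).eq
      calc n * ⁅k, y⁆ = k * ((k⁻¹ * n * k) * y) * k⁻¹ * y⁻¹ := by
            simp only [commutatorElement_def]; group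
        _ = k * (y * (k⁻¹ * n * k)) * k⁻¹ * y⁻¹ := by rw [c1]
        _ = k * y * k⁻¹ * (n * y⁻¹) := by group
        _ = k * y * k⁻¹ * (y⁻¹ * n) := by rw [c2]
        _ = _ := by simp only [commutatorElement_def]; group
    exact Subgroup.commutator_le.2 h1
  -- every generator has `p`-power order
  have hgen : ∀ k ∈ K, ∀ y ∈ Y, ∃ i, ⁅k, y⁆ ^ p ^ i = 1 := by
    intro k hk y hy
    obtain ⟨i, hi⟩ := hY ⟨y, hy⟩
    refine ⟨i, ?_⟩
    have hpow : ∀ m : ℕ, ⁅k, y ^ m⁆ = ⁅k, y⁆ ^ m := by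
      intro m
      induction m with
      | zero => simp
      | succ m ih =>
        have hm : ⁅k, y⁆ ∈ N := Subgroup.commutator_mem_commutator hk hy
        have e : ⁅k, y ^ (m + 1)⁆ = ⁅k, y ^ m⁆ * (y ^ m * ⁅k, y⁆ * (y ^ m)⁻¹) := by
          simp only [commutatorElement_def, pow_succ]; group
        rw [e, (hyc _ hm _ (pow_mem hy m)).eq, mul_inv_cancel_right, ih, pow_succ]
    have hy1 : y ^ p ^ i = 1 := congrArg Subtype.val hi
    rw [← hpow, hy1]; simp
  have hNp : IsPGroup p N := by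
    intro ⟨n, hn⟩
    suffices h : ∃ i, n ^ p ^ i = 1 by
      obtain ⟨i, hi⟩ := h; exact ⟨i, Subtype.ext hi⟩
    suffices h : n ∈ N ∧ ∃ i, n ^ p ^ i = 1 from h.2
    induction hn using Subgroup.closure_induction with
    | mem z hz =>
      obtain ⟨a, ha, y, hy, rfl⟩ := hz
      exact ⟨Subgroup.commutator_mem_commutator ha hy, hgen a ha y hy⟩
    | one => exact ⟨one_mem N, 0, one_pow _⟩
    | mul a b _ _ ha hb =>
      obtain ⟨ha, i, hi⟩ := ha
      obtain ⟨hb, j, hj⟩ := hb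
      refine ⟨mul_mem ha hb, i + j, ?_⟩
      rw [(show Commute a b from (hab hb a ha)).mul_pow, pow_add, pow_mul, hi, one_pow, one_mul,
        mul_comm, pow_mul, hj, one_pow]
    | inv a _ ha =>
      obtain ⟨ha, i, hi⟩ := ha
      exact ⟨inv_mem ha, i, by rw [inv_pow, hi, inv_one]⟩
  have hnorm : (N.subgroupOf K).Normal := ⟨fun n hn k => hKN k.1 k.2 _ hn⟩
  have := le_pCore hnorm (hNp.comap_subtype (K := K))
  rw [hO, le_bot_iff, Subgroup.subgroupOf_eq_bot, disjoint_iff, inf_eq_left.2 hNK] at this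
  exact this

end CfsgLib.LocalEven.SmallTwo
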