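import Cfsg.Prelude.Def_Local
import Cfsg.Agent.Lib.LocalEven.SidkiSmall
import Cfsg.Agent.Lib.LocalEven.SmallTwo
import Cfsg.Agent.Lib.Base.MinimalNormal
import Cfsg.Agent.Lib.Components.Basic

/-!
A minimal counterexample to the Sidki pair statement is almost simple.
-/

set_option autoImplicit false
set_option linter.style.haveILetI false

open scoped Pointwise

universe u

namespace CfsgLib.LocalEven.SidkiMin

open Cfsg

variable {G : Type u} [Group G]

theorem conj_apply_eq_self {a b : G} (h : Commute a b) : MulAut.conj a b = b := by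
  rw [MulAut.conj_apply, h.eq, mul_inv_cancel_right]

theorem commute_of_conj_eq_self {a b : G} (h : MulAut.conj a b = b) : Commute a b := by
  rw [MulAut.conj_apply, mul_inv_eq_iff_eq_mul] at h
  exact h

theorem mem_normalizer_of_conj {K : Subgroup G} [Finite G] {g : G}
    (h : ∀ k ∈ K, MulAut.conj g k ∈ K) : g ∈ Subgroup.normalizer (K : Set G) := by
  refine Subgroup.mem_normalizer_iff_map_conj_eq.2 ?_
  exact Subgroup.eq_of_le_of_card_ge (Subgroup.map_le_iff_le_comap.2 fun k hk => h k hk)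
    (Subgroup.card_map_of_injective (MulAut.conj g).injective).ge

theorem elemAb_map {H : Type u} [Group H] {V : Subgroup G} (hV : IsElementaryAbelian 2 V)
    (f : G →* H) : IsElementaryAbelian 2 (V.map f) := by
  refine ⟨⟨⟨?_⟩⟩, ?_⟩
  · rintro ⟨_, a, ha, rfl⟩ ⟨_, b, hb, rfl⟩
    apply Subtype.ext
    show f a * f b = f b * f a
    rw [← map_mul, ← map_mul,
      show a * b = b * a from congrArg Subtype.val (hV.1.1.1 ⟨a, ha⟩ ⟨b, hb⟩)]
  · rintro _ ⟨a, ha, rfl⟩
    rw [← map_pow, hV.2 a ha, map_one]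

theorem elemAb_subgroupOf {V : Subgroup G} (hV : IsElementaryAbelian 2 V) {W : Subgroup G}
    (hW : W ≤ V) (H : Subgroup G) : IsElementaryAbelian 2 (W.subgroupOf H) := by
  refine ⟨⟨⟨?_⟩⟩, ?_⟩
  · rintro ⟨a, ha⟩ ⟨b, hb⟩
    exact Subtype.ext (Subtype.ext
      (congrArg Subtype.val (hV.1.1.1 ⟨a.1, hW ha⟩ ⟨b.1, hW hb⟩) : (a.1 * b.1 : G) = b.1 * a.1))
  · intro a ha
    exact Subtype.ext (by simpa using hV.2 a.1 (hW ha))

variable [Finite G]

theorem commute_pCore {H N : Subgroup G} [N.Normal] (hO : pCore 2 G = ⊥) (hNH : N ≤ H)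
    {w : G} (hwH : w ∈ H) (hw : (⟨w, hwH⟩ : H) ∈ pCore 2 ↥H) {n : G} (hn : n ∈ N) :
    Commute w n := by
  set K : Subgroup G := (pCore 2 ↥H).map H.subtype ⊓ N with hK
  haveI hKn : (K.subgroupOf N).Normal := by
    refine ⟨fun x hx y => ?_⟩
    rw [Subgroup.mem_subgroupOf] at hx ⊢
    obtain ⟨⟨z, hz, hzx⟩, hxN⟩ := hx
    refine ⟨⟨⟨(y : G), hNH y.2⟩ * z * ⟨(y : G), hNH y.2⟩⁻¹, ?_, ?_⟩,
      (inferInstance : N.Normal).conj_mem _ hxN _⟩
    · exact (inferInstance : (pCore 2 ↥H).Normal).conj_mem z hz _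
    · simp only [map_mul, map_inv, hzx]
      simp
  have hp : IsPGroup 2 ↥(K.subgroupOf N) :=
    (((CfsgLib.Base.isPGroup_pCore 2 ↥H).map H.subtype).to_le inf_le_left).comap_subtype
  have h1 : K.subgroupOf N ≤ pCore 2 ↥N := CfsgLib.Base.le_pCore hp
  have h2 : (pCore 2 ↥N).map N.subtype ≤ pCore 2 G :=
    CfsgLib.Base.le_pCore ((CfsgLib.Base.isPGroup_pCore 2 ↥N).map N.subtype)
  have hc : w * n * w⁻¹ * n⁻¹ ∈ K := by
    refine ⟨⟨⟨w, hwH⟩ * (⟨n, hNH hn⟩ * (⟨w, hwH⟩ : H)⁻¹ * ⟨n, hNH hn⟩⁻¹), ?_, ?_⟩, ?_⟩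
    · exact mul_mem hw ((inferInstance : (pCore 2 ↥H).Normal).conj_mem _ (inv_mem hw) _)
    · simp [mul_assoc]
    · exact N.mul_mem ((inferInstance : N.Normal).conj_mem n hn w) (N.inv_mem hn)
  have hcN : w * n * w⁻¹ * n⁻¹ ∈ N :=
    mul_mem ((inferInstance : N.Normal).conj_mem n hn w) (inv_mem hn)
  have h3 : w * n * w⁻¹ * n⁻¹ ∈ pCore 2 G :=
    h2 ⟨⟨_, hcN⟩, h1 (Subgroup.mem_subgroupOf.2 hc), rfl⟩
  rw [hO, Subgroup.mem_bot, mul_inv_eq_one, mul_inv_eq_iff_eq_mul] at h3
  exact h3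

theorem main (V : Subgroup G) (hV : Cfsg.IsElementaryAbelian 2 V) (hV1 : V ≠ ⊥)
    (hS : Cfsg.IsSidkiPair V) (hVO : V ⊓ Cfsg.pCore 2 G = ⊥)
    (hminG : ∀ (H : Type u) [Group H] [Finite H] (W : Subgroup H), Nat.card H < Nat.card G →
      Cfsg.IsElementaryAbelian 2 W → W ≠ ⊥ → Cfsg.IsSidkiPair W → W ⊓ Cfsg.pCore 2 H ≠ ⊥)
    (hminV : ∀ W : Subgroup G, Nat.card W < Nat.card V → Cfsg.IsElementaryAbelian 2 W → W ≠ ⊥ →
      Cfsg.IsSidkiPair W → W ⊓ Cfsg.pCore 2 G ≠ ⊥) :
    IsSimpleGroup ↥(Cfsg.generalizedFittingSubgroup G) ∧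
      ¬ IsMulCommutative ↥(Cfsg.generalizedFittingSubgroup G) ∧
        V ⊔ Cfsg.generalizedFittingSubgroup G = ⊤ := by
  classical
  have hcomm : ∀ a ∈ V, ∀ b ∈ V, Commute a b := fun a ha b hb =>
    congrArg Subtype.val (hV.1.1.1 ⟨a, ha⟩ ⟨b, hb⟩)
  have hinv : ∀ a ∈ V, a⁻¹ = a := fun a ha =>
    inv_eq_of_mul_eq_one_right (by rw [← sq]; exact hV.2 a ha)
  have h5 : 4 < Nat.card V := by
    by_contra h
    exact SidkiSmall.sidki_small V hV hV1 hS (not_lt.1 h) hVO
  -- the 2-core is trivial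
  have hO : pCore 2 G = ⊥ := by
    by_contra hne
    set K := pCore 2 G
    have hlt : Nat.card (G ⧸ K) < Nat.card G := by
      rw [← Subgroup.index_eq_card, ← K.card_mul_index]
      exact lt_mul_of_one_lt_left (Nat.pos_of_ne_zero K.index_ne_zero_of_finite)
        (K.one_lt_card_iff_ne_bot.2 hne)
    refine hminG (G ⧸ K) (V.map (QuotientGroup.mk' K)) hlt (elemAb_map hV _) ?_
      (SmallTwo.sidki_quotient V K hV hS hVO) ?_
    · intro h
      rw [Subgroup.map_eq_bot_iff, QuotientGroup.ker_mk'] at h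
      exact hV1 (by rw [← hVO, inf_of_le_left h])
    · rw [CfsgLib.Base.pCore_quotient_pCore 2 G, inf_bot_eq]
  have hnotin : ∀ v ∈ V, v ∈ pCore 2 G → v = 1 := fun v hv h => by
    rwa [hO, Subgroup.mem_bot] at h
  have hinvert : ∀ v ∈ V, v ≠ 1 →
      ∃ h : G, Odd (orderOf h) ∧ v * h * v⁻¹ = h⁻¹ ∧ h ≠ 1 := by
    intro v hv hv1
    by_contra hno
    push Not at hno
    exact hv1 (hnotin v hv (SidkiSmall.mem_pCore_of_no_inverted (hV.2 v hv) hno))
  -- minimality for proper subgroups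
  have hsub : ∀ H W : Subgroup G, H ≠ ⊤ → W ≤ V → W ≤ H → W ≠ ⊥ →
      IsSidkiPair (W.subgroupOf H) → ∃ w ∈ W, w ≠ 1 ∧ ∃ hwH : w ∈ H,
        (⟨w, hwH⟩ : H) ∈ pCore 2 ↥H := by
    intro H W hH hWV hWH hW1 hWS
    have hlt : Nat.card H < Nat.card G :=
      lt_of_le_of_ne (Subgroup.card_le_card_group H) (mt (Subgroup.eq_top_of_card_eq H) hH)
    have hne := hminG ↥H (W.subgroupOf H) hlt (elemAb_subgroupOf hV hWV H)
      (fun h => hW1 ?_) hWS
    · obtain ⟨⟨⟨w, hwH⟩, hw⟩, hw1⟩ :=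
        @exists_ne _ ((Subgroup.nontrivial_iff_ne_bot _).2 hne) 1
      exact ⟨w, hw.1, fun e => hw1 (Subtype.ext (Subtype.ext e)), hwH, hw.2⟩
    · rw [Subgroup.subgroupOf_eq_bot, disjoint_iff, inf_eq_left.2 hWH] at h
      exact h
  -- the centre is trivial
  have hZ : Subgroup.center G = ⊥ := by
    by_contra hne
    set Z := Subgroup.center G
    have hVZ : V ⊓ Z = ⊥ := by
      rw [Subgroup.eq_bot_iff_forall]
      intro v hv
      refine hnotin v hv.1 (SidkiSmall.mem_pCore_of_no_inverted (hV.2 v hv.1) fun x hx hi => ?_)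
      rw [← Subgroup.mem_center_iff.1 hv.2 x, mul_inv_cancel_right] at hi
      exact SidkiSmall.eq_one_of_self_inv hx hi.symm
    have hlt : Nat.card (G ⧸ Z) < Nat.card G := by
      rw [← Subgroup.index_eq_card, ← Z.card_mul_index]
      exact lt_mul_of_one_lt_left (Nat.pos_of_ne_zero Z.index_ne_zero_of_finite)
        (Z.one_lt_card_iff_ne_bot.2 hne)
    have h1 := hminG (G ⧸ Z) (V.map (QuotientGroup.mk' Z)) hlt (elemAb_map hV _) (fun h => ?_)
      (SmallTwo.sidki_quotient V Z hV hS hVZ)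
    · obtain ⟨⟨_, ⟨v, hv, rfl⟩, hvP⟩, hne1⟩ :=
        @exists_ne _ ((Subgroup.nontrivial_iff_ne_bot _).2 h1) 1
      refine hne1 (Subtype.ext ?_)
      show QuotientGroup.mk' Z v = 1
      suffices v = 1 by rw [this, map_one]
      refine hnotin v hv (SidkiSmall.mem_pCore_of_no_inverted (hV.2 v hv) fun x hx hi => ?_)
      set π := QuotientGroup.mk' Z
      have hm : π v * π x * (π v)⁻¹ * (π x)⁻¹ ∈ pCore 2 (G ⧸ Z) := by
        have := mul_mem hvP
          ((inferInstance : (pCore 2 (G ⧸ Z)).Normal).conj_mem _ (inv_mem hvP) (π x))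
        simpa [mul_assoc] using this
      rw [← map_inv, ← map_mul, ← map_mul, hi, map_inv] at hm
      obtain ⟨k, hk⟩ := IsPGroup.iff_orderOf.1 (CfsgLib.Base.isPGroup_pCore 2 (G ⧸ Z)) ⟨_, hm⟩
      rw [Subgroup.orderOf_mk, ← mul_inv_rev, orderOf_inv, ← sq] at hk
      have ho : Odd (2 ^ k) := hk ▸
        (hx.of_dvd_nat ((orderOf_pow_dvd 2).trans (orderOf_map_dvd π x)))
      have hk0 : k = 0 := by
        by_contra h
        exact Nat.not_even_iff_odd.2 ho (Nat.even_pow.2 ⟨even_two, h⟩)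
      rw [hk0, pow_zero, orderOf_eq_one_iff, ← map_pow, QuotientGroup.mk'_apply,
        QuotientGroup.eq_one_iff] at hk
      have hc : Commute v (x ^ 2) := Subgroup.mem_center_iff.1 hk v
      have := SidkiSmall.sq_commute_cancel hx hc
      rw [this.eq, mul_inv_cancel_right] at hi
      exact SidkiSmall.eq_one_of_self_inv hx hi.symm
    · rw [Subgroup.map_eq_bot_iff, QuotientGroup.ker_mk'] at h
      exact hV1 (by rw [← hVZ, inf_of_le_left h])
  -- no element of `V` centralizes a nontrivial normal subgroup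
  have hCN : ∀ N : Subgroup G, N.Normal → N ≠ ⊥ →
      V ⊓ Subgroup.centralizer (N : Set G) = ⊥ := by
    intro N hN hN1
    by_contra hne
    set C := Subgroup.centralizer (N : Set G) with hC
    have hCtop : C ≠ ⊤ := fun h => hN1 (le_bot_iff.1 (hZ ▸
      Subgroup.centralizer_eq_top_iff_subset.1 h))
    have : C.Normal := inferInstance
    obtain ⟨⟨v0, hv0⟩, hv01⟩ := @exists_ne _ ((Subgroup.nontrivial_iff_ne_bot _).2 hne) 1
    have hv01' : v0 ≠ 1 := fun e => hv01 (Subtype.ext e)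
    have hWS : IsSidkiPair ((V ⊓ C).subgroupOf C) := by
      rintro ⟨x, hxC⟩ ⟨v, hvC⟩ hv hx hi
      rw [Subgroup.mem_subgroupOf] at hv
      have hvV : v ∈ V := hv.1
      rw [Subgroup.orderOf_mk] at hx
      replace hi : v * x * v⁻¹ = x⁻¹ := congrArg Subtype.val hi
      by_cases hx1 : x = 1
      · exact ⟨⟨v0, hv0.2⟩, hv0, fun e => hv01' (congrArg Subtype.val e),
          Subtype.ext (by simp [hx1])⟩
      have hv1 : v ≠ 1 := by
        rintro rfl
        exact hx1 (SidkiSmall.eq_one_of_self_inv hx (by simpa using hi.symm))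
      set H := Subgroup.centralizer ({v} : Set G) ⊓ Subgroup.centralizer ({x} : Set G) with hH
      obtain ⟨hne', hS'⟩ := SmallTwo.sidki_centralizer V hV hS v x hvV hx hi H rfl
      have hHtop : H ≠ ⊤ := by
        intro h
        have hv' : v ∈ Subgroup.center G := Subgroup.mem_center_iff.2 fun g =>
          Subgroup.mem_centralizer_singleton_iff.1 ((le_top.trans_eq h.symm) (Subgroup.mem_top g)).1
        rw [hZ, Subgroup.mem_bot] at hv'
        exact hv1 hv'
      have hNH : N ≤ H := fun n hn => ⟨Subgroup.mem_centralizer_singleton_iff.2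
          (Subgroup.mem_centralizer_iff.1 hvC n hn),
        Subgroup.mem_centralizer_singleton_iff.2 (Subgroup.mem_centralizer_iff.1 hxC n hn)⟩
      obtain ⟨w, hw, hw1, hwH, hwP⟩ :=
        hsub H (H ⊓ V) hHtop inf_le_right inf_le_left hne' hS'
      have hwC : w ∈ C := Subgroup.mem_centralizer_iff.2 fun n hn =>
        (commute_pCore hO hNH hwH hwP hn).eq.symm
      exact ⟨⟨w, hwC⟩, ⟨hw.2, hwC⟩, fun e => hw1 (congrArg Subtype.val e),
        Subtype.ext (Subgroup.mem_centralizer_singleton_iff.1 hwH.2)⟩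
    obtain ⟨w, hw, hw1, hwC, hwP⟩ := hsub C (V ⊓ C) hCtop inf_le_left inf_le_right hne hWS
    refine hw1 (hnotin w hw.1 ?_)
    exact CfsgLib.Base.le_pCore ((CfsgLib.Base.isPGroup_pCore 2 ↥C).map C.subtype)
      ⟨⟨w, hwC⟩, hwP, rfl⟩
  have hNV : ∀ N : Subgroup G, N.Normal → N ≠ ⊥ → N ⊔ V = ⊤ := by
    intro N hN hN1
    by_contra hne
    obtain ⟨w, hw, hw1, hwH, hwP⟩ := hsub (N ⊔ V) V hne le_rfl le_sup_right hV1 (by
      rintro ⟨x, hxH⟩ ⟨v, hvH⟩ hv hx hi
      obtain ⟨w, hw, hw1, hwc⟩ := hS x v hv (by rwa [Subgroup.orderOf_mk] at hx)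
        (congrArg Subtype.val hi)
      exact ⟨⟨w, le_sup_right (a := N) hw⟩, hw, fun e => hw1 (congrArg Subtype.val e),
        Subtype.ext hwc⟩)
    have : w ∈ V ⊓ Subgroup.centralizer (N : Set G) :=
      ⟨hw, Subgroup.mem_centralizer_iff.2 fun n hn =>
        (commute_pCore hO le_sup_left hwH hwP hn).eq.symm⟩
    rw [hCN N hN hN1, Subgroup.mem_bot] at this
    exact hw1 this
  have hG : Nontrivial G := Subgroup.nontrivial_iff.1
    ⟨⟨V, ⊥, hV1⟩⟩
  obtain ⟨N, hNmin⟩ := CfsgLib.Base.exists_isMinimalNormal (G := G)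
  haveI := hNmin.normal
  have hN1 := hNmin.ne_bot
  have htop := hNV N hNmin.normal hN1
  have hCV := hCN N hNmin.normal hN1
  have hdec : ∀ g : G, ∃ n ∈ N, ∃ v ∈ V, n * v = g := fun g =>
    Subgroup.mem_sup_of_normal_left.1 (htop ▸ Subgroup.mem_top g)
  have hnormal : ∀ K : Subgroup G, N ≤ Subgroup.normalizer (K : Set G) →
      V ≤ Subgroup.normalizer (K : Set G) → K.Normal := fun K h1 h2 =>
    Subgroup.normalizer_eq_top_iff.1 (top_le_iff.1 (htop ▸ sup_le h1 h2))
  -- `N` is nonabelian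
  have hNna : ¬ IsMulCommutative ↥N := by
    intro hab
    have habm : ∀ a ∈ N, ∀ b ∈ N, Commute a b := fun a ha b hb =>
      congrArg Subtype.val (hab.1.1 ⟨a, ha⟩ ⟨b, hb⟩)
    have hinvN : ∀ v ∈ V, v ≠ 1 → ∀ n ∈ N, v * n * v⁻¹ = n⁻¹ := by
      intro v hv hv1
      set K := N ⊓ Subgroup.centralizer ({v} : Set G)
      have hK : K.Normal := by
        refine hnormal K (fun g hg => mem_normalizer_of_conj fun k hk => ?_)
          (fun g hg => mem_normalizer_of_conj fun k hk => ?_)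
        · rw [conj_apply_eq_self (habm g hg k hk.1)]
          exact hk
        · refine ⟨hNmin.normal.conj_mem k hk.1 g, Subgroup.mem_centralizer_singleton_iff.2 ?_⟩
          have hkv : Commute k v := Subgroup.mem_centralizer_singleton_iff.1 hk.2
          have h2 := hkv.map (MulAut.conj g)
          rw [conj_apply_eq_self (hcomm g hg v hv)] at h2
          exact h2.eq
      have hKb : K = ⊥ := (hNmin.eq_bot_or_eq hK inf_le_left).resolve_right fun h => by
        refine hv1 (Subgroup.mem_bot.1 (hCV ▸ ⟨hv, Subgroup.mem_centralizer_iff.2 fun n hn => ?_⟩))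
        exact Subgroup.mem_centralizer_singleton_iff.1 (h.ge hn).2
      intro n hn
      have hm : n * (v * n * v⁻¹) ∈ K := by
        have hn' := hNmin.normal.conj_mem n hn v
        refine ⟨mul_mem hn hn', Subgroup.mem_centralizer_singleton_iff.2 ?_⟩
        refine (commute_of_conj_eq_self (a := v) ?_).eq.symm
        rw [map_mul, ← MulAut.conj_apply, ← MulAut.mul_apply, ← map_mul,
          show v * v = 1 by rw [← sq]; exact hV.2 v hv, map_one, MulAut.one_apply]
        exact (habm _ hn' _ hn).eq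
      rw [hKb, Subgroup.mem_bot] at hm
      exact eq_inv_of_mul_eq_one_right hm
    obtain ⟨⟨v, hv⟩, hv1⟩ := @exists_ne _ ((Subgroup.nontrivial_iff_ne_bot _).2 hV1) 1
    have hv1' : v ≠ 1 := fun e => hv1 (Subtype.ext e)
    have hall : V ≤ Subgroup.zpowers v := by
      intro w hw
      by_cases hw1 : w = 1
      · exact hw1 ▸ one_mem _
      suffices w = v by exact this ▸ Subgroup.mem_zpowers v
      have hvw : w * v ∈ V ⊓ Subgroup.centralizer (N : Set G) := by
        refine ⟨mul_mem hw hv, Subgroup.mem_centralizer_iff.2 fun n hn =>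
          (commute_of_conj_eq_self (a := w * v) ?_).eq.symm⟩
        rw [map_mul, MulAut.mul_apply, MulAut.conj_apply, MulAut.conj_apply,
          hinvN v hv hv1' n hn, hinvN w hw hw1 _ (inv_mem hn), inv_inv]
      rw [hCV, Subgroup.mem_bot] at hvw
      rw [eq_inv_of_mul_eq_one_left hvw, hinv v hv]
    have h2 := Subgroup.card_le_of_le hall
    rw [Nat.card_zpowers] at h2
    have := orderOf_le_of_pow_eq_one (by norm_num) (hV.2 v hv)
    omega
  -- `G / N` is an elementary abelian `2`-group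
  set π := QuotientGroup.mk' N
  have hπ : ∀ g : G, ∃ v ∈ V, π g = π v := by
    intro g
    obtain ⟨n, hn, v, hv, rfl⟩ := hdec g
    refine ⟨v, hv, ?_⟩
    rw [map_mul, show π n = 1 from (QuotientGroup.eq_one_iff n).2 hn, one_mul]
  have hsqN : ∀ g : G, g ^ 2 ∈ N := by
    intro g
    obtain ⟨v, hv, hgv⟩ := hπ g
    rw [← QuotientGroup.eq_one_iff (N := N)]
    show π (g ^ 2) = 1
    rw [map_pow, hgv, ← map_pow, hV.2 v hv, map_one]
  have hcommN : ∀ x y : G, x * y * x⁻¹ * y⁻¹ ∈ N := by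
    intro x y
    obtain ⟨a, ha, hxa⟩ := hπ x
    obtain ⟨b, hb, hyb⟩ := hπ y
    rw [← QuotientGroup.eq_one_iff (N := N)]
    show π (x * y * x⁻¹ * y⁻¹) = 1
    simp only [map_mul, map_inv, hxa, hyb]
    rw [((hcomm a ha b hb).map π).eq, mul_inv_cancel_right, mul_inv_cancel]
  have hoddN : ∀ g : G, Odd (orderOf g) → g ∈ N := by
    intro g hg
    obtain ⟨m, hm⟩ := exists_pow_eq_self_of_coprime (x := g) (n := 2)
      (Nat.coprime_two_left.2 hg)
    rw [← hm]
    exact pow_mem (hsqN g) m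
  -- `C_G(N) = 1`
  have hCN1 : Subgroup.centralizer (N : Set G) = ⊥ := by
    set C := Subgroup.centralizer (N : Set G) with hC
    have hNC : N ⊓ C = ⊥ := (hNmin.le_or_inf_eq_bot C).resolve_left fun hle => hNna
      ⟨⟨fun a b => Subtype.ext (Subgroup.mem_centralizer_iff.1 (hle b.2) a a.2)⟩⟩
    refine le_bot_iff.1 (hO ▸ CfsgLib.Base.le_pCore fun c => ⟨1, Subtype.ext ?_⟩)
    have : (c : G) ^ 2 ∈ N ⊓ C := ⟨hsqN _, pow_mem c.2 2⟩
    rw [hNC, Subgroup.mem_bot] at this
    simpa using this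
  -- a minimal `N`-invariant subgroup of `N`
  obtain ⟨S, ⟨hSN, hNS, hS1⟩, hSmin⟩ := (Finite.exists_le_minimal
    (p := fun K : Subgroup G => K ≤ N ∧ N ≤ Subgroup.normalizer (K : Set G) ∧ K ≠ ⊥)
    (a := N) ⟨le_rfl, Subgroup.le_normalizer, hN1⟩).imp fun _ h => h.2
  have hSnorm : ∀ g : G, N ≤ Subgroup.normalizer
      ((S.map (MulAut.conj g).toMonoidHom : Subgroup G) : Set G) := by
    intro g n hn
    refine mem_normalizer_of_conj ?_
    rintro _ ⟨s, hs, rfl⟩
    have hn' : g⁻¹ * n * g ∈ N := by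
      have := hNmin.normal.conj_mem n hn g⁻¹
      rwa [inv_inv] at this
    refine ⟨MulAut.conj (g⁻¹ * n * g) s,
      (Subgroup.mem_normalizer_iff.1 (hNS hn') s).1 hs, ?_⟩
    simp [mul_assoc]
  have hSle : ∀ g : G, S.map (MulAut.conj g).toMonoidHom ≤ N := by
    rintro g _ ⟨s, hs, rfl⟩
    exact hNmin.normal.conj_mem s (hSN hs) g
  have hdis : ∀ g : G, g ∉ Subgroup.normalizer (S : Set G) →
      S ⊓ S.map (MulAut.conj g).toMonoidHom = ⊥ := by
    intro g hg
    by_contra hne
    have hle : S ≤ S ⊓ S.map (MulAut.conj g).toMonoidHom :=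
      hSmin ⟨inf_le_left.trans hSN, fun n hn => mem_normalizer_of_conj fun k hk =>
        ⟨(Subgroup.mem_normalizer_iff.1 (hNS hn) k).1 hk.1,
          (Subgroup.mem_normalizer_iff.1 (hSnorm g hn) k).1 hk.2⟩, hne⟩ inf_le_left
    refine hg (Subgroup.mem_normalizer_iff_map_conj_eq.2 ?_)
    exact (Subgroup.eq_of_le_of_card_ge (hle.trans inf_le_right)
      (Subgroup.card_map_of_injective (MulAut.conj g).injective).le).symm
  -- `V` normalizes it
  have hVS : V ≤ Subgroup.normalizer (S : Set G) := by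
    by_contra hnle
    set V₀ := V ⊓ Subgroup.normalizer (S : Set G) with hV₀
    obtain ⟨W, ⟨hWV, hW0, hWne⟩, hWmax⟩ := (Finite.exists_le_maximal
      (p := fun K : Subgroup G => K ≤ V ∧ V₀ ≤ K ∧ K ≠ V) (a := V₀)
      ⟨inf_le_left, le_rfl, fun h => hnle (inf_eq_left.1 h)⟩).imp fun _ h => h.2
    obtain ⟨u, huV, huW⟩ := SetLike.exists_of_lt (lt_of_le_of_ne hWV hWne)
    have huu : u * u = 1 := by rw [← sq]; exact hV.2 u huV
    have hsplit : ∀ t ∈ V, t ∈ W ∨ u * t ∈ W := by
      let W' : Subgroup G :=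
        { carrier := {t | t ∈ V ∧ (t ∈ W ∨ u * t ∈ W)}
          one_mem' := ⟨one_mem _, Or.inl (one_mem _)⟩
          mul_mem' := by
            rintro a b ⟨ha, ha'⟩ ⟨hb, hb'⟩
            refine ⟨mul_mem ha hb, ?_⟩
            rcases ha' with ha' | ha' <;> rcases hb' with hb' | hb'
            · exact Or.inl (mul_mem ha' hb')
            · exact Or.inr (by
                rw [← mul_assoc, (hcomm u huV a ha).eq, mul_assoc]; exact mul_mem ha' hb')
            · exact Or.inr (by rw [← mul_assoc]; exact mul_mem ha' hb')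
            · refine Or.inl ?_
              have e : a * b = u * a * (u * b) := by
                rw [(hcomm u huV a ha).eq, mul_assoc a u, ← mul_assoc u u, huu, one_mul]
              rw [e]
              exact mul_mem ha' hb'
          inv_mem' := by
            rintro a ⟨ha, ha'⟩
            rw [Set.mem_setOf_eq, hinv a ha]
            exact ⟨ha, ha'⟩ }
      intro t ht
      have hW' : W' = V := by
        by_contra hne
        have := hWmax (y := W') ⟨fun x hx => hx.1,
          fun x hx => ⟨hx.1, Or.inl (hW0 hx)⟩, hne⟩ fun x hx => ⟨hWV hx, Or.inl hx⟩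
        exact huW (this ⟨huV, Or.inr (huu ▸ one_mem W)⟩)
      exact (hW'.ge ht).2
    set A : Subgroup G := ⨆ w : ↥W, S.map (MulAut.conj (w : G)).toMonoidHom with hA
    set B : Subgroup G := A.map (MulAut.conj u).toMonoidHom with hB
    have hBA : ∀ b ∈ B, MulAut.conj u b ∈ A := by
      rintro _ ⟨a, ha, rfl⟩
      show MulAut.conj u (MulAut.conj u a) ∈ A
      rwa [← MulAut.mul_apply, ← map_mul, huu, map_one, MulAut.one_apply]
    have hWA : ∀ w ∈ W, ∀ a ∈ A, MulAut.conj w a ∈ A := by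
      intro w hw a ha
      suffices A ≤ A.comap (MulAut.conj w).toMonoidHom from this ha
      refine iSup_le fun w' => ?_
      rintro _ ⟨s, hs, rfl⟩
      refine Subgroup.mem_iSup_of_mem (⟨w * w', mul_mem hw w'.2⟩ : ↥W) ⟨s, hs, ?_⟩
      simp [mul_assoc]
    have hWB : ∀ w ∈ W, ∀ b ∈ B, MulAut.conj w b ∈ B := by
      rintro w hw _ ⟨a, ha, rfl⟩
      refine ⟨MulAut.conj w a, hWA w hw a ha, ?_⟩
      show MulAut.conj u (MulAut.conj w a) = MulAut.conj w (MulAut.conj u a)
      rw [← MulAut.mul_apply, ← MulAut.mul_apply, ← map_mul, ← map_mul,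
        (hcomm u huV w (hWV hw)).eq]
    have hAN : A ≤ N := iSup_le fun w => hSle _
    have hBN : B ≤ N := by
      rintro _ ⟨a, ha, rfl⟩
      exact hNmin.normal.conj_mem a (hAN ha) u
    have hNA : ∀ n ∈ N, ∀ a ∈ A, MulAut.conj n a ∈ A := by
      intro n hn a ha
      suffices A ≤ A.comap (MulAut.conj n).toMonoidHom from this ha
      refine iSup_le fun w => fun x hx => ?_
      exact Subgroup.mem_iSup_of_mem w
        ((Subgroup.mem_normalizer_iff.1 (hSnorm _ hn) x).1 hx)
    have hNB : ∀ n ∈ N, ∀ b ∈ B, MulAut.conj n b ∈ B := by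
      rintro n hn _ ⟨a, ha, rfl⟩
      refine ⟨MulAut.conj (MulAut.conj u⁻¹ n) a,
        hNA _ (hNmin.normal.conj_mem n hn u⁻¹) a ha, ?_⟩
      simp [mul_assoc]
    have hAB : ∀ a ∈ A, ∀ b ∈ B, Commute a b := by
      have hab : ∀ w w' : ↥W, S.map (MulAut.conj (w : G)).toMonoidHom ≤
          Subgroup.centralizer
            ((S.map (MulAut.conj (u * (w' : G))).toMonoidHom : Subgroup G) : Set G) := by
        intro w w'
        rintro _ ⟨s, hs, rfl⟩
        rw [Subgroup.mem_centralizer_iff]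
        rintro _ ⟨t, ht, rfl⟩
        set g := (w : G)⁻¹ * (u * w') with hg
        have hgn : g ∉ Subgroup.normalizer (S : Set G) := fun h => huW (by
          have hgW : g ∈ W := hW0 ⟨V.mul_mem (V.inv_mem (hWV w.2)) (V.mul_mem huV (hWV w'.2)), h⟩
          have := mul_mem (mul_mem w.2 hgW) (inv_mem w'.2)
          rwa [hg, mul_inv_cancel_left, mul_inv_cancel_right] at this)
        set t' := MulAut.conj g t with ht'
        have ht'S : t' ∈ S.map (MulAut.conj g).toMonoidHom := ⟨t, ht, rfl⟩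
        have hst : Commute s t' := by
          have h1 : s * t' * s⁻¹ * t'⁻¹ ∈ S ⊓ S.map (MulAut.conj g).toMonoidHom := by
            refine ⟨?_, Subgroup.mul_mem _ ((Subgroup.mem_normalizer_iff.1 (hSnorm g (hSN hs)) t').1 ht'S)
              (Subgroup.inv_mem _ ht'S)⟩
            have := mul_mem hs ((Subgroup.mem_normalizer_iff.1
              (hNS (hSle g ht'S)) s⁻¹).1 (inv_mem hs))
            rw [show s * t' * s⁻¹ * t'⁻¹ = s * (t' * s⁻¹ * t'⁻¹) by group]
            exact this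
          rw [hdis g hgn, Subgroup.mem_bot, mul_inv_eq_one, mul_inv_eq_iff_eq_mul] at h1
          exact h1
        have h2 := hst.map (MulAut.conj (w : G))
        have e : MulAut.conj (w : G) t' = MulAut.conj (u * (w' : G)) t := by
          rw [ht', ← MulAut.mul_apply, ← map_mul, hg, mul_inv_cancel_left]
        rw [e] at h2
        exact h2.eq.symm
      intro a ha b hb
      have h1 : A ≤ Subgroup.centralizer (B : Set G) := by
        refine iSup_le fun w => ?_
        rw [Subgroup.le_centralizer_iff, hB, hA, Subgroup.map_iSup]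
        refine iSup_le fun w' => ?_
        rw [Subgroup.le_centralizer_iff, Subgroup.map_map]
        have e : ((MulAut.conj u).toMonoidHom).comp (MulAut.conj (w' : G)).toMonoidHom =
            (MulAut.conj (u * (w' : G))).toMonoidHom := by
          ext x; simp [mul_assoc]
        rw [e]
        exact hab w w'
      exact (Subgroup.mem_centralizer_iff.1 (h1 ha) b hb).symm
    have hABn : N ≤ A ⊔ B := by
      have hconj : ∀ g : G, (∀ a ∈ A, MulAut.conj g a ∈ A ⊔ B) →
          (∀ b ∈ B, MulAut.conj g b ∈ A ⊔ B) → g ∈ Subgroup.normalizer ((A ⊔ B : Subgroup G) : Set G) := by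
        intro g h1 h2
        refine mem_normalizer_of_conj fun k hk => ?_
        suffices A ⊔ B ≤ (A ⊔ B).comap (MulAut.conj g).toMonoidHom from this hk
        exact sup_le h1 h2
      have hn : (A ⊔ B).Normal := by
        refine hnormal _ (fun n hn => hconj n (fun a ha => Subgroup.mem_sup_left (hNA n hn a ha))
          fun b hb => Subgroup.mem_sup_right (hNB n hn b hb)) fun t ht => ?_
        rcases hsplit t ht with h | h
        · exact hconj t (fun a ha => Subgroup.mem_sup_left (hWA t h a ha))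
            fun b hb => Subgroup.mem_sup_right (hWB t h b hb)
        · have e : t = u * (u * t) := by rw [← mul_assoc, huu, one_mul]
          refine hconj t (fun a ha => Subgroup.mem_sup_right ?_)
            fun b hb => Subgroup.mem_sup_left ?_
          · rw [e, map_mul, MulAut.mul_apply]
            exact ⟨_, hWA _ h a ha, rfl⟩
          · rw [e, map_mul, MulAut.mul_apply]
            exact hBA _ (hWB _ h b hb)
      have hne : A ⊔ B ≠ ⊥ := fun h => hS1 (le_bot_iff.1 (fun x hx => h ▸ Subgroup.mem_sup_left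
        (Subgroup.mem_iSup_of_mem (⟨1, one_mem W⟩ : ↥W) ⟨x, hx, by simp⟩)))
      exact ((hNmin.eq_bot_or_eq hn (sup_le hAN hBN)).resolve_left hne).ge
    have hABb : A ⊓ B = ⊥ := by
      rw [Subgroup.eq_bot_iff_forall]
      intro x hx
      refine Subgroup.mem_bot.1 (hCN1 ▸ Subgroup.mem_centralizer_iff.2 fun n hn => ?_)
      refine (Subgroup.mem_centralizer_singleton_iff.1 ?_)
      exact (hABn.trans (sup_le
        (fun a ha => Subgroup.mem_centralizer_singleton_iff.2 (hAB a ha x hx.2).eq)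
        (fun b hb => Subgroup.mem_centralizer_singleton_iff.2 (hAB x hx.1 b hb).eq.symm))) hn
    have huniq : ∀ a ∈ A, ∀ b ∈ B, ∀ a' ∈ A, ∀ b' ∈ B, a * b = a' * b' → a = a' ∧ b = b' := by
      intro a ha b hb a' ha' b' hb' e
      have e2 : a'⁻¹ * a = b' * b⁻¹ := by
        calc a'⁻¹ * a = a'⁻¹ * (a * b) * b⁻¹ := by group
          _ = b' * b⁻¹ := by rw [e]; group
      have hm : a'⁻¹ * a ∈ A ⊓ B :=
        ⟨A.mul_mem (A.inv_mem ha') ha, e2 ▸ B.mul_mem hb' (B.inv_mem hb)⟩
      rw [hABb, Subgroup.mem_bot, inv_mul_eq_one] at hm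
      exact ⟨hm.symm, mul_left_cancel (hm ▸ e)⟩
    -- apply the minimality of `V`
    have hWb : W ≠ ⊥ := by
      intro h
      have hall : V ≤ Subgroup.zpowers u := by
        intro t ht
        rcases hsplit t ht with h' | h' <;> rw [h, Subgroup.mem_bot] at h'
        · exact h' ▸ one_mem _
        · rw [eq_inv_of_mul_eq_one_right h']
          exact inv_mem (Subgroup.mem_zpowers u)
      have h2 := Subgroup.card_le_of_le hall
      rw [Nat.card_zpowers] at h2
      have := orderOf_le_of_pow_eq_one (by norm_num) (hV.2 u huV)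
      omega
    have hWlt : Nat.card W < Nat.card V := lt_of_le_of_ne (Subgroup.card_le_of_le hWV)
      fun e => hWne (Subgroup.eq_of_le_of_card_ge hWV e.ge)
    have hWS : ¬ IsSidkiPair W := fun h => hminV W hWlt
      ⟨⟨⟨fun a b => Subtype.ext (hcomm a.1 (hWV a.2) b.1 (hWV b.2)).eq⟩⟩,
        fun a ha => hV.2 a (hWV ha)⟩ hWb h (by rw [hO, inf_bot_eq])
    refine hWS fun h v hv ho hi => ?_
    obtain ⟨w0, hw0, hw01⟩ := (Subgroup.bot_or_exists_ne_one W).resolve_left hWb
    obtain ⟨a, ha, b, hb, rfl⟩ : ∃ a ∈ A, ∃ b ∈ B, a * b = h :=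
      Set.mem_mul.1 (by
        rw [← Subgroup.coe_mul_of_left_le_normalizer_right A B
          (fun a ha => mem_normalizer_of_conj (hNB a (hAN ha)))]
        exact hABn (hoddN h ho))
    obtain ⟨z, hz, hz1, hzc⟩ := hS _ v (hWV hv) ho hi
    have hzc' : Commute z (a * b) := hzc
    by_cases hzW : z ∈ W
    · exact ⟨z, hzW, hz1, hzc⟩
    have hzu : u * z ∈ W := (hsplit z hz).resolve_left hzW
    have hze : z = u * (u * z) := by rw [← mul_assoc, huu, one_mul]
    have hza : MulAut.conj z a ∈ B := by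
      rw [hze, map_mul, MulAut.mul_apply]
      exact ⟨_, hWA _ hzu a ha, rfl⟩
    have hzb : MulAut.conj z b ∈ A := by
      rw [hze, map_mul, MulAut.mul_apply]
      exact hBA _ (hWB _ hzu b hb)
    obtain ⟨-, hba⟩ := huniq _ hzb _ hza a ha b hb (by
      rw [← (hAB _ hzb _ hza).symm.eq, ← map_mul, conj_apply_eq_self hzc'])
    have hi' : MulAut.conj v a * MulAut.conj v b = a⁻¹ * b⁻¹ := by
      rw [← map_mul, MulAut.conj_apply, hi, mul_inv_rev, (hAB a ha b hb).inv_inv.eq]
    have hva : v * a * v⁻¹ = a⁻¹ :=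
      (huniq _ (hWA v hv a ha) _ (hWB v hv b hb) _ (inv_mem ha) _ (inv_mem hb) hi').1
    have hao : Odd (orderOf a) := by
      refine ho.of_dvd_nat (orderOf_dvd_of_pow_eq_one ?_)
      have h1 := pow_orderOf_eq_one (a * b)
      rw [(hAB a ha b hb).mul_pow] at h1
      exact (huniq _ (pow_mem ha _) _ (pow_mem hb _) 1 (one_mem _) 1 (one_mem _)
        (by rw [h1, mul_one])).1
    obtain ⟨z', hz', hz'1, hz'c⟩ := hS a v (hWV hv) hao hva
    have hz'c' : Commute z' a := hz'c
    by_cases hz'W : z' ∈ W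
    · refine ⟨z', hz'W, hz'1, (hz'c'.mul_right (commute_of_conj_eq_self ?_)).eq⟩
      rw [← hba, ← MulAut.mul_apply, ← map_mul, (hcomm z' hz' z hz).eq, map_mul,
        MulAut.mul_apply, conj_apply_eq_self hz'c']
    · have hzu' : u * z' ∈ W := (hsplit z' hz').resolve_left hz'W
      have hze' : z' = u * (u * z') := by rw [← mul_assoc, huu, one_mul]
      have ha1 : MulAut.conj z' a ∈ B := by
        rw [hze', map_mul, MulAut.mul_apply]
        exact ⟨_, hWA _ hzu' a ha, rfl⟩
      rw [conj_apply_eq_self hz'c'] at ha1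
      have : a = 1 := Subgroup.mem_bot.1 (hABb ▸ ⟨ha, ha1⟩)
      refine ⟨w0, hw0, hw01, ?_⟩
      rw [← hba, this, map_one, mul_one, mul_one, one_mul]
  have hSeq : S = N :=
    (hNmin.eq_bot_or_eq (hnormal S hNS hVS) hSN).resolve_left hS1
  -- `N` is simple
  haveI : Nontrivial ↥N := (Subgroup.nontrivial_iff_ne_bot N).2 hN1
  have hsimp : IsSimpleGroup ↥N := ⟨fun K hK => by
    rw [or_iff_not_imp_left]
    intro hKb
    have hle : S ≤ K.map N.subtype := by
      refine hSmin ⟨Subgroup.map_subtype_le K, fun n hn => mem_normalizer_of_conj ?_,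
        fun h => hKb ((Subgroup.map_eq_bot_iff_of_injective _ N.subtype_injective).1 h)⟩
        (hSeq ▸ Subgroup.map_subtype_le K)
      rintro _ ⟨k, hk, rfl⟩
      exact ⟨_, hK.conj_mem k hk ⟨n, hn⟩, rfl⟩
    refine eq_top_iff.2 fun x _ => ?_
    obtain ⟨y, hy, hxy⟩ := hle (show (x : G) ∈ S by rw [hSeq]; exact x.2)
    rwa [show y = x from Subtype.ext hxy] at hy⟩
  have hFeq : Cfsg.generalizedFittingSubgroup G = N := by
    refine le_antisymm (sup_le (sSup_le fun K hK => ?_) ?_) ?_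
    · rw [← CfsgLib.Components.component_commutator_self hK, Subgroup.commutator_le]
      intro x _ y _
      rw [commutatorElement_def]
      exact hcommN x y
    · exact (hNmin.fittingSubgroup_le_centralizer.trans hCN1.le).trans bot_le
    · refine le_trans (le_sSup (show IsComponent N from ⟨Subgroup.Normal.isSubnormal inferInstance,
        CfsgLib.Components.isQuasisimple_of_isSimpleGroup hNna⟩)) le_sup_left
  rw [hFeq]
  exact ⟨hsimp, hNna, by rw [sup_comm]; exact htop⟩

end CfsgLib.LocalEven.SidkiMin
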