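import Mathlib.GroupTheory.SemidirectProduct
import Cfsg.Agent.Lib.Coprime.Action2
import Cfsg.Agent.Lib.PGroups.UniqueOrderP
import Cfsg.Agent.Lib.PGroups.Basic
import Cfsg.Agent.Lib.Perm.Zass.SixTypes
import Cfsg.Agent.Lib.Base.Transport
import Cfsg.Prelude.Def_Transfer

/-!
Noncyclic abelian `p`-groups (`p` odd) of automorphisms of a 2-group each element of which fixes
at most one involution.
-/

set_option autoImplicit false

namespace CfsgLib.LocalEven.SmallFixed

open Subgroup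
open scoped commutatorElement

variable {W : Type*} [Group W]

/-- The fixed points of an automorphism. -/
def fixSub (e : MulAut W) : Subgroup W := MonoidHom.eqLocus e.toMonoidHom (MonoidHom.id W)

theorem mem_fixSub {e : MulAut W} {x : W} : x ∈ fixSub e ↔ e x = x := Iff.rfl

/-- The common fixed points of a group of automorphisms. -/
def fixAll (E : Subgroup (MulAut W)) : Subgroup W where
  carrier := {x | ∀ e ∈ E, e x = x}
  one_mem' e _ := map_one e
  mul_mem' ha hb e he := by rw [map_mul, ha e he, hb e he]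
  inv_mem' ha e he := by rw [map_inv, ha e he]

theorem mem_fixAll {E : Subgroup (MulAut W)} {x : W} : x ∈ fixAll E ↔ ∀ e ∈ E, e x = x := Iff.rfl

/-- A subgroup invariant under the whole of `E`. -/
def Inv (E : Subgroup (MulAut W)) (H : Subgroup W) : Prop := ∀ e ∈ E, ∀ x ∈ H, e x ∈ H

/-- Coprime generation, for groups of automorphisms. -/
theorem generated [Finite W] (E : Subgroup (MulAut W)) [IsMulCommutative ↥E] (hE : ¬ IsCyclic ↥E)
    (hcop : (Nat.card E).Coprime (Nat.card W)) (H R : Subgroup W) (hH : Inv E H)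
    (hR : ∀ e ∈ E, e ≠ 1 → ∀ x ∈ H, e x = x → x ∈ R) : H ≤ R := by
  let φ : ↥E →* MulAut W := E.subtype
  haveI : Finite (W ⋊[φ] ↥E) := Finite.of_equiv _ SemidirectProduct.equivProd.symm
  let i : W →* W ⋊[φ] ↥E := SemidirectProduct.inl
  let j : ↥E →* W ⋊[φ] ↥E := SemidirectProduct.inr
  have hj : Function.Injective j := SemidirectProduct.inr_injective
  have hi : Function.Injective i := SemidirectProduct.inl_injective
  let eA : ↥E ≃* ↥j.range := MonoidHom.ofInjective hj
  haveI : IsMulCommutative ↥j.range :=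
    ⟨⟨fun a b => eA.symm.injective (by rw [map_mul, map_mul]; exact IsMulCommutative.is_comm.comm _ _)⟩⟩
  have hA : ¬ IsCyclic ↥j.range := fun h => hE (isCyclic_of_surjective eA.symm eA.symm.surjective)
  have hAK : j.range ≤ normalizer ((H.map i : Subgroup (W ⋊[φ] ↥E)) : Set (W ⋊[φ] ↥E)) := by
    rintro _ ⟨e, rfl⟩
    rw [CfsgLib.Coprime.mem_normalizer_iff_conj_smul]
    refine le_antisymm ?_ ?_ <;> intro y hy
    · obtain ⟨_, ⟨x, hx, rfl⟩, rfl⟩ := hy
      refine ⟨e.1 x, hH e.1 e.2 x hx, ?_⟩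
      show i (e.1 x) = j e * i x * (j e)⁻¹
      rw [← map_inv]
      exact SemidirectProduct.inl_aut e x
    · obtain ⟨x, hx, rfl⟩ := hy
      refine ⟨i ((e⁻¹).1 x), ⟨_, hH _ (e⁻¹).2 x hx, rfl⟩, ?_⟩
      show j e * i ((φ e⁻¹) x) * (j e)⁻¹ = i x
      rw [← map_inv, ← SemidirectProduct.inl_aut]
      congr 1
      rw [← MulAut.mul_apply, ← map_mul, mul_inv_cancel, map_one, MulAut.one_apply]
  have hcop' : (Nat.card ↥j.range).Coprime (Nat.card ↥(H.map i)) := by
    rw [← Nat.card_congr eA.toEquiv, CfsgLib.Base.card_map_of_injective hi]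
    exact hcop.coprime_dvd_right (Subgroup.card_subgroup_dvd_card H)
  have hmain : H.map i ≤ R.map i := by
    refine CfsgLib.Coprime.le_of_centralizer_le_of_not_isCyclic hA hAK hcop' ?_
    rintro _ ⟨e, rfl⟩ hne y ⟨⟨x, hx, rfl⟩, hc⟩
    have he : e ≠ 1 := fun h => hne (h ▸ map_one j)
    refine ⟨x, hR e.1 e.2 (fun h => he (Subtype.ext h)) x hx (hi ?_), rfl⟩
    have hcx : j e * i x = i x * j e := (Subgroup.mem_centralizer_iff.1 hc (j e) rfl)
    calc i (e.1 x) = j e * i x * j e⁻¹ := SemidirectProduct.inl_aut e x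
      _ = i x := by rw [hcx, map_inv, mul_inv_cancel_right]
  exact (Subgroup.map_le_map_iff_of_injective hi).1 hmain

/-- An automorphism of odd prime power order of a cyclic 2-group is trivial. -/
theorem cyclic_fixed {C : Type*} [Group C] [Finite C] [IsCyclic C] (hC : IsPGroup 2 C) {p : ℕ}
    [hp : Fact p.Prime] (hp2 : p ≠ 2) {σ : MulAut C} {k : ℕ} (hσ : σ ^ p ^ k = 1) : σ = 1 := by
  obtain ⟨n, hn⟩ := IsPGroup.iff_card.1 hC
  have h1 : orderOf σ ∣ Nat.totient (2 ^ n) := by
    rw [← hn, ← IsCyclic.card_mulAut C]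
    exact orderOf_dvd_natCard σ
  have h2 : orderOf σ ∣ p ^ k := orderOf_dvd_of_pow_eq_one hσ
  have hc : (p ^ k).Coprime (Nat.totient (2 ^ n)) := by
    refine Nat.Coprime.pow_left _ ?_
    rcases n with - | m
    · simp
    · rw [Nat.totient_prime_pow Nat.prime_two (Nat.succ_pos m)]
      simpa using Nat.Coprime.pow_right m ((Nat.coprime_primes hp.out Nat.prime_two).2 hp2)
  exact orderOf_eq_one_iff.1 (Nat.eq_one_of_dvd_coprimes hc h2 h1)

/-- An automorphism of odd prime power order of a quaternion group other than `Q₈` is trivial. -/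
theorem quaternion_fixed {n : ℕ} (hn : 2 ≤ n) {p : ℕ} [Fact p.Prime] (hp2 : p ≠ 2) :
    ∀ (k : ℕ) (σ : MulAut (QuaternionGroup (2 ^ n))), σ ^ p ^ k = 1 → σ = 1 := by
  haveI : NeZero (2 ^ n) := ⟨by positivity⟩
  intro k
  induction k with
  | zero => intro σ h; simpa using h
  | succ k ih =>
    intro σ h
    have h' : (σ ^ p) ^ p ^ k = 1 := by rw [← pow_mul, ← pow_succ']; exact h
    exact CfsgLib.Perm.Zass.mulAut_quaternion_odd rfl hn hp2 σ (ih _ h')

/-- The hypothesis: `E` is a noncyclic abelian `p`-group of automorphisms of the 2-group `W`,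
each nontrivial element fixing at most one involution. -/
structure Hyp (p : ℕ) (E : Subgroup (MulAut W)) : Prop where
  isTwo : IsPGroup 2 W
  odd : p ≠ 2
  isP : IsPGroup p ↥E
  comm : IsMulCommutative ↥E
  noncyclic : ¬ IsCyclic ↥E
  fix : ∀ e ∈ E, e ≠ 1 → ∀ x y : W, orderOf x = 2 → orderOf y = 2 → e x = x → e y = y → x = y

variable [Finite W] {p : ℕ} [Fact p.Prime] {E : Subgroup (MulAut W)}

theorem Hyp.comm_apply (h : Hyp p E) {e f : MulAut W} (he : e ∈ E) (hf : f ∈ E) (x : W) :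
    e (f x) = f (e x) := by
  have := h.comm.is_comm.comm ⟨e, he⟩ ⟨f, hf⟩
  exact DFunLike.congr_fun (congrArg Subtype.val this) x

theorem Hyp.pow_eq_one (h : Hyp p E) {e : MulAut W} (he : e ∈ E) : ∃ k, e ^ p ^ k = 1 := by
  obtain ⟨k, hk⟩ := h.isP ⟨e, he⟩
  exact ⟨k, congrArg Subtype.val hk⟩

theorem Hyp.inv_fixSub (h : Hyp p E) {e : MulAut W} (he : e ∈ E) : Inv E (fixSub e) := by
  intro f hf x hx
  show e (f x) = f x
  rw [h.comm_apply he hf, show e x = x from hx]

theorem Hyp.gen (h : Hyp p E) {H R : Subgroup W} (hH : Inv E H)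
    (hR : ∀ e ∈ E, e ≠ 1 → ∀ x ∈ H, e x = x → x ∈ R) : H ≤ R := by
  haveI := h.comm
  refine generated E h.noncyclic ?_ H R hH hR
  obtain ⟨a, ha⟩ := IsPGroup.iff_card.1 h.isP
  obtain ⟨b, hb⟩ := IsPGroup.iff_card.1 h.isTwo
  rw [ha, hb]
  exact Nat.Coprime.pow _ _ ((Nat.coprime_primes Fact.out Nat.prime_two).2 h.odd)

theorem inv_top : Inv E (⊤ : Subgroup W) := fun _ _ _ _ => mem_top _

theorem Hyp.exists_moved (h : Hyp p E) : ∃ x : W, x ∉ fixAll E := by
  by_contra hc
  push Not at hc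
  have hb : E = ⊥ := (Subgroup.eq_bot_iff_forall E).2 fun e he => MulEquiv.ext fun x => hc x e he
  exact h.noncyclic (hb ▸ inferInstance)

theorem exists_involution {H : Subgroup W} (hW : IsPGroup 2 W) (hH : H ≠ ⊥) :
    ∃ t ∈ H, orderOf t = 2 := by
  haveI : Fact (Nat.Prime 2) := ⟨Nat.prime_two⟩
  obtain ⟨n, hn⟩ := IsPGroup.iff_card.1 (hW.to_subgroup H)
  have h2 : 2 ∣ Nat.card H := by
    rcases n with - | n
    · exact absurd (Subgroup.eq_bot_of_card_eq H (by simpa using hn)) hH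
    · rw [hn]; exact dvd_pow_self 2 n.succ_ne_zero
  obtain ⟨t, ht⟩ := exists_prime_orderOf_dvd_card' 2 h2
  exact ⟨t, t.2, by rw [Subgroup.orderOf_coe]; exact ht⟩

theorem Hyp.exists_z (h : Hyp p E) :
    ∃ z : W, orderOf z = 2 ∧ z ∈ fixAll E ∧ z ∈ center W ∧
      ∀ e ∈ E, e ≠ 1 → ∀ t : W, orderOf t = 2 → e t = t → t = z := by
  have hgl : ∀ e ∈ E, e ≠ 1 → ∀ t : W, orderOf t = 2 → e t = t → t ∈ fixAll E := by
    intro e he he1 t ht het f hf
    exact h.fix e he he1 (f t) t (by rw [MulEquiv.orderOf_eq]; exact ht) ht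
      (h.inv_fixSub he f hf t het) het
  obtain ⟨w, hw⟩ := h.exists_moved
  have hz : ∀ H : Subgroup W, Inv E H → H ≠ ⊥ →
      ∃ t ∈ H, orderOf t = 2 ∧ ∃ e ∈ E, e ≠ 1 ∧ e t = t := by
    intro H hH hne
    by_contra hc
    push Not at hc
    refine hne (le_bot_iff.1 (h.gen hH fun e he he1 x hx hex => ?_))
    by_contra hx1
    obtain ⟨t, ⟨htH, htf⟩, ht⟩ := exists_involution h.isTwo
      (H := H ⊓ fixSub e) (fun hb => hx1 (hb ▸ (show x ∈ H ⊓ fixSub e from ⟨hx, hex⟩)))
    exact hc t htH ht e he he1 htf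
  have hW1 : Nontrivial W := ⟨⟨w, 1, fun h1 => hw (h1 ▸ one_mem _)⟩⟩
  haveI : Fact (Nat.Prime 2) := ⟨Nat.prime_two⟩
  have hcinv : Inv E (center W) := by
    intro e _ x hx
    rw [mem_center_iff] at hx ⊢
    intro g
    obtain ⟨g', rfl⟩ := e.surjective g
    rw [← map_mul, ← map_mul, hx g']
  obtain ⟨z, hzc, hzo, e, he, he1, hez⟩ :=
    hz (center W) hcinv (ne_of_gt h.isTwo.bot_lt_center)
  have hzall := hgl e he he1 z hzo hez
  exact ⟨z, hzo, hzall, hzc, fun f hf hf1 t ht hft => h.fix f hf hf1 t z ht hzo hft (hzall f hf)⟩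

variable {z : W}

/-- The distinguished involution. -/
def IsZ (E : Subgroup (MulAut W)) (z : W) : Prop :=
  orderOf z = 2 ∧ z ∈ fixAll E ∧ z ∈ center W ∧
    ∀ e ∈ E, e ≠ 1 → ∀ t : W, orderOf t = 2 → e t = t → t = z

theorem Hyp.unique_involution (_h : Hyp p E) (hz : IsZ E z) {e : MulAut W} (he : e ∈ E)
    (he1 : e ≠ 1) {y : W} (hy : e y = y) (hy2 : y ^ 2 = 1) : y ∈ zpowers z := by
  rcases eq_or_ne y 1 with rfl | hy1
  · exact one_mem _
  · rw [hz.2.2.2 e he he1 y (orderOf_eq_prime hy2 hy1) hy]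
    exact mem_zpowers z

/-- Restriction of an element of `E` to an invariant subgroup. -/
def restr {H : Subgroup W} (hH : Inv E H) {f : MulAut W} (hf : f ∈ E) : MulAut ↥H where
  toFun x := ⟨f x, hH f hf x x.2⟩
  invFun x := ⟨f⁻¹ x, hH f⁻¹ (inv_mem hf) x x.2⟩
  left_inv x := Subtype.ext (MulAut.inv_apply_self _ f x.1)
  right_inv x := Subtype.ext (MulAut.apply_inv_self _ f x.1)
  map_mul' x y := Subtype.ext (map_mul f x.1 y.1)

theorem restr_pow {H : Subgroup W} (hH : Inv E H) {f : MulAut W} (hf : f ∈ E) (k : ℕ) (x : ↥H) :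
    (((restr hH hf) ^ k) x).1 = (f ^ k) x.1 := by
  induction k with
  | zero => simp
  | succ k ih =>
    rw [pow_succ', pow_succ', MulAut.mul_apply, MulAut.mul_apply]
    exact congrArg f ih

theorem Hyp.eight_or_fixed (h : Hyp p E) (hz : IsZ E z) {H : Subgroup W} (hH : Inv E H)
    {e : MulAut W} (he : e ∈ E) (he1 : e ≠ 1) (hHe : H ≤ fixSub e) :
    H ≤ fixAll E ∨ (Nat.card H = 8 ∧ ¬ IsMulCommutative ↥H) := by
  haveI : Fact (Nat.Prime 2) := ⟨Nat.prime_two⟩
  rcases eq_or_ne H ⊥ with rfl | hne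
  · exact Or.inl bot_le
  obtain ⟨t, htH, ht⟩ := exists_involution h.isTwo hne
  have hzH : z ∈ H := hz.2.2.2 e he he1 t ht (hHe htH) ▸ htH
  have hz2 : (⟨z, hzH⟩ : ↥H) ^ 2 = 1 := Subtype.ext (by
    show z ^ 2 = 1
    rw [← hz.1, pow_orderOf_eq_one])
  have huniq : ∀ y : ↥H, y ^ 2 = 1 → y ∈ zpowers (⟨z, hzH⟩ : ↥H) := by
    intro y hy
    obtain ⟨n, hn⟩ := mem_zpowers_iff.1
      (h.unique_involution hz he he1 (hHe y.2) (congrArg Subtype.val hy))
    exact mem_zpowers_iff.2 ⟨n, Subtype.ext hn⟩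
  have hfix : ∀ σ : MulAut ↥H, (∀ (k : ℕ), σ ^ p ^ k = 1 → σ = 1) →
      ∀ f (hf : f ∈ E), σ = restr hH hf → ∀ x ∈ H, f x = x := by
    intro σ hσ f hf hσf x hx
    obtain ⟨k, hk⟩ := h.pow_eq_one hf
    have h1 : σ = 1 := hσ k (MulEquiv.ext fun y => Subtype.ext (by
      rw [hσf, restr_pow, hk]; rfl))
    rw [hσf] at h1
    exact congrArg Subtype.val (DFunLike.congr_fun h1 (⟨x, hx⟩ : ↥H))
  rcases CfsgLib.PGroups.isCyclic_or_quaternion_of_unique (h.isTwo.to_subgroup H) hz2 huniq with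
    hc | ⟨-, n, hn, ⟨eQ⟩⟩
  · exact Or.inl fun x hx f hf =>
      hfix _ (fun _ => cyclic_fixed (h.isTwo.to_subgroup H) h.odd) f hf rfl x hx
  · rcases eq_or_lt_of_le hn with rfl | hn2
    · haveI : NeZero (2 ^ 1 : ℕ) := ⟨by norm_num⟩
      refine Or.inr ⟨by rw [Nat.card_congr eQ.toEquiv, Nat.card_eq_fintype_card,
        QuaternionGroup.card]; rfl, fun hc => ?_⟩
      have := hc.is_comm.comm (eQ.symm (QuaternionGroup.a 1)) (eQ.symm (QuaternionGroup.xa 0))
      rw [← map_mul, ← map_mul] at this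
      exact absurd (eQ.symm.injective this) (by decide)
    · refine Or.inl fun x hx f hf => hfix _ (fun k hk => ?_) f hf rfl x hx
      have h1 := quaternion_fixed (n := n) hn2 h.odd k (MulAut.congr eQ (restr hH hf))
        (by rw [← map_pow, hk, map_one])
      exact (MulAut.congr eQ).injective (h1.trans (map_one _).symm)

theorem Hyp.fixed_two (h : Hyp p E) (hz : IsZ E z) {H : Subgroup W} (hH : Inv E H)
    {e : MulAut W} (he : e ∈ E) (he1 : e ≠ 1) (hHe : H ≤ fixSub e) (hne : ¬ H ≤ fixAll E) :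
    ∀ y ∈ H ⊓ fixAll E, y ∈ zpowers z := by
  haveI : Fact (Nat.Prime 2) := ⟨Nat.prime_two⟩
  obtain ⟨x, hx, hxn⟩ := Set.not_subset.1 hne
  obtain ⟨f, hf, hfx⟩ : ∃ f ∈ E, f x ≠ x := by
    by_contra hc
    push Not at hc
    exact hxn hc
  rcases h.eight_or_fixed hz hH he he1 hHe with hc | ⟨h8, -⟩
  · exact absurd hc hne
  set K := H ⊓ fixAll E with hK
  intro y hy
  have hdiv : Nat.card K ∣ 2 ^ 3 := by
    have := Subgroup.card_dvd_of_le (inf_le_left : K ≤ H)
    rwa [h8] at this
  obtain ⟨a, ha, hcard⟩ := (Nat.dvd_prime_pow Nat.prime_two).1 hdiv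
  have hKH : K.relIndex H * Nat.card K = 8 := by
    rw [mul_comm, ← h8, ← Subgroup.relIndex_bot_left K, ← Subgroup.relIndex_bot_left H,
      Subgroup.relIndex_mul_relIndex _ _ _ bot_le inf_le_left]
  have ha2 : a ≤ 1 := by
    by_contra hcon
    push Not at hcon
    interval_cases a
    · -- index two
      have h2 : K.relIndex H = 2 := by rw [hcard] at hKH; omega
      have hnx : x ∉ K := fun hk => hxn hk.2
      have hnfx : f x ∉ K := fun hk => by
        apply hfx
        have := hk.2 f hf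
        exact f.injective this
      have hm : x⁻¹ * f x ∈ K := by
        have hiff := (Subgroup.relIndex_eq_two_iff_exists_notMem_and.1 h2)
        obtain ⟨g, hgH, hgK, hg⟩ := hiff
        have h1 : x * g ∈ K := (hg x hx).resolve_right hnx
        have h2' : f x * g ∈ K := (hg (f x) (hH f hf x hx)).resolve_right hnfx
        have h3 : g⁻¹ * x⁻¹ * (f x * g) ∈ K := by
          have := K.mul_mem (K.inv_mem h1) h2'
          rwa [mul_inv_rev] at this
        have h4 : g * g ∈ K := (hg g hgH).resolve_right hgK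
        by_contra h5
        have h6 := (hg (x⁻¹ * f x) (H.mul_mem (H.inv_mem hx) (hH f hf x hx))).resolve_right h5
        apply hgK
        have h7 : g⁻¹ * x⁻¹ * (f x * g) * (x⁻¹ * f x * g)⁻¹ ∈ K := K.mul_mem h3 (K.inv_mem h6)
        rw [show g⁻¹ * x⁻¹ * (f x * g) * (x⁻¹ * f x * g)⁻¹ = g⁻¹ by group] at h7
        exact (Subgroup.inv_mem_iff K).1 h7
      set m := x⁻¹ * f x with hmdef
      have hfm : f m = m := hm.2 f hf
      have hxm : f x = x * m := by rw [hmdef]; group
      have hit : ∀ k : ℕ, (f ^ k) x = x * m ^ k := by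
        intro k
        induction k with
        | zero => simp
        | succ k ih => rw [pow_succ', MulAut.mul_apply, ih, map_mul, map_pow, hfm, hxm, mul_assoc,
            pow_succ']
      obtain ⟨k, hk⟩ := h.pow_eq_one hf
      have hmk : m ^ p ^ k = 1 := by
        have := hit (p ^ k)
        rw [hk, MulAut.one_apply] at this
        exact mul_left_cancel (this.symm.trans (mul_one x).symm)
      obtain ⟨b, hb⟩ := h.isTwo m
      have : m = 1 := orderOf_eq_one_iff.1 (Nat.eq_one_of_dvd_coprimes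
        (Nat.Coprime.pow _ _ ((Nat.coprime_primes Fact.out Nat.prime_two).2 h.odd))
        (orderOf_dvd_of_pow_eq_one hmk) (orderOf_dvd_of_pow_eq_one hb))
      exact hfx (by rw [hxm, this, mul_one])
    · exact hne fun v hv => by
        have : K = H := Subgroup.eq_of_le_of_card_ge inf_le_left (by rw [hcard, h8]; norm_num)
        rw [← this] at hv
        exact hv.2
  refine h.unique_involution hz he he1 (hHe hy.1) ?_
  have h1 : (⟨y, hy⟩ : ↥K) ^ Nat.card K = 1 := pow_card_eq_one'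
  have h2 : y ^ Nat.card K = 1 := congrArg Subtype.val h1
  rw [hcard] at h2
  interval_cases a
  · rw [pow_zero, pow_one] at h2
    rw [h2, one_pow]
  · exact h2

theorem card_zpowers_z (hz : IsZ E z) : Nat.card (zpowers z) = 2 := by
  rw [Nat.card_zpowers, hz.1]

theorem zpowers_le_fixAll (hz : IsZ E z) : zpowers z ≤ fixAll E := zpowers_le.2 hz.2.1

theorem zpowers_le_center (hz : IsZ E z) : zpowers z ≤ center W := zpowers_le.2 hz.2.2.1

theorem Hyp.fixAll_eq (h : Hyp p E) (hz : IsZ E z) : fixAll E = zpowers z := by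
  refine le_antisymm ?_ (zpowers_le_fixAll hz)
  obtain ⟨w, hw⟩ := h.exists_moved
  obtain ⟨e, he, he1, hne⟩ : ∃ e ∈ E, e ≠ 1 ∧ ¬ fixSub e ≤ fixAll E := by
    by_contra hc
    push Not at hc
    exact hw (h.gen inv_top (fun e he he1 x _ hx => hc e he he1 hx) (mem_top w))
  exact fun y hy => h.fixed_two hz (h.inv_fixSub he) he he1 le_rfl hne y ⟨hy e he, hy⟩

theorem Hyp.inv_zpowers (_h : Hyp p E) (hz : IsZ E z) : Inv E (zpowers z) := fun f hf x hx => by
  rw [zpowers_le_fixAll hz hx f hf]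
  exact hx

theorem inv_inf {H K : Subgroup W} (hH : Inv E H) (hK : Inv E K) : Inv E (H ⊓ K) :=
  fun f hf x hx => ⟨hH f hf x hx.1, hK f hf x hx.2⟩

theorem Hyp.abelian_le (h : Hyp p E) (hz : IsZ E z) {H : Subgroup W} (hH : Inv E H)
    (hab : ∀ a ∈ H, ∀ b ∈ H, a * b = b * a) : H ≤ zpowers z := by
  rw [← h.fixAll_eq hz]
  refine h.gen hH fun e he he1 x hx hex => ?_
  rcases h.eight_or_fixed hz (inv_inf hH (h.inv_fixSub he)) he he1 inf_le_right with hc | ⟨-, hc⟩
  · exact hc ⟨hx, hex⟩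
  · exact absurd ⟨⟨fun a b => Subtype.ext (hab a a.2.1 b b.2.1)⟩⟩ hc

theorem Hyp.center_eq (h : Hyp p E) (hz : IsZ E z) : center W = zpowers z := by
  refine le_antisymm (h.abelian_le hz ?_ fun a _ b hb => (mem_center_iff.1 hb a)) (zpowers_le_center hz)
  intro e _ x hx
  rw [mem_center_iff] at hx ⊢
  intro g
  obtain ⟨g', rfl⟩ := e.surjective g
  rw [← map_mul, ← map_mul, hx g']

/-- The elements whose commutators with everything lie in `⟨z⟩`. -/
theorem Hyp.commutator_le (h : Hyp p E) (hz : IsZ E z) : commutator W ≤ zpowers z := by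
  haveI : Fact (Nat.Prime 2) := ⟨Nat.prime_two⟩
  haveI hn : (zpowers z).Normal := by rw [← h.center_eq hz]; infer_instance
  set Zs := zpowers z with hZs
  set π := QuotientGroup.mk' Zs with hπ
  set Z2 := (center (W ⧸ Zs)).comap π with hZ2
  have hmem : ∀ x, x ∈ Z2 ↔ ∀ y, ⁅x, y⁆ ∈ Zs := by
    intro x
    rw [hZ2, mem_comap, mem_center_iff]
    constructor
    · intro hx y
      rw [← QuotientGroup.eq_one_iff, ← QuotientGroup.mk'_apply, map_commutatorElement]
      exact commutatorElement_eq_one_iff_mul_comm.2 (hx (π y)).symm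
    · intro hx g
      obtain ⟨y, rfl⟩ := QuotientGroup.mk'_surjective Zs g
      have := hx y
      rw [← QuotientGroup.eq_one_iff, ← QuotientGroup.mk'_apply, map_commutatorElement,
        commutatorElement_eq_one_iff_mul_comm] at this
      exact this.symm
  have hcent : ∀ x ∈ Z2, ∀ u ∈ commutator W, x * u = u * x := by
    intro x hx u hu
    let φ : W →* center W :=
      MonoidHom.mk' (fun y => ⟨⁅x, y⁆, zpowers_le_center hz ((hmem x).1 hx y)⟩) fun a b =>
        Subtype.ext (by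
          have hc := mem_center_iff.1 (zpowers_le_center hz ((hmem x).1 hx b)) a
          show ⁅x, a * b⁆ = ⁅x, a⁆ * ⁅x, b⁆
          calc ⁅x, a * b⁆ = ⁅x, a⁆ * (a * ⁅x, b⁆ * a⁻¹) := by
                simp only [commutatorElement_def]; group
            _ = ⁅x, a⁆ * ⁅x, b⁆ := by rw [hc, mul_inv_cancel_right])
    have hu' : φ u = 1 := by
      rw [← MonoidHom.mem_ker]
      refine Subgroup.commutator_le.2 (fun a _ b _ => ?_) hu
      rw [MonoidHom.mem_ker, map_commutatorElement, commutatorElement_eq_one_iff_mul_comm]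
      exact Subtype.ext (mem_center_iff.1 (φ b).2 (φ a).1)
    exact commutatorElement_eq_one_iff_mul_comm.1 (congrArg Subtype.val hu')
  have hcomm_inv : Inv E (commutator W) := by
    intro e _ x hx
    have : (commutator W).map e.toMonoidHom = commutator W :=
      Subgroup.characteristic_iff_map_eq.1 inferInstance e
    rw [← this]
    exact mem_map_of_mem _ hx
  have hZ2inv : Inv E Z2 := by
    intro e he x hx
    rw [hmem] at hx ⊢
    intro y
    obtain ⟨y', rfl⟩ := e.surjective y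
    rw [← map_commutatorElement]
    exact h.inv_zpowers hz e he _ (hx y')
  have hU : commutator W ⊓ Z2 ≤ Zs :=
    h.abelian_le hz (inv_inf hcomm_inv hZ2inv) fun a ha b hb => hcent a ha.2 b hb.1
  by_contra hle
  haveI : ((commutator W).map π).Normal :=
    Subgroup.Normal.map inferInstance π (QuotientGroup.mk'_surjective Zs)
  have hne : (commutator W).map π ≠ ⊥ := by
    rw [Ne, Subgroup.map_eq_bot_iff, hπ, QuotientGroup.ker_mk']
    exact hle
  refine CfsgLib.PGroups.inf_center_ne_bot (h.isTwo.to_quotient Zs) hne ?_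
  rw [eq_bot_iff]
  rintro _ ⟨⟨u, hu, rfl⟩, hc⟩
  exact (QuotientGroup.eq_one_iff u).2 (hU ⟨hu, hc⟩)

theorem Hyp.sq_mem (h : Hyp p E) (hz : IsZ E z) (x : W) : x * x ∈ zpowers z := by
  haveI hn : (zpowers z).Normal := by rw [← h.center_eq hz]; infer_instance
  let S : Subgroup W :=
    { carrier := {x | x * x ∈ zpowers z}
      one_mem' := by simp
      mul_mem' := by
        intro a b ha hb
        show a * b * (a * b) ∈ zpowers z
        have hc : a⁻¹ * b * a * b⁻¹ ∈ zpowers z := by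
          have := h.commutator_le hz
            (Subgroup.commutator_mem_commutator (mem_top a⁻¹) (mem_top b))
          simpa [commutatorElement_def] using this
        rw [show a * b * (a * b) = a * a * (a⁻¹ * b * a * b⁻¹) * (b * b) by group]
        exact mul_mem (mul_mem ha hc) hb
      inv_mem' := by
        intro a ha
        show a⁻¹ * a⁻¹ ∈ zpowers z
        rw [← mul_inv_rev]
        exact inv_mem ha }
  refine (h.gen inv_top (R := S) fun e he he1 y _ hy => ?_) (mem_top x)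
  show y * y ∈ zpowers z
  rcases h.eight_or_fixed hz (h.inv_fixSub he) he he1 le_rfl with hc | ⟨h8, hna⟩
  · have := hc hy
    rw [h.fixAll_eq hz] at this
    exact mul_mem this this
  · have h2 : y ^ 8 = 1 := by
      have := congrArg Subtype.val (pow_card_eq_one' (x := (⟨y, hy⟩ : ↥(fixSub e))))
      rw [h8] at this
      exact this
    have h4 : y ^ 4 = 1 := by
      by_contra h4
      haveI : Fact (Nat.Prime 2) := ⟨Nat.prime_two⟩
      have ho : orderOf (⟨y, hy⟩ : ↥(fixSub e)) = 2 ^ (2 + 1) :=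
        orderOf_eq_prime_pow (fun hh => h4 (congrArg Subtype.val hh)) (Subtype.ext h2)
      haveI : IsCyclic ↥(fixSub e) :=
        isCyclic_of_orderOf_eq_card (⟨y, hy⟩ : ↥(fixSub e)) (by rw [ho, h8]; norm_num)
      exact hna ⟨⟨fun a b => IsMulCommutative.is_comm.comm a b⟩⟩
    refine h.unique_involution hz he he1 (by rw [map_mul, show e y = y from hy]) ?_
    rw [← pow_two, ← pow_mul]
    exact h4

/-- The nonabelian fixed-point subgroups. -/
def comps (E : Subgroup (MulAut W)) : Set (Subgroup W) :=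
  {H | ∃ e ∈ E, e ≠ 1 ∧ H = fixSub e ∧ ¬ H ≤ fixAll E}

theorem Hyp.comps_card (h : Hyp p E) (hz : IsZ E z) {C : Subgroup W} (hC : C ∈ comps E) :
    Nat.card C = 8 := by
  obtain ⟨e, he, he1, rfl, hne⟩ := hC
  exact ((h.eight_or_fixed hz (h.inv_fixSub he) he he1 le_rfl).resolve_left hne).1

theorem Hyp.comps_inv (h : Hyp p E) {C : Subgroup W} (hC : C ∈ comps E) : Inv E C := by
  obtain ⟨e, he, -, rfl, -⟩ := hC
  exact h.inv_fixSub he

theorem Hyp.z_mem_comps (_h : Hyp p E) (hz : IsZ E z) {C : Subgroup W} (hC : C ∈ comps E) :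
    zpowers z ≤ C := by
  obtain ⟨e, he, -, rfl, -⟩ := hC
  exact fun x hx => zpowers_le_fixAll hz hx e he

theorem Hyp.eq_fixSub (h : Hyp p E) (hz : IsZ E z) {C : Subgroup W} (hC : C ∈ comps E) {f : MulAut W}
    (hf : f ∈ E) (hf1 : f ≠ 1) (hCf : C ≤ fixSub f) : fixSub f = C := by
  rcases h.eight_or_fixed hz (h.inv_fixSub hf) hf hf1 le_rfl with hc | ⟨h8, -⟩
  · obtain ⟨e, -, -, rfl, hne⟩ := hC
    exact absurd (hCf.trans hc) hne
  · exact (Subgroup.eq_of_le_of_card_ge hCf (by rw [h8, h.comps_card hz hC])).symm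

theorem Hyp.inv_sub_eq (h : Hyp p E) (hz : IsZ E z) {C H : Subgroup W} (hC : C ∈ comps E)
    (hH : Inv E H) (hHC : H ≤ C) : H ≤ zpowers z ∨ H = C := by
  obtain ⟨e, he, he1, rfl, hne⟩ := hC
  rcases h.eight_or_fixed hz hH he he1 hHC with hc | ⟨h8, -⟩
  · exact Or.inl (h.fixAll_eq hz ▸ hc)
  · exact Or.inr (Subgroup.eq_of_le_of_card_ge hHC
      (by rw [h8, h.comps_card hz ⟨e, he, he1, rfl, hne⟩]))

theorem Hyp.eq_one_of_shift (h : Hyp p E) {f : MulAut W} (hf : f ∈ E) {x m : W} (hxm : f x = x * m)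
    (hfm : f m = m) : m = 1 := by
  have hit : ∀ k : ℕ, (f ^ k) x = x * m ^ k := by
    intro k
    induction k with
    | zero => simp
    | succ k ih => rw [pow_succ', MulAut.mul_apply, ih, map_mul, map_pow, hfm, hxm, mul_assoc,
        pow_succ']
  obtain ⟨k, hk⟩ := h.pow_eq_one hf
  have hmk : m ^ p ^ k = 1 := by
    have := hit (p ^ k)
    rw [hk, MulAut.one_apply] at this
    exact mul_left_cancel (this.symm.trans (mul_one x).symm)
  obtain ⟨b, hb⟩ := h.isTwo m
  exact orderOf_eq_one_iff.1 (Nat.eq_one_of_dvd_coprimes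
    (Nat.Coprime.pow _ _ ((Nat.coprime_primes Fact.out Nat.prime_two).2 h.odd))
    (orderOf_dvd_of_pow_eq_one hmk) (orderOf_dvd_of_pow_eq_one hb))

theorem Hyp.span (h : Hyp p E) (hz : IsZ E z) (S : Finset (Subgroup W))
    (hS : ∀ C ∈ S, C ∈ comps E) :
    Inv E (zpowers z ⊔ S.sup id) ∧ Nat.card ↥(zpowers z ⊔ S.sup id) = 2 * 4 ^ S.card ∧
      ∀ C ∈ comps E, C ∉ S → C ⊓ (zpowers z ⊔ S.sup id) ≤ zpowers z := by
  classical
  induction S using Finset.induction with
  | empty =>
    rw [Finset.sup_empty, sup_bot_eq]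
    exact ⟨h.inv_zpowers hz, by rw [card_zpowers_z hz, Finset.card_empty]; rfl,
      fun C _ _ => inf_le_right⟩
  | insert D S hD ih =>
    obtain ⟨hinv, hcard, hinf⟩ := ih fun C hC => hS C (Finset.mem_insert_of_mem hC)
    have hDc : D ∈ comps E := hS D (Finset.mem_insert_self D S)
    set P := zpowers z ⊔ S.sup id with hPdef
    have hnew : zpowers z ⊔ (insert D S).sup id = D ⊔ P := by
      rw [Finset.sup_insert, id, hPdef, ← sup_assoc, ← sup_assoc, sup_comm (zpowers z) D]
    haveI : P.Normal := Subgroup.Normal.of_commutator_le W ((h.commutator_le hz).trans le_sup_left)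
    have hzP : zpowers z ≤ P := le_sup_left
    have hmem : ∀ x, x ∈ D ⊔ P → ∃ d ∈ D, ∃ w ∈ P, d * w = x :=
      fun x hx => Subgroup.mem_sup_of_normal_right.1 hx
    rw [hnew]
    refine ⟨?_, ?_, ?_⟩
    · intro f hf x hx
      obtain ⟨d, hd, w, hw, rfl⟩ := hmem x hx
      rw [map_mul]
      exact Subgroup.mul_mem_sup (h.comps_inv hDc f hf d hd) (hinv f hf w hw)
    · have hDP : D ⊓ P = zpowers z :=
        le_antisymm (hinf D hDc hD) (le_inf (h.z_mem_comps hz hDc) hzP)
      have := CfsgLib.Base.card_sup_mul_card_inf D P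
      rw [hDP, card_zpowers_z hz, h.comps_card hz hDc, hcard] at this
      rw [Finset.card_insert_of_notMem hD, pow_succ]
      omega
    · intro C hC hCn x hx
      rw [Finset.mem_insert, not_or] at hCn
      obtain ⟨d, hd, w, hw, hdw⟩ := hmem x hx.2
      obtain ⟨e, he, he1, hDe, hDne⟩ := hDc
      have hed : e d = d := (hDe ▸ hd : d ∈ fixSub e)
      have hm : x⁻¹ * e x = w⁻¹ * e w := by
        rw [← hdw, map_mul, hed, mul_inv_rev]; group
      have hmz : x⁻¹ * e x ∈ zpowers z := by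
        refine hinf C hC hCn.2 ⟨C.mul_mem (C.inv_mem hx.1) (h.comps_inv hC e he x hx.1), ?_⟩
        rw [hm]
        exact P.mul_mem (P.inv_mem hw) (hinv e he w hw)
      have hfx : e x = x := by
        have := h.eq_one_of_shift he (x := x) (m := x⁻¹ * e x) (by group)
          (zpowers_le_fixAll hz hmz e he)
        rw [inv_mul_eq_one] at this
        exact this.symm
      have hxD : x ∈ C ⊓ D := ⟨hx.1, hDe ▸ (hfx : x ∈ fixSub e)⟩
      rcases h.inv_sub_eq hz hC (inv_inf (h.comps_inv hC) (h.comps_inv ⟨e, he, he1, hDe, hDne⟩))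
        inf_le_left with hc | hc
      · exact hc hxD
      · exfalso
        apply hCn.1
        exact Subgroup.eq_of_le_of_card_ge (inf_eq_left.1 hc)
          (by rw [h.comps_card hz hC, h.comps_card hz ⟨e, he, he1, hDe, hDne⟩])

/-- The pointwise stabiliser of `C` in `E`. -/
def fixer (E : Subgroup (MulAut W)) (C : Subgroup W) : Subgroup ↥E where
  carrier := {f | ∀ x ∈ C, f.1 x = x}
  one_mem' _ _ := rfl
  mul_mem' ha hb x hx := by
    show (_ : MulAut W) (_ : W) = x
    rw [Subgroup.coe_mul, MulAut.mul_apply, hb x hx, ha x hx]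
  inv_mem' {a} ha x hx := by
    show (a⁻¹ : ↥E).1 x = x
    rw [Subgroup.coe_inv]
    conv_lhs => rw [← ha x hx]
    exact MulAut.inv_apply_self _ a.1 x

theorem Hyp.fixer_index (h : Hyp p E) (hz : IsZ E z) {C : Subgroup W} (hC : C ∈ comps E) :
    p = 3 ∧ (fixer E C).index = 3 := by
  have hinv := h.comps_inv hC
  obtain ⟨x, hxC, hxn⟩ : ∃ x ∈ C, x ∉ fixAll E := by
    obtain ⟨e, -, -, -, hne⟩ := hC
    exact Set.not_subset.1 hne
  set O : Set W := MulAction.orbit ↥E x with hO
  have hOC : O ⊆ (C : Set W) \ (zpowers z : Set W) := by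
    rintro _ ⟨f, rfl⟩
    refine ⟨hinv f.1 f.2 x hxC, fun hc => hxn ?_⟩
    rw [← h.fixAll_eq hz] at hc
    intro g hg
    have := hc g hg
    change g (f.1 x) = f.1 x at this
    rw [h.comm_apply hg f.2] at this
    exact f.1.injective this
  have hstab : MulAction.stabilizer ↥E x = fixer E C := by
    refine le_antisymm (fun f hf => ?_) fun f hf => hf x hxC
    let M : Subgroup W := C ⊓ fixSub f.1
    have hM : Inv E M := inv_inf hinv (h.inv_fixSub f.2)
    rcases h.inv_sub_eq hz hC hM inf_le_left with hc | hc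
    · exact absurd (h.fixAll_eq hz ▸ hc ⟨hxC, hf⟩) hxn
    · exact fun y hy => (inf_eq_left.1 hc) hy
  have hidx : (fixer E C).index = O.ncard := by
    rw [← hstab, MulAction.index_stabilizer]
  have hsix : ((C : Set W) \ (zpowers z : Set W)).ncard = 6 := by
    rw [Set.ncard_diff (h.z_mem_comps hz hC), ← Nat.card_coe_set_eq, ← Nat.card_coe_set_eq]
    show Nat.card C - Nat.card (zpowers z) = 6
    rw [h.comps_card hz hC, card_zpowers_z hz]
  have hle : O.ncard ≤ 6 := hsix ▸ Set.ncard_le_ncard hOC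
  obtain ⟨a, ha⟩ := h.isP.index (fixer E C)
  have ha0 : a ≠ 0 := by
    rintro rfl
    rw [pow_zero, Subgroup.index_eq_one] at ha
    refine hxn fun g hg => ?_
    have : (⟨g, hg⟩ : ↥E) ∈ fixer E C := ha ▸ mem_top _
    exact this x hxC
  have hp3 : 3 ≤ p := by
    have h2 := (Fact.out : p.Prime).two_le
    have := h.odd
    omega
  have ha1 : a = 1 := by
    by_contra hne
    have h9 : 3 ^ 2 ≤ p ^ a :=
      (Nat.pow_le_pow_left hp3 2).trans (Nat.pow_le_pow_right (by omega) (by omega))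
    omega
  rw [ha1, pow_one] at ha
  have hp6 : p = 3 ∨ p = 5 := by
    have hp' := (Fact.out : p.Prime)
    have h6 : p ≤ 6 := by omega
    interval_cases p <;> first | omega | (exfalso; norm_num at hp')
  rcases hp6 with h3 | h5
  · exact ⟨h3, by omega⟩
  exfalso
  have hdiff : (((C : Set W) \ (zpowers z : Set W)) \ O).ncard = 1 := by
    rw [Set.ncard_diff hOC, hsix]
    omega
  obtain ⟨w, hw⟩ := Set.ncard_eq_one.1 hdiff
  have hwm : w ∈ ((C : Set W) \ (zpowers z : Set W)) \ O := hw ▸ Set.mem_singleton w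
  refine hwm.1.2 (h.fixAll_eq hz ▸ ?_)
  intro g hg
  have hgw : g w ∈ ({w} : Set W) := by
    rw [← hw]
    refine ⟨⟨hinv g hg w hwm.1.1, fun hc => hwm.1.2 ?_⟩, fun hc => hwm.2 ?_⟩
    · have := h.inv_zpowers hz g⁻¹ (inv_mem hg) _ hc
      rwa [MulAut.inv_apply_self] at this
    · have := MulAction.mem_orbit_of_mem_orbit (⟨g, hg⟩⁻¹ : ↥E) hc
      rwa [show (⟨g, hg⟩⁻¹ : ↥E) • g w = w from MulAut.inv_apply_self _ g w] at this
  exact hgw

theorem Hyp.main (h : Hyp p E) :
    Nat.card ↥E = 9 ∧ Cfsg.IsExtraspecial 2 W ∧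
      (Nat.card W = 2 ^ 5 ∨ Nat.card W = 2 ^ 7 ∨ Nat.card W = 2 ^ 9) ∧
      {x : W | ∀ e ∈ E, e x = x} = (center W : Set W) := by
  classical
  haveI : Fact (Nat.Prime 2) := ⟨Nat.prime_two⟩
  haveI := h.comm
  obtain ⟨z, hz⟩ := h.exists_z
  have hfixeq : fixAll E = center W := (h.fixAll_eq hz).trans (h.center_eq hz).symm
  let S : Finset (Subgroup W) := (Set.toFinite (comps E)).toFinset
  have hS : ∀ C, C ∈ S ↔ C ∈ comps E := fun C => Set.Finite.mem_toFinset _
  obtain ⟨-, hcard, -⟩ := h.span hz S fun C hC => (hS C).1 hC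
  have htop : zpowers z ⊔ S.sup id = ⊤ := by
    rw [eq_top_iff]
    refine h.gen inv_top fun e he he1 x _ hx => ?_
    by_cases hc : fixSub e ≤ fixAll E
    · exact le_sup_left (a := zpowers z) (h.fixAll_eq hz ▸ hc hx)
    · exact (Finset.le_sup (f := id) ((hS _).2 ⟨e, he, he1, rfl, hc⟩)).trans le_sup_right hx
  rw [htop, Subgroup.card_top] at hcard
  obtain ⟨w, hw⟩ := h.exists_moved
  have hS1 : 1 ≤ S.card := by
    rw [Nat.one_le_iff_ne_zero, Finset.card_ne_zero]
    by_contra hne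
    rw [Finset.not_nonempty_iff_eq_empty] at hne
    rw [hne, Finset.sup_empty, sup_bot_eq] at htop
    exact hw (zpowers_le_fixAll hz (htop ▸ mem_top w))
  have hfe : ∀ C ∈ S, ∀ f ∈ fixer E C, f ≠ 1 → fixSub f.1 = C := fun C hC f hf hf1 =>
    h.eq_fixSub hz ((hS C).1 hC) f.2 (fun hh => hf1 (Subtype.ext hh)) fun x hx => hf x hx
  have hdisj : ∀ C ∈ S, ∀ D ∈ S, C ≠ D → fixer E C ⊓ fixer E D = ⊥ := by
    intro C hC D hD hne
    rw [Subgroup.eq_bot_iff_forall]
    intro f hf
    by_contra hf1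
    exact hne ((hfe C hC f hf.1 hf1).symm.trans (hfe D hD f hf.2 hf1))
  have hp3 : p = 3 := by
    obtain ⟨C, hC⟩ := Finset.card_pos.1 hS1
    exact (h.fixer_index hz ((hS C).1 hC)).1
  obtain ⟨a, ha⟩ := IsPGroup.iff_card.1 h.isP
  rw [hp3] at ha
  have ha2 : 2 ≤ a := by
    by_contra hc
    interval_cases a
    · exact h.noncyclic
        (@isCyclic_of_subsingleton _ _ (Nat.card_eq_one_iff_unique.1 (by rw [ha]; norm_num)).1)
    · haveI : Fact (Nat.Prime 3) := ⟨Nat.prime_three⟩
      exact h.noncyclic (isCyclic_of_prime_card (p := 3) (by rw [ha]; norm_num))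
  have h9 : 9 ≤ Nat.card ↥E :=
    ha ▸ (Nat.pow_le_pow_right (n := 3) (by norm_num) ha2)
  have hS2 : 2 ≤ S.card := by
    by_contra hc
    obtain ⟨C, hC⟩ := Finset.card_eq_one.1 (show S.card = 1 by omega)
    have hCS : C ∈ S := hC ▸ Finset.mem_singleton_self C
    have hidx := (h.fixer_index hz ((hS C).1 hCS)).2
    have hCtop : C = ⊤ := by
      rw [hC, Finset.sup_singleton, id] at htop
      rwa [sup_eq_right.2 (h.z_mem_comps hz ((hS C).1 hCS))] at htop
    have hbot : fixer E C = ⊥ := by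
      rw [Subgroup.eq_bot_iff_forall]
      intro f hf
      exact Subtype.ext (MulEquiv.ext fun x => hf x (hCtop ▸ mem_top x))
    rw [hbot, Subgroup.index_bot] at hidx
    omega
  have hE9 : Nat.card ↥E = 9 := by
    obtain ⟨C, hC, D, hD, hne⟩ := Finset.one_lt_card.1 hS2
    have := Subgroup.index_inf_le (H := fixer E C) (K := fixer E D)
    rw [hdisj C hC D hD hne, Subgroup.index_bot, (h.fixer_index hz ((hS C).1 hC)).2,
      (h.fixer_index hz ((hS D).1 hD)).2] at this
    omega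
  haveI : Fintype ↥E := Fintype.ofFinite _
  let F : Subgroup W → Finset ↥E := fun C => Finset.univ.filter fun f => f ∈ fixer E C ∧ f ≠ 1
  have hF : ∀ C ∈ S, (F C).card = 2 := by
    intro C hC
    have hc : Nat.card ↥(fixer E C) = 3 := by
      have := Subgroup.card_mul_index (fixer E C)
      rw [(h.fixer_index hz ((hS C).1 hC)).2, hE9] at this
      omega
    have : (Finset.univ.filter fun f => f ∈ fixer E C).card = 3 := by
      rw [← hc, Nat.card_eq_fintype_card, Fintype.card_subtype]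
    have heq : F C = (Finset.univ.filter fun f => f ∈ fixer E C).erase 1 := by
      ext f
      simp [F, and_comm]
    rw [heq, Finset.card_erase_of_mem (by simp [one_mem]), this]
  have hk : S.card ≤ 4 := by
    have hd : (S : Set (Subgroup W)).PairwiseDisjoint F := by
      intro C hC D hD hne
      rw [Function.onFun, Finset.disjoint_left]
      intro f hf hf'
      simp only [F, Finset.mem_filter] at hf hf'
      have : f ∈ fixer E C ⊓ fixer E D := ⟨hf.2.1, hf'.2.1⟩
      rw [hdisj C hC D hD hne] at this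
      exact hf.2.2 (Subgroup.mem_bot.1 this)
    have h1 : (S.biUnion F).card = 2 * S.card := by
      rw [Finset.card_biUnion hd, Finset.sum_congr rfl hF, Finset.sum_const, smul_eq_mul, mul_comm]
    have h2 : S.biUnion F ⊆ Finset.univ.erase 1 := by
      intro f hf
      rw [Finset.mem_biUnion] at hf
      obtain ⟨C, -, hf⟩ := hf
      simp only [F, Finset.mem_filter] at hf
      exact Finset.mem_erase.2 ⟨hf.2.2, Finset.mem_univ _⟩
    have h3 := Finset.card_le_card h2
    rw [h1, Finset.card_erase_of_mem (Finset.mem_univ _), Finset.card_univ,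
      ← Nat.card_eq_fintype_card, hE9] at h3
    omega
  have hcz : commutator W = center W := by
    rw [h.center_eq hz]
    refine le_antisymm (h.commutator_le hz) ?_
    rw [zpowers_le]
    by_contra hne
    have hbot : commutator W = ⊥ := by
      refine (Subgroup.eq_bot_iff_forall _).2 fun u hu => ?_
      obtain ⟨n, rfl⟩ := mem_zpowers_iff.1 (h.commutator_le hz hu)
      rcases Int.even_or_odd n with ⟨k, rfl⟩ | ⟨k, rfl⟩
      · rw [← two_mul, zpow_mul, show z ^ (2 : ℤ) = 1 by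
          rw [show (2 : ℤ) = ((2 : ℕ) : ℤ) from rfl, zpow_natCast, ← hz.1, pow_orderOf_eq_one],
          one_zpow]
      · exfalso
        apply hne
        rw [zpow_add, zpow_one, zpow_mul, show z ^ (2 : ℤ) = 1 by
          rw [show (2 : ℤ) = ((2 : ℕ) : ℤ) from rfl, zpow_natCast, ← hz.1, pow_orderOf_eq_one],
          one_zpow, one_mul] at hu
        exact hu
    have hall : (⊤ : Subgroup W) ≤ zpowers z := h.abelian_le hz inv_top fun a _ b _ =>
      commutatorElement_eq_one_iff_mul_comm.1 (Subgroup.mem_bot.1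
        (hbot ▸ Subgroup.commutator_mem_commutator (mem_top a) (mem_top b)))
    exact hw (zpowers_le_fixAll hz (hall (mem_top w)))
  refine ⟨hE9, ⟨⟨h.isTwo, ?_, hcz⟩, ?_⟩, ?_, by rw [← hfixeq]; rfl⟩
  · refine le_antisymm ?_ (hcz ▸ CfsgLib.PGroups.commutator_le_frattini h.isTwo)
    refine CfsgLib.PGroups.frattini_le_of_elementary_quotient (p := 2) hcz.le fun g => ?_
    rw [h.center_eq hz, pow_two]
    exact h.sq_mem hz g
  · rw [h.center_eq hz, card_zpowers_z hz]
  · interval_cases hh : S.card <;> norm_num at hcard <;> norm_num [hcard]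

end CfsgLib.LocalEven.SmallFixed
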