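import Mathlib
import Cfsg.Agent.Lib.PGroups.MetacyclicTwoAut
import Cfsg.Agent.Lib.Involutions.SolvableQuaternion
import Cfsg.Agent.Lib.Transfer.QuaternionComplement
import Cfsg.Agent.Lib.LocalEven.CharP

/-!
# Solvable groups with dihedral or semidihedral Sylow 2-subgroups and central involution
-/

set_option linter.style.haveILetI false
set_option linter.unusedSectionVars false
set_option autoImplicit false

namespace CfsgLib.LocalEven.SolDihedral

open Cfsg Subgroup

universe u

variable {X : Type u} [Group X] [Finite X]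

theorem isMetacyclic_subgroup (h : Cfsg.IsMetacyclic X) (H : Subgroup X) : Cfsg.IsMetacyclic ↥H := by
  obtain ⟨N, hN, hNc, hQc⟩ := h
  haveI := hN
  haveI := hNc
  haveI := hQc
  refine ⟨N.subgroupOf H, inferInstance, ?_, ?_⟩
  · exact isCyclic_of_injective ((H.subtype.comp (N.subgroupOf H).subtype).codRestrict N fun x => x.2)
      fun a b h => Subtype.ext (Subtype.ext (congrArg (fun z : N => (z : X)) h))
  · refine isCyclic_of_injective (QuotientGroup.map (N.subgroupOf H) N H.subtype le_rfl) ?_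
    rw [injective_iff_map_eq_one]
    intro v
    induction v using QuotientGroup.induction_on with
    | H z => exact fun hz => (QuotientGroup.eq_one_iff z).2 ((QuotientGroup.eq_one_iff (z : X)).1 hz)

/-- A group with a cyclic subgroup of index two on which an outside element fixes little. -/
theorem metacyclic_and_center {c y : X} (hidx : (zpowers c).index = 2) (hy : y ∉ zpowers c)
    (hc : 4 ≤ orderOf c) (hfix : ∀ w ∈ zpowers c, y * w * y⁻¹ = w → w ^ 2 = 1) :
    Cfsg.IsMetacyclic X ∧ Nat.card ↥(center X) ≤ 2 := by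
  haveI hn : (zpowers c).Normal := Subgroup.normal_of_index_eq_two hidx
  haveI : Fact (Nat.Prime 2) := ⟨Nat.prime_two⟩
  refine ⟨⟨zpowers c, hn, inferInstance,
    isCyclic_of_prime_card (p := 2) (by rw [← Subgroup.index_eq_card, hidx])⟩, ?_⟩
  have hle : center X ≤ zpowers c := by
    intro w hw
    by_contra hwc
    have h1 : y * c * y⁻¹ = c := by
      have hm : w⁻¹ * y ∈ zpowers c := (Subgroup.mul_mem_iff_of_index_two hidx).2 (by simp [hwc, hy])
      obtain ⟨i, hi⟩ := mem_zpowers_iff.1 hm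
      have e : y = w * c ^ i := by rw [hi, mul_inv_cancel_left]
      rw [mul_inv_eq_iff_eq_mul, e, mul_assoc, ← zpow_add_one, add_comm i 1, zpow_one_add,
        ← mul_assoc, ← Subgroup.mem_center_iff.1 hw c, mul_assoc]
    have h2 := hfix c (mem_zpowers c) h1
    have := Nat.le_of_dvd two_pos (orderOf_dvd_of_pow_eq_one h2)
    omega
  haveI : IsCyclic ↥(center X) :=
    isCyclic_of_injective (Subgroup.inclusion hle) (Subgroup.inclusion_injective hle)
  refine CfsgLib.PGroups.MetacyclicTwoAut.card_le_two fun w => Subtype.ext ?_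
  refine hfix w (hle w.2) ?_
  rw [Subgroup.mem_center_iff.1 w.2 y, mul_inv_cancel_right]

theorem shape (h2 : IsPGroup 2 X)
    (h : (∃ n : ℕ, 4 ≤ n ∧ Nonempty (X ≃* DihedralGroup n)) ∨ Cfsg.IsQuasiDihedral X) :
    Cfsg.IsMetacyclic X ∧ Nat.card ↥(center X) ≤ 2 := by
  rcases h with ⟨n, hn, ⟨e⟩⟩ | ⟨n, hn, hcard, x, y, hx, hy, hc⟩
  · haveI : NeZero n := ⟨by omega⟩
    set c := e.symm (DihedralGroup.r 1) with hcdef
    have hord : orderOf c = n := by rw [hcdef, MulEquiv.orderOf_eq, DihedralGroup.orderOf_r_one]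
    refine metacyclic_and_center (c := c) (y := e.symm (DihedralGroup.sr 0)) ?_ ?_ (hord ▸ hn) ?_
    · have h1 := (zpowers c).card_mul_index
      rw [Nat.card_zpowers, hord, Nat.card_congr e.toEquiv, DihedralGroup.nat_card] at h1
      exact Nat.eq_of_mul_eq_mul_left (by omega) (h1.trans (mul_comm 2 n))
    · rintro ⟨i, hi⟩
      have := congrArg e hi
      rw [hcdef, map_zpow, e.apply_symm_apply, e.apply_symm_apply] at this
      rw [DihedralGroup.r_one_zpow] at this
      cases this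
    · rintro _ ⟨i, rfl⟩ hw
      have h1 : e.symm (DihedralGroup.sr 0) * c ^ i * (e.symm (DihedralGroup.sr 0))⁻¹ = (c ^ i)⁻¹ := by
        apply e.injective
        simp [hcdef, DihedralGroup.r_one_zpow]
      rw [h1, inv_eq_iff_mul_eq_one] at hw
      show (c ^ i) ^ 2 = 1
      rw [sq]; exact hw
  · have hidx : (zpowers x).index = 2 := by
      have h := (zpowers x).card_mul_index
      rw [Nat.card_zpowers, hx, hcard, pow_succ] at h
      exact Nat.eq_of_mul_eq_mul_left (by positivity) h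
    obtain ⟨m, rfl⟩ : ∃ m, n = m + 3 := ⟨n - 3, by omega⟩
    have h4 : 4 ≤ orderOf x := by
      rw [hx, pow_add]; have := Nat.one_le_two_pow (n := m); omega
    have hk : 2 ^ (m + 3 - 1) - 1 = 2 * (2 ^ (m + 1) - 1) + 1 := by
      have e1 : 2 ^ (m + 3 - 1) = 2 * 2 ^ (m + 1) := by
        rw [show m + 3 - 1 = (m + 1) + 1 by omega, pow_succ']
      have := Nat.one_le_two_pow (n := m + 1)
      omega
    refine metacyclic_and_center (c := x) (y := y) hidx ?_ h4 ?_
    · rintro ⟨i, rfl⟩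
      rw [show (x ^ i) * x * (x ^ i)⁻¹ = x by group] at hc
      have h2 : x ^ (2 * (2 ^ (m + 1) - 1)) = 1 := by
        rw [hk, pow_succ] at hc
        exact mul_eq_right.1 hc.symm
      have h3 := Nat.le_of_dvd (by have := Nat.one_lt_two_pow (n := m + 1) (by omega); omega)
        (orderOf_dvd_of_pow_eq_one h2)
      rw [hx, show m + 3 = (m + 1) + 2 by omega, pow_add, show (2 : ℕ) ^ 2 = 4 from rfl] at h3
      have h5 := Nat.one_le_two_pow (n := m + 1)
      generalize 2 ^ (m + 1) = u at h3 h5 hk ⊢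
      omega
    · rintro _ ⟨i, rfl⟩ hw
      show (x ^ i) ^ 2 = 1
      have h1 : (x ^ i) ^ (2 * (2 ^ (m + 1) - 1)) = 1 := by
        have h0 : y * x ^ i * y⁻¹ = (x ^ i) ^ (2 ^ (m + 3 - 1) - 1) := by
          rw [← conj_zpow, hc, ← zpow_natCast, ← zpow_mul, ← zpow_natCast, ← zpow_mul, mul_comm]
        have hw' : y * x ^ i * y⁻¹ = x ^ i := hw
        rw [h0, hk, pow_succ] at hw'
        exact mul_eq_right.1 hw'
      have hd := Nat.dvd_gcd (orderOf_dvd_of_pow_eq_one h1)
        ((orderOf_dvd_of_mem_zpowers ⟨i, rfl⟩ : orderOf (x ^ i) ∣ orderOf x))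
      rw [hx] at hd
      have hodd : Nat.Coprime (2 ^ (m + 1) - 1) 2 := by
        rw [Nat.coprime_two_right, Nat.odd_sub Nat.one_le_two_pow]
        simp [Nat.even_pow]
      refine orderOf_dvd_iff_pow_eq_one.1 (hd.trans ?_)
      rw [(hodd.pow_right (m + 3)).gcd_mul_right_cancel 2]
      exact Nat.gcd_dvd_left _ _

variable {G : Type u} [Group G] [Finite G]

theorem exists_SL23 (hsol : IsSolvable G) (hO : Cfsg.oddCore G = ⊥) (T : Sylow 2 G)
    (hT : (∃ n : ℕ, 4 ≤ n ∧ Nonempty (↥(T : Subgroup G) ≃* DihedralGroup n)) ∨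
      Cfsg.IsQuasiDihedral ↥(T : Subgroup G))
    (hne : (T : Subgroup G) ≠ ⊤)
    (hZ : ((T : Subgroup G) ⊓ Subgroup.centralizer ((T : Subgroup G) : Set G)).Normal) :
    ∃ U : Subgroup G, U.Normal ∧
      Nonempty (↥U ≃* Matrix.SpecialLinearGroup (Fin 2) (ZMod 3)) := by
  haveI : Fact (Nat.Prime 2) := ⟨Nat.prime_two⟩
  haveI : Group.IsSolvable G := hsol
  obtain ⟨hmeta, hcen⟩ := shape T.2 hT
  set Q := Cfsg.pCore 2 G with hQdef
  have hO' : Cfsg.pPrimeCore 2 G = ⊥ := hO
  have hc : Subgroup.centralizer (Q : Set G) ≤ Q :=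
    CfsgLib.Base.centralizer_pCore_le_of_isSolvable (p := 2) hO'
  have hQ2 : IsPGroup 2 ↥Q := CfsgLib.Base.isPGroup_pCore 2 G
  have hQT : Q ≤ (T : Subgroup G) := CfsgLib.Base.pCore_le_sylow T
  have hQmeta : Cfsg.IsMetacyclic ↥Q := by
    have h1 := isMetacyclic_subgroup hmeta (Q.subgroupOf (T : Subgroup G))
    exact CfsgLib.OddOrder.isMetacyclic_of_surjective (Subgroup.subgroupOfEquivOfLe hQT).toMonoidHom
      (Subgroup.subgroupOfEquivOfLe hQT).surjective h1
  -- an element of odd prime order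
  have hidx : (T : Subgroup G).index ≠ 1 := fun h => hne (Subgroup.index_eq_one.1 h)
  obtain ⟨r, hr, hrd⟩ := Nat.exists_prime_and_dvd hidx
  haveI := Fact.mk hr
  have hr2 : r ≠ 2 := fun h => T.not_dvd_index (h ▸ hrd)
  obtain ⟨g, hg⟩ := exists_prime_orderOf_dvd_card' (G := G) r (hrd.trans (Subgroup.index_dvd_card _))
  have hgQ : g ∉ Q := by
    intro h
    obtain ⟨j, hj⟩ := IsPGroup.iff_orderOf.mp hQ2 ⟨g, h⟩
    rw [Subgroup.orderOf_mk, hg] at hj
    exact hr2 ((Nat.prime_dvd_prime_iff_eq hr Nat.prime_two).mp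
      (hr.dvd_of_dvd_pow (dvd_of_eq hj)))
  let φ : MulAut ↥Q := MulAut.conjNormal g
  have hφ : φ ^ r = 1 := by
    rw [← map_pow, ← hg, pow_orderOf_eq_one, map_one]
  have hφ1 : φ ≠ 1 := by
    intro h
    refine hgQ (hc (Subgroup.mem_centralizer_iff.2 fun x hx => ?_))
    have h1 : φ ⟨x, hx⟩ = ⟨x, hx⟩ := by rw [h]; rfl
    have h2 : g * x * g⁻¹ = x := congrArg Subtype.val h1
    exact (mul_inv_eq_iff_eq_mul.mp h2).symm
  rcases CfsgLib.PGroups.MetacyclicTwoAut.quaternion_or_homocyclic hQ2 hQmeta hr2 hφ hφ1 with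
    hq | hhom
  · -- the quaternion case
    refine hq.elim fun e => ?_
    have h48 := CfsgLib.Involutions.card_dvd_of_centralizer_le_quaternion_eight hc e
    have hr3 : r = 3 := by
      have h1 : r ∣ 2 ^ 4 * 3 := (hg ▸ orderOf_dvd_natCard g).trans h48
      rcases hr.dvd_mul.1 h1 with h | h
      · exact absurd ((Nat.prime_dvd_prime_iff_eq hr Nat.prime_two).1 (hr.dvd_of_dvd_pow h)) hr2
      · exact (Nat.prime_dvd_prime_iff_eq hr Nat.prime_three).1 h
    subst hr3
    have hgn : g ∈ normalizer (Q : Set G) := by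
      rw [Subgroup.normalizer_eq_top_iff.2 inferInstance]; trivial
    set U := Q ⊔ zpowers g with hU
    have hQc : Nat.card Q = 8 := by
      rw [Nat.card_congr e.toEquiv, Nat.card_eq_fintype_card, QuaternionGroup.card]
    have hUc : Nat.card U = 24 := by
      have h := CfsgLib.PLocal.card_sup_mul_card_inf (zpowers g) Q (zpowers_le.mpr hgn)
      have hdis : zpowers g ⊓ Q = ⊥ := Subgroup.inf_eq_bot_of_coprime (by
        rw [Nat.card_zpowers, hg, hQc]; decide)
      rw [hdis, Subgroup.card_bot, mul_one, Nat.card_zpowers, hg, hQc, sup_comm, ← hU] at h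
      exact h
    have hUn : U.Normal := by
      have h1 := U.card_mul_index
      rw [hUc] at h1
      have h2 : U.index ∣ 2 := by
        rw [← h1] at h48
        exact Nat.dvd_of_mul_dvd_mul_left (by norm_num) (h48.trans (dvd_of_eq (by norm_num)))
      rcases (Nat.dvd_prime Nat.prime_two).1 h2 with h | h
      · rw [Subgroup.index_eq_one.1 h]; infer_instance
      · exact Subgroup.normal_of_index_eq_two h
    refine ⟨U, hUn, ?_⟩
    have hQU : Q ≤ U := le_sup_left
    let gU : ↥U := ⟨g, Subgroup.mem_sup_right (mem_zpowers g)⟩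
    have hgne : gU ∉ centralizer ((Q.subgroupOf U : Subgroup ↥U) : Set ↥U) := fun h => hgQ (hc
      (Subgroup.mem_centralizer_iff.2 fun x hx => congrArg Subtype.val
        (Subgroup.mem_centralizer_iff.1 h ⟨x, hQU hx⟩ hx)))
    have hgn' : gU ∈ normalizer ((Q.subgroupOf U : Subgroup ↥U) : Set ↥U) := by
      rw [Subgroup.normalizer_eq_top_iff.2 inferInstance]; trivial
    obtain ⟨H, K, hKn, ⟨ε⟩⟩ := CfsgLib.Transfer.exists_slTwoThree_section
      ((Subgroup.subgroupOfEquivOfLe hQU).trans e) hgn'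
      (by rw [← Subgroup.orderOf_coe]; show Nat.Coprime (orderOf g) 2; rw [hg]; decide) hgne
    haveI := hKn
    have h24 : Nat.card (↥H ⧸ K.subgroupOf H) = 24 := by
      rw [Nat.card_congr ε.toEquiv, CfsgLib.Transfer.card_slTwoThree]
    have hHle : Nat.card H ≤ 24 := hUc ▸ Subgroup.card_le_card_group H
    have hdecomp := Subgroup.card_eq_card_quotient_mul_card_subgroup (K.subgroupOf H)
    rw [h24] at hdecomp
    have hK1 : Nat.card ↥(K.subgroupOf H) = 1 := by
      have : 0 < Nat.card ↥(K.subgroupOf H) := Nat.card_pos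
      nlinarith
    have hKbot : K.subgroupOf H = ⊥ := Subgroup.card_eq_one.1 hK1
    have hHtop : H = ⊤ := Subgroup.eq_top_of_card_eq H (by rw [hUc, hdecomp, hK1])
    exact ⟨((MulEquiv.subgroupCongr hHtop).trans Subgroup.topEquiv).symm.trans
      ((QuotientGroup.quotientBot).symm.trans
        ((QuotientGroup.quotientMulEquivOfEq hKbot.symm).trans ε))⟩
  · -- the abelian case is impossible
    exfalso
    obtain ⟨n, hq⟩ := hhom
    refine hq.elim fun e => ?_
    have hab : ∀ a b : ↥Q, a * b = b * a := fun a b => e.injective (by rw [map_mul, map_mul, mul_comm])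
    set Z := (T : Subgroup G) ⊓ Subgroup.centralizer ((T : Subgroup G) : Set G) with hZdef
    haveI := hZ
    have hT1 : (T : Subgroup G) ≠ ⊥ := fun h => by
      have : Q = ⊥ := le_bot_iff.1 (hQT.trans h.le)
      refine hgQ (hc ?_)
      rw [this]
      exact Subgroup.mem_centralizer_iff.2 fun x hx => by rw [Subgroup.mem_bot.1 hx]; simp
    haveI : Nontrivial ↥(T : Subgroup G) := (Subgroup.nontrivial_iff_ne_bot _).2 hT1
    haveI := T.2.center_nontrivial
    obtain ⟨z, hz⟩ := exists_ne (1 : ↥(center ↥(T : Subgroup G)))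
    have hzZ : ((z : ↥(T : Subgroup G)) : G) ∈ Z :=
      ⟨z.1.2, Subgroup.mem_centralizer_iff.2 fun x hx =>
        congrArg Subtype.val (Subgroup.mem_center_iff.1 z.2 ⟨x, hx⟩)⟩
    set z' : G := ((z : ↥(T : Subgroup G)) : G) with hz'
    have hz1 : z' ≠ 1 := fun h => hz (Subtype.ext (Subtype.ext h))
    have huniq : ∀ w ∈ Z, w ≠ 1 → w = z' := by
      intro w hw hw1
      have hwc : (⟨w, hw.1⟩ : ↥(T : Subgroup G)) ∈ center ↥(T : Subgroup G) :=
        Subgroup.mem_center_iff.2 fun x =>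
          Subtype.ext (Subgroup.mem_centralizer_iff.1 hw.2 x x.2)
      classical
      by_contra hne'
      haveI := Fintype.ofFinite ↥(center ↥(T : Subgroup G))
      rw [Nat.card_eq_fintype_card] at hcen
      have h3 : ({⟨⟨w, hw.1⟩, hwc⟩, z, 1} : Finset ↥(center ↥(T : Subgroup G))).card = 3 :=
        Finset.card_eq_three.2 ⟨_, _, _, fun h => hne' (congrArg (fun v => ((v.1 : ↥(T : Subgroup G)) : G)) h),
          fun h => hw1 (congrArg (fun v => ((v.1 : ↥(T : Subgroup G)) : G)) h), hz, rfl⟩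
      have := Finset.card_le_univ ({⟨⟨w, hw.1⟩, hwc⟩, z, 1} : Finset ↥(center ↥(T : Subgroup G)))
      omega
    have hzQ : z' ∈ Q := CfsgLib.LocalEven.le_pCore hZ (T.2.to_le inf_le_left) hzZ
    have hfix : φ ⟨z', hzQ⟩ = ⟨z', hzQ⟩ := Subtype.ext <| huniq (g * z' * g⁻¹)
      (hZ.conj_mem z' hzZ g) (fun h => hz1 (conj_eq_one_iff.1 h))
    exact hz1 (congrArg Subtype.val
      (CfsgLib.PGroups.MetacyclicTwoAut.eq_one_of_fixed hQ2 hQmeta hr2 hφ hφ1 hab hfix))

end CfsgLib.LocalEven.SolDihedral
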