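import Mathlib

/-!
# A self-centralizing `C_p × C_p` under `SL₂(p)` has a complement
-/

namespace CfsgLib.LocalEven.SplitSL2

open Subgroup

variable {N : Type*} [Group N] [Finite N]

theorem comm_on_cyclic (K : Subgroup N) [K.Normal] [IsCyclic K] (x y : N) {k : N} (hk : k ∈ K) :
    (x * y) * k * (x * y)⁻¹ = (y * x) * k * (y * x)⁻¹ := by
  obtain ⟨⟨w, hw⟩, hgen⟩ := IsCyclic.exists_generator (α := K)
  have hpow : ∀ v : N, ∃ i : ℤ, ∀ u ∈ K, v * u * v⁻¹ = u ^ i := by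
    intro v
    obtain ⟨i, hi⟩ := mem_zpowers_iff.1 (hgen ⟨v * w * v⁻¹, ‹K.Normal›.conj_mem w hw v⟩)
    have hi' : w ^ i = v * w * v⁻¹ := by simpa using congrArg Subtype.val hi
    refine ⟨i, fun u hu => ?_⟩
    obtain ⟨j, hj⟩ := mem_zpowers_iff.1 (hgen ⟨u, hu⟩)
    have hj' : w ^ j = u := by simpa using congrArg Subtype.val hj
    rw [← hj', ← conj_zpow, ← hi', ← zpow_mul, ← zpow_mul, mul_comm]
  obtain ⟨i, hi⟩ := hpow x
  obtain ⟨j, hj⟩ := hpow y
  calc (x * y) * k * (x * y)⁻¹ = x * (y * k * y⁻¹) * x⁻¹ := by group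
    _ = (k ^ i) ^ j := by rw [hj k hk, hi _ (zpow_mem hk j), ← zpow_mul, ← zpow_mul, mul_comm]
    _ = y * (x * k * x⁻¹) * y⁻¹ := by rw [hi k hk, hj _ (zpow_mem hk i)]
    _ = (y * x) * k * (y * x)⁻¹ := by group

theorem split {p : ℕ} [hp : Fact p.Prime] (hp2 : p ≠ 2) (A : Subgroup N) [A.Normal]
    (hAc : IsMulCommutative A) (hA : Nat.card A = p ^ 2)
    (hself : centralizer (A : Set N) = A) {F : Type*} [Field F] [Fintype F]
    (hF : Fintype.card F = p) (e : N ⧸ A ≃* Matrix.SpecialLinearGroup (Fin 2) F) :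
    ∃ U : Subgroup N, A ⊓ U = ⊥ ∧ A ⊔ U = ⊤ := by
  classical
  have hodd : Odd p := hp.out.odd_of_ne_two hp2
  have h11 : (-1 : F) ≠ 1 := by
    intro h
    haveI : CharP F p := by
      refine (CharP.charP_iff_prime_eq_zero hp.out).2 ?_
      rw [← hF]; exact Nat.cast_card_eq_zero F
    exact Ring.neg_one_ne_one_of_char_ne_two (by rwa [ringChar.eq F p]) h
  -- the central involution of `SL₂`
  let z : Matrix.SpecialLinearGroup (Fin 2) F := -1
  have hzc : ∀ w, Commute z w := fun w => by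
    rw [commute_iff_eq]; apply Subtype.ext; simp [z]
  have hz1 : z ≠ 1 := fun h => by
    have h' := congrArg (fun M : Matrix.SpecialLinearGroup (Fin 2) F => (↑M : Matrix (Fin 2) (Fin 2) F) 0 0) h
    simp [z] at h'
    exact h11 h'
  have hz2 : z * z = 1 := Subtype.ext (by simp [z])
  have hnc : ∃ u v : Matrix.SpecialLinearGroup (Fin 2) F, u * v ≠ v * u := by
    refine ⟨⟨!![1, 1; 0, 1], by simp⟩, ⟨!![1, 0; 1, 1], by simp⟩, fun h => ?_⟩
    have h' := congrArg (fun M : Matrix.SpecialLinearGroup (Fin 2) F => (↑M : Matrix (Fin 2) (Fin 2) F) 0 0) h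
    change ((!![(1 : F), 1; 0, 1] : Matrix (Fin 2) (Fin 2) F) * (!![1, 0; 1, 1] : Matrix (Fin 2) (Fin 2) F)) 0 0
      = ((!![(1 : F), 0; 1, 1] : Matrix (Fin 2) (Fin 2) F) * (!![1, 1; 0, 1] : Matrix (Fin 2) (Fin 2) F)) 0 0 at h'
    simp [Matrix.mul_apply, Fin.sum_univ_two] at h'
  -- the lift
  obtain ⟨n₀, hn₀⟩ := QuotientGroup.mk'_surjective A (e.symm z)
  have hoA : Odd (Nat.card A) := hA ▸ hodd.pow
  have hcomm : ∀ a ∈ A, ∀ b ∈ A, a * b = b * a := fun a ha b hb =>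
    congrArg Subtype.val (hAc.is_comm.comm (⟨a, ha⟩ : A) ⟨b, hb⟩)
  obtain ⟨m, hm⟩ := hoA
  set t := n₀ ^ (2 * m + 1) with htdef
  have htm : QuotientGroup.mk' A t = e.symm z := by
    have : (e.symm z) ^ 2 = 1 := by rw [sq, ← map_mul, hz2, map_one]
    rw [htdef, map_pow, hn₀, pow_succ, pow_mul, this, one_pow, one_mul]
  have ht2 : t * t = 1 := by
    have h2 : n₀ ^ 2 ∈ A := by
      rw [← QuotientGroup.eq_one_iff]
      show QuotientGroup.mk' A (n₀ ^ 2) = 1
      rw [map_pow, hn₀, sq, ← map_mul, hz2, map_one]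
    rw [htdef, ← pow_add, ← two_mul, pow_mul, ← hm]
    exact congrArg Subtype.val (pow_card_eq_one' (x := (⟨n₀ ^ 2, h2⟩ : A)))
  have htinv : t⁻¹ = t := inv_eq_of_mul_eq_one_right ht2
  have htA : t ∉ A := fun h => by
    have : QuotientGroup.mk' A t = 1 := (QuotientGroup.eq_one_iff t).2 h
    rw [htm] at this
    exact hz1 (by simpa using congrArg e this)
  have htcent : ∀ n : N, ∃ a ∈ A, n * t * n⁻¹ = t * a := by
    intro n
    refine ⟨t⁻¹ * (n * t * n⁻¹), ?_, by group⟩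
    rw [← QuotientGroup.eq_one_iff]
    show QuotientGroup.mk' A _ = 1
    simp only [map_mul, map_inv, htm]
    apply e.injective
    simp only [map_mul, map_inv, map_one, MulEquiv.apply_symm_apply]
    rw [← (hzc _).eq]; group
  have hpow : ∀ a ∈ A, a ^ (2 * m + 1) = 1 := fun a ha => by
    rw [← hm]; exact congrArg Subtype.val (pow_card_eq_one' (x := (⟨a, ha⟩ : A)))
  have hroot : ∀ a ∈ A, (a ^ (m + 1)) ^ 2 = a := fun a ha => by
    rw [← pow_mul, show (m + 1) * 2 = 2 * m + 1 + 1 by ring, pow_succ, hpow a ha, one_mul]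
  -- action of `t` transported along conjugation
  have hconj : ∀ a ∈ A, ∀ n : N, t * (n * a * n⁻¹) * t⁻¹ = n * (t * a * t⁻¹) * n⁻¹ := by
    intro a ha n
    obtain ⟨b, hb, hbn⟩ := htcent n⁻¹
    rw [inv_inv] at hbn
    have : t * (n * a * n⁻¹) * t⁻¹ = n * ((n⁻¹ * t * n) * a * (n⁻¹ * t * n)⁻¹) * n⁻¹ := by group
    rw [this, hbn]
    have : t * b * a * (t * b)⁻¹ = t * (b * a * b⁻¹) * t⁻¹ := by group
    rw [this, hcomm b hb a ha, mul_inv_cancel_right]
  let C : Subgroup N := A ⊓ centralizer ({t} : Set N)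
  have memC : ∀ {a}, a ∈ C ↔ a ∈ A ∧ t * a * t⁻¹ = a := by
    intro a
    simp only [C, mem_inf, mem_centralizer_iff, Set.mem_singleton_iff, forall_eq]
    exact and_congr_right fun _ => mul_inv_eq_iff_eq_mul.symm
  let D : Subgroup N :=
    { carrier := {a | a ∈ A ∧ t * a * t⁻¹ = a⁻¹}
      one_mem' := ⟨one_mem _, by simp⟩
      mul_mem' := fun {a b} ha hb => ⟨mul_mem ha.1 hb.1, by
        have : t * (a * b) * t⁻¹ = (t * a * t⁻¹) * (t * b * t⁻¹) := by group
        rw [this, ha.2, hb.2, mul_inv_rev, hcomm a⁻¹ (inv_mem ha.1) b⁻¹ (inv_mem hb.1)]⟩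
      inv_mem' := fun {a} ha => ⟨inv_mem ha.1, by
        have : t * a⁻¹ * t⁻¹ = (t * a * t⁻¹)⁻¹ := by group
        rw [this, ha.2]⟩ }
  have memD : ∀ {a}, a ∈ D ↔ a ∈ A ∧ t * a * t⁻¹ = a⁻¹ := Iff.rfl
  haveI hCn : C.Normal := ⟨fun a ha n => by
    rw [memC] at ha ⊢
    exact ⟨‹A.Normal›.conj_mem a ha.1 n, by rw [hconj a ha.1, ha.2]⟩⟩
  haveI hDn : D.Normal := ⟨fun a ha n => by
    rw [memD] at ha ⊢
    exact ⟨‹A.Normal›.conj_mem a ha.1 n, by rw [hconj a ha.1, ha.2]; group⟩⟩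
  have hC : C = ⊥ := by
    by_contra hne
    have hlt : ∀ K : Subgroup N, K ≤ A → K ≠ A → IsCyclic K := by
      intro K hK hKA
      obtain ⟨i, hi, hcK⟩ := (Nat.dvd_prime_pow hp.out).1 (hA ▸ card_dvd_of_le hK)
      rcases (show i = 0 ∨ i = 1 ∨ i = 2 by omega) with h | h | h <;> subst h
      · rw [pow_zero] at hcK
        haveI : Subsingleton K := (Nat.card_eq_one_iff_unique.1 hcK).1
        exact isCyclic_of_subsingleton
      · exact isCyclic_of_prime_card (p := p) (by simpa using hcK)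
      · exact absurd (eq_of_le_of_card_ge hK (by rw [hcK, hA])) hKA
    have hCA : C ≠ A := fun h => htA (hself ▸ mem_centralizer_iff.2 fun a ha => by
      have := (memC.1 (h.symm ▸ ha)).2
      exact (mul_inv_eq_iff_eq_mul.1 this).symm)
    have hDA : D ≠ A := by
      obtain ⟨c, hc, hc1⟩ := Subgroup.bot_or_exists_ne_one C |>.resolve_left hne
      intro h
      have h1 := (memC.1 hc).2
      have h2 := (memD.1 (h.symm ▸ (memC.1 hc).1 : c ∈ D)).2
      rw [h1] at h2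
      apply hc1
      have hc2 : c ^ 2 = 1 := by rw [sq]; nth_rw 2 [h2]; rw [mul_inv_cancel]
      have := hpow c (memC.1 hc).1
      rwa [pow_succ, pow_mul, hc2, one_pow, one_mul] at this
    haveI := hlt C inf_le_left hCA
    haveI := hlt D (fun a ha => ha.1) hDA
    obtain ⟨u, v, huv⟩ := hnc
    obtain ⟨x, hx⟩ := QuotientGroup.mk'_surjective A (e.symm u)
    obtain ⟨y, hy⟩ := QuotientGroup.mk'_surjective A (e.symm v)
    apply huv
    have hg : (y * x)⁻¹ * (x * y) ∈ A := by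
      rw [← hself, mem_centralizer_iff]
      intro a ha
      have hsplit : a ^ 2 = (a * (t * a * t⁻¹)) * (a * (t * a⁻¹ * t⁻¹)) := by
        have hb : t * a * t⁻¹ ∈ A := ‹A.Normal›.conj_mem a ha t
        calc a ^ 2 = a * ((t * a * t⁻¹) * (t * a⁻¹ * t⁻¹)) * a := by rw [sq]; group
          _ = a * (t * a * t⁻¹) * ((t * a⁻¹ * t⁻¹) * a) := by group
          _ = _ := by rw [hcomm _ (‹A.Normal›.conj_mem _ (inv_mem ha) t) a ha]
      have tt : ∀ w : N, t * (t * w * t⁻¹) * t⁻¹ = w := fun w => by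
        calc t * (t * w * t⁻¹) * t⁻¹ = (t * t) * w * (t * t)⁻¹ := by group
          _ = w := by rw [ht2]; simp
      have hfix : ∀ (K : Subgroup N) [K.Normal] [IsCyclic K], ∀ w ∈ K,
          ((y * x)⁻¹ * (x * y)) * w * ((y * x)⁻¹ * (x * y))⁻¹ = w := by
        intro K _ _ w hw
        calc _ = (y * x)⁻¹ * ((x * y) * w * (x * y)⁻¹) * (y * x) := by group
          _ = w := by rw [comm_on_cyclic K x y hw]; group
      have h1 : a * (t * a * t⁻¹) ∈ C := memC.2 ⟨mul_mem ha (‹A.Normal›.conj_mem a ha t), by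
        calc t * (a * (t * a * t⁻¹)) * t⁻¹ = (t * a * t⁻¹) * (t * (t * a * t⁻¹) * t⁻¹) := by group
          _ = (t * a * t⁻¹) * a := by rw [tt]
          _ = _ := hcomm _ (‹A.Normal›.conj_mem a ha t) a ha⟩
      have h2 : a * (t * a⁻¹ * t⁻¹) ∈ D :=
        memD.2 ⟨mul_mem ha (‹A.Normal›.conj_mem _ (inv_mem ha) t), by
        calc t * (a * (t * a⁻¹ * t⁻¹)) * t⁻¹
            = (t * a * t⁻¹) * (t * (t * a⁻¹ * t⁻¹) * t⁻¹) := by group
          _ = (t * a * t⁻¹) * a⁻¹ := by rw [tt]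
          _ = _ := by group⟩
      set g := (y * x)⁻¹ * (x * y)
      have h3 : g * a ^ 2 * g⁻¹ = a ^ 2 := by
        rw [hsplit]
        calc g * (a * (t * a * t⁻¹) * (a * (t * a⁻¹ * t⁻¹))) * g⁻¹
            = (g * (a * (t * a * t⁻¹)) * g⁻¹) * (g * (a * (t * a⁻¹ * t⁻¹)) * g⁻¹) := by group
          _ = _ := by rw [hfix C _ h1, hfix D _ h2]
      have h4 : (a ^ 2) ^ (m + 1) = a := by rw [← pow_mul, mul_comm, pow_mul, hroot a ha]
      have h5 : g * a * g⁻¹ = a := by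
        conv_lhs => rw [← h4, ← conj_pow, h3]
        exact h4
      exact (mul_inv_eq_iff_eq_mul.1 h5).symm
    have h6 := (QuotientGroup.eq_one_iff _).2 hg
    change QuotientGroup.mk' A _ = 1 at h6
    rw [map_mul, map_inv, inv_mul_eq_one, map_mul, map_mul, hx, hy, ← map_mul, ← map_mul] at h6
    exact (e.symm.injective h6).symm
  refine ⟨centralizer ({t} : Set N), hC, eq_top_iff.2 fun n _ => ?_⟩
  obtain ⟨a, ha, han⟩ := htcent n
  have hinv : t * a * t⁻¹ = a⁻¹ := by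
    have h1 : (t * a) * (t * a) = 1 := by
      rw [← han]
      calc n * t * n⁻¹ * (n * t * n⁻¹) = n * (t * t) * n⁻¹ := by group
        _ = 1 := by rw [ht2]; group
    rw [htinv]
    exact eq_inv_of_mul_eq_one_left (by simpa [mul_assoc] using h1)
  set b := a ^ (m + 1) with hbdef
  have hbA : b ∈ A := pow_mem ha _
  have hbinv : t * b⁻¹ * t⁻¹ = b := by
    have : t * b * t⁻¹ = b⁻¹ := by rw [hbdef, ← conj_pow, hinv, inv_pow]
    calc t * b⁻¹ * t⁻¹ = (t * b * t⁻¹)⁻¹ := by group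
      _ = b := by rw [this, inv_inv]
  have hbn : b * n ∈ centralizer ({t} : Set N) := by
    rw [mem_centralizer_iff]
    simp only [Set.mem_singleton_iff, forall_eq]
    have h7 : n * t * n⁻¹ = b⁻¹ * t * b := by
      have hsq : b * b = a := by rw [← sq]; exact hroot a ha
      have : b⁻¹ * t = t * b := by
        calc b⁻¹ * t = t⁻¹ * (t * b⁻¹ * t⁻¹) * (t * t) := by group
          _ = t * b := by rw [hbinv, ht2, mul_one, htinv]
      rw [han, this, mul_assoc, hsq]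
    calc t * (b * n) = b * (b⁻¹ * t * b) * n := by group
      _ = b * n * t := by rw [← h7]; group
  have : n = b⁻¹ * (b * n) := by group
  rw [this]
  exact mul_mem_sup (inv_mem hbA) hbn

end CfsgLib.LocalEven.SplitSL2
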