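import Cfsg.Agent.Lib.LocalEven.StrongFusionTransport
import Cfsg.Agent.Lib.Techniques.AlperinGoldschmidt
import Cfsg.Agent.Lib.Coprime.Action2
import Cfsg.Agent.Lib.OddOrder.CyclicSubgroups

/-!
The strong form of the Alperin–Goldschmidt fusion theorem, with `p`-isolated automizers.
-/

set_option autoImplicit false

open Subgroup
open scoped Pointwise

namespace CfsgLib.LocalEven.StrongFusion

open CfsgLib.Techniques CfsgLib.Transfer CfsgLib.PLocal CfsgLib.Base

universe u

variable {G : Type u} [Group G] [Finite G] {p : ℕ} [hp : Fact p.Prime]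

/-- The conditions on a subgroup of the strong theorem. -/
def HProps (P : Sylow p G) (H : Subgroup G) : Prop :=
  H ≤ (P : Subgroup G) ∧
    ¬ p ∣ ((P : Subgroup G) ⊓ normalizer (H : Set G)).relIndex (normalizer (H : Set G)) ∧
    (P : Subgroup G) ⊓ centralizer (H : Set G) ≤ H ∧
    (Cfsg.pPrimePCore p ↥(normalizer (H : Set G))).map (normalizer (H : Set G)).subtype =
      H ⊔ centralizer (H : Set G) ∧
    ¬ Cfsg.IsSylowChainConnected p (↥(normalizer (H : Set G)) ⧸ H.subgroupOf (normalizer (H : Set G)))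

/-- The conditions on the normal subgroup. -/
def XProps (p : ℕ) (H X : Subgroup G) : Prop :=
  H ≤ X ∧ X ≤ normalizer (H : Set G) ∧ (X.subgroupOf (normalizer (H : Set G))).Normal ∧
    p ∣ H.relIndex X ∧
    ∀ Y : Subgroup G, H ≤ Y → Y ≤ normalizer (H : Set G) →
      (Y.subgroupOf (normalizer (H : Set G))).Normal → p ∣ H.relIndex Y → X ≤ Y

/-- One step. -/
def Good (P : Sylow p G) (H X : Subgroup G) (x : G) : Prop :=
  HProps P H ∧ XProps p H X ∧ x ∈ (Cfsg.pResidual p ↥X).map X.subtype

/-- A chain of steps. -/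
inductive SChain (P : Sylow p G) : Set G → G → Prop
  | nil (A : Set G) : SChain P A 1
  | cons {A : Set G} {g : G} (H X : Subgroup G) (x : G) (hx : Good P H X x) (hA : A ⊆ (H : Set G))
      (h : SChain P ((fun a => x⁻¹ * a * x) '' A) g) : SChain P A (x * g)

/-- Centraliser, chain, normaliser of `P`. -/
def SFact (P : Sylow p G) (A : Set G) (g : G) : Prop :=
  ∃ c l y : G, c ∈ centralizer A ∧ SChain P A l ∧
    y ∈ normalizer ((P : Subgroup G) : Set G) ∧ g = c * l * y

variable {P : Sylow p G}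

theorem SChain.mono {A B : Set G} {g : G} (h : SChain P A g) (hBA : B ⊆ A) : SChain P B g := by
  induction h generalizing B with
  | nil A => exact .nil B
  | cons H X x hx hA _ ih => exact .cons H X x hx (hBA.trans hA) (ih (Set.image_mono hBA))

theorem SChain.append {A : Set G} {g k : G} (h : SChain P A g)
    (h' : SChain P ((fun a => g⁻¹ * a * g) '' A) k) : SChain P A (g * k) := by
  induction h with
  | nil A => simpa using h'
  | @cons A g H X x hx hA _ ih =>
    rw [mul_assoc]
    refine .cons H X x hx hA (ih ?_)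
    convert h' using 1
    rw [Set.image_image]
    congr 1
    funext a
    group

theorem Good.mapConj {H X : Subgroup G} {x y : G} (hy : y ∈ normalizer ((P : Subgroup G) : Set G))
    (h : Good P H X x) :
    Good P (H.map (MulAut.conj y).toMonoidHom) (X.map (MulAut.conj y).toMonoidHom) (y * x * y⁻¹) := by
  set σ : MulAut G := MulAut.conj y with hσ
  have hP : (P : Subgroup G).map σ.toMonoidHom = (P : Subgroup G) :=
    mem_normalizer_iff_map_conj_eq.1 hy
  have hN : (normalizer (H : Set G)).map σ.toMonoidHom =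
      normalizer ((H.map σ.toMonoidHom : Subgroup G) : Set G) := map_equiv_normalizer_eq H σ
  have hC : (centralizer (H : Set G)).map σ.toMonoidHom =
      centralizer ((H.map σ.toMonoidHom : Subgroup G) : Set G) := map_centralizer_mulEquiv σ _
  obtain ⟨⟨h1, h2, h3, h4, h5⟩, ⟨x1, x2, x3, x4, x5⟩, hx⟩ := h
  have hnorm : ∀ Y : Subgroup G, Y ≤ normalizer (H : Set G) →
      (Y.subgroupOf (normalizer (H : Set G))).Normal → ∀ τ : MulAut G,
      ((Y.map τ.toMonoidHom).subgroupOf ((normalizer (H : Set G)).map τ.toMonoidHom)).Normal := by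
    intro Y hY hYn τ
    refine normal_subgroupOf_of_le_normalizer ?_
    haveI := hYn
    exact (map_mono (le_normalizer_of_normal_subgroupOf hY)).trans (le_normalizer_map _)
  refine ⟨⟨?_, ?_, ?_, ?_, ?_⟩, ⟨map_mono x1, ?_, ?_, ?_, ?_⟩, ?_⟩
  · rw [← hP]
    exact map_mono h1
  · rw [← hN, ← hP, ← Subgroup.map_inf _ _ _ σ.injective,
      relIndex_map_map_of_injective _ _ σ.injective]
    exact h2
  · rw [← hC, ← hP, ← Subgroup.map_inf _ _ _ σ.injective]
    exact map_mono h3
  · rw [← hN, ← map_map_pPrimePCore σ, h4, Subgroup.map_sup, hC]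
  · intro hcc
    refine h5 ?_
    let eN : ↥(normalizer (H : Set G)) ≃*
        ↥(normalizer ((H.map σ.toMonoidHom : Subgroup G) : Set G)) :=
      (subEquiv σ (normalizer (H : Set G))).trans (MulEquiv.subgroupCongr hN)
    have he : (H.subgroupOf (normalizer (H : Set G))).map eN.toMonoidHom =
        (H.map σ.toMonoidHom).subgroupOf (normalizer ((H.map σ.toMonoidHom : Subgroup G) : Set G)) := by
      ext u
      constructor
      · rintro ⟨v, hv, rfl⟩
        exact ⟨v, hv, rfl⟩
      · rintro ⟨v, hv, hvu⟩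
        exact ⟨⟨v, Subgroup.le_normalizer hv⟩, hv, Subtype.ext hvu⟩
    exact chainConnected_of_equiv (QuotientGroup.congr _ _ eN he).symm hcc
  · rw [← hN]
    exact map_mono x2
  · rw [← hN]
    exact hnorm X x2 x3 σ
  · rw [relIndex_map_map_of_injective _ _ σ.injective]
    exact x4
  · intro Y hY1 hY2 hY3 hY4
    have hback : (Y.map σ.symm.toMonoidHom).map σ.toMonoidHom = Y := by
      rw [Subgroup.map_map, show σ.toMonoidHom.comp σ.symm.toMonoidHom = MonoidHom.id G from
        MonoidHom.ext fun b => σ.apply_symm_apply b, Subgroup.map_id]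
    have hle : ∀ {U : Subgroup G}, U.map σ.toMonoidHom ≤ Y → U ≤ Y.map σ.symm.toMonoidHom := by
      intro U hU
      rw [← Subgroup.map_le_map_iff_of_injective (f := σ.toMonoidHom) σ.injective, hback]
      exact hU
    have hNle : Y.map σ.symm.toMonoidHom ≤ normalizer (H : Set G) := by
      rw [← Subgroup.map_le_map_iff_of_injective (f := σ.toMonoidHom) σ.injective, hback, hN]
      exact hY2
    rw [← hback]
    refine map_mono (x5 _ (hle hY1) hNle ?_ ?_)
    · refine normal_subgroupOf_of_le_normalizer ?_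
      rw [← Subgroup.map_le_map_iff_of_injective (f := σ.toMonoidHom) σ.injective,
        hN, map_equiv_normalizer_eq (Y.map σ.symm.toMonoidHom) σ, hback]
      haveI := hY3
      exact le_normalizer_of_normal_subgroupOf hY2
    · rw [← relIndex_map_map_of_injective (f := σ.toMonoidHom) _ _ σ.injective, hback]
      exact hY4
  · rw [← map_map_pResidual σ]
    exact ⟨x, hx, rfl⟩

theorem SChain.mapConj {A : Set G} {l y : G} (hy : y ∈ normalizer ((P : Subgroup G) : Set G))
    (h : SChain P A l) : SChain P ((fun a => y * a * y⁻¹) '' A) (y * l * y⁻¹) := by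
  induction h with
  | nil A => simpa using SChain.nil (P := P) _
  | @cons A g H X x hx hA _ ih =>
    rw [show y * (x * g) * y⁻¹ = (y * x * y⁻¹) * (y * g * y⁻¹) by group]
    refine .cons _ _ _ (hx.mapConj hy) ?_ ?_
    · rintro _ ⟨a, ha, rfl⟩
      exact ⟨a, hA ha, rfl⟩
    · convert ih using 1
      rw [Set.image_image, Set.image_image]
      congr 1
      funext a
      group

theorem SFact.mono {A B : Set G} {g : G} (h : SFact P A g) (hBA : B ⊆ A) : SFact P B g := by
  obtain ⟨c, l, y, hc, hl, hy, rfl⟩ := h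
  exact ⟨c, l, y, centralizer_le hBA hc, hl.mono hBA, hy, rfl⟩

theorem conj_centralizer {A : Set G} {c l : G}
    (hc : c ∈ centralizer ((fun a => l⁻¹ * a * l) '' A)) : l * c * l⁻¹ ∈ centralizer A := by
  rw [mem_centralizer_iff] at hc ⊢
  intro a ha
  have := hc _ ⟨a, ha, rfl⟩
  calc a * (l * c * l⁻¹) = l * ((l⁻¹ * a * l) * c) * l⁻¹ := by group
    _ = l * (c * (l⁻¹ * a * l)) * l⁻¹ := by rw [this]
    _ = l * c * l⁻¹ * a := by group

theorem SFact.append {A : Set G} {g k : G} (h : SFact P A g)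
    (h' : SFact P ((fun a => g⁻¹ * a * g) '' A) k) : SFact P A (g * k) := by
  obtain ⟨c, l, y, hc, hl, hy, rfl⟩ := h
  obtain ⟨c', l', y', hc', hl', hy', rfl⟩ := h'
  have himg : (fun a => (c * l * y)⁻¹ * a * (c * l * y)) '' A =
      (fun a => y⁻¹ * a * y) '' ((fun a => l⁻¹ * a * l) '' A) := by
    rw [Set.image_image]
    refine Set.image_congr fun a ha => ?_
    have := mem_centralizer_iff.mp hc a ha
    calc (c * l * y)⁻¹ * a * (c * l * y) = y⁻¹ * (l⁻¹ * (c⁻¹ * (a * c)) * l) * y := by group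
      _ = y⁻¹ * (l⁻¹ * a * l) * y := by rw [this]; group
  rw [himg] at hc' hl'
  have h1 := conj_centralizer hc'
  have h2 := hl'.mapConj hy
  rw [Set.image_image] at h2
  refine ⟨c * (l * (y * c' * y⁻¹) * l⁻¹), l * (y * l' * y⁻¹), y * y', mul_mem hc (conj_centralizer h1),
    hl.append ?_, mul_mem hy hy', by group⟩
  convert h2 using 1
  conv_lhs => rw [← Set.image_id ((fun a => l⁻¹ * a * l) '' A)]
  congr 1
  funext a
  simp only [id]
  group

theorem SFact.of_centralizer {A : Set G} {c : G} (hc : c ∈ centralizer A) : SFact P A c :=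
  ⟨c, 1, 1, hc, .nil A, one_mem _, by simp⟩

theorem SFact.of_normalizer {A : Set G} {y : G} (hy : y ∈ normalizer ((P : Subgroup G) : Set G)) :
    SFact P A y := ⟨1, 1, y, one_mem _, .nil A, hy, by simp⟩

/-- All fusion of a set through subgroups of order exceeding `m`, once their normalisers factor. -/
theorem sFact_of_targets {A : Set G} {g : G} (h : AGFact P A g)
    (hstep : ∀ D : Subgroup G, IsFusionTarget P D → Nat.card A ≤ Nat.card D →
      ∀ x ∈ normalizer (D : Set G), SFact P (D : Set G) x) : SFact P A g := by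
  obtain ⟨c, l, hc, hl, rfl⟩ := h
  refine SFact.append (.of_centralizer hc) ?_
  have himg : (fun a => c⁻¹ * a * c) '' A = A := by
    conv_rhs => rw [← Set.image_id A]
    refine Set.image_congr fun a ha => ?_
    rw [mul_assoc, mem_centralizer_iff.mp hc a ha, inv_mul_cancel_left, id]
  rw [himg]
  clear hc himg
  induction hl with
  | nil A => exact .of_centralizer (one_mem _)
  | @cons A g D x hD hx hA _ ih =>
    refine SFact.append ((hstep D hD (Nat.card_mono (Set.toFinite _) hA) x hx).mono hA) (ih ?_)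
    intro E hE hcard
    refine hstep E hE (le_trans (le_of_eq ?_) hcard)
    exact (Nat.card_image_of_injective (fun a b h => by simpa using h) A).symm

variable {N : Type*} [Group N] [Finite N]

/-- A subgroup containing the normalisers of all nontrivial `p`-subgroups of a fixed Sylow group. -/
def HasLocals (S : Sylow p N) (Γ : Subgroup N) : Prop :=
  ∀ R : Subgroup N, R ≤ (S : Subgroup N) → R ≠ ⊥ → normalizer (R : Set N) ≤ Γ

theorem agChain_mem {S : Sylow p N} {Γ : Subgroup N} (hΓ : HasLocals S Γ) {A : Set N} {l : N}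
    (h : AGChain S A l) (hA : ∃ a ∈ A, a ≠ (1 : N)) : l ∈ Γ := by
  induction h with
  | nil A => exact one_mem _
  | @cons A g D x hD hx hAD _ ih =>
    obtain ⟨a, ha, ha1⟩ := hA
    refine mul_mem (hΓ D hD.1 (fun hb => ha1 ?_) hx) (ih ⟨_, ⟨a, ha, rfl⟩, ?_⟩)
    · exact Subgroup.mem_bot.1 (hb ▸ hAD ha)
    · intro h
      exact ha1 (by
        have := congrArg (fun b => x * b * x⁻¹) h
        simpa [mul_assoc] using this)

theorem locals_eq_top (S : Sylow p N) (hS : (S : Subgroup N) ≠ ⊥) {Γ : Subgroup N}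
    (hΓ : HasLocals S Γ) (hc : Cfsg.IsSylowChainConnected p N) : Γ = ⊤ := by
  rw [eq_top_iff]
  intro g _
  obtain ⟨n, c, hc0, hcl, -, hstep⟩ := hc S (g • S)
  have key : ∀ i : Fin (n + 1), ∃ γ ∈ Γ, c i = γ • S := by
    intro i
    induction i using Fin.induction with
    | zero => exact ⟨1, one_mem _, by rw [hc0, one_smul]⟩
    | succ i ih =>
      obtain ⟨γ, hγ, hi⟩ := ih
      obtain ⟨y, hy⟩ := MulAction.exists_smul_eq N S (γ⁻¹ • c i.succ)
      refine ⟨γ * y, mul_mem hγ ?_, by rw [mul_smul, hy, smul_inv_smul]⟩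
      set A : Subgroup N := (S : Subgroup N) ⊓ ((y • S : Sylow p N) : Subgroup N) with hA
      have hne : A ≠ ⊥ := by
        intro hb
        refine (hstep i).2 ((Subgroup.eq_bot_iff_forall _).2 fun u hu => ?_)
        obtain ⟨hu1, hu2⟩ := hu
        change u ∈ (c i.castSucc : Subgroup N) at hu1
        change u ∈ (c i.succ : Subgroup N) at hu2
        rw [hi, mem_coe_smul_sylow_iff] at hu1
        have hu2' : γ⁻¹ * u * γ ∈ ((γ⁻¹ • c i.succ : Sylow p N) : Subgroup N) := by
          rw [mem_coe_smul_sylow_iff,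
            show (γ⁻¹)⁻¹ * (γ⁻¹ * u * γ) * γ⁻¹ = u by group]
          exact hu2
        rw [← hy] at hu2'
        have hm : γ⁻¹ * u * γ ∈ A := ⟨hu1, hu2'⟩
        rw [hb, Subgroup.mem_bot] at hm
        have := congrArg (fun b => γ * b * γ⁻¹) hm
        simpa [mul_assoc] using this
      obtain ⟨c', l, hc', hl, hyl⟩ := agFact S (A := (A : Set N)) (g := y) (fun a ha => ha.1)
        (fun a ha => mem_coe_smul_sylow_iff.mp ha.2)
      rw [hyl]
      obtain ⟨⟨a, ha⟩, ha1⟩ := (Subgroup.ne_bot_iff_exists_ne_one (H := A)).mp hne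
      exact mul_mem (hΓ A inf_le_left hne (centralizer_le_normalizer _ hc'))
        (agChain_mem hΓ hl ⟨a, ha, fun h => ha1 (Subtype.ext h)⟩)
  obtain ⟨γ, hγ, hl⟩ := key (Fin.last n)
  rw [hcl] at hl
  have hfix : (γ⁻¹ * g) • S = S := by rw [mul_smul, hl, inv_smul_smul]
  rw [← mul_inv_cancel_left γ g]
  refine mul_mem hγ (hΓ _ le_rfl hS ?_)
  exact Sylow.smul_eq_iff_mem_normalizer.1 hfix

/-- When some proper subgroup contains all the locals, the normal subgroups of order divisible by
`p` have a least member. -/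
theorem exists_least (S : Sylow p N) {Γ : Subgroup N} (hΓ : HasLocals S Γ) (hne : Γ ≠ ⊤)
    {Y₁ Y₂ : Subgroup N} [hY₁ : Y₁.Normal] [hY₂ : Y₂.Normal] (h1 : p ∣ Nat.card Y₁)
    (h2 : p ∣ Nat.card Y₂) : p ∣ Nat.card ↥(Y₁ ⊓ Y₂) := by
  by_contra hI
  set I := Y₁ ⊓ Y₂ with hIdef
  have hnd1 := not_dvd_relIndex_sylow_inf S Y₁
  have hnd2 := not_dvd_relIndex_sylow_inf S Y₂
  have key : ∀ Y : Subgroup N, p ∣ Nat.card Y → ¬ p ∣ ((S : Subgroup N) ⊓ Y).relIndex Y →
      ∃ a ∈ (S : Subgroup N) ⊓ Y, orderOf a = p := by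
    intro Y hY hnd
    have hc : p ∣ Nat.card ↥((S : Subgroup N) ⊓ Y) := by
      have := relIndex_mul_relIndex ⊥ ((S : Subgroup N) ⊓ Y) Y bot_le inf_le_right
      rw [relIndex_bot_left, relIndex_bot_left] at this
      rcases (hp.out.dvd_mul.1 (this ▸ hY)) with h | h
      · exact h
      · exact absurd h hnd
    obtain ⟨a, ha⟩ := exists_prime_orderOf_dvd_card' p hc
    exact ⟨a, a.2, by rw [Subgroup.orderOf_coe]; exact ha⟩
  obtain ⟨a, ⟨haS, haY⟩, hao⟩ := key Y₁ h1 hnd1
  obtain ⟨b, ⟨hbS, hbY⟩, hbo⟩ := key Y₂ h2 hnd2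
  have hIS : ∀ u ∈ (S : Subgroup N), u ∈ I → u = 1 := by
    intro u hu hu'
    have h : (S : Subgroup N) ⊓ I = ⊥ := by
      refine Subgroup.inf_eq_bot_of_coprime ?_
      obtain ⟨k, hk⟩ := IsPGroup.iff_card.mp S.2
      rw [hk]
      exact (hp.out.coprime_iff_not_dvd.mpr hI).pow_left k
    exact Subgroup.mem_bot.1 (h ▸ (⟨hu, hu'⟩ : u ∈ (S : Subgroup N) ⊓ I))
  have hab : a * b = b * a := by
    have hc : a * b * a⁻¹ * b⁻¹ = 1 := by
      refine hIS _ (mul_mem (mul_mem (mul_mem haS hbS) (inv_mem haS)) (inv_mem hbS)) ⟨?_, ?_⟩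
      · rw [mul_assoc, mul_assoc]
        exact Y₁.mul_mem haY (by rw [← mul_assoc]; exact hY₁.conj_mem _ (inv_mem haY) b)
      · exact Y₂.mul_mem (hY₂.conj_mem _ hbY a) (inv_mem hbY)
    have := congrArg (fun u => u * b * a) hc
    simpa [mul_assoc] using this
  have hab2 : ∀ u ∈ zpowers a, u ∈ zpowers b → u = 1 := fun u hu hu' =>
    hIS u (zpowers_le.2 haS hu) ⟨zpowers_le.2 haY hu, zpowers_le.2 hbY hu'⟩
  set E := zpowers a ⊔ zpowers b with hE
  have hEc : E ≤ centralizer (E : Set N) := by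
    have h1 : E ≤ centralizer ({a} : Set N) ⊓ centralizer ({b} : Set N) := by
      rw [hE, sup_le_iff, zpowers_le, zpowers_le, mem_inf, mem_inf]
      simp only [mem_centralizer_singleton_iff]
      exact ⟨⟨trivial, hab⟩, ⟨hab.symm, trivial⟩⟩
    conv_lhs => rw [hE]
    rw [sup_le_iff, zpowers_le, zpowers_le]
    constructor <;> rw [mem_centralizer_iff] <;> intro u hu
    · exact mem_centralizer_singleton_iff.1 (h1 hu).1
    · exact mem_centralizer_singleton_iff.1 (h1 hu).2
  haveI : IsMulCommutative ↥E :=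
    ⟨⟨fun u v => Subtype.ext ((mem_centralizer_iff.1 (hEc v.2) u.1 u.2))⟩⟩
  have hES : E ≤ (S : Subgroup N) := sup_le (zpowers_le.2 haS) (zpowers_le.2 hbS)
  have hEnc : ¬ IsCyclic ↥E := by
    intro hcy
    have haE : zpowers a ≤ E := le_sup_left
    have hbE : zpowers b ≤ E := le_sup_right
    haveI := hcy
    have heq := CfsgLib.OddOrder.eq_of_card_eq_of_isCyclic (C := E) haE hbE
      (by rw [Nat.card_zpowers, Nat.card_zpowers, hao, hbo])
    rw [hab2 a (mem_zpowers a) (heq ▸ mem_zpowers a), orderOf_one] at hao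
    exact hp.out.ne_one hao.symm
  have hIΓ : I ≤ Γ := by
    refine CfsgLib.Coprime.le_of_centralizer_le_of_not_isCyclic hEnc ?_ ?_ fun e he he1 => ?_
    · rw [Subgroup.normalizer_eq_top]; exact le_top
    · obtain ⟨k, hk⟩ := IsPGroup.iff_card.mp (S.2.to_le hES)
      rw [hk]
      exact (hp.out.coprime_iff_not_dvd.mpr hI).pow_left k
    · refine inf_le_right.trans ((?_ : centralizer {e} ≤ _).trans
        (hΓ (zpowers e) (zpowers_le.2 (hES he)) (by simpa using he1)))
      rw [← centralizer_closure, ← zpowers_eq_closure]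
      exact centralizer_le_normalizer _
  have hY1 : Y₁ ≤ Γ := by
    intro y hy
    have hbI : zpowers b ⊓ I = ⊥ := (Subgroup.eq_bot_iff_forall _).2 fun u hu =>
      hIS u (zpowers_le.2 hbS hu.1) hu.2
    set Q := (zpowers b).map (MulAut.conj y).toMonoidHom with hQ
    have hQD : Q ≤ zpowers b ⊔ I := by
      rw [hQ, map_le_iff_le_comap, zpowers_le, mem_comap]
      show y * b * y⁻¹ ∈ zpowers b ⊔ I
      rw [show y * b * y⁻¹ = (y * b * y⁻¹ * b⁻¹) * b by group]
      refine mul_mem (mem_sup_right ⟨?_, ?_⟩) (mem_sup_left (mem_zpowers b))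
      · rw [mul_assoc, mul_assoc]
        exact Y₁.mul_mem hy (by rw [← mul_assoc]; exact hY₁.conj_mem _ (inv_mem hy) b)
      · exact Y₂.mul_mem (hY₂.conj_mem _ hbY y) (inv_mem hbY)
    have hnd : ∀ U : Subgroup N, U ≤ zpowers b ⊔ I → Nat.card U = p →
        ¬ p ∣ U.relIndex (zpowers b ⊔ I) := by
      intro U hU hcU hd
      have h1 := relIndex_mul_relIndex ⊥ U (zpowers b ⊔ I) bot_le hU
      rw [relIndex_bot_left, relIndex_bot_left, hcU, card_sup_of_disjoint _ _ hbI, Nat.card_zpowers,
        hbo] at h1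
      exact hI (Nat.eq_of_mul_eq_mul_left hp.out.pos h1 ▸ hd)
    obtain ⟨m, hm, hmQ⟩ := exists_map_conj_eq_of_sylow_in (P := zpowers b) (Q := Q)
      le_sup_left hQD (IsPGroup.of_card (n := 1) (by rw [Nat.card_zpowers, hbo, pow_one]))
      ((IsPGroup.of_card (n := 1) (by rw [Nat.card_zpowers, hbo, pow_one])).map _)
      (hnd _ le_sup_left (by rw [Nat.card_zpowers, hbo]))
      (hnd _ hQD (by rw [hQ, CfsgLib.Base.card_map_of_injective (MulAut.conj y).injective, Nat.card_zpowers, hbo]))
    have hn : m⁻¹ * y ∈ normalizer ((zpowers b : Subgroup N) : Set N) := by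
      rw [mem_normalizer_iff_map_conj_eq]
      show (zpowers b).map (MulAut.conj (m⁻¹ * y)).toMonoidHom = zpowers b
      have e : (MulAut.conj (m⁻¹ * y)).toMonoidHom
          = (MulAut.conj m⁻¹).toMonoidHom.comp (MulAut.conj y).toMonoidHom := by ext u; simp [mul_assoc]
      rw [e, ← Subgroup.map_map, ← hQ, ← hmQ, Subgroup.map_map]
      have e2 : (MulAut.conj m⁻¹).toMonoidHom.comp (MulAut.conj m).toMonoidHom = MonoidHom.id N := by
        ext u; simp [mul_assoc]
      rw [e2, Subgroup.map_id]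
    have hb1 : zpowers b ≠ ⊥ := by
      rw [Ne, zpowers_eq_bot, ← orderOf_eq_one_iff, hbo]
      exact hp.out.ne_one
    have hbΓ : zpowers b ≤ Γ :=
      le_normalizer.trans (hΓ _ (zpowers_le.2 hbS) hb1)
    rw [← mul_inv_cancel_left m y]
    exact mul_mem ((sup_le hbΓ hIΓ) hm) (hΓ _ (zpowers_le.2 hbS) hb1 hn)
  refine hne (eq_top_iff.2 fun g _ => ?_)
  obtain ⟨d, hd, n, hn, rfl⟩ := exists_mul_normalizer S Y₁ g
  refine mul_mem (hY1 hd) (hΓ _ inf_le_left (fun hb => ?_) hn)
  have : a ∈ (S : Subgroup N) ⊓ Y₁ := ⟨haS, haY⟩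
  rw [hb, Subgroup.mem_bot] at this
  rw [this, orderOf_one] at hao
  exact hp.out.ne_one hao.symm

omit [Finite N] in
theorem conj_image_normalizer {D : Subgroup N} {x : N} (hx : x ∈ normalizer (D : Set N)) :
    (fun a => x⁻¹ * a * x) '' (D : Set N) = (D : Set N) := by
  ext u
  constructor
  · rintro ⟨a, ha, rfl⟩
    exact (mem_normalizer_iff''.mp hx a).mp ha
  · intro hu
    exact ⟨x * u * x⁻¹, (mem_normalizer_iff.mp hx u).mp hu, by group⟩

/-- The normaliser of a target factors. -/
theorem sFact_target (P : Sylow p G) (n : ℕ) : ∀ (D : Subgroup G), IsFusionTarget P D →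
    Nat.card G - Nat.card D < n → ∀ x ∈ normalizer (D : Set G), SFact P (D : Set G) x := by
  induction n with
  | zero => intro D _ h; omega
  | succ n ih =>
    intro D hD hn x hx
    by_cases hDP : D = (P : Subgroup G)
    · subst hDP
      exact .of_normalizer hx
    set N := normalizer (D : Set G) with hN
    have hDN : D ≤ N := le_normalizer
    set D₀ : Subgroup N := D.subgroupOf N with hD₀
    haveI : D₀.Normal := normal_in_normalizer
    obtain ⟨hDle, hCD, hdir, htame⟩ := hD
    let S₀ : Sylow p N :=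
      ((P.2.to_le (inf_le_left : (P : Subgroup G) ⊓ N ≤ _)).comap_subtype (K := N)).toSylow htame
    have hS₀mem : ∀ d : N, d ∈ (S₀ : Subgroup N) ↔ (d : G) ∈ (P : Subgroup G) :=
      fun d => ⟨fun h => h.1, fun h => ⟨h, d.2⟩⟩
    have hD₀S : D₀ ≤ (S₀ : Subgroup N) := fun d hd => (hS₀mem d).2 (hDle hd)
    -- the factorable elements
    let FacM : Submonoid N :=
      { carrier := {d : N | SFact P (D : Set G) (d : G)}
        one_mem' := .of_centralizer (one_mem _)
        mul_mem' := fun {a b} ha hb => by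
          refine SFact.append ha ?_
          rw [conj_image_normalizer a.2]
          exact hb }
    let Fac : Subgroup N :=
      { FacM with
        inv_mem' := fun {a} ha => by
          have h1 : a * a ^ (orderOf a - 1) = 1 := by
            rw [← pow_succ', Nat.sub_add_cancel (orderOf_pos a), pow_orderOf_eq_one]
          rw [inv_eq_of_mul_eq_one_right h1]
          exact FacM.pow_mem ha _ }
    have hbig : ∀ R : Subgroup G, R ≤ (P : Subgroup G) → D < R → ∀ m ∈ normalizer (R : Set G),
        SFact P (R : Set G) m := by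
      intro R hRP hlt m hm
      refine sFact_of_targets (agFact P (fun a ha => hRP ha)
        (fun a ha => hRP ((mem_normalizer_iff''.mp hm a).mp ha))) fun E hE hcard y hy => ?_
      refine ih E hE ?_ y hy
      have h1 : Nat.card D < Nat.card R := card_lt_card_of_lt hlt
      have h2 : Nat.card (R : Set G) = Nat.card R := rfl
      have h3 := card_le_card_group E
      omega
    have hFac : ∀ R : Subgroup N, R ≤ (S₀ : Subgroup N) → D₀ < R →
        ∀ m ∈ normalizer (R : Set N), m ∈ Fac := by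
      intro R hRS hlt m hm
      show SFact P (D : Set G) (m : G)
      refine (hbig (R.map N.subtype) ?_ ?_ (m : G) ?_).mono ?_
      · rintro _ ⟨u, hu, rfl⟩
        exact (hS₀mem u).1 (hRS hu)
      · have := (Subgroup.map_lt_map_iff_of_injective N.subtype_injective).mpr hlt
        rwa [hD₀, map_subgroupOf_eq_of_le hDN] at this
      · exact le_normalizer_map _ ⟨m, hm, rfl⟩
      · intro d hd
        exact ⟨⟨d, hDN hd⟩, hlt.le hd, rfl⟩
    have hDS : D₀ < (S₀ : Subgroup N) := by
      refine lt_of_le_of_ne hD₀S fun he => hDP ?_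
      have hlt : ¬ D < (P : Subgroup G) ⊓ normalizer (D : Set G) := by
        intro hlt
        obtain ⟨u, hu, huD⟩ := SetLike.exists_of_lt hlt
        exact huD (he.ge (x := (⟨u, hu.2⟩ : N)) ((hS₀mem _).2 hu.1))
      by_contra hne
      exact hlt (lt_inf_normalizer P.2 (lt_of_le_of_ne hDle hne))
    set π := QuotientGroup.mk' D₀ with hπ
    have hπs : Function.Surjective π := QuotientGroup.mk'_surjective D₀
    let Sb : Sylow p (N ⧸ D₀) := S₀.mapSurjective (f := π) hπs
    have hSb : (Sb : Subgroup (N ⧸ D₀)) = (S₀ : Subgroup N).map π := Sylow.coe_mapSurjective hπs S₀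
    have hSb1 : (Sb : Subgroup (N ⧸ D₀)) ≠ ⊥ := by
      rw [hSb, Ne, Subgroup.map_eq_bot_iff, hπ, QuotientGroup.ker_mk']
      exact hDS.not_ge
    have hD₀Fac : D₀ ≤ Fac := fun d hd => hFac _ le_rfl hDS d (le_normalizer (hD₀S hd))
    set Γ := Fac.map π with hΓdef
    have hcomapS : (Sb : Subgroup (N ⧸ D₀)).comap π = (S₀ : Subgroup N) := by
      rw [hSb, comap_map_eq, hπ, QuotientGroup.ker_mk', sup_eq_left.2 hD₀S]
    have hΓ : HasLocals Sb Γ := by
      intro R hR hR1 m hm
      obtain ⟨m, rfl⟩ := hπs m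
      refine ⟨m, hFac (R.comap π) (hcomapS ▸ comap_mono hR) ?_ m ?_, rfl⟩
      · refine lt_of_le_of_ne (fun d hd => ?_) fun he => hR1 ?_
        · show π d ∈ R
          rw [hπ, QuotientGroup.mk'_apply, (QuotientGroup.eq_one_iff d).2 hd]
          exact one_mem R
        · rw [← map_comap_eq_self_of_surjective hπs R, ← he, Subgroup.map_eq_bot_iff, hπ,
            QuotientGroup.ker_mk']
      · rw [mem_normalizer_iff] at hm ⊢
        intro u
        rw [mem_comap, mem_comap, map_mul, map_mul, map_inv]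
        exact hm (π u)
    suffices hall : ∀ d : N, d ∈ Fac from (hall ⟨x, hx⟩ :)
    by_cases htop : Γ = ⊤
    · intro d
      have h : Fac = ⊤ := by
        rw [← comap_map_eq_self (f := π) (H := Fac) (by rw [hπ, QuotientGroup.ker_mk']; exact hD₀Fac), ← hΓdef,
          htop, comap_top]
      exact h ▸ mem_top d
    have hcompl : ¬ Cfsg.IsSylowChainConnected p (N ⧸ D₀) := fun h =>
      htop (locals_eq_top Sb hSb1 hΓ h)
    have hC : (P : Subgroup G) ⊓ centralizer (D : Set G) ≤ D := by
      intro u hu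
      obtain ⟨-, hOM, hcomm, hdisj, hsup⟩ := hdir.1, hdir.2.1, hdir.2.2.1, hdir.2.2.2.1, hdir.2.2.2.2
      have h1 : u ∈ (Cfsg.pPrimeCore p ↥N).map N.subtype ⊔ D := hsup ▸ hCD hu.2
      rw [← SetLike.mem_coe, coe_mul_of_right_le_normalizer_left _ D
        (hDN.trans (le_normalizer_map_pPrimeCore N)), Set.mem_mul] at h1
      obtain ⟨o, ho, d, hd, hod⟩ := h1
      have ho1 : o = 1 := by
        have hoP : o ∈ (P : Subgroup G) := by
          rw [← mul_inv_cancel_right o d, hod]
          exact mul_mem hu.1 (inv_mem (hDle hd))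
        obtain ⟨k, hk⟩ := IsPGroup.iff_card.mp P.2
        refine orderOf_eq_one_iff.1 (Nat.eq_one_of_dvd_coprimes
          (Nat.Coprime.pow_left k ((hp.out.coprime_iff_not_dvd).mpr ?_))
          (hk ▸ Subgroup.orderOf_dvd_natCard _ hoP) (Subgroup.orderOf_dvd_natCard _ ho))
        rw [CfsgLib.Base.card_map_subtype]
        exact not_dvd_card_pPrimeCore p N
      rw [← hod, ho1, one_mul]
      exact hd
    have hprops : HProps P D := by
      refine ⟨hDle, htame, hC, le_antisymm ?_ (sup_le ?_ hCD), hcompl⟩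
      · rw [← hdir.2.2.2.2]
        refine sup_le (le_trans (fun o ho => ?_) le_sup_right) le_sup_left
        rw [mem_centralizer_iff]
        exact fun d hd => (hdir.2.2.1 o ho d hd).symm
      · exact hdir.2.1
    -- the least normal subgroup
    obtain ⟨Y₀, ⟨hY₀n, hY₀p⟩, hY₀min⟩ := Set.Finite.exists_minimal
      (s := {Y : Subgroup (N ⧸ D₀) | Y.Normal ∧ p ∣ Nat.card Y}) (Set.toFinite _)
      ⟨⊤, inferInstance, by
        rw [card_top]
        obtain ⟨k, hk⟩ := IsPGroup.iff_card.mp Sb.2
        rcases k with - | k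
        · exact absurd (Subgroup.eq_bot_of_card_eq _ (by simpa using hk)) hSb1
        · exact (hk ▸ dvd_pow_self p k.succ_ne_zero).trans (card_subgroup_dvd_card _)⟩
    haveI := hY₀n
    set X₀ : Subgroup N := Y₀.comap π with hX₀
    haveI : X₀.Normal := Normal.comap hY₀n π
    set X : Subgroup G := X₀.map N.subtype with hX
    have hXN : X ≤ N := map_subtype_le _
    have hXsub : X.subgroupOf N = X₀ := by
      rw [hX, subgroupOf, comap_map_eq_self_of_injective N.subtype_injective]
    have hD₀X : D₀ ≤ X₀ := by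
      intro d hd
      show π d ∈ Y₀
      rw [hπ, QuotientGroup.mk'_apply, (QuotientGroup.eq_one_iff d).2 hd]
      exact one_mem Y₀
    have hDX : D ≤ X := fun d hd => ⟨⟨d, hDN hd⟩, hD₀X hd, rfl⟩
    have hrel : ∀ Y : Subgroup G, D ≤ Y → Y ≤ N →
        D.relIndex Y = Nat.card ((Y.subgroupOf N).map π) := by
      intro Y hDY hYN
      have h1 : Nat.card ↥D₀ * Nat.card ((Y.subgroupOf N).map π) = Nat.card (Y.subgroupOf N) := by
        rw [← relIndex_bot_left D₀, ← relIndex_bot_left (Y.subgroupOf N),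
          ← relIndex_mul_relIndex ⊥ D₀ (Y.subgroupOf N) bot_le (fun d hd => hDY hd)]
        congr 1
        conv_lhs => rw [← relIndex_bot_left ((Y.subgroupOf N).map π), ← relIndex_comap,
          MonoidHom.comap_bot]
        rw [show π.ker = D₀ from QuotientGroup.ker_mk' D₀]
      rw [show Nat.card ↥D₀ = Nat.card D from card_subgroupOf hDN, card_subgroupOf hYN, ← relIndex_bot_left D,
        ← relIndex_bot_left Y, ← relIndex_mul_relIndex ⊥ D Y bot_le hDY, relIndex_bot_left] at h1
      exact (Nat.eq_of_mul_eq_mul_left Nat.card_pos h1).symm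
    have hxprops : XProps p D X := by
      refine ⟨hDX, hXN, by rw [← hN, hXsub]; infer_instance, ?_, ?_⟩
      · rw [hrel X hDX hXN, hXsub, hX₀, map_comap_eq_self_of_surjective hπs]
        exact hY₀p
      · intro Y hDY hYN hYn hYp
        haveI := hYn
        haveI : ((Y.subgroupOf N).map π).Normal := Normal.map inferInstance π hπs
        have hY₁ : p ∣ Nat.card ((Y.subgroupOf N).map π) := hrel Y hDY hYN ▸ hYp
        have hint := exists_least Sb hΓ htop hY₀p hY₁
        have hle : Y₀ ≤ (Y.subgroupOf N).map π :=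
          (hY₀min ⟨inferInstance, hint⟩ inf_le_left).trans inf_le_right
        rintro _ ⟨d, hd, rfl⟩
        obtain ⟨d', hd', hdd⟩ := hle hd
        have hq : d'⁻¹ * d ∈ D₀ := by
          rw [← QuotientGroup.eq]
          exact hdd
        rw [show d = d' * (d'⁻¹ * d) by group]
        exact Y.mul_mem hd' (hDY hq)
    -- the residual of `X` factors
    have hres : ∀ r : N, (r : G) ∈ (Cfsg.pResidual p ↥X).map X.subtype → r ∈ Fac := by
      intro r hr
      show SFact P (D : Set G) (r : G)
      refine ⟨1, (r : G), 1, one_mem _, ?_, one_mem _, by simp⟩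
      simpa using SChain.cons D X (r : G) ⟨hprops, hxprops, hr⟩ subset_rfl (.nil _)
    intro d
    obtain ⟨e, he, m, hm, rfl⟩ := exists_mul_normalizer S₀ X₀ d
    have hlt : D₀ < (S₀ : Subgroup N) ⊓ X₀ := by
      refine lt_of_le_of_ne (le_inf hD₀S hD₀X) fun h => ?_
      have hnd := not_dvd_relIndex_sylow_inf S₀ X₀
      rw [← h] at hnd
      apply hnd
      have h2 : D₀.relIndex X₀ = D.relIndex X := by
        rw [hD₀, ← hXsub, relIndex_subgroupOf hXN]
      rw [h2]
      exact hxprops.2.2.2.1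
    refine mul_mem ?_ (hFac _ inf_le_left hlt m hm)
    let T : Sylow p X₀ := (S₀.isPGroup'.comap_subtype (K := X₀)).toSylow
      (not_dvd_index_subgroupOf_of_normal S₀ X₀)
    haveI := pResidual_normal (G := X₀) (p := p)
    have hE : (⟨e, he⟩ : X₀) ∈ Cfsg.pResidual p ↥X₀ ⊔ (T : Subgroup X₀) := by
      rw [sup_comm, sup_pResidual_eq_top T]
      exact mem_top _
    obtain ⟨r, hr, t, ht, hrt⟩ := Subgroup.mem_sup_of_normal_left.1 hE
    rw [show e = (r : N) * (t : N) from (congrArg Subtype.val hrt).symm]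
    refine mul_mem (hres _ ?_) (hFac _ inf_le_left hlt _ (le_normalizer ⟨ht, t.2⟩))
    let eX : ↥X₀ ≃* ↥X := X₀.equivMapOfInjective N.subtype N.subtype_injective
    rw [← map_pResidual_mulEquiv eX]
    exact ⟨eX r, mem_map_of_mem _ hr, rfl⟩

/-- The strong Alperin–Goldschmidt theorem. -/
theorem sFact (P : Sylow p G) {A : Set G} {g : G} (hA : A ⊆ (P : Subgroup G))
    (hg : ∀ a ∈ A, g⁻¹ * a * g ∈ (P : Subgroup G)) : SFact P A g :=
  sFact_of_targets (agFact P hA hg)
    fun D hD _ x hx => sFact_target P _ D hD (Nat.lt_succ_self _) x hx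

/-- The list form of a chain. -/
theorem SChain.exists_fin {A : Set G} {l : G} (h : SChain P A l) :
    ∃ (n : ℕ) (H X : Fin n → Subgroup G) (x : Fin n → G), l = (List.ofFn x).prod ∧
      ∀ i, Good P (H i) (X i) (x i) ∧
        (fun a => (((List.ofFn x).take i.val).prod)⁻¹ * a * ((List.ofFn x).take i.val).prod) '' A ⊆
          (H i : Set G) := by
  induction h with
  | nil A => exact ⟨0, Fin.elim0, Fin.elim0, Fin.elim0, by simp, fun i => i.elim0⟩
  | @cons A g H X x hx hA _ ih =>
    obtain ⟨n, Hs, Xs, xs, rfl, hs⟩ := ih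
    refine ⟨n + 1, Fin.cons H Hs, Fin.cons X Xs, Fin.cons x xs, by simp [List.ofFn_succ],
      Fin.cases ⟨hx, ?_⟩ fun i => ⟨(hs i).1, ?_⟩⟩
    · simpa using hA
    · refine le_trans ?_ (hs i).2
      rintro _ ⟨a, ha, rfl⟩
      refine ⟨_, ⟨a, ha, rfl⟩, ?_⟩
      simp [List.ofFn_succ, mul_assoc]

end CfsgLib.LocalEven.StrongFusion
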