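import Cfsg.Prelude.Def_SylowChains
import Cfsg.Agent.Lib.PLocal.Constrained
import Cfsg.Agent.Lib.Transfer.NormalPComplement
import Cfsg.Agent.Lib.Base.Cores
import Cfsg.Agent.Lib.Base.Transport

/-!
Isomorphism invariance of the notions in the strong Alperin–Goldschmidt theorem.
-/

set_option autoImplicit false

namespace CfsgLib.LocalEven.StrongFusion

open Subgroup CfsgLib.Base CfsgLib.Transfer

variable {A B : Type*} [Group A] [Group B] {p : ℕ}

theorem map_pPrimePCore_mulEquiv (e : A ≃* B) :
    (Cfsg.pPrimePCore p A).map e.toMonoidHom = Cfsg.pPrimePCore p B := by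
  have hO := map_pPrimeCore_mulEquiv (p := p) e
  let eq := QuotientGroup.congr (Cfsg.pPrimeCore p A) (Cfsg.pPrimeCore p B) e hO
  ext x
  obtain ⟨a, rfl⟩ := e.surjective x
  rw [show e a = e.toMonoidHom a from rfl,
    Subgroup.mem_map_iff_mem (f := e.toMonoidHom) e.injective]
  show QuotientGroup.mk' _ a ∈ Cfsg.pCore p _ ↔ QuotientGroup.mk' _ (e a) ∈ Cfsg.pCore p _
  rw [← map_pCore_mulEquiv (p := p) eq,
    show QuotientGroup.mk' _ (e a) = eq.toMonoidHom (QuotientGroup.mk' _ a) from rfl,
    Subgroup.mem_map_iff_mem (f := eq.toMonoidHom) eq.injective]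

theorem map_pResidual_mulEquiv (e : A ≃* B) :
    (Cfsg.pResidual p A).map e.toMonoidHom = Cfsg.pResidual p B := by
  refine le_antisymm (map_pResidual_le _) ?_
  have h := map_mono (f := e.toMonoidHom) (map_pResidual_le (p := p) (G := B) e.symm.toMonoidHom)
  rwa [Subgroup.map_map,
    show e.toMonoidHom.comp e.symm.toMonoidHom = MonoidHom.id B from
      MonoidHom.ext fun b => e.apply_symm_apply b,
    Subgroup.map_id] at h

theorem chainConnected_of_equiv [Finite A] [Finite B] [Fact p.Prime] (e : A ≃* B)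
    (h : Cfsg.IsSylowChainConnected p A) : Cfsg.IsSylowChainConnected p B := by
  intro S T
  have tr : ∀ (X Y : Type _) [Group X] [Group Y] [Finite X] [Finite Y] (f : X ≃* Y) (U : Sylow p X),
      ∃ V : Sylow p Y, (V : Subgroup Y) = (U : Subgroup X).map f.toMonoidHom :=
    fun X Y _ _ _ _ f U => ⟨U.mapSurjective (f := f.toMonoidHom) f.surjective,
      Sylow.coe_mapSurjective f.surjective U⟩
  obtain ⟨S', hS'⟩ : ∃ S' : Sylow p A, (S : Subgroup B) = (S' : Subgroup A).map e.toMonoidHom := by
    let S' : Sylow p A := S.mapSurjective (f := e.symm.toMonoidHom) e.symm.surjective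
    refine ⟨S', ?_⟩
    rw [show (S' : Subgroup A) = (S : Subgroup B).map e.symm.toMonoidHom from
      Sylow.coe_mapSurjective e.symm.surjective S, Subgroup.map_map,
      show e.toMonoidHom.comp e.symm.toMonoidHom = MonoidHom.id B from
        MonoidHom.ext fun b => e.apply_symm_apply b, Subgroup.map_id]
  obtain ⟨T', hT'⟩ : ∃ T' : Sylow p A, (T : Subgroup B) = (T' : Subgroup A).map e.toMonoidHom := by
    let T' : Sylow p A := T.mapSurjective (f := e.symm.toMonoidHom) e.symm.surjective
    refine ⟨T', ?_⟩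
    rw [show (T' : Subgroup A) = (T : Subgroup B).map e.symm.toMonoidHom from
      Sylow.coe_mapSurjective e.symm.surjective T, Subgroup.map_map,
      show e.toMonoidHom.comp e.symm.toMonoidHom = MonoidHom.id B from
        MonoidHom.ext fun b => e.apply_symm_apply b, Subgroup.map_id]
  obtain ⟨n, c, hc0, hcl, hmem, hstep⟩ := h S' T'
  choose d hd using fun i => tr A B e (c i)
  refine ⟨n, d, Sylow.ext ?_, Sylow.ext ?_, fun i => ?_, fun i => ⟨fun hh => (hstep i).1 ?_, ?_⟩⟩
  · rw [hd, hc0, hS']
  · rw [hd, hcl, hT']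
  · rw [hd, hS', hT', ← Subgroup.map_inf _ _ _ e.injective]
    exact map_mono (hmem i)
  · refine Sylow.ext (Subgroup.map_injective (f := e.toMonoidHom) e.injective ?_)
    rw [← hd, ← hd, hh]
  · rw [hd, hd, ← Subgroup.map_inf _ _ _ e.injective, Ne,
      Subgroup.map_eq_bot_iff_of_injective _ e.injective]
    exact (hstep i).2

variable {G : Type*} [Group G] {σ : MulAut G}

/-- The restriction of an automorphism to a subgroup and its image. -/
noncomputable def subEquiv (σ : MulAut G) (K : Subgroup G) :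
    ↥K ≃* ↥(K.map σ.toMonoidHom) :=
  K.equivMapOfInjective σ.toMonoidHom σ.injective

theorem map_map_pPrimePCore (σ : MulAut G) (K : Subgroup G) :
    ((Cfsg.pPrimePCore p ↥K).map K.subtype).map σ.toMonoidHom =
      (Cfsg.pPrimePCore p ↥(K.map σ.toMonoidHom)).map (K.map σ.toMonoidHom).subtype := by
  rw [← map_pPrimePCore_mulEquiv (subEquiv σ K), Subgroup.map_map, Subgroup.map_map]
  rfl

theorem map_map_pResidual (σ : MulAut G) (K : Subgroup G) :
    ((Cfsg.pResidual p ↥K).map K.subtype).map σ.toMonoidHom =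
      (Cfsg.pResidual p ↥(K.map σ.toMonoidHom)).map (K.map σ.toMonoidHom).subtype := by
  rw [← map_pResidual_mulEquiv (subEquiv σ K), Subgroup.map_map, Subgroup.map_map]
  rfl

end CfsgLib.LocalEven.StrongFusion
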