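import Cfsg.Agent.Lib.Transfer.Alperin
import Cfsg.Agent.Lib.LocalEven.PReduced2
import Cfsg.Prelude.Def_LocalEven
import Cfsg.Prelude.Def_TwoFusion

/-!
A strongly closed abelian subgroup controls strong fusion.
-/

set_option autoImplicit false

namespace CfsgLib.LocalEven.SCAbelian

open Subgroup

variable {G : Type*} [Group G] [Finite G] {p : ℕ} [Fact p.Prime]

theorem mem_normalizer_of_le (P : Sylow p G) {A : Subgroup G}
    (hA : Cfsg.IsStronglyClosed A (P : Subgroup G)) {g : G}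
    (hg : ∀ a ∈ A, g * a * g⁻¹ ∈ (P : Subgroup G)) : g ∈ normalizer (A : Set G) :=
  mem_normalizer_fintype fun a ha => hA.2 a ha g (hg a ha)

theorem sylow_le_normalizer (P : Sylow p G) {A : Subgroup G}
    (hA : Cfsg.IsStronglyClosed A (P : Subgroup G)) : (P : Subgroup G) ≤ normalizer (A : Set G) :=
  fun _ hs => mem_normalizer_of_le P hA fun _ ha => mul_mem (mul_mem hs (hA.1 ha)) (inv_mem hs)

theorem fusion_step (P : Sylow p G) {A : Subgroup G} (hAc : IsMulCommutative A)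
    (hA : Cfsg.IsStronglyClosed A (P : Subgroup G)) {D : Subgroup G}
    (hD : D ≤ (P : Subgroup G))
    (hP : ¬ p ∣ ((P : Subgroup G) ⊓ normalizer (D : Set G)).relIndex (normalizer (D : Set G)))
    (ih : ∀ D' : Subgroup G, D' ≤ (P : Subgroup G) → Nat.card D < Nat.card D' → ∀ g : G,
      (∀ d ∈ D', g⁻¹ * d * g ∈ (P : Subgroup G)) →
        ∃ n ∈ normalizer (A : Set G), ∀ d ∈ D', g⁻¹ * d * g = n⁻¹ * d * n)
    {x : G} (hx : x ∈ normalizer (D : Set G)) :
    ∃ n ∈ normalizer (A : Set G), ∀ d ∈ D, x⁻¹ * d * x = n⁻¹ * d * n := by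
  by_cases hAD : A ≤ D
  · refine ⟨x, ?_, fun d _ => rfl⟩
    have h : x⁻¹ ∈ normalizer (A : Set G) := mem_normalizer_of_le P hA fun a ha =>
      hD ((mem_normalizer_iff.1 (inv_mem hx) a).1 (hAD ha))
    simpa using inv_mem h
  set N := normalizer (D : Set G) with hN
  have hAcomm : ∀ a ∈ A, ∀ b ∈ A, Commute a b := fun a ha b hb =>
    congrArg Subtype.val (hAc.1.1 ⟨a, ha⟩ ⟨b, hb⟩)
  have hPA := sylow_le_normalizer P hA
  -- the stabilizer of the chain `1 ≤ A ⊓ D ≤ D`
  let U : Subgroup N :=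
    { carrier := {n | (∀ d ∈ D, (n : G) * d * (n : G)⁻¹ * d⁻¹ ∈ A ⊓ D) ∧
        ∀ a ∈ A ⊓ D, (n : G) * a * (n : G)⁻¹ = a}
      one_mem' := ⟨fun d _ => by simp, fun a _ => by simp⟩
      mul_mem' := by
        rintro m n ⟨hm, hm'⟩ ⟨hn, hn'⟩
        refine ⟨fun d hd => ?_, fun a ha => ?_⟩
        · have e : ((m * n : N) : G) * d * ((m * n : N) : G)⁻¹ * d⁻¹ =
              ((m : G) * ((n : G) * d * (n : G)⁻¹ * d⁻¹) * (m : G)⁻¹) *
                ((m : G) * d * (m : G)⁻¹ * d⁻¹) := by rw [Subgroup.coe_mul]; group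
          rw [e, hm' _ (hn d hd)]
          exact mul_mem (hn d hd) (hm d hd)
        · rw [Subgroup.coe_mul]
          calc (m : G) * n * a * ((m : G) * n)⁻¹ = (m : G) * ((n : G) * a * (n : G)⁻¹) * (m : G)⁻¹ := by
                group
            _ = a := by rw [hn' a ha, hm' a ha]
      inv_mem' := by
        rintro n ⟨hn, hn'⟩
        have hi : ∀ a ∈ A ⊓ D, (n : G)⁻¹ * a * (n : G) = a := fun a ha => by
          conv_lhs => rw [← hn' a ha]
          group
        refine ⟨fun d hd => ?_, fun a ha => by simpa using hi a ha⟩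
        have e : ((n⁻¹ : N) : G) * d * ((n⁻¹ : N) : G)⁻¹ * d⁻¹ =
            (n : G)⁻¹ * ((n : G) * d * (n : G)⁻¹ * d⁻¹)⁻¹ * (n : G) := by
          rw [InvMemClass.coe_inv]; group
        rw [e, hi _ (inv_mem (hn d hd))]
        exact inv_mem (hn d hd) }
  have hADinv : ∀ m : N, ∀ a ∈ A ⊓ D, (m : G) * a * (m : G)⁻¹ ∈ A ⊓ D := fun m a ha => by
    have h := (mem_normalizer_iff.1 m.2 a).1 ha.2
    exact ⟨hA.2 a ha.1 m (hD h), h⟩
  have hUn : U.Normal := by
    refine ⟨fun n hn m => ?_⟩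
    obtain ⟨hn, hn'⟩ := hn
    refine ⟨fun d hd => ?_, fun a ha => ?_⟩
    · have hd' : (m : G)⁻¹ * d * m ∈ D := by
        simpa using (mem_normalizer_iff.1 (inv_mem m.2) d).1 hd
      have e : ((m * n * m⁻¹ : N) : G) * d * ((m * n * m⁻¹ : N) : G)⁻¹ * d⁻¹ =
          (m : G) * ((n : G) * ((m : G)⁻¹ * d * m) * (n : G)⁻¹ * ((m : G)⁻¹ * d * m)⁻¹) * (m : G)⁻¹ := by
        simp only [Subgroup.coe_mul, InvMemClass.coe_inv]; group
      rw [e]
      exact hADinv m _ (hn _ hd')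
    · have ha' : (m : G)⁻¹ * a * m ∈ A ⊓ D := by simpa using hADinv m⁻¹ a ha
      calc ((m * n * m⁻¹ : N) : G) * a * ((m * n * m⁻¹ : N) : G)⁻¹
          = (m : G) * ((n : G) * ((m : G)⁻¹ * a * m) * (n : G)⁻¹) * (m : G)⁻¹ := by
            simp only [Subgroup.coe_mul, InvMemClass.coe_inv]; group
        _ = a := by rw [hn' _ ha']; group
  -- the centralizer of `D` inside `U`
  let C : Subgroup U := (centralizer (D : Set G)).comap (N.subtype.comp U.subtype)
  have hCn : C.Normal := by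
    refine ⟨fun c hc m => fun d hd => ?_⟩
    have hmN : ((m : N) : G) ∈ N := (m : N).2
    have hd' : ((m : N) : G)⁻¹ * d * ((m : N) : G) ∈ D := by
      simpa using (mem_normalizer_iff.1 (inv_mem hmN) d).1 hd
    have h1 := hc _ hd'
    show d * (((m : N) : G) * ((c : N) : G) * ((m : N) : G)⁻¹) = _
    calc d * (((m : N) : G) * ((c : N) : G) * ((m : N) : G)⁻¹)
        = ((m : N) : G) * ((((m : N) : G)⁻¹ * d * ((m : N) : G)) * ((c : N) : G)) * ((m : N) : G)⁻¹ := by
          group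
      _ = ((m : N) : G) * (((c : N) : G) * (((m : N) : G)⁻¹ * d * ((m : N) : G))) * ((m : N) : G)⁻¹ := by
          rw [show (((m : N) : G)⁻¹ * d * ((m : N) : G)) * ((c : N) : G) = _ from h1]; rfl
      _ = _ := by
          show _ = ((m : N) : G) * ((c : N) : G) * ((m : N) : G)⁻¹ * d
          group
  obtain ⟨SN, hSN⟩ : ∃ SN : Sylow p N,
      (SN : Subgroup N) = ((P : Subgroup G) ⊓ N).subgroupOf N :=
    ⟨((P.2.to_le (inf_le_left : (P : Subgroup G) ⊓ N ≤ _)).comap_subtype (K := N)).toSylow hP, rfl⟩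
  obtain ⟨PU, hPU⟩ := exists_sylow_inf_eq SN (le_top : (SN : Subgroup N) ≤ ⊤) (le_top : U ≤ ⊤)
    (fun z _ => by rw [normalizer_eq_top_iff.2 hUn]; trivial)
  have hcover : (PU : Subgroup U) ⊔ C = ⊤ := by
    rw [← Subgroup.index_eq_one]
    have h1 : ((PU : Subgroup U) ⊔ C).index ∣ (PU : Subgroup U).index := index_dvd_of_le le_sup_left
    have h2 : ((PU : Subgroup U) ⊔ C).index ∣ C.index := index_dvd_of_le le_sup_right
    have hpq : IsPGroup p (U ⧸ C) := by
      intro q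
      obtain ⟨n, rfl⟩ := QuotientGroup.mk_surjective q
      obtain ⟨k, hk⟩ := IsPGroup.iff_card.1 (P.2.to_le (inf_le_left.trans hA.1 : A ⊓ D ≤ _))
      refine ⟨k, ?_⟩
      rw [← QuotientGroup.mk_pow, QuotientGroup.eq_one_iff]
      intro d hd
      have hpow : ∀ j : ℕ, ((n : N) : G) ^ j * d * (((n : N) : G) ^ j)⁻¹ =
          (((n : N) : G) * d * ((n : N) : G)⁻¹ * d⁻¹) ^ j * d := by
        intro j
        induction j with
        | zero => simp
        | succ j ih =>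
          set m := ((n : N) : G)
          set e := m * d * m⁻¹ * d⁻¹ with he
          have hfix : m * e * m⁻¹ = e := n.2.2 e (n.2.1 d hd)
          calc m ^ (j + 1) * d * (m ^ (j + 1))⁻¹ = m * (m ^ j * d * (m ^ j)⁻¹) * m⁻¹ := by
                rw [pow_succ']; group
            _ = m * (e ^ j * d) * m⁻¹ := by rw [ih]
            _ = (m * e * m⁻¹) ^ j * (m * d * m⁻¹) := by rw [conj_pow]; group
            _ = e ^ j * (e * d) := by rw [hfix, he]; group
            _ = _ := by rw [pow_succ]; group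
      have := hpow (p ^ k)
      have h0 : (((n : N) : G) * d * ((n : N) : G)⁻¹ * d⁻¹) ^ p ^ k = 1 := by
        rw [← hk]
        exact congrArg Subtype.val (pow_card_eq_one' (x := (⟨_, n.2.1 d hd⟩ : ↥(A ⊓ D))))
      rw [h0, one_mul] at this
      show d * ((((n ^ p ^ k : U) : N)) : G) = ((((n ^ p ^ k : U) : N)) : G) * d
      rw [SubmonoidClass.coe_pow, SubmonoidClass.coe_pow]
      exact (mul_inv_eq_iff_eq_mul.1 this).symm
    obtain ⟨k, hk⟩ := IsPGroup.iff_card.1 hpq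
    refine Nat.eq_one_of_dvd_coprimes ?_ h1 (h2.trans (by rw [C.index_eq_card, hk]))
    exact (((Fact.out : p.Prime).coprime_iff_not_dvd).2 PU.not_dvd_index).symm.pow_right k
  have hfr := Sylow.normalizer_sup_eq_top PU
  rw [hPU] at hfr
  have hxmem : (⟨x, hx⟩ : N) ∈ ((normalizer (((SN : Subgroup N) ⊓ U : Subgroup N) : Set N) ⊔ U :
      Subgroup N) : Set N) := hfr ▸ mem_top _
  rw [sup_comm, Subgroup.normal_mul] at hxmem
  obtain ⟨u, hu, y, hy, hxy⟩ := hxmem
  have huc : (⟨u, hu⟩ : U) ∈ ((C ⊔ (PU : Subgroup U) : Subgroup U) : Set U) := by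
    rw [sup_comm, hcover]; exact mem_top _
  rw [Subgroup.normal_mul] at huc
  obtain ⟨c, hc, q, hq, hcq⟩ := huc
  have hcq' : ((c : U) : N) * ((q : U) : N) = u := congrArg Subtype.val hcq
  have hqm : ((q : U) : N) ∈ (SN : Subgroup N) ⊓ U := hPU ▸ ⟨q, hq, rfl⟩
  set z := ((q : U) : N) * y with hz
  have hzn : z ∈ normalizer (((SN : Subgroup N) ⊓ U : Subgroup N) : Set N) :=
    mul_mem (le_normalizer hqm) hy
  have hxz : x = (((c : U) : N) : G) * (z : G) := by
    have e : u * y = (⟨x, hx⟩ : N) := hxy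
    rw [← hcq', mul_assoc] at e
    exact (congrArg Subtype.val e).symm
  -- a larger subgroup of `P`
  set PU' := ((SN : Subgroup N) ⊓ U).map N.subtype with hPU'
  have hPUP : PU' ≤ (P : Subgroup G) := by
    rintro _ ⟨w, hw, rfl⟩
    have : w ∈ (SN : Subgroup N) := hw.1
    rw [hSN, mem_subgroupOf] at this
    exact this.1
  set D' := D ⊔ PU' with hD'
  have hlt : Nat.card D < Nat.card D' := by
    refine lt_of_le_of_ne (card_le_of_le le_sup_left) fun heq => hAD ?_
    have hD'D : D' = D := (Subgroup.eq_of_le_of_card_ge le_sup_left heq.ge).symm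
    have hAN : A ⊓ N ≤ D := by
      intro b hb
      refine hD'D.le (mem_sup_right ⟨⟨b, hb.2⟩, ⟨?_, ?_, ?_⟩, rfl⟩)
      · show (⟨b, hb.2⟩ : N) ∈ (SN : Subgroup N)
        rw [hSN, mem_subgroupOf]
        exact ⟨hA.1 hb.1, hb.2⟩
      · intro d hd
        have h1 : b * d * b⁻¹ ∈ D := (mem_normalizer_iff.1 hb.2 d).1 hd
        refine ⟨?_, D.mul_mem h1 (D.inv_mem hd)⟩
        have h2 := (mem_normalizer_iff.1 (hPA (hD hd)) b⁻¹).1 (A.inv_mem hb.1)
        have e : b * d * b⁻¹ * d⁻¹ = b * (d * b⁻¹ * d⁻¹) := by group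
        rw [e]; exact A.mul_mem hb.1 h2
      · intro a ha
        exact mul_inv_eq_iff_eq_mul.2 (hAcomm b hb.1 a ha.1).eq
    -- the normalizer condition in `A ⊔ D`
    by_contra hAD'
    have hp : IsPGroup p ↥(A ⊔ D) := P.2.to_le (sup_le hA.1 hD)
    have : Group.IsNilpotent ↥(A ⊔ D) := hp.isNilpotent
    have hlt' : D.subgroupOf (A ⊔ D) < ⊤ :=
      lt_top_iff_ne_top.2 fun h => hAD' (le_sup_left.trans (subgroupOf_eq_top.1 h))
    obtain ⟨w, hw, hwD⟩ := SetLike.exists_of_lt (Group.normalizerCondition_of_isNilpotent _ hlt')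
    refine hwD ?_
    show (w : G) ∈ D
    have hwN : (w : G) ∈ N := mem_normalizer_fintype fun d hd =>
      (mem_normalizer_iff.1 hw ⟨d, mem_sup_right hd⟩).1 hd
    have hwm : (w : G) ∈ ((A ⊔ D : Subgroup G) : Set G) := w.2
    rw [coe_mul_of_right_le_normalizer_left A D (hD.trans hPA)] at hwm
    obtain ⟨a, ha, d, hd, had⟩ := hwm
    have haN : a ∈ N := by
      have : a = (w : G) * d⁻¹ := by rw [← had]; group
      rw [this]; exact mul_mem hwN (inv_mem (le_normalizer hd))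
    rw [← had]
    exact mul_mem (hAN ⟨ha, haN⟩) hd
  have hmap : ∀ d ∈ D', (z : G)⁻¹ * d * z ∈ (P : Subgroup G) := by
    have hle : D' ≤ ((P : Subgroup G)).comap (MulAut.conj (z : G)⁻¹).toMonoidHom := by
      refine sup_le (fun d hd => ?_) ?_
      · have := hD ((mem_normalizer_iff.1 (inv_mem z.2) d).1 hd)
        simpa using this
      · rintro _ ⟨w, hw, rfl⟩
        have h1 := (mem_normalizer_iff.1 (inv_mem hzn) w).1 hw
        have h2 : ((z⁻¹ * w * z⁻¹⁻¹ : N) : G) ∈ PU' := ⟨_, h1, rfl⟩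
        simpa using hPUP h2
    exact fun d hd => by simpa using hle hd
  obtain ⟨n, hn, hnd⟩ := ih D' (sup_le hD hPUP) hlt z hmap
  refine ⟨n, hn, fun d hd => ?_⟩
  rw [← hnd d (mem_sup_left hd), hxz]
  set c' := (((c : U) : N) : G)
  have hcd : d * c' = c' * d := hc d hd
  calc (c' * (z : G))⁻¹ * d * (c' * (z : G)) = (z : G)⁻¹ * (c'⁻¹ * (d * c')) * z := by group
    _ = _ := by rw [hcd]; group

theorem fusion (P : Sylow p G) {A : Subgroup G} (hAc : IsMulCommutative A)
    (hA : Cfsg.IsStronglyClosed A (P : Subgroup G)) :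
    ∀ m : ℕ, ∀ D : Subgroup G, D ≤ (P : Subgroup G) → Nat.card G - Nat.card D ≤ m → ∀ g : G,
      (∀ d ∈ D, g⁻¹ * d * g ∈ (P : Subgroup G)) →
        ∃ n ∈ normalizer (A : Set G), ∀ d ∈ D, g⁻¹ * d * g = n⁻¹ * d * n := by
  intro m
  induction m using Nat.strong_induction_on with
  | _ m ihm =>
    intro D hD hm g hg
    have hchain := CfsgLib.Transfer.fusionChain P (A := (D : Set G)) hD hg
    suffices key : ∀ (X : Set G) (g : G), CfsgLib.Transfer.FusionChain P X g →
        Nat.card D ≤ X.ncard → ∃ n ∈ normalizer (A : Set G), ∀ a ∈ X, g⁻¹ * a * g = n⁻¹ * a * n from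
      key _ g hchain (by rw [← Nat.card_coe_set_eq]; rfl)
    intro X g hc
    induction hc with
    | nil X => exact fun _ => ⟨1, one_mem _, fun a _ => rfl⟩
    | @cons X g Q x hxN hP _ hX _ ih =>
      intro hcard
      have hinj : Function.Injective fun a : G => x⁻¹ * a * x := fun a b h =>
        mul_left_cancel (mul_right_cancel h)
      obtain ⟨n₂, hn₂, hn₂'⟩ := ih (by rwa [Set.ncard_image_of_injective _ hinj])
      set D0 := (P : Subgroup G) ⊓ (Q : Subgroup G) with hD0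
      have hD0c : Nat.card D ≤ Nat.card D0 := hcard.trans (by
        rw [← Nat.card_coe_set_eq]; exact Nat.card_mono (Set.toFinite _) hX)
      obtain ⟨n₁, hn₁, hn₁'⟩ := fusion_step P hAc hA (D := D0) inf_le_left hP
        (fun D' hD' hlt => ihm (Nat.card G - Nat.card D') (by
          have := Subgroup.card_le_card_group D'
          omega) D' hD' le_rfl) hxN
      refine ⟨n₁ * n₂, mul_mem hn₁ hn₂, fun a ha => ?_⟩
      calc (x * g)⁻¹ * a * (x * g) = g⁻¹ * (x⁻¹ * a * x) * g := by group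
        _ = n₂⁻¹ * (x⁻¹ * a * x) * n₂ := hn₂' _ ⟨a, ha, rfl⟩
        _ = n₂⁻¹ * (n₁⁻¹ * a * n₁) * n₂ := by rw [hn₁' a (hX ha)]
        _ = _ := by group

theorem controlsStrongFusion (P : Sylow p G) {A : Subgroup G} (hAc : IsMulCommutative A)
    (hA : Cfsg.IsStronglyClosed A (P : Subgroup G)) : Cfsg.ControlsStrongFusion p A := by
  refine ⟨P, hA.1, fun X hX => ⟨hX, fun g hg => ?_⟩⟩
  have hle : Subgroup.closure X ≤ (P : Subgroup G) := (closure_le _).2 hX
  have hmap : ∀ d ∈ Subgroup.closure X, g⁻¹⁻¹ * d * g⁻¹ ∈ (P : Subgroup G) := by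
    have : Subgroup.closure X ≤ (P : Subgroup G).comap (MulAut.conj g).toMonoidHom :=
      (closure_le _).2 fun a ha => hg ⟨a, ha, rfl⟩
    exact fun d hd => by simpa using this hd
  obtain ⟨n, hn, h⟩ := fusion P hAc hA _ _ hle le_rfl g⁻¹ hmap
  exact ⟨n⁻¹, inv_mem hn, fun a ha => by simpa using h a (subset_closure ha)⟩

end CfsgLib.LocalEven.SCAbelian
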