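import Cfsg.Agent.Lib.LocalEven.Subnormal
import Cfsg.Agent.Lib.LocalEven.Norm
import Cfsg.Agent.Lib.LocalEven.StrongEmb3
import Cfsg.Agent.Lib.Fusion.SylowAux

/-!
Fixed points of Sylow subgroups and subnormal subgroups.
-/

namespace CfsgLib.LocalEven

open Cfsg

variable {G : Type*} [Group G] [Finite G] {p : ℕ} [Fact p.Prime]

theorem isSylIn_inf {R K L : Subgroup G} (hR : CfsgLib.Fusion.IsSylIn p R K) (hLK : L ≤ K)
    (hn : K ≤ Subgroup.normalizer (L : Set G)) : CfsgLib.Fusion.IsSylIn p (R ⊓ L) L := by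
  refine ⟨inf_le_right, hR.2.1.to_le inf_le_left, fun C hC hle hCL => ?_⟩
  obtain ⟨k, hk, hkC⟩ := hR.exists_conj_le hC (hCL.trans hLK)
  refine (Subgroup.eq_of_le_of_card_ge hle ?_).symm
  refine le_of_eq_of_le (Subgroup.card_map_of_injective (K := C) (f := (MulAut.conj k).toMonoidHom) (MulAut.conj k).injective).symm
    (Subgroup.card_le_of_le ?_)
  rintro _ ⟨x, hx, rfl⟩
  exact ⟨by simpa using hkC x hx, by
    simpa using (Subgroup.mem_normalizer_iff.1 (hn hk) x).1 (hCL hx)⟩

/-- If the fixed points of `S T` on `V` are centralized by `L`, so are the fixed points of the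
Sylow subgroup `S` of `L`. -/
theorem centralizer_fixed_sylow_le {V L T : Subgroup G} (hV : Cfsg.IsElementaryAbelian p V)
    (hLV : L ≤ Subgroup.normalizer (V : Set G)) (hTV : T ≤ Subgroup.normalizer (V : Set G))
    (hTL : T ≤ Subgroup.normalizer (L : Set G)) (hT : IsPGroup p T) (S : Sylow p L)
    (hTS : T ≤ Subgroup.normalizer (((S : Subgroup L).map L.subtype : Subgroup G) : Set G))
    (h : V ⊓ Subgroup.centralizer ((((S : Subgroup L).map L.subtype ⊔ T : Subgroup G)) : Set G) ≤
      Subgroup.centralizer (L : Set G)) :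
    V ⊓ Subgroup.centralizer (((S : Subgroup L).map L.subtype : Subgroup G) : Set G) ≤
      Subgroup.centralizer (L : Set G) := by
  classical
  set S' := (S : Subgroup L).map L.subtype with hS'
  set F := V ⊓ Subgroup.centralizer (S' : Set G) with hF
  have := hV.1
  let : CommGroup V :=
    { (inferInstance : Group V) with mul_comm := fun a b => mul_comm' a b }
  have := Fintype.ofFinite (↥L ⧸ (S : Subgroup L))
  let act : L → V → V := fun g v =>
    ⟨g * v * (g : G)⁻¹, (Subgroup.mem_normalizer_iff.1 (hLV g.2) v).1 v.2⟩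
  let f : F → ↥L ⧸ (S : Subgroup L) → V := fun z q =>
    Quotient.liftOn' q (fun g => act g ⟨z, z.2.1⟩) (by
      intro a b hab
      rw [QuotientGroup.leftRel_apply] at hab
      apply Subtype.ext
      have h1 := z.2.2 _ ⟨a⁻¹ * b, hab, rfl⟩
      simp only [act, map_mul, map_inv, Subgroup.subtype_apply] at h1 ⊢
      calc (a : G) * (z : G) * (a : G)⁻¹
          = (a : G) * ((((a : G)⁻¹ * b) * (z : G)) * ((a : G)⁻¹ * b)⁻¹) * (a : G)⁻¹ := by
            rw [h1, mul_inv_cancel_right]
        _ = _ := by group)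
  let NN : F →* V := MonoidHom.mk' (fun z => ∏ q, f z q) fun x y => by
    rw [← Finset.prod_mul_distrib]
    refine Finset.prod_congr rfl fun q _ => ?_
    induction q using QuotientGroup.induction_on with
    | H a => exact Subtype.ext (by simp [f, act, mul_assoc])
  set n := Nat.card (↥L ⧸ (S : Subgroup L)) with hn
  have hNc : ∀ z : F, (NN z : G) ∈ Subgroup.centralizer (L : Set G) := by
    intro z g hg
    let c : V →* V :=
      { toFun := act ⟨g, hg⟩
        map_one' := Subtype.ext (by simp [act])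
        map_mul' := fun a b => Subtype.ext (by simp [act, mul_assoc]) }
    have h1 : c (NN z) = NN z := by
      show c (∏ q, f z q) = ∏ q, f z q
      rw [map_prod]
      refine Fintype.prod_equiv (MulAction.toPerm (⟨g, hg⟩ : L)) _ _ fun q => ?_
      induction q using QuotientGroup.induction_on with
      | H a =>
        apply Subtype.ext
        show g * ((a : G) * (z : G) * (a : G)⁻¹) * g⁻¹ = (g * (a : G)) * (z : G) * (g * (a : G))⁻¹
        group
    have h2 : g * (NN z : G) * g⁻¹ = NN z := congrArg Subtype.val h1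
    exact mul_inv_eq_iff_eq_mul.1 h2
  have hfix : ∀ z : F, (z : G) ∈ Subgroup.centralizer (L : Set G) → (NN z : G) = (z : G) ^ n := by
    intro z hz
    have e : NN z = (⟨z, z.2.1⟩ : V) ^ n := by
      show ∏ q, f z q = _
      rw [hn, Nat.card_eq_fintype_card, ← Finset.card_univ]
      refine Finset.prod_eq_pow_card fun q _ => ?_
      induction q using QuotientGroup.induction_on with
      | H a =>
        apply Subtype.ext
        show (a : G) * (z : G) * (a : G)⁻¹ = (z : G)
        rw [hz a a.2, mul_inv_cancel_right]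
    rw [e]; rfl
  -- equivariance under `T`
  have hFn : T ≤ Subgroup.normalizer (F : Set G) :=
    (le_inf hTV (hTS.trans (normalizer_le_normalizer_centralizer _))).trans
      Subgroup.inf_normalizer_le_normalizer_inf
  have hequiv : ∀ t, ∀ ht : t ∈ T, ∀ z : F,
      (NN ⟨t * z * t⁻¹, (Subgroup.mem_normalizer_iff.1 (hFn ht) _).1 z.2⟩ : G) =
        t * (NN z : G) * t⁻¹ := by
    intro t ht z
    let c : V →* V :=
      { toFun := fun v => ⟨t * v * t⁻¹, (Subgroup.mem_normalizer_iff.1 (hTV ht) v).1 v.2⟩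
        map_one' := Subtype.ext (by simp)
        map_mul' := fun a b => Subtype.ext (by simp [mul_assoc]) }
    have hmem : ∀ s ∈ T, ∀ a : L, s * (a : G) * s⁻¹ ∈ L := fun s hs a =>
      (Subgroup.mem_normalizer_iff.1 (hTL hs) _).1 a.2
    have hrel : ∀ s, ∀ hs : s ∈ T, ∀ a b : L, a⁻¹ * b ∈ (S : Subgroup L) →
        (⟨_, hmem s hs a⟩ : L)⁻¹ * ⟨_, hmem s hs b⟩ ∈ (S : Subgroup L) := by
      intro s hs a b hab
      obtain ⟨y, hy, hye⟩ := (Subgroup.mem_normalizer_iff.1 (hTS hs) _).1
        (show ((a⁻¹ * b : L) : G) ∈ S' from ⟨_, hab, rfl⟩)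
      have e : (⟨_, hmem s hs a⟩ : L)⁻¹ * ⟨_, hmem s hs b⟩ = y := by
        apply Subtype.ext
        rw [Subgroup.subtype_apply] at hye
        rw [hye]
        simp [mul_assoc]
      rw [e]; exact hy
    let e : (↥L ⧸ (S : Subgroup L)) ≃ (↥L ⧸ (S : Subgroup L)) :=
      { toFun := Quotient.map' (fun a => ⟨_, hmem t ht a⟩) fun a b hab =>
          QuotientGroup.leftRel_apply.2 (hrel t ht a b (QuotientGroup.leftRel_apply.1 hab))
        invFun := Quotient.map' (fun a => ⟨_, hmem t⁻¹ (T.inv_mem ht) a⟩) fun a b hab =>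
          QuotientGroup.leftRel_apply.2 (hrel t⁻¹ (T.inv_mem ht) a b (QuotientGroup.leftRel_apply.1 hab))
        left_inv := fun q => by
          induction q using QuotientGroup.induction_on with
          | H a => exact congrArg QuotientGroup.mk (Subtype.ext (by simp [mul_assoc]))
        right_inv := fun q => by
          induction q using QuotientGroup.induction_on with
          | H a => exact congrArg QuotientGroup.mk (Subtype.ext (by simp [mul_assoc])) }
    have h1 : c (NN z) = NN ⟨t * z * t⁻¹, (Subgroup.mem_normalizer_iff.1 (hFn ht) _).1 z.2⟩ := by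
      show c (∏ q, f z q) = ∏ q, f _ q
      rw [map_prod]
      refine Fintype.prod_equiv e _ _ fun q => ?_
      induction q using QuotientGroup.induction_on with
      | H a =>
        apply Subtype.ext
        show t * ((a : G) * (z : G) * (a : G)⁻¹) * t⁻¹ =
          t * (a : G) * t⁻¹ * (t * (z : G) * t⁻¹) * (t * (a : G) * t⁻¹)⁻¹
        group
    exact (congrArg Subtype.val h1).symm
  have hp : ∀ z : F, (z : G) ^ p = 1 := fun z => (elemAbelian_iff.1 hV).2 _ z.2.1
  have hcop : ∀ z : G, z ^ p = 1 → ∀ {W : Subgroup G}, z ^ n ∈ W → z ∈ W := by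
    intro z hz W hW
    obtain ⟨m, hm⟩ := exists_pow_eq_self_of_coprime (x := z) (n := n)
      (Nat.Coprime.coprime_dvd_right (orderOf_dvd_of_pow_eq_one hz) (by
        rw [Nat.coprime_comm, (Fact.out : p.Prime).coprime_iff_not_dvd]
        exact S.not_dvd_index))
    rw [← hm]; exact W.pow_mem hW m
  have hker : NN.ker = ⊥ := by
    by_contra hne
    set K := NN.ker.map F.subtype with hK
    have hKne : K ≠ ⊥ := fun e =>
      hne ((Subgroup.map_eq_bot_iff_of_injective _ F.subtype_injective).1 e)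
    have hKn : T ≤ Subgroup.normalizer (K : Set G) := by
      intro t ht
      refine mem_normalizer_of_conj (Subgroup.eq_of_le_of_card_ge ?_
        (le_of_eq (Subgroup.card_map_of_injective (MulAut.conj t).injective).symm))
      rintro _ ⟨_, ⟨z, hz, rfl⟩, rfl⟩
      refine ⟨⟨t * z * t⁻¹, (Subgroup.mem_normalizer_iff.1 (hFn ht) _).1 z.2⟩, ?_, rfl⟩
      refine MonoidHom.mem_ker.2 (Subtype.ext ?_)
      rw [hequiv t ht z, MonoidHom.mem_ker.1 hz]
      simp
    obtain ⟨x, ⟨z, hz, rfl⟩, hxp, hxc⟩ := exists_orderOf_eq_prime_central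
      (hT.to_sup_of_normal_right' (K := K) (((isPGroup_of_exponent (elemAbelian_iff.1 hV).2).to_le
        ((Subgroup.map_subtype_le _).trans inf_le_left))) hKn)
      (le_sup_right : K ≤ T ⊔ K) (sup_le hKn Subgroup.le_normalizer) hKne
    have hzL : (z : G) ∈ Subgroup.centralizer (L : Set G) := by
      refine h ⟨z.2.1, fun y hy => ?_⟩
      have : S' ⊔ T ≤ Subgroup.centralizer ({(z : G)} : Set G) := sup_le
        (fun y hy => Subgroup.mem_centralizer_singleton_iff.2 (z.2.2 y hy))
        (le_sup_left.trans hxc)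
      exact Subgroup.mem_centralizer_singleton_iff.1 (this hy)
    have h1 : (z : G) ^ n = 1 := by
      rw [← hfix z hzL, MonoidHom.mem_ker.1 hz]; rfl
    have h2 := hcop (z : G) (hp z) (W := ⊥) (Subgroup.mem_bot.2 h1)
    rw [Subgroup.subtype_apply, Subgroup.mem_bot.1 h2, orderOf_one] at hxp
    exact (Fact.out : p.Prime).ne_one hxp.symm
  intro b hb
  refine hcop b (hp ⟨b, hb⟩) ?_
  have hNF : (NN ⟨b, hb⟩ : G) ∈ F :=
    ⟨(NN ⟨b, hb⟩).2, Subgroup.centralizer_le (SetLike.coe_subset_coe.2 (Subgroup.map_subtype_le _))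
      (hNc _)⟩
  have e : NN (⟨b, hb⟩ ^ n) = NN ⟨_, hNF⟩ := by
    refine Subtype.ext ?_
    rw [map_pow, hfix ⟨_, hNF⟩ (hNc _)]
    rfl
  have := (MonoidHom.ker_eq_bot_iff NN).1 hker e
  have h3 : b ^ n = (NN ⟨b, hb⟩ : G) := congrArg Subtype.val this
  rw [h3]; exact hNc _

/-- The normal step for `C_L(Ω₁Z(T ∩ L)) = C_L(Ω₁Z(T))`. -/
theorem inf_centralizer_omegaCenter {K L R : Subgroup G}
    (hK : Subgroup.centralizer (pCore p K : Set K) ≤ pCore p K)
    (hR : CfsgLib.Fusion.IsSylIn p R K) (hLK : L ≤ K) (hn : K ≤ Subgroup.normalizer (L : Set G)) :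
    L ⊓ Subgroup.centralizer (omegaOne p (R ⊓ Subgroup.centralizer (R : Set G)) : Set G) =
      L ⊓ Subgroup.centralizer
        (omegaOne p ((R ⊓ L) ⊓ Subgroup.centralizer ((R ⊓ L : Subgroup G) : Set G)) : Set G) := by
  set A := omegaOne p (R ⊓ Subgroup.centralizer (R : Set G)) with hA
  set B := omegaOne p ((R ⊓ L) ⊓ Subgroup.centralizer ((R ⊓ L : Subgroup G) : Set G)) with hB
  have hS := isSylIn_inf hR hLK hn
  have hL : Subgroup.centralizer (pCore p L : Set L) ≤ pCore p L :=
    charP_equiv (Subgroup.subgroupOfEquivOfLe hLK)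
      (charP_normal hK ((Subgroup.normal_subgroupOf_iff_le_normalizer hLK).2 hn))
  have hRn : R ≤ Subgroup.normalizer (L : Set G) := hR.1.trans hn
  have hRS : R ≤ Subgroup.normalizer ((R ⊓ L : Subgroup G) : Set G) :=
    (le_inf Subgroup.le_normalizer hRn).trans Subgroup.inf_normalizer_le_normalizer_inf
  have hmem : ∀ {H : Subgroup G} {x : G}, x ∈ H → x ∈ Subgroup.centralizer (H : Set G) →
      x ^ p = 1 → x ∈ omegaOne p (H ⊓ Subgroup.centralizer (H : Set G)) :=
    fun h1 h2 h3 => Subgroup.subset_closure ⟨⟨h1, h2⟩, h3⟩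
  -- Sylow subgroup `R ⊓ L` in a subgroup `X` of `L` containing it
  have hsyl : ∀ X : Subgroup G, X ≤ L → R ⊓ L ≤ X → ∃ P : Sylow p X,
      (P : Subgroup X).map X.subtype = R ⊓ L := by
    intro X hXL hle
    obtain ⟨P, hP⟩ := (CfsgLib.Fusion.exists_sylow_iff hle).2
      ⟨hle, hS.2.1, fun C hC h1 h2 => hS.2.2 C hC h1 (h2.trans hXL)⟩
    exact ⟨P, by rw [hP, Subgroup.map_subgroupOf_eq_of_le hle]⟩
  refine le_antisymm ?_ ?_
  · -- fixed points in `V = Ω₁Z(O_p(L))`
    set X := L ⊓ Subgroup.centralizer (A : Set G)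
    set V := omegaOne p (pCoreOf p L ⊓ Subgroup.centralizer (pCoreOf p L : Set G)) with hV
    have hOL : pCoreOf p L ≤ R ⊓ L :=
      hS.le_of_normal (isPGroup_pCoreOf L) (pCoreOf_le p L) (fun b hb c hc => (Subgroup.mem_normalizer_iff.1 (le_normalizer_pCoreOf p L hb) c).1 hc)
    have hVn : K ≤ Subgroup.normalizer (V : Set G) := fun g hg => by
      apply mem_normalizer_of_conj
      rw [hV, map_omegaOne p _ _ (MulAut.conj g).injective, map_center_inf _ _ (MulAut.conj g).injective,
        conj_map_eq_of_mem_normalizer (mem_normalizer_pCoreOf (hn hg))]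
    have hVR : V ≤ R ⊓ L := (omegaOne_le p _).trans (inf_le_left.trans hOL)
    have hSX : R ⊓ L ≤ X := le_inf inf_le_right fun x hx y hy => ((omegaOne_le p _ hy).2 x hx.1).symm
    obtain ⟨P, hP⟩ := hsyl X inf_le_left hSX
    have hAn : R ≤ Subgroup.normalizer (A : Set G) := fun r hr => by
      apply mem_normalizer_of_conj
      rw [hA, map_omegaOne p _ _ (MulAut.conj r).injective, map_center_inf _ _ (MulAut.conj r).injective,
        conj_map_eq_of_mem_normalizer (Subgroup.le_normalizer hr)]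
    have hVc := centralizer_fixed_sylow_le (elemAbelian_omegaOne_center p _)
      ((inf_le_left.trans hLK).trans hVn) (hR.1.trans hVn)
      ((le_inf hRn (hAn.trans (normalizer_le_normalizer_centralizer _))).trans
        Subgroup.inf_normalizer_le_normalizer_inf : R ≤ Subgroup.normalizer (X : Set G))
      hR.2.1 P (by rw [hP]; exact hRS) (by
        rw [hP, sup_eq_right.2 inf_le_left]
        rintro v ⟨hv, hvR⟩ x hx
        exact (hx.2 v (hmem (hVR hv).1 hvR ((elemAbelian_iff.1
          (elemAbelian_omegaOne_center p (pCoreOf p L))).2 v hv))).symm)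
    rw [hP] at hVc
    refine le_inf inf_le_left (Subgroup.le_centralizer_iff.1 (le_trans ?_ hVc))
    refine le_inf (le_omegaOne_center (elemAbelian_omegaOne_center p _) ?_ ?_)
      ((omegaOne_le p _).trans inf_le_right)
    · exact fun x hx => (charP_iff L).1 hL ⟨(omegaOne_le p _ hx).1.2,
        Subgroup.centralizer_le (SetLike.coe_subset_coe.2 hOL) (omegaOne_le p _ hx).2⟩
    · exact fun x hx => Subgroup.centralizer_le (SetLike.coe_subset_coe.2 hOL) (omegaOne_le p _ hx).2
  · -- the elements of `A` are fixed by a Sylow subgroup of `Y`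
    set Y := L ⊓ Subgroup.centralizer (B : Set G)
    set V := omegaOne p (pCoreOf p K ⊓ Subgroup.centralizer (pCoreOf p K : Set G)) with hV
    have hOK : pCoreOf p K ≤ R :=
      hR.le_of_normal (isPGroup_pCoreOf K) (pCoreOf_le p K) (fun b hb c hc => (Subgroup.mem_normalizer_iff.1 (le_normalizer_pCoreOf p K hb) c).1 hc)
    have hVn : K ≤ Subgroup.normalizer (V : Set G) := fun g hg => by
      apply mem_normalizer_of_conj
      rw [hV, map_omegaOne p _ _ (MulAut.conj g).injective, map_center_inf _ _ (MulAut.conj g).injective,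
        conj_map_eq_of_mem_normalizer (le_normalizer_pCoreOf p K hg)]
    have hAV : A ≤ V := le_omegaOne_center (elemAbelian_omegaOne_center p _)
      (fun x hx => (charP_iff K).1 hK ⟨hR.1 (omegaOne_le p _ hx).1,
        Subgroup.centralizer_le (SetLike.coe_subset_coe.2 hOK) (omegaOne_le p _ hx).2⟩)
      (fun x hx => Subgroup.centralizer_le (SetLike.coe_subset_coe.2 hOK) (omegaOne_le p _ hx).2)
    have hSY : R ⊓ L ≤ Y := le_inf inf_le_right fun x hx y hy => ((omegaOne_le p _ hy).2 x hx).symm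
    obtain ⟨P, hP⟩ := hsyl Y inf_le_left hSY
    refine le_inf inf_le_left (Subgroup.le_centralizer_iff.1 fun a ha => ?_)
    have haS : ∀ s ∈ R ⊓ L, s * a * s⁻¹ = a := fun s hs => by
      rw [(omegaOne_le p _ ha).2 s hs.1, mul_inv_cancel_right]
    have hVK : V ≤ K := (omegaOne_le p _).trans (inf_le_left.trans (pCoreOf_le p K))
    obtain ⟨c, hc, d, hd, rfl⟩ := (CfsgLib.Coprime.mem_sup_iff_of_le_normalizer
      (show V ⊓ Subgroup.centralizer (Y : Set G) ≤ Subgroup.normalizer ((V ⊓ L : Subgroup G) : Set G) from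
        (le_inf (inf_le_left.trans Subgroup.le_normalizer) (inf_le_left.trans (hVK.trans hn))).trans
          Subgroup.inf_normalizer_le_normalizer_inf)).1
      (mem_sup_of_fixed_sylow (elemAbelian_omegaOne_center p _) ((inf_le_left.trans hLK).trans hVn)
        (inf_le_left : V ⊓ L ≤ V) P (hAV ha) (fun s hs => haS _ (hP.le ⟨s, hs, rfl⟩)) fun g hg =>
        ⟨V.mul_mem ((Subgroup.mem_normalizer_iff.1 (hVn (hLK hg.1)) _).1 (hAV ha)) (V.inv_mem (hAV ha)),
          by
            have := L.mul_mem hg.1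
              ((Subgroup.mem_normalizer_iff.1 (hn (hVK (hAV ha))) _).1 (L.inv_mem hg.1))
            simpa [mul_assoc] using this⟩)
    have hdB : d ∈ B := hmem ⟨hOK ((omegaOne_le p _ hd.1).1), hd.2⟩
      (fun s hs => by
        have h1 := (omegaOne_le p _ ha).2 s hs.1
        have h2 := hc.2 s (hSY hs)
        have h3 : c * (s * d) = c * (d * s) := by rw [← mul_assoc, ← h2, mul_assoc, h1, mul_assoc]
        exact mul_left_cancel h3) ((elemAbelian_iff.1 (elemAbelian_omegaOne_center p (pCoreOf p K))).2 d hd.1)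
    exact fun y hy => by
      rw [← mul_assoc, hc.2 y hy, mul_assoc, ← hy.2 d hdB, ← mul_assoc]

omit [Finite G] [Fact p.Prime] in
theorem inf_inf_centralizer_eq {L K X Y : Subgroup G} (hle : L ≤ K) (h : K ⊓ X = K ⊓ Y) :
    L ⊓ X = L ⊓ Y := by
  rw [← inf_eq_left.2 hle, inf_assoc, h, inf_assoc]

theorem subnormal_omegaCenter (hG : Subgroup.centralizer (pCore p G : Set G) ≤ pCore p G)
    (T : Sylow p G) {L : Subgroup G} (hL : L.IsSubnormal) :
    CfsgLib.Fusion.IsSylIn p ((T : Subgroup G) ⊓ L) L ∧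
    L ⊓ Subgroup.centralizer (omegaOne p ((T : Subgroup G) ⊓
        Subgroup.centralizer ((T : Subgroup G) : Set G)) : Set G) =
      L ⊓ Subgroup.centralizer (omegaOne p (((T : Subgroup G) ⊓ L) ⊓
        Subgroup.centralizer (((T : Subgroup G) ⊓ L : Subgroup G) : Set G)) : Set G) := by
  induction hL with
  | top =>
    refine ⟨⟨inf_le_right, T.isPGroup'.to_le inf_le_left,
      fun C hC hle _ => ?_⟩, by rw [inf_top_eq]⟩
    rw [inf_top_eq] at hle ⊢
    exact T.3 hC hle
  | step L K hle hK hN ih =>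
    obtain ⟨h1, h2⟩ := ih
    have hKn := (Subgroup.normal_subgroupOf_iff_le_normalizer hle).1 hN
    have hs := isSylIn_inf h1 hle hKn
    have h3 := inf_centralizer_omegaCenter (charP_subnormal hG hK) h1 hle hKn
    rw [show (T : Subgroup G) ⊓ K ⊓ L = (T : Subgroup G) ⊓ L by
      rw [inf_assoc, inf_eq_right.2 hle]] at hs h3
    exact ⟨hs, (inf_inf_centralizer_eq hle h2).trans h3⟩

theorem IsPRedIn.inf_subnormal {V : Subgroup G} (hV : IsPRedIn p V ⊤) {L : Subgroup G}
    (hL : L.IsSubnormal) :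
    IsPRedIn p (V ⊓ L) L ∧
      L ⊓ Subgroup.centralizer ((V ⊓ L : Subgroup G) : Set G) =
        L ⊓ Subgroup.centralizer (V : Set G) := by
  induction hL with
  | top => rw [inf_top_eq]; exact ⟨hV, rfl⟩
  | step L K hle hK hN ih =>
    obtain ⟨h1, h2⟩ := ih
    obtain ⟨g1, g2⟩ := h1.inf_normal hle ((Subgroup.normal_subgroupOf_iff_le_normalizer hle).1 hN)
    rw [inf_assoc, inf_eq_right.2 hle] at g1 g2
    refine ⟨g1, ?_⟩
    rw [g2, ← inf_eq_left.2 hle, inf_assoc, h2, inf_assoc]

end CfsgLib.LocalEven
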