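import Cfsg.Prelude.Def_SylowControl
import Cfsg.Prelude.Def_SylowChains
import Cfsg.Agent.Lib.Fusion.SylowAux
import Cfsg.Agent.Lib.LocalEven.CharP
import Cfsg.Agent.Lib.LocalEven.StrongEmb

/-!
Chains of Sylow subgroups linked by the members of a family of subgroups.
-/

set_option autoImplicit false

namespace CfsgLib.LocalEven

open Cfsg Relation

universe u

variable {G : Type u} [Group G]

theorem conjRightSub_conjRightSub (g h : G) (A : Subgroup G) :
    subgroupConjRight h (subgroupConjRight g A) = subgroupConjRight (g * h) A := by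
  rw [subgroupConjRight, subgroupConjRight, subgroupConjRight, mul_inv_rev]
  exact conj_map_conj_map _ _ _

theorem conjRightSub_one (A : Subgroup G) : subgroupConjRight (1 : G) A = A := by
  rw [subgroupConjRight, inv_one]; exact conj_map_one A

theorem conjRightSub_mono {g : G} {A B : Subgroup G} (h : A ≤ B) :
    subgroupConjRight g A ≤ subgroupConjRight g B := Subgroup.map_mono h

theorem conjRightSub_inf (g : G) (A B : Subgroup G) :
    subgroupConjRight g (A ⊓ B) = subgroupConjRight g A ⊓ subgroupConjRight g B :=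
  Subgroup.map_inf _ _ _ (MulAut.conj g⁻¹).injective

theorem mem_conjRightSub {g x : G} {A : Subgroup G} :
    x ∈ subgroupConjRight g A ↔ g * x * g⁻¹ ∈ A := by
  constructor
  · rintro ⟨y, hy, rfl⟩; simpa [mul_assoc] using hy
  · exact fun h => ⟨_, h, by simp [mul_assoc]⟩

theorem coe_conjRightSub (g : G) (A : Subgroup G) :
    (subgroupConjRight g A : Set G) = conjRight g (A : Set G) := by
  ext x
  simp [subgroupConjRight, conjRight]

theorem conjRight_conjRight (g h : G) (A : Set G) :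
    conjRight h (conjRight g A) = conjRight (g * h) A := by
  rw [conjRight, conjRight, conjRight, Set.image_image]
  congr 1
  funext a
  group

theorem conjRight_mono {g : G} {A B : Set G} (h : A ⊆ B) : conjRight g A ⊆ conjRight g B :=
  Set.image_mono h

theorem conjRightSub_eq_self {g : G} {A : Subgroup G} (h : g ∈ Subgroup.normalizer (A : Set G)) :
    subgroupConjRight g A = A := conj_map_eq_of_mem_normalizer (inv_mem h)

theorem mem_normalizer_of_conjRightSub {g : G} {A : Subgroup G} (h : subgroupConjRight g A = A) :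
    g ∈ Subgroup.normalizer (A : Set G) := by
  have := mem_normalizer_of_conj h
  simpa using inv_mem this

theorem mem_normalizer_of_mem {g : G} {A : Subgroup G} (h : g ∈ A) :
    g ∈ Subgroup.normalizer (A : Set G) := Subgroup.le_normalizer h

theorem card_conjRightSub (g : G) (A : Subgroup G) :
    Nat.card (subgroupConjRight g A) = Nat.card A :=
  Subgroup.card_map_of_injective (MulAut.conj g⁻¹).injective

variable [Finite G] {p : ℕ} [Fact p.Prime]

theorem eq_sylow_of_card {A : Subgroup G} (hA : IsPGroup p A) (S : Sylow p G)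
    (h : Nat.card S ≤ Nat.card A) : ∃ T : Sylow p G, (T : Subgroup G) = A := by
  obtain ⟨T, hT⟩ := hA.exists_le_sylow
  refine ⟨T, (Subgroup.eq_of_le_of_card_ge hT ?_).symm⟩
  rw [Sylow.card_eq_multiplicity T, ← Sylow.card_eq_multiplicity S]; exact h

/-- The conjugate of a Sylow subgroup, as a Sylow subgroup. -/
theorem exists_sylow_conjRightSub (S : Sylow p G) (g : G) :
    ∃ T : Sylow p G, (T : Subgroup G) = subgroupConjRight g (S : Subgroup G) :=
  eq_sylow_of_card (S.2.map _) S (card_conjRightSub g _).ge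

theorem exists_conjRightSub_eq (S T : Sylow p G) :
    ∃ g : G, subgroupConjRight g (T : Subgroup G) = (S : Subgroup G) := by
  obtain ⟨b, -, hb⟩ := (CfsgLib.Fusion.IsSylIn.exists_conj_le (B := (⊤ : Subgroup G))
    (⟨le_top, S.2, fun C hC hle _ => S.3 hC hle⟩ : CfsgLib.Fusion.IsSylIn p (S : Subgroup G) ⊤)
    T.2 le_top)
  refine ⟨b⁻¹, Subgroup.eq_of_le_of_card_ge ?_ ?_⟩
  · rintro _ ⟨t, ht, rfl⟩; simpa using hb t ht
  · rw [card_conjRightSub, Sylow.card_eq_multiplicity T, ← Sylow.card_eq_multiplicity S]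

omit [Finite G] [Fact p.Prime] in
theorem isSylIn_conjRightSub {A B : Subgroup G} (h : CfsgLib.Fusion.IsSylIn p A B) (g : G) :
    CfsgLib.Fusion.IsSylIn p (subgroupConjRight g A) (subgroupConjRight g B) := by
  refine ⟨conjRightSub_mono h.1, h.2.1.map _, fun C hC hle hCB => ?_⟩
  have h1 := h.2.2 (subgroupConjRight g⁻¹ C) (hC.map _)
    (by have := conjRightSub_mono (g := g⁻¹) hle
        rwa [conjRightSub_conjRightSub, mul_inv_cancel, conjRightSub_one] at this)
    (by have := conjRightSub_mono (g := g⁻¹) hCB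
        rwa [conjRightSub_conjRightSub, mul_inv_cancel, conjRightSub_one] at this)
  rw [← h1, conjRightSub_conjRightSub, inv_mul_cancel, conjRightSub_one]

theorem mem_sylowMembers {𝓕 : Set (Subgroup G)} {S X : Subgroup G} :
    X ∈ sylowMembers p 𝓕 S ↔ X ∈ 𝓕 ∧ CfsgLib.Fusion.IsSylIn p (S ⊓ X) X := by
  refine and_congr_right fun _ => ⟨fun ⟨P, hP⟩ => ?_, fun h => ?_⟩
  · refine (CfsgLib.Fusion.exists_sylow_iff inf_le_right).1 ⟨P, ?_⟩
    rw [← hP, Subgroup.subgroupOf, Subgroup.comap_map_eq_self_of_injective X.subtype_injective]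
  · obtain ⟨P, hP⟩ := (CfsgLib.Fusion.exists_sylow_iff inf_le_right).2 h
    exact ⟨P, by rw [hP, Subgroup.map_subgroupOf_eq_of_le inf_le_right]⟩

/-- One link, with every subgroup in sight containing `D`. -/
def SylStep (p : ℕ) (𝓕 : Set (Subgroup G)) (D : Subgroup G) (S T : Sylow p G) : Prop :=
  ∃ (X : Subgroup G) (x : G), X ∈ sylowMembers p 𝓕 (S : Subgroup G) ∧
    X ∈ sylowMembers p 𝓕 (T : Subgroup G) ∧ x ∈ X ∧
    subgroupConjRight x (T : Subgroup G) = (S : Subgroup G) ∧
    D ≤ (S : Subgroup G) ∧ D ≤ (T : Subgroup G) ∧ D ≤ X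

/-- Linked by a chain. -/
abbrev SylLinked (p : ℕ) (𝓕 : Set (Subgroup G)) (D : Subgroup G) : Sylow p G → Sylow p G → Prop :=
  ReflTransGen (SylStep p 𝓕 D)

omit [Finite G] [Fact p.Prime] in
theorem SylLinked.mono {𝓕 : Set (Subgroup G)} {D D' : Subgroup G} (hD : D ≤ D') {S T : Sylow p G}
    (h : SylLinked p 𝓕 D' S T) : SylLinked p 𝓕 D S T :=
  Relation.ReflTransGen.mono (r := SylStep p 𝓕 D') (p := SylStep p 𝓕 D)
    (fun _ _ ⟨X, x, h1, h2, h3, h4, h5, h6, h7⟩ =>
      ⟨X, x, h1, h2, h3, h4, hD.trans h5, hD.trans h6, hD.trans h7⟩) _ _ h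

theorem reflTransGen_of_fin {α : Type*} {R : α → α → Prop} {n : ℕ} (c : Fin (n + 1) → α)
    (h : ∀ i : Fin n, R (c i.castSucc) (c i.succ)) : ∀ i, ReflTransGen R (c 0) (c i) :=
  Fin.induction ReflTransGen.refl fun i hi => hi.tail (h i)

theorem fin_of_reflTransGen {α : Type*} {R : α → α → Prop} {a b : α} (h : ReflTransGen R a b) :
    ∃ (n : ℕ) (c : Fin (n + 1) → α), c 0 = a ∧ c (Fin.last n) = b ∧
      ∀ i : Fin n, R (c i.castSucc) (c i.succ) := by
  induction h with
  | refl => exact ⟨0, fun _ => a, rfl, rfl, fun i => i.elim0⟩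
  | @tail b c _ hbc ih =>
    obtain ⟨n, f, h0, h1, hs⟩ := ih
    refine ⟨n + 1, Fin.snoc f c, ?_, Fin.snoc_last _ _, fun i => ?_⟩
    · rw [← h0, show (0 : Fin (n + 2)) = Fin.castSucc 0 from rfl, Fin.snoc_castSucc]
    · refine Fin.lastCases ?_ (fun j => ?_) i
      · rw [Fin.snoc_castSucc, Fin.succ_last, Fin.snoc_last, h1]; exact hbc
      · rw [Fin.snoc_castSucc, Fin.succ_castSucc, Fin.snoc_castSucc]; exact hs j

omit [Finite G] [Fact p.Prime] in
theorem controls_iff_linked {𝓕 : Set (Subgroup G)} :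
    ControlsSylowIntersections p 𝓕 ↔ ∀ S T : Sylow p G, S ≠ T →
      (S : Subgroup G) ⊓ (T : Subgroup G) ≠ ⊥ →
      SylLinked p 𝓕 ((S : Subgroup G) ⊓ (T : Subgroup G)) S T := by
  constructor
  · intro h S T hne hbot
    obtain ⟨n, c, X, x, h0, h1, hs⟩ := h S T hne hbot
    have hc : ∀ i : Fin (n + 1), (S : Subgroup G) ⊓ (T : Subgroup G) ≤ (c i : Subgroup G) :=
      Fin.cases (h0 ▸ inf_le_left) fun i => (hs i).2.2.2.2.trans inf_le_left
    rw [← h0, ← h1]
    refine reflTransGen_of_fin c (fun i => ?_) (Fin.last n)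
    obtain ⟨a, b, c', d, e⟩ := hs i
    rw [h0, h1]
    exact ⟨X i, x i, a, b, c', d, hc _, hc _, e.trans inf_le_right⟩
  · intro h S T hne hbot
    obtain ⟨n, c, h0, h1, hs⟩ := fin_of_reflTransGen (h S T hne hbot)
    choose X x hX using hs
    exact ⟨n, c, X, x, h0, h1, fun i => ⟨(hX i).1, (hX i).2.1, (hX i).2.2.1, (hX i).2.2.2.1,
      le_inf (hX i).2.2.2.2.2.1 (hX i).2.2.2.2.2.2⟩⟩

theorem conjRightSub_mem_sylowMembers {𝓕 : Set (Subgroup G)} (h𝓕 : IsNormalSet 𝓕) {S X : Subgroup G}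
    (h : X ∈ sylowMembers p 𝓕 S) (g : G) :
    subgroupConjRight g X ∈ sylowMembers p 𝓕 (subgroupConjRight g S) := by
  obtain ⟨h1, h2⟩ := mem_sylowMembers.1 h
  refine mem_sylowMembers.2 ⟨h𝓕 X h1 g, ?_⟩
  rw [← conjRightSub_inf]; exact isSylIn_conjRightSub h2 g

theorem SylLinked.conj {𝓕 : Set (Subgroup G)} (h𝓕 : IsNormalSet 𝓕) {D : Subgroup G} (g : G)
    {S T : Sylow p G} (h : SylLinked p 𝓕 D S T) :
    ∀ S' T' : Sylow p G, (S' : Subgroup G) = subgroupConjRight g (S : Subgroup G) →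
      (T' : Subgroup G) = subgroupConjRight g (T : Subgroup G) →
      SylLinked p 𝓕 (subgroupConjRight g D) S' T' := by
  induction h with
  | refl => intro S' T' hS hT; rw [Sylow.ext (hS.trans hT.symm)]
  | @tail U T _ hst ih =>
    intro S' T' hS hT
    obtain ⟨U', hU⟩ := exists_sylow_conjRightSub U g
    obtain ⟨X, x, h1, h2, h3, h4, h5, h6, h7⟩ := hst
    refine (ih S' U' hS hU).tail ⟨subgroupConjRight g X, g⁻¹ * x * g, hU ▸ conjRightSub_mem_sylowMembers h𝓕 h1 g,
      hT ▸ conjRightSub_mem_sylowMembers h𝓕 h2 g, mem_conjRightSub.2 (by simpa [mul_assoc] using h3), ?_,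
      hU ▸ conjRightSub_mono h5, hT ▸ conjRightSub_mono h6, conjRightSub_mono h7⟩
    rw [hT, hU, conjRightSub_conjRightSub, ← h4, conjRightSub_conjRightSub,
      show g * (g⁻¹ * x * g) = x * g by group]

/-- A chain gives a product of elements of members at one Sylow subgroup. -/
theorem SylLinked.exists_prod {𝓕 : Set (Subgroup G)} (h𝓕 : IsNormalSet 𝓕) {D : Subgroup G}
    {S T : Sylow p G} (h : SylLinked p 𝓕 D S T) :
    ∃ (n : ℕ) (Y : Fin n → Subgroup G) (y : Fin n → G),
      subgroupConjRight (List.ofFn y).prod (T : Subgroup G) = (S : Subgroup G) ∧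
      ∀ i : Fin n, Y i ∈ sylowMembers p 𝓕 (S : Subgroup G) ∧ y i ∈ Y i ∧
        subgroupConjRight (((List.ofFn y).take (i.val + 1)).prod) D ≤ (S : Subgroup G) ⊓ Y i := by
  induction h with
  | refl => exact ⟨0, Fin.elim0, Fin.elim0, by simpa using conjRightSub_one _, fun i => i.elim0⟩
  | @tail U T _ hst ih =>
    obtain ⟨n, Y, y, hz, hall⟩ := ih
    obtain ⟨X, x, h1, h2, h3, h4, h5, h6, h7⟩ := hst
    set z := (List.ofFn y).prod with hzdef
    have hlist : List.ofFn (Fin.snoc y (z⁻¹ * x * z)) = List.ofFn y ++ [z⁻¹ * x * z] := by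
      rw [List.ofFn_succ']
      simp [List.concat_eq_append]
    have hprod : (List.ofFn (Fin.snoc y (z⁻¹ * x * z))).prod = x * z := by
      rw [hlist, List.prod_append, List.prod_singleton, ← hzdef]; group
    have hT : subgroupConjRight (x * z) (T : Subgroup G) = (S : Subgroup G) := by
      rw [← conjRightSub_conjRightSub, h4, hz]
    refine ⟨n + 1, Fin.snoc Y (subgroupConjRight z X), Fin.snoc y (z⁻¹ * x * z), ?_, fun i => ?_⟩
    · rw [hprod, hT]
    refine Fin.lastCases ?_ (fun j => ?_) i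
    · rw [Fin.snoc_last, Fin.snoc_last, Fin.val_last,
        List.take_of_length_le (by simp), hprod]
      refine ⟨hz ▸ conjRightSub_mem_sylowMembers h𝓕 h1 z,
        mem_conjRightSub.2 (by simpa [mul_assoc] using h3), le_inf ?_ ?_⟩
      · exact (conjRightSub_mono h6).trans hT.le
      · rw [← conjRightSub_conjRightSub]
        exact conjRightSub_mono ((conjRightSub_mono h7).trans
          (le_of_eq (conjRightSub_eq_self (mem_normalizer_of_mem h3))))
    · rw [Fin.snoc_castSucc, Fin.snoc_castSucc, Fin.val_castSucc, hlist,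
        List.take_append_of_le_length (by simp)]
      exact hall j

theorem controls_iff_stronglyControlsFusion {𝓕 : Set (Subgroup G)} (h𝓕 : IsNormalSet 𝓕) :
    ControlsSylowIntersections p 𝓕 ↔ FamilyStronglyControlsFusion p 𝓕 := by
  rw [controls_iff_linked]
  constructor
  · intro h S A g hA ⟨a, ha, ha1⟩ hg
    obtain ⟨T, hT⟩ := exists_sylow_conjRightSub S g⁻¹
    have hTg : subgroupConjRight g (T : Subgroup G) = (S : Subgroup G) := by
      rw [hT, conjRightSub_conjRightSub, inv_mul_cancel, conjRightSub_one]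
    have hAT : A ⊆ (T : Subgroup G) := by
      intro b hb
      rw [SetLike.mem_coe, hT, mem_conjRightSub]
      have := hg (Set.mem_image_of_mem _ hb)
      simp only [inv_inv]
      exact this
    have hlink : SylLinked p 𝓕 ((S : Subgroup G) ⊓ (T : Subgroup G)) S T := by
      by_cases hST : S = T
      · subst hST; exact ReflTransGen.refl
      · exact h S T hST fun hb => ha1 (Subgroup.mem_bot.1 (hb.le ⟨hA ha, hAT ha⟩))
    obtain ⟨n, Y, y, hz, hall⟩ := hlink.exists_prod h𝓕
    set z := (List.ofFn y).prod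
    refine ⟨n, Y, y, z⁻¹ * g, mem_normalizer_of_conjRightSub ?_,
      fun i => ⟨(hall i).1, (hall i).2.1⟩, (mul_inv_cancel_left z g).symm, fun i => ?_⟩
    · conv_lhs => rw [← hz]
      rw [conjRightSub_conjRightSub, mul_inv_cancel_left, hTg]
    · refine (conjRight_mono (B := (((S : Subgroup G) ⊓ (T : Subgroup G) : Subgroup G) : Set G))
        fun b hb => ⟨hA hb, hAT hb⟩).trans ?_
      rw [← coe_conjRightSub]
      exact SetLike.coe_subset_coe.2 (hall i).2.2
  · intro h S T hne hbot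
    obtain ⟨g, hg⟩ := exists_conjRightSub_eq S T
    set D := (S : Subgroup G) ⊓ (T : Subgroup G) with hD
    obtain ⟨a, ha, ha1⟩ := (Subgroup.bot_or_exists_ne_one D).resolve_left hbot
    obtain ⟨n, Y, y, y₀, hy₀, hY, hgy, hall⟩ := h S (D : Set G) g (fun b hb => hb.1) ⟨a, ha, ha1⟩ (by
      rw [← coe_conjRightSub]
      exact SetLike.coe_subset_coe.2 ((conjRightSub_mono inf_le_right).trans hg.le))
    have key : ∀ k : ℕ, k ≤ n → ∀ U : Sylow p G,
        subgroupConjRight ((List.ofFn y).take k).prod (U : Subgroup G) = (S : Subgroup G) →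
        SylLinked p 𝓕 D S U ∧ D ≤ (U : Subgroup G) := by
      intro k
      induction k with
      | zero =>
        intro _ U hU
        rw [List.take_zero, List.prod_nil, conjRightSub_one] at hU
        rw [Sylow.ext hU]; exact ⟨ReflTransGen.refl, inf_le_left⟩
      | succ k ih =>
        intro hk U hU
        set i : Fin n := ⟨k, hk⟩
        set w := ((List.ofFn y).take k).prod with hw
        have hsucc : ((List.ofFn y).take (k + 1)).prod = w * y i := by
          rw [List.prod_take_succ _ _ (by simpa using hk), List.getElem_ofFn]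
        rw [hsucc] at hU
        obtain ⟨U', hU'⟩ := exists_sylow_conjRightSub S w⁻¹
        obtain ⟨hlink, hDU'⟩ := ih (Nat.le_of_succ_le hk) U'
          (by rw [hU', conjRightSub_conjRightSub, inv_mul_cancel, conjRightSub_one])
        have hDw : subgroupConjRight (w * y i) D ≤ (S : Subgroup G) ⊓ Y i := by
          have := hall i
          rw [show (i : ℕ) + 1 = k + 1 from rfl, hsucc, ← coe_conjRightSub] at this
          exact fun b hb => this hb
        have hUw : (U : Subgroup G) = subgroupConjRight (w * y i)⁻¹ (S : Subgroup G) := by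
          rw [← hU, conjRightSub_conjRightSub, mul_inv_cancel, conjRightSub_one]
        have hDU : D ≤ (U : Subgroup G) := by
          have := conjRightSub_mono (g := (w * y i)⁻¹) (hDw.trans inf_le_left)
          rwa [conjRightSub_conjRightSub, mul_inv_cancel, conjRightSub_one, ← hUw] at this
        have hyw : subgroupConjRight (w * y i)⁻¹ (Y i) = subgroupConjRight w⁻¹ (Y i) := by
          rw [mul_inv_rev, ← conjRightSub_conjRightSub,
            conjRightSub_eq_self (inv_mem (mem_normalizer_of_mem (hY i).2))]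
        refine ⟨hlink.tail ⟨subgroupConjRight w⁻¹ (Y i), w * y i * w⁻¹,
          hU' ▸ conjRightSub_mem_sylowMembers h𝓕 (hY i).1 _,
          hUw ▸ hyw ▸ conjRightSub_mem_sylowMembers h𝓕 (hY i).1 _,
          mem_conjRightSub.2 (by simpa [mul_assoc] using (hY i).2), ?_, hDU', hDU, ?_⟩, hDU⟩
        · rw [hU', ← hU, conjRightSub_conjRightSub]
        · have := conjRightSub_mono (g := (w * y i)⁻¹) (hDw.trans inf_le_right)
          rwa [conjRightSub_conjRightSub, mul_inv_cancel, conjRightSub_one, hyw] at this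
    refine (key n le_rfl T ?_).1
    rw [List.take_of_length_le (by simp), show (List.ofFn y).prod = g * y₀⁻¹ by rw [hgy]; group,
      ← conjRightSub_conjRightSub, hg]
    exact conjRightSub_eq_self (inv_mem hy₀)

theorem iSup_sylowMembers_sup_normalizer {𝓕 : Set (Subgroup G)} (h𝓕 : IsNormalSet 𝓕)
    (hc : ControlsSylowIntersections p 𝓕) (hconn : IsSylowChainConnected p G) (S : Sylow p G) :
    (⨆ X ∈ sylowMembers p 𝓕 (S : Subgroup G), X) ⊔
      Subgroup.normalizer ((S : Subgroup G) : Set G) = ⊤ := by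
  rw [eq_top_iff]
  intro g _
  obtain ⟨T, hT⟩ := exists_sylow_conjRightSub S g⁻¹
  obtain ⟨n, c, h0, h1, -, hs⟩ := hconn S T
  have hl : ∀ a b : Sylow p G, a ≠ b ∧ (a : Subgroup G) ⊓ (b : Subgroup G) ≠ ⊥ →
      SylLinked p 𝓕 ⊥ a b := fun a b hab =>
    SylLinked.mono bot_le (controls_iff_linked.1 hc a b hab.1 hab.2)
  have hlink : SylLinked p 𝓕 ⊥ S T :=
    h0 ▸ h1 ▸ ((congrFun (congrFun (reflTransGen_idem (r := SylStep p 𝓕 ⊥)) _) _).mp
      (reflTransGen_of_fin c (fun i => hl _ _ (hs i)) (Fin.last n)))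
  obtain ⟨m, Y, y, hz, hall⟩ := hlink.exists_prod h𝓕
  set z := (List.ofFn y).prod
  have hzJ : z ∈ ⨆ X ∈ sylowMembers p 𝓕 (S : Subgroup G), X := by
    refine Subgroup.list_prod_mem _ fun a ha => ?_
    obtain ⟨i, rfl⟩ := List.mem_ofFn.1 ha
    exact le_biSup (fun X => X) (hall i).1 (hall i).2.1
  have hn : z⁻¹ * g ∈ Subgroup.normalizer ((S : Subgroup G) : Set G) := by
    refine mem_normalizer_of_conjRightSub ?_
    conv_lhs => rw [← hz]
    rw [conjRightSub_conjRightSub, mul_inv_cancel_left, hT, conjRightSub_conjRightSub, inv_mul_cancel,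
      conjRightSub_one]
  rw [show g = z * (z⁻¹ * g) by group]
  exact Subgroup.mul_mem_sup hzJ hn

/-! ### Functor regular subgroups -/

variable {f : Subgroup G → Set (Subgroup G)}

theorem normalizer_mem_functorFamily_top (Q : Sylow p G) {F : Subgroup G} (hF : F ∈ f (Q : Subgroup G)) :
    Subgroup.normalizer (F : Set G) ∈ functorFamily p f ⊤ := by
  refine ⟨Q.subtype le_top, F, ?_, (top_inf_eq _).symm⟩
  rwa [Sylow.coe_subtype, Subgroup.map_subgroupOf_eq_of_le le_top]

omit [Finite G] [Fact p.Prime] in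
theorem conjRightSub_mem_f (hf : IsNormalizerFunctor p f) {P F : Subgroup G} (hP : IsPGroup p P)
    (hF : F ∈ f P) (g : G) : subgroupConjRight g F ∈ f (subgroupConjRight g P) := by
  rw [subgroupConjRight, subgroupConjRight, (hf P hP).2]; exact ⟨F, hF, rfl⟩

theorem isNormalSet_functorFamily_top (hf : IsNormalizerFunctor p f) :
    IsNormalSet (functorFamily p f (⊤ : Subgroup G)) := by
  rintro _ ⟨P, F, hF, rfl⟩ g
  obtain ⟨Q, hQ⟩ := eq_sylow_of_card (P.2.map (⊤ : Subgroup G).subtype) (default : Sylow p G) (by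
    rw [Subgroup.card_map_of_injective (Subgroup.subtype_injective _), Sylow.card_eq_multiplicity,
      Sylow.card_eq_multiplicity, Subgroup.card_top])
  obtain ⟨Q', hQ'⟩ := exists_sylow_conjRightSub Q g
  rw [top_inf_eq, subgroupConjRight, map_conj_normalizer]
  exact normalizer_mem_functorFamily_top Q' (hQ' ▸ hQ ▸ conjRightSub_mem_f hf (P.2.map _) hF g)

/-- A step inside a regular subgroup `M`. -/
def RegStep (p : ℕ) (f : Subgroup G → Set (Subgroup G)) (M D P P' : Subgroup G) : Prop :=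
  ∃ (Q F : Subgroup G) (x : G), CfsgLib.Fusion.IsSylIn p Q M ∧ F ∈ f Q ∧ x ∈ M ∧
    x ∈ Subgroup.normalizer (F : Set G) ∧ CfsgLib.Fusion.IsSylIn p P' M ∧
    P ≤ Subgroup.normalizer (F : Set G) ∧ P' ≤ Subgroup.normalizer (F : Set G) ∧
    subgroupConjRight x P' = P ∧ D ≤ P ∧ D ≤ P'

theorem regular_steps (hf : IsNormalizerFunctor p f) {M : Subgroup G} (hM : IsFunctorRegular p f M)
    {P₁ P₂ : Subgroup G} (h₁ : CfsgLib.Fusion.IsSylIn p P₁ M) (h₂ : CfsgLib.Fusion.IsSylIn p P₂ M)
    (hbot : P₁ ⊓ P₂ ≠ ⊥) : ReflTransGen (RegStep p f M (P₁ ⊓ P₂)) P₁ P₂ := by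
  by_cases heq : P₁ = P₂
  · rw [heq]
  obtain ⟨S, hS⟩ := (CfsgLib.Fusion.exists_sylow_iff h₁.1).2 h₁
  obtain ⟨T, hT⟩ := (CfsgLib.Fusion.exists_sylow_iff h₂.1).2 h₂
  have hmS : (S : Subgroup M).map M.subtype = P₁ := by
    rw [hS, Subgroup.map_subgroupOf_eq_of_le h₁.1]
  have hmT : (T : Subgroup M).map M.subtype = P₂ := by
    rw [hT, Subgroup.map_subgroupOf_eq_of_le h₂.1]
  have hD : ((S : Subgroup M) ⊓ (T : Subgroup M)).map M.subtype = P₁ ⊓ P₂ := by
    rw [Subgroup.map_inf _ _ _ M.subtype_injective, hmS, hmT]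
  have hlink := controls_iff_linked.1 hM S T (fun e => heq (by rw [← hmS, ← hmT, e]))
    (fun e => hbot (by rw [← hD, e, Subgroup.map_bot]))
  rw [← hmS, ← hmT, ← Subgroup.map_inf _ _ _ M.subtype_injective]
  refine ReflTransGen.lift (fun U : Sylow p M => (U : Subgroup M).map M.subtype) ?_ _ _ hlink
  rintro U V ⟨X', x, hU, hV, hx, hxUV, hDU, hDV, -⟩
  obtain ⟨hX, hUX⟩ := mem_sylowMembers.1 hU
  obtain ⟨-, hVX⟩ := mem_sylowMembers.1 hV
  obtain ⟨_, ⟨Q, F, hF, rfl⟩, rfl⟩ := hX
  have hQN : (Q : Subgroup M).map M.subtype ≤ Subgroup.normalizer (F : Set G) :=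
    Subgroup.le_normalizer.trans ((hf _ (Q.2.map _)).1 F hF).2
  have hfull : ∀ W : Sylow p M, CfsgLib.Fusion.IsSylIn p
      ((W : Subgroup M) ⊓ (M ⊓ Subgroup.normalizer (F : Set G)).subgroupOf M)
      ((M ⊓ Subgroup.normalizer (F : Set G)).subgroupOf M) →
      (W : Subgroup M).map M.subtype ≤ Subgroup.normalizer (F : Set G) := by
    intro W hW
    obtain ⟨b, -, hb⟩ := hW.exists_conj_le Q.2
      (fun q hq => Subgroup.mem_subgroupOf.2 ⟨q.2, hQN ⟨q, hq, rfl⟩⟩)
    have hle : Nat.card W ≤ Nat.card ↥((W : Subgroup M) ⊓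
        (M ⊓ Subgroup.normalizer (F : Set G)).subgroupOf M) := by
      rw [Sylow.card_eq_multiplicity W, ← Sylow.card_eq_multiplicity Q,
        ← Subgroup.card_map_of_injective (K := (Q : Subgroup M))
          (f := (MulAut.conj b).toMonoidHom) (MulAut.conj b).injective]
      refine Subgroup.card_le_of_le ?_
      rintro _ ⟨q, hq, rfl⟩; exact hb q hq
    have := (Subgroup.eq_of_le_of_card_ge inf_le_left hle)
    rintro _ ⟨w, hw, rfl⟩
    exact (Subgroup.mem_subgroupOf.1 (this.ge hw).2).2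
  refine ⟨_, F, x, ?_, hF, x.2, (Subgroup.mem_subgroupOf.1 hx).2, ?_, hfull U hUX, hfull V hVX, ?_,
    Subgroup.map_mono hDU, Subgroup.map_mono hDV⟩
  · refine (CfsgLib.Fusion.exists_sylow_iff (Subgroup.map_subtype_le _)).1 ⟨Q, ?_⟩
    rw [Subgroup.subgroupOf, Subgroup.comap_map_eq_self_of_injective M.subtype_injective]
  · refine (CfsgLib.Fusion.exists_sylow_iff (Subgroup.map_subtype_le _)).1 ⟨V, ?_⟩
    rw [Subgroup.subgroupOf, Subgroup.comap_map_eq_self_of_injective M.subtype_injective]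
  · change subgroupConjRight (x : G) ((V : Subgroup M).map M.subtype) = (U : Subgroup M).map M.subtype
    rw [← hxUV, subgroupConjRight, subgroupConjRight, Subgroup.map_map, Subgroup.map_map]
    congr 1

omit [Finite G] [Fact p.Prime] in
theorem conjRightSub_le_normalizer {x : G} {A F : Subgroup G} (hx : x ∈ Subgroup.normalizer (F : Set G))
    (hA : A ≤ Subgroup.normalizer (F : Set G)) :
    subgroupConjRight x A ≤ Subgroup.normalizer (F : Set G) :=
  (map_conj_le_iff (inv_mem hx)).2 hA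

/-- A regular overgroup of two Sylow subgroups links them. -/
theorem linked_of_regular (hf : IsNormalizerFunctor p f) {𝓕 : Set (Subgroup G)}
    (h𝓕 : functorFamily p f ⊤ ⊆ 𝓕) {M : Subgroup G} (hM : IsFunctorRegular p f M) {S T : Sylow p G}
    (hS : (S : Subgroup G) ≤ M) (hT : (T : Subgroup G) ≤ M)
    (hbot : (S : Subgroup G) ⊓ (T : Subgroup G) ≠ ⊥) :
    SylLinked p 𝓕 ((S : Subgroup G) ⊓ (T : Subgroup G)) S T := by
  have hsyl : ∀ U : Sylow p G, (U : Subgroup G) ≤ M → CfsgLib.Fusion.IsSylIn p (U : Subgroup G) M :=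
    fun U hU => ⟨hU, U.2, fun C hC hle _ => U.3 hC hle⟩
  set D := (S : Subgroup G) ⊓ (T : Subgroup G)
  have key : ∀ P, ReflTransGen (RegStep p f M D) (S : Subgroup G) P →
      ∀ U : Sylow p G, (U : Subgroup G) = P → SylLinked p 𝓕 D S U := by
    intro P h
    induction h with
    | refl => intro U hU; rw [Sylow.ext hU]
    | @tail P P' _ hst ih =>
      intro U hU
      obtain ⟨Q, F, x, hQ, hF, -, hxN, -, hP, hP', hxP, hDP, hDP'⟩ := hst
      obtain ⟨b, -, hb⟩ := hQ.exists_conj_le S.2 hS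
      obtain ⟨Q₁, hQ₁⟩ := eq_sylow_of_card hQ.2.1 S (by
        rw [← Subgroup.card_map_of_injective (K := (S : Subgroup G))
          (f := (MulAut.conj b).toMonoidHom) (MulAut.conj b).injective]
        refine Subgroup.card_le_of_le ?_
        rintro _ ⟨s, hs, rfl⟩; exact hb s hs)
      obtain ⟨U', hU'⟩ := eq_sylow_of_card ((hU ▸ U.2).map _ : IsPGroup p (subgroupConjRight x P')) U
        (by rw [card_conjRightSub, hU])
      have hX := h𝓕 (normalizer_mem_functorFamily_top Q₁ (hQ₁ ▸ hF))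
      have hmem : ∀ W : Sylow p G, (W : Subgroup G) ≤ Subgroup.normalizer (F : Set G) →
          Subgroup.normalizer (F : Set G) ∈ sylowMembers p 𝓕 (W : Subgroup G) := fun W hW =>
        mem_sylowMembers.2 ⟨hX, by
          rw [inf_eq_left.2 hW]; exact ⟨hW, W.2, fun C hC hle _ => W.3 hC hle⟩⟩
      refine (ih U' (hU'.trans hxP)).tail ⟨_, x, hmem U' (hU' ▸ hxP ▸ hP), hmem U (hU ▸ hP'), hxN,
        by rw [hU, hU'], hU' ▸ hxP ▸ hDP, hU ▸ hDP', hDP.trans hP⟩
  exact key _ (regular_steps hf hM (hsyl S hS) (hsyl T hT) hbot) T rfl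

theorem controls_functor_union (hf : IsNormalizerFunctor p f)
    (hf1 : ∀ P : Subgroup G, IsPGroup p P → P ≠ ⊥ → ∀ F ∈ f P, F ≠ ⊥) :
    ControlsSylowIntersections p
      (functorFamily p f ⊤ ∪ {M | IsMaximalPLocal p M ∧ ¬ IsFunctorRegular p f M}) := by
  classical
  set 𝓕 := functorFamily p f ⊤ ∪ {M | IsMaximalPLocal p M ∧ ¬ IsFunctorRegular p f M} with h𝓕
  have hmaxloc : ∀ R : Subgroup G, IsPGroup p R → R ≠ ⊥ →
      ∃ M : Subgroup G, IsMaximalPLocal p M ∧ Subgroup.normalizer (R : Set G) ≤ M := by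
    intro R hR hR1
    obtain ⟨M, hle, hmax⟩ := Finite.exists_le_maximal
      (p := fun M : Subgroup G => IsPLocal p M) (a := Subgroup.normalizer (R : Set G)) ⟨R, hR, hR1, rfl⟩
    exact ⟨M, ⟨hmax.prop, fun N hN hMN => (hmax.eq_of_le hN hMN).symm⟩, hle⟩
  rw [controls_iff_linked]
  suffices hmain : ∀ d : ℕ, ∀ S T : Sylow p G, (S : Subgroup G) ⊓ (T : Subgroup G) ≠ ⊥ →
      Nat.card G - Nat.card ↥((S : Subgroup G) ⊓ (T : Subgroup G)) = d →
      SylLinked p 𝓕 ((S : Subgroup G) ⊓ (T : Subgroup G)) S T from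
    fun S T _ hb => hmain _ S T hb rfl
  intro d
  induction d using Nat.strong_induction_on with
  | _ d ih =>
  intro S T hbot hd
  set D := (S : Subgroup G) ⊓ (T : Subgroup G) with hDdef
  -- pairs with a larger intersection
  have hbig : ∀ U V : Sylow p G, D < (U : Subgroup G) ⊓ (V : Subgroup G) →
      SylLinked p 𝓕 D U V := by
    intro U V hlt
    have h1 : Nat.card D < Nat.card ↥((U : Subgroup G) ⊓ (V : Subgroup G)) :=
      (Subgroup.card_le_of_le hlt.le).lt_of_ne fun e => hlt.ne (Subgroup.eq_of_le_of_card_ge hlt.le e.ge)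
    have h2 := Subgroup.card_le_card_group ((U : Subgroup G) ⊓ (V : Subgroup G))
    exact SylLinked.mono hlt.le (ih _ (by omega) U V (fun e => by simp [e] at hlt) rfl)
  by_cases hST : S = T
  · rw [hST]
  have hDS : D < (S : Subgroup G) := by
    refine lt_of_le_of_ne inf_le_left fun e => hST (Sylow.ext (Subgroup.eq_of_le_of_card_ge ?_ ?_))
    · rw [← e]; exact inf_le_right
    · rw [Sylow.card_eq_multiplicity T, ← Sylow.card_eq_multiplicity S]
  have hDp : IsPGroup p D := S.2.to_le inf_le_left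
  -- maximal locals, downwards on their `p`-part
  have hloc : ∀ m : ℕ, ∀ M : Subgroup G, IsMaximalPLocal p M → ∀ U V : Sylow p G,
      CfsgLib.Fusion.IsSylIn p ((U : Subgroup G) ⊓ M) M →
      CfsgLib.Fusion.IsSylIn p ((V : Subgroup G) ⊓ M) M →
      D < (U : Subgroup G) ⊓ M → D < (V : Subgroup G) ⊓ M →
      Nat.card G - Nat.card ↥((U : Subgroup G) ⊓ M) = m → SylLinked p 𝓕 D U V := by
    intro m
    induction m using Nat.strong_induction_on with
    | _ m ihm =>
    intro M hM U V hU hV hDU hDV hm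
    set P₁ := (U : Subgroup G) ⊓ M
    set P₂ := (V : Subgroup G) ⊓ M
    by_cases hr : IsFunctorRegular p f M
    swap
    · -- a singular member
      obtain ⟨b, hb, hbP⟩ := hU.exists_conj_le hV.2.1 hV.1
      obtain ⟨V', hV'⟩ := exists_sylow_conjRightSub V b⁻¹
      have hM' : subgroupConjRight b⁻¹ M = M :=
        conjRightSub_eq_self (mem_normalizer_of_mem (inv_mem hb))
      have hle : subgroupConjRight b⁻¹ P₂ ≤ P₁ := by
        rintro _ ⟨y, hy, rfl⟩; simpa using hbP y hy
      obtain ⟨c, -, hcP⟩ := hV.exists_conj_le hU.2.1 hU.1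
      have hcard : Nat.card P₁ ≤ Nat.card P₂ := by
        rw [← Subgroup.card_map_of_injective (K := P₁) (f := (MulAut.conj c).toMonoidHom)
          (MulAut.conj c).injective]
        refine Subgroup.card_le_of_le ?_
        rintro _ ⟨s, hs, rfl⟩; exact hcP s hs
      have heqP : subgroupConjRight b⁻¹ P₂ = P₁ :=
        Subgroup.eq_of_le_of_card_ge hle (by rw [card_conjRightSub]; exact hcard)
      have hV'M : (V' : Subgroup G) ⊓ M = P₁ := by
        rw [hV', ← hM', ← conjRightSub_inf]; exact heqP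
      refine (hbig U V' (hDU.trans_le (le_inf inf_le_left (hV'M ▸ inf_le_left)))).tail
        ⟨M, b⁻¹, mem_sylowMembers.2 ⟨Or.inr ⟨hM, hr⟩, hV'M.symm ▸ hU⟩,
          mem_sylowMembers.2 ⟨Or.inr ⟨hM, hr⟩, hV⟩, inv_mem hb, hV'.symm,
          hDU.le.trans (hV'M ▸ inf_le_left), hDV.le.trans inf_le_left, hDV.le.trans inf_le_right⟩
    by_cases hPP : D < P₁ ⊓ P₂
    · exact hbig U V (hPP.trans_le (inf_le_inf inf_le_left inf_le_left))
    have hDeq : P₁ ⊓ P₂ = D :=
      (eq_of_le_of_not_lt (le_inf hDU.le hDV.le) hPP).symm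
    have hsteps := regular_steps hf hr hU hV (hDeq ▸ hbot)
    rw [hDeq] at hsteps
    have key : ∀ P, ReflTransGen (RegStep p f M D) P₁ P → ∀ W : Sylow p G, P ≤ (W : Subgroup G) →
        SylLinked p 𝓕 D U W := by
      intro P h
      induction h with
      | refl => exact fun W hW => hbig U W (hDU.trans_le (le_inf inf_le_left hW))
      | @tail P P' _ hst ihP =>
        intro W hW
        obtain ⟨Q, F, x, hQ, hF, hxM, hxN, hPs, hP, hP', hxP, hDP, hDP'⟩ := hst
        have hcardP' : Nat.card P₁ ≤ Nat.card P' := by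
          obtain ⟨c, -, hc⟩ := hPs.exists_conj_le hU.2.1 hU.1
          rw [← Subgroup.card_map_of_injective (K := P₁) (f := (MulAut.conj c).toMonoidHom)
            (MulAut.conj c).injective]
          refine Subgroup.card_le_of_le ?_
          rintro _ ⟨s, hs, rfl⟩; exact hc s hs
        have hDP'lt : D < P' := lt_of_le_of_ne hDP' fun e => by
          have h1 : Nat.card D < Nat.card P₁ := (Subgroup.card_le_of_le hDU.le).lt_of_ne
            fun e' => hDU.ne (Subgroup.eq_of_le_of_card_ge hDU.le e'.ge)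
          rw [← e] at hcardP'; omega
        obtain ⟨W', hW'⟩ := exists_sylow_conjRightSub W x
        have hPW' : P ≤ (W' : Subgroup G) := hW' ▸ hxP ▸ conjRightSub_mono hW
        refine (ihP W' hPW').trans ?_
        by_cases hQfull : Nat.card W ≤ Nat.card Q
        · obtain ⟨Q₁, hQ₁⟩ := eq_sylow_of_card hQ.2.1 W hQfull
          have hWM : P' = (W : Subgroup G) := by
            obtain ⟨c, -, hc⟩ := hPs.exists_conj_le hQ.2.1 hQ.1
            refine Subgroup.eq_of_le_of_card_ge hW (hQfull.trans ?_)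
            rw [← Subgroup.card_map_of_injective (K := Q) (f := (MulAut.conj c).toMonoidHom)
              (MulAut.conj c).injective]
            refine Subgroup.card_le_of_le ?_
            rintro _ ⟨s, hs, rfl⟩; exact hc s hs
          have hmem : ∀ W₀ : Sylow p G, (W₀ : Subgroup G) ≤ Subgroup.normalizer (F : Set G) →
              Subgroup.normalizer (F : Set G) ∈ sylowMembers p 𝓕 (W₀ : Subgroup G) := fun W₀ hW₀ =>
            mem_sylowMembers.2 ⟨Or.inl (normalizer_mem_functorFamily_top Q₁ (hQ₁ ▸ hF)), by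
              rw [inf_eq_left.2 hW₀]; exact ⟨hW₀, W₀.2, fun C hC hle _ => W₀.3 hC hle⟩⟩
          exact ReflTransGen.single ⟨_, x, hmem W' (hW' ▸ conjRightSub_le_normalizer hxN (hWM ▸ hP')),
            hmem W (hWM ▸ hP'), hxN, hW'.symm, hDP.trans hPW', hDP'.trans hW, hDP.trans hP⟩
        push Not at hQfull
        have hQ1 : Q ≠ ⊥ := by
          rintro rfl
          have h1 : P' ≤ ⊥ := by
            obtain ⟨c, -, hc⟩ := hQ.exists_conj_le hPs.2.1 hPs.1
            intro s hs
            have := Subgroup.mem_bot.1 (hc s hs)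
            rw [Subgroup.mem_bot]
            simpa [mul_inv_eq_one] using this
          exact not_lt_bot (hDP'lt.trans_le h1)
        have hFne := hf1 Q hQ.2.1 hQ1 F hF
        have hFp : IsPGroup p F := hQ.2.1.to_le ((hf Q hQ.2.1).1 F hF).1
        obtain ⟨M', hM', hle⟩ := hmaxloc F hFp hFne
        -- the `p`-part of `M'` is larger
        obtain ⟨C, hC1, hC2⟩ := CfsgLib.Fusion.exists_isSylIn_of_isPGroup hPs.2.1 (hP'.trans hle)
        obtain ⟨W₁, hW₁⟩ := hC2.2.1.exists_le_sylow
        have hW₁M : (W₁ : Subgroup G) ⊓ M' = C :=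
          hC2.2.2 _ (W₁.2.to_le inf_le_left) (le_inf hW₁ hC2.1) inf_le_right
        obtain ⟨W₁', hW₁'⟩ := exists_sylow_conjRightSub W₁ x
        have hxM' : x ∈ M' := hle hxN
        have hM'x : subgroupConjRight x M' = M' := conjRightSub_eq_self (mem_normalizer_of_mem hxM')
        have hW₁'M : (W₁' : Subgroup G) ⊓ M' = subgroupConjRight x C := by
          rw [hW₁', ← hW₁M, conjRightSub_inf, hM'x]
        have hlt : Nat.card P₁ < Nat.card C := by
          obtain ⟨c, -, hc⟩ := hQ.exists_conj_le hU.2.1 hU.1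
          have h1 : Nat.card P₁ ≤ Nat.card Q := by
            rw [← Subgroup.card_map_of_injective (K := P₁) (f := (MulAut.conj c).toMonoidHom)
              (MulAut.conj c).injective]
            refine Subgroup.card_le_of_le ?_
            rintro _ ⟨s, hs, rfl⟩; exact hc s hs
          obtain ⟨Q₂, hQ₂⟩ := hQ.2.1.exists_le_sylow
          have hQlt : Q < (Q₂ : Subgroup G) := lt_of_le_of_ne hQ₂ fun e => by
            rw [e, Sylow.card_eq_multiplicity Q₂, ← Sylow.card_eq_multiplicity W] at hQfull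
            exact lt_irrefl _ hQfull
          have h2 := CfsgLib.Fusion.lt_inf_normalizer Q₂.2 hQlt
          have h3 : (Q₂ : Subgroup G) ⊓ Subgroup.normalizer (Q : Set G) ≤ M' :=
            inf_le_right.trans (((hf Q hQ.2.1).1 F hF).2.trans hle)
          obtain ⟨e, -, he⟩ := hC2.exists_conj_le (Q₂.2.to_le inf_le_left) h3
          have h4 : Nat.card ↥((Q₂ : Subgroup G) ⊓ Subgroup.normalizer (Q : Set G)) ≤ Nat.card C := by
            rw [← Subgroup.card_map_of_injective (f := (MulAut.conj e).toMonoidHom)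
              (K := (Q₂ : Subgroup G) ⊓ Subgroup.normalizer (Q : Set G)) (MulAut.conj e).injective]
            refine Subgroup.card_le_of_le ?_
            rintro _ ⟨s, hs, rfl⟩; exact he s hs
          have h5 : Nat.card Q < Nat.card ↥((Q₂ : Subgroup G) ⊓ Subgroup.normalizer (Q : Set G)) :=
            (Subgroup.card_le_of_le h2.le).lt_of_ne fun e' => h2.ne (Subgroup.eq_of_le_of_card_ge h2.le e'.ge)
          omega
        have hPC : P ≤ subgroupConjRight x C := hxP ▸ conjRightSub_mono hC1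
        have hPlt : D < P := lt_of_le_of_ne hDP fun e => by
          have h1 : Nat.card D < Nat.card P' := (Subgroup.card_le_of_le hDP'lt.le).lt_of_ne
            fun e' => hDP'lt.ne (Subgroup.eq_of_le_of_card_ge hDP'lt.le e'.ge)
          rw [e, ← hxP, card_conjRightSub] at h1; exact lt_irrefl _ h1
        have hstep : SylLinked p 𝓕 D W₁' W₁ := by
          refine ihm (Nat.card G - Nat.card ↥((W₁' : Subgroup G) ⊓ M')) ?_ M' hM' W₁' W₁ ?_ ?_ ?_ ?_ rfl
          · have := Subgroup.card_le_card_group (G := G) C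
            rw [hW₁'M, card_conjRightSub]; omega
          · rw [hW₁'M]
            exact hM'x ▸ isSylIn_conjRightSub hC2 x
          · rw [hW₁M]; exact hC2
          · rw [hW₁'M]; exact hPlt.trans_le hPC
          · rw [hW₁M]; exact hDP'lt.trans_le hC1
        have e1 : SylLinked p 𝓕 D W' W₁' := hbig W' W₁' (hPlt.trans_le (le_inf hPW'
          (hPC.trans (hW₁'M.ge.trans inf_le_left))))
        have e2 : SylLinked p 𝓕 D W₁ W := hbig W₁ W (hDP'lt.trans_le (le_inf (hC1.trans hW₁) hW))
        exact (e1.trans hstep).trans e2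
    exact key P₂ hsteps V inf_le_left
  -- start at `N(D)`
  obtain ⟨M, hM, hle⟩ := hmaxloc D hDp hbot
  have hext : ∀ W : Sylow p G, D < (W : Subgroup G) → ∃ W' : Sylow p G,
      CfsgLib.Fusion.IsSylIn p ((W' : Subgroup G) ⊓ M) M ∧ D < (W' : Subgroup G) ⊓ M ∧
        D < (W : Subgroup G) ⊓ (W' : Subgroup G) := by
    intro W hW
    have h1 := CfsgLib.Fusion.lt_inf_normalizer W.2 hW
    obtain ⟨C, hC1, hC2⟩ := CfsgLib.Fusion.exists_isSylIn_of_isPGroup (W.2.to_le inf_le_left)
      (inf_le_right.trans hle : (W : Subgroup G) ⊓ Subgroup.normalizer (D : Set G) ≤ M)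
    obtain ⟨W', hW'⟩ := hC2.2.1.exists_le_sylow
    have : (W' : Subgroup G) ⊓ M = C :=
      hC2.2.2 _ (W'.2.to_le inf_le_left) (le_inf hW' hC2.1) inf_le_right
    exact ⟨W', this ▸ hC2, h1.trans_le (hC1.trans this.ge),
      h1.trans_le (le_inf inf_le_left (hC1.trans hW'))⟩
  have hDT : D < (T : Subgroup G) := by
    refine lt_of_le_of_ne inf_le_right fun e => hST (Sylow.ext (Subgroup.eq_of_le_of_card_ge ?_ ?_)).symm
    · rw [← e]; exact inf_le_left
    · rw [Sylow.card_eq_multiplicity T, ← Sylow.card_eq_multiplicity S]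
  obtain ⟨S', hS'1, hS'2, hS'3⟩ := hext S hDS
  obtain ⟨T', hT'1, hT'2, hT'3⟩ := hext T hDT
  exact ((hbig S S' hS'3).trans (hloc _ M hM S' T' hS'1 hT'1 hS'2 hT'2 rfl)).trans
    (hbig T' T (inf_comm (T : Subgroup G) (T' : Subgroup G) ▸ hT'3))

omit [Fact p.Prime] in
/-- The intermediate Sylow subgroup of a factorization. -/
theorem exists_sylow_between [Fact p.Prime] (S : Sylow p G) {G₁ G₂ : Subgroup G}
    (h1 : (S : Subgroup G) ≤ G₁) (h2 : (S : Subgroup G) ≤ G₂)
    (hfact : ∀ g : G, ∃ g₁ ∈ G₁, ∃ g₂ ∈ G₂, g = g₁ * g₂) (g : G) :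
    ∃ U : Sylow p G, (S : Subgroup G) ⊓ subgroupConjRight g (S : Subgroup G) ≤ (U : Subgroup G) ∧
      (U : Subgroup G) ≤ G₁ ⊓ subgroupConjRight g G₂ := by
  obtain ⟨a, ha, b, hb, hab⟩ := hfact g⁻¹
  have hg : g = b⁻¹ * a⁻¹ := by rw [← inv_inv g, hab, mul_inv_rev]
  have hG2 : subgroupConjRight g G₂ = subgroupConjRight a⁻¹ G₂ := by
    rw [hg, ← conjRightSub_conjRightSub, conjRightSub_eq_self (mem_normalizer_of_mem (inv_mem hb))]
  obtain ⟨U₀, hU₀⟩ := exists_sylow_conjRightSub S a⁻¹
  have hU₀le : (U₀ : Subgroup G) ≤ G₁ ⊓ subgroupConjRight g G₂ := by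
    rw [hG2, hU₀]
    exact le_inf ((conjRightSub_mono h1).trans
      (le_of_eq (conjRightSub_eq_self (mem_normalizer_of_mem (inv_mem ha))))) (conjRightSub_mono h2)
  have hDle : (S : Subgroup G) ⊓ subgroupConjRight g (S : Subgroup G) ≤
      G₁ ⊓ subgroupConjRight g G₂ := inf_le_inf h1 (conjRightSub_mono h2)
  obtain ⟨C, hC1, hC2⟩ := CfsgLib.Fusion.exists_isSylIn_of_isPGroup
    (S.2.to_le (inf_le_left : (S : Subgroup G) ⊓ subgroupConjRight g (S : Subgroup G) ≤ _)) hDle
  obtain ⟨e, -, he⟩ := hC2.exists_conj_le U₀.2 hU₀le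
  obtain ⟨U, hU⟩ := eq_sylow_of_card hC2.2.1 U₀ (by
    rw [← Subgroup.card_map_of_injective (K := (U₀ : Subgroup G))
      (f := (MulAut.conj e).toMonoidHom) (MulAut.conj e).injective]
    refine Subgroup.card_le_of_le ?_
    rintro _ ⟨s, hs, rfl⟩; exact he s hs)
  exact ⟨U, hU ▸ hC1, hU ▸ hC2.1⟩

theorem regular_top_of_factorization (hf : IsNormalizerFunctor p f) (S₀ : Sylow p G)
    {G₁ G₂ : Subgroup G} (h₁ : (S₀ : Subgroup G) ≤ G₁) (h₂ : (S₀ : Subgroup G) ≤ G₂)
    (hprod : ∀ g : G, ∃ g₁ ∈ G₁, ∃ g₂ ∈ G₂, g = g₁ * g₂)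
    (hr₁ : IsFunctorRegular p f G₁) (hr₂ : IsFunctorRegular p f G₂) :
    ControlsSylowIntersections p (functorFamily p f (⊤ : Subgroup G)) := by
  have hn := isNormalSet_functorFamily_top hf
  rw [controls_iff_linked]
  -- all pairs starting at `S₀`
  have hbase : ∀ T : Sylow p G, (S₀ : Subgroup G) ⊓ (T : Subgroup G) ≠ ⊥ →
      SylLinked p (functorFamily p f ⊤) ((S₀ : Subgroup G) ⊓ (T : Subgroup G)) S₀ T := by
    intro T hbot
    obtain ⟨g, hg⟩ := exists_conjRightSub_eq T S₀
    obtain ⟨U, hU1, hU2⟩ := exists_sylow_between S₀ h₁ h₂ hprod g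
    rw [hg] at hU1
    set D := (S₀ : Subgroup G) ⊓ (T : Subgroup G) with hD
    have hb1 : (S₀ : Subgroup G) ⊓ (U : Subgroup G) ≠ ⊥ := fun e =>
      hbot (le_bot_iff.1 (e ▸ le_inf inf_le_left hU1))
    have e1 := SylLinked.mono (le_inf inf_le_left hU1)
      (linked_of_regular hf subset_rfl hr₁ h₁ (hU2.trans inf_le_left) hb1)
    obtain ⟨U', hU'⟩ := exists_sylow_conjRightSub U g⁻¹
    obtain ⟨T', hT'⟩ := exists_sylow_conjRightSub T g⁻¹
    have hT'0 : (T' : Subgroup G) = (S₀ : Subgroup G) := by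
      rw [hT', ← hg, conjRightSub_conjRightSub, mul_inv_cancel, conjRightSub_one]
    have hUG : (U' : Subgroup G) ≤ G₂ := by
      have := conjRightSub_mono (g := g⁻¹) (hU2.trans inf_le_right)
      rwa [conjRightSub_conjRightSub, mul_inv_cancel, conjRightSub_one, ← hU'] at this
    have hle : subgroupConjRight g⁻¹ D ≤ (U' : Subgroup G) ⊓ (T' : Subgroup G) :=
      le_inf (hU' ▸ conjRightSub_mono hU1) (hT' ▸ conjRightSub_mono inf_le_right)
    have hb2 : (U' : Subgroup G) ⊓ (T' : Subgroup G) ≠ ⊥ := fun e => hbot (by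
      have h1 := le_bot_iff.1 (e ▸ hle)
      rw [subgroupConjRight, Subgroup.map_eq_bot_iff_of_injective _ (MulAut.conj g⁻¹⁻¹).injective] at h1
      exact h1)
    have e2 := (SylLinked.mono hle
      (linked_of_regular hf subset_rfl hr₂ hUG (hT'0 ▸ h₂) hb2)).conj hn g U T
      (by rw [hU', conjRightSub_conjRightSub, inv_mul_cancel, conjRightSub_one])
      (by rw [hT', conjRightSub_conjRightSub, inv_mul_cancel, conjRightSub_one])
    rw [conjRightSub_conjRightSub, inv_mul_cancel, conjRightSub_one] at e2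
    exact e1.trans e2
  intro S T _ hbot
  obtain ⟨h, hh⟩ := exists_conjRightSub_eq S₀ S
  obtain ⟨T₀, hT₀⟩ := exists_sylow_conjRightSub T h
  have hDeq : (S₀ : Subgroup G) ⊓ (T₀ : Subgroup G) =
      subgroupConjRight h ((S : Subgroup G) ⊓ (T : Subgroup G)) := by
    rw [hT₀, conjRightSub_inf, hh]
  have e := (hbase T₀ (hDeq ▸ map_conj_ne_bot hbot)).conj hn h⁻¹ S T
    (by rw [← hh, conjRightSub_conjRightSub, mul_inv_cancel, conjRightSub_one])
    (by rw [hT₀, conjRightSub_conjRightSub, mul_inv_cancel, conjRightSub_one])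
  rwa [hDeq, conjRightSub_conjRightSub, mul_inv_cancel, conjRightSub_one] at e

omit [Fact p.Prime] in
/-- Controlling in `G` is controlling in the top subgroup. -/
theorem isFunctorRegular_top [Fact p.Prime]
    (h : ControlsSylowIntersections p (functorFamily p f (⊤ : Subgroup G))) :
    IsFunctorRegular p f (⊤ : Subgroup G) := by
  rw [IsFunctorRegular, controls_iff_linked]
  intro S T hne hbot
  set e := (⊤ : Subgroup G).subtype
  have hinj : Function.Injective e := Subgroup.subtype_injective _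
  have hcard : ∀ U : Sylow p (⊤ : Subgroup G), Nat.card (default : Sylow p G) ≤
      Nat.card ↥((U : Subgroup (⊤ : Subgroup G)).map e) := fun U => by
    rw [Subgroup.card_map_of_injective hinj, Sylow.card_eq_multiplicity, Sylow.card_eq_multiplicity,
      Subgroup.card_top]
  choose u hu using fun U : Sylow p (⊤ : Subgroup G) => eq_sylow_of_card (U.2.map e) default (hcard U)
  have hback : ∀ U : Sylow p G, (U.subtype le_top : Subgroup (⊤ : Subgroup G)).map e = U := fun U => by
    rw [Sylow.coe_subtype, Subgroup.map_subgroupOf_eq_of_le le_top]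
  have hD : ((S : Subgroup (⊤ : Subgroup G)) ⊓ (T : Subgroup (⊤ : Subgroup G))).map e =
      (u S : Subgroup G) ⊓ (u T : Subgroup G) := by
    rw [Subgroup.map_inf _ _ _ hinj, hu, hu]
  have hl := controls_iff_linked.1 h (u S) (u T)
    (fun h' => hne (Sylow.ext (Subgroup.map_injective hinj (by rw [← hu, ← hu, h']))))
    (fun h' => hbot (Subgroup.map_injective hinj (by rw [hD, h', Subgroup.map_bot])))
  have hl' := ReflTransGen.lift (fun U : Sylow p G => U.subtype (le_top : (U : Subgroup G) ≤ ⊤))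
    (p := SylStep p ((fun X : Subgroup G => X.subgroupOf ⊤) '' functorFamily p f ⊤)
      ((S : Subgroup (⊤ : Subgroup G)) ⊓ (T : Subgroup (⊤ : Subgroup G)))) ?_ _ _ hl
  · convert hl' using 1 <;>
      exact (Sylow.ext (Subgroup.map_injective hinj (by rw [hback, hu]))).symm
  rintro U V ⟨X, x, hU, hV, hx, hxUV, h5, h6, h7⟩
  have htr : ∀ W : Sylow p G, X ∈ sylowMembers p (functorFamily p f ⊤) (W : Subgroup G) →
      X.subgroupOf ⊤ ∈ sylowMembers p ((fun X : Subgroup G => X.subgroupOf ⊤) '' functorFamily p f ⊤)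
        (W.subtype le_top : Subgroup (⊤ : Subgroup G)) := by
    intro W hW
    obtain ⟨hX, hs⟩ := mem_sylowMembers.1 hW
    refine mem_sylowMembers.2 ⟨⟨X, hX, rfl⟩, inf_le_right, IsPGroup.to_le (W.subtype le_top).2 inf_le_left,
      fun C hC hle hCX => ?_⟩
    apply Subgroup.map_injective hinj
    rw [hs.2.2 (C.map e) (hC.map e) ?_ ?_, Subgroup.map_inf _ _ _ hinj, hback,
      Subgroup.map_subgroupOf_eq_of_le le_top]
    · refine le_trans (le_of_eq ?_) (Subgroup.map_mono hle)
      rw [Subgroup.map_inf _ _ _ hinj, hback, Subgroup.map_subgroupOf_eq_of_le le_top]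
    · exact le_trans (Subgroup.map_mono hCX) (le_of_eq (Subgroup.map_subgroupOf_eq_of_le le_top))
  refine ⟨X.subgroupOf ⊤, ⟨x, Subgroup.mem_top x⟩, htr U hU, htr V hV, hx, ?_, ?_, ?_, ?_⟩
  · apply Subgroup.map_injective hinj
    rw [hback U, ← hxUV, subgroupConjRight, subgroupConjRight, Subgroup.map_map]
    conv_rhs => rw [← hback V, Subgroup.map_map]
    congr 1
  all_goals refine (Subgroup.map_le_map_iff_of_injective hinj).1 (hD.le.trans ?_)
  · rw [hback]; exact h5
  · rw [hback]; exact h6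
  · rw [Subgroup.map_subgroupOf_eq_of_le le_top]; exact h7

end CfsgLib.LocalEven
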