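import Cfsg.Agent.Lib.Components.FStar
import Cfsg.Agent.Lib.FgsC.Basic

/-!
The alternating component spanned by the 3-cycles of a permutation group.
-/

set_option autoImplicit false

namespace CfsgLib.LocalEven.ThreeCycle

open Cfsg Equiv Equiv.Perm

variable {α : Type*} [DecidableEq α]

/-- The cycle `a ↦ b ↦ c ↦ a`. -/
def cyc (a b c : α) : Perm α := Equiv.swap a b * Equiv.swap b c

theorem conj_cyc (g : Perm α) (a b c : α) : g * cyc a b c * g⁻¹ = cyc (g a) (g b) (g c) := by
  rw [cyc, cyc, Equiv.swap_apply_apply, Equiv.swap_apply_apply]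
  group

theorem cyc_apply {a b c : α} (hab : a ≠ b) (hbc : b ≠ c) (hac : a ≠ c) :
    cyc a b c a = b ∧ cyc a b c b = c ∧ cyc a b c c = a := by
  simp only [cyc, Perm.mul_apply, Equiv.swap_apply_def]
  grind

theorem cyc_apply_of_ne {a b c x : α} (ha : x ≠ a) (hb : x ≠ b) (hc : x ≠ c) : cyc a b c x = x := by
  simp [cyc, Equiv.swap_apply_of_ne_of_ne, ha, hb, hc]

theorem cyc_rot {a b c : α} (hab : a ≠ b) (hbc : b ≠ c) (hac : a ≠ c) : cyc b c a = cyc a b c := by
  ext x
  simp only [cyc, Perm.mul_apply, Equiv.swap_apply_def]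
  grind

theorem cyc_swap {a b c : α} (hab : a ≠ b) (hbc : b ≠ c) (hac : a ≠ c) :
    cyc b a c = (cyc a b c)⁻¹ := by
  refine eq_inv_of_mul_eq_one_left (Equiv.ext fun x => ?_)
  simp only [cyc, Perm.mul_apply, Equiv.swap_apply_def, Perm.one_apply]
  grind

/-- `H` contains the cycle on three distinct points. -/
def P (H : Subgroup (Perm α)) (a b c : α) : Prop := a ≠ b ∧ b ≠ c ∧ a ≠ c ∧ cyc a b c ∈ H

variable {H : Subgroup (Perm α)} {a b c d e x y z : α}

theorem P.rot (h : P H a b c) : P H b c a :=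
  ⟨h.2.1, h.2.2.1.symm, h.1.symm, (cyc_rot h.1 h.2.1 h.2.2.1).symm ▸ h.2.2.2⟩

theorem P.swap (h : P H a b c) : P H b a c :=
  ⟨h.1.symm, h.2.2.1, h.2.1, (cyc_swap h.1 h.2.1 h.2.2.1).symm ▸ H.inv_mem h.2.2.2⟩

theorem P.conj {g : Perm α} (hg : g ∈ H) (h : P H a b c) : P H (g a) (g b) (g c) := by
  refine ⟨g.injective.ne h.1, g.injective.ne h.2.1, g.injective.ne h.2.2.1, ?_⟩
  rw [← conj_cyc]
  exact H.mul_mem (H.mul_mem hg h.2.2.2) (H.inv_mem hg)

theorem four (h₁ : P H a b c) (h₂ : P H a b d) (hcd : c ≠ d) : P H b c d := by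
  have h := h₂.conj h₁.2.2.2
  obtain ⟨e₁, e₂, -⟩ := cyc_apply h₁.1 h₁.2.1 h₁.2.2.1
  rwa [e₁, e₂, cyc_apply_of_ne h₂.2.2.1.symm h₂.2.1.symm hcd.symm] at h

theorem five (h₁ : P H a b c) (h₂ : P H a d e) (hbd : b ≠ d) (hbe : b ≠ e) (hcd : c ≠ d)
    (hce : c ≠ e) : P H b d e := by
  have h := h₂.conj h₁.2.2.2
  obtain ⟨e₁, -, -⟩ := cyc_apply h₁.1 h₁.2.1 h₁.2.2.1
  rwa [e₁, cyc_apply_of_ne h₂.1.symm hbd.symm hcd.symm,
    cyc_apply_of_ne h₂.2.2.1.symm hbe.symm hce.symm] at h

/-- Lying in the support of a common 3-cycle of `H`. -/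
def Rel (H : Subgroup (Perm α)) (x y : α) : Prop := x = y ∨ ∃ z, P H x y z

theorem Rel.symm (h : Rel H x y) : Rel H y x :=
  h.elim (fun e => Or.inl e.symm) fun ⟨z, hz⟩ => Or.inr ⟨z, hz.swap⟩

theorem rel_and_cyc (h₁ : Rel H x y) (h₂ : Rel H y z) (hxy : x ≠ y) (hyz : y ≠ z) (hxz : x ≠ z) :
    P H x y z := by
  obtain ⟨u, hu⟩ := h₁.resolve_left hxy
  obtain ⟨v, hv⟩ := h₂.resolve_left hyz
  by_cases huz : u = z
  · exact huz ▸ hu
  by_cases hvx : v = x
  · exact (hvx ▸ hv).rot.rot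
  by_cases huv : u = v
  · subst huv
    exact (four hu.rot.swap hv.rot.rot hxz).swap
  · have hxzv : P H x z v := five hu.swap hv hxz (Ne.symm hvx) huz huv
    exact (four (hxzv.rot.swap : P H v z x) (hv.rot.swap : P H v z y) hxy).rot

theorem Rel.trans (h₁ : Rel H x y) (h₂ : Rel H y z) : Rel H x z := by
  rcases eq_or_ne x y with rfl | hxy
  · exact h₂
  rcases eq_or_ne y z with rfl | hyz
  · exact h₁
  rcases eq_or_ne x z with rfl | hxz
  · exact Or.inl rfl
  exact Or.inr ⟨y, (rel_and_cyc h₁ h₂ hxy hyz hxz).swap.rot⟩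

variable [Fintype α]

theorem exists_cyc_eq {t : Perm α} (ht : t.IsThreeCycle) :
    ∃ a b c, a ≠ b ∧ b ≠ c ∧ a ≠ c ∧ t = cyc a b c := by
  obtain ⟨a, ha⟩ : t.support.Nonempty := by rw [← Finset.card_pos, ht.card_support]; omega
  have hnd := (ht.nodup_iff_mem_support (a := a)).2 ha
  simp only [List.nodup_cons, List.mem_cons, List.not_mem_nil, or_false, not_or] at hnd
  exact ⟨a, t a, t (t a), hnd.1.1, hnd.2.1, hnd.1.2, ht.eq_swap_mul_swap_iff_mem_support.2 ha⟩

theorem isThreeCycle_cyc (hab : a ≠ b) (hbc : b ≠ c) (hac : a ≠ c) : (cyc a b c).IsThreeCycle := by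
  rw [cyc, Equiv.swap_comm a b]
  exact isThreeCycle_swap_mul_swap_same hab.symm hbc hac

/-- If `F*(H)` is quasisimple, the 3-cycles of `H` live on one set whose alternating group is `F*(H)`. -/
theorem fstar_data (H : Subgroup (Perm α)) (hF : IsQuasisimple ↥(generalizedFittingSubgroup ↥H))
    {a₀ b₀ c₀ : α} (h₀ : P H a₀ b₀ c₀) :
    ∃ D : Finset α, 5 ≤ D.card ∧ (∀ a b c, P H a b c → a ∈ D) ∧
      (∀ x ∈ D, ∃ y z, P H x y z) ∧
      (generalizedFittingSubgroup ↥H).map H.subtype =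
        (alternatingGroup ↥D).map (Perm.ofSubtype (p := (· ∈ D))) := by
  classical
  set E := generalizedFittingSubgroup ↥H with hE
  have hEc : IsComponent E :=
    ⟨(inferInstance : E.Normal).isSubnormal, hF⟩
  suffices key : ∀ a₁ b₁ c₁, P H a₁ b₁ c₁ → ∀ D : Finset α, (∀ x, x ∈ D ↔ Rel H a₁ x) →
      5 ≤ D.card ∧ E.map H.subtype = (alternatingGroup ↥D).map (Perm.ofSubtype (p := (· ∈ D))) by
    set D : Finset α := Finset.univ.filter (Rel H a₀)
    have hD : ∀ x, x ∈ D ↔ Rel H a₀ x := fun x => by simp [D]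
    obtain ⟨h5, hmap⟩ := key _ _ _ h₀ D hD
    refine ⟨D, h5, fun a b c h => ?_, fun x hx => ?_, ?_⟩
    · set D' : Finset α := Finset.univ.filter (Rel H a)
      obtain ⟨-, hmap'⟩ := key _ _ _ h D' (fun x => by simp [D'])
      have hmem : cyc a b c ∈ (alternatingGroup ↥D).map (Perm.ofSubtype (p := (· ∈ D))) := by
        rw [← hmap, hmap']
        have ha : a ∈ D' := by simp [D', Rel]
        have hb : b ∈ D' := by simp only [D', Finset.mem_filter]; exact ⟨Finset.mem_univ _, Or.inr ⟨c, h⟩⟩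
        have hc : c ∈ D' := by
          simp only [D', Finset.mem_filter]; exact ⟨Finset.mem_univ _, Or.inr ⟨b, h.swap.rot⟩⟩
        refine ⟨cyc (⟨a, ha⟩ : ↥D') ⟨b, hb⟩ ⟨c, hc⟩, (isThreeCycle_cyc ?_ ?_ ?_).mem_alternatingGroup, ?_⟩
        · exact fun e => h.1 (congrArg Subtype.val e)
        · exact fun e => h.2.1 (congrArg Subtype.val e)
        · exact fun e => h.2.2.1 (congrArg Subtype.val e)
        · simp [cyc, ofSubtype_swap_eq]
      obtain ⟨σ, -, hσ⟩ := hmem
      by_contra ha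
      have := congrArg (fun t : Perm α => t a) hσ
      rw [ofSubtype_apply_of_not_mem _ ha, (cyc_apply h.1 h.2.1 h.2.2.1).1] at this
      exact h.1 this
    · rcases (hD x).1 hx with rfl | ⟨z, hz⟩
      · exact ⟨_, _, h₀⟩
      · exact ⟨_, _, hz.swap⟩
    · exact hmap
  intro a₁ b₁ c₁ h₁ D hD
  have hclosed : ∀ {a b c : α}, P H a b c → a ∈ D → b ∈ D ∧ c ∈ D := fun h ha =>
    ⟨(hD _).2 (((hD _).1 ha).trans (Or.inr ⟨_, h⟩)),
      (hD _).2 (((hD _).1 ha).trans (Or.inr ⟨_, h.rot.rot.swap⟩))⟩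
  have hmoved : ∀ {x : α}, x ∈ D → ∃ y z, P H x y z := fun {x} hx => by
    rcases (hD x).1 hx with rfl | ⟨z, hz⟩
    · exact ⟨_, _, h₁⟩
    · exact ⟨_, _, hz.swap⟩
  set ι : Perm ↥D →* Perm α := Perm.ofSubtype (p := (· ∈ D)) with hι
  set A := (alternatingGroup ↥D).map ι with hA
  have hgen : A = Subgroup.closure (ι '' {t : Perm ↥D | t.IsThreeCycle}) := by
    rw [hA, ← closure_three_cycles_eq_alternating, MonoidHom.map_closure]
  have hιcyc : ∀ u v w : ↥D, ι (cyc u v w) = cyc (u : α) v w := fun u v w => by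
    simp [hι, cyc, ofSubtype_swap_eq]
  have hAH : A ≤ H := by
    rw [hgen, Subgroup.closure_le]
    rintro _ ⟨t, ht, rfl⟩
    obtain ⟨u, v, w, huv, hvw, huw, rfl⟩ := exists_cyc_eq ht
    rw [hιcyc]
    exact (rel_and_cyc (((hD _).1 u.2).symm.trans ((hD _).1 v.2)) (((hD _).1 v.2).symm.trans ((hD _).1 w.2))
      (Subtype.coe_ne_coe.2 huv) (Subtype.coe_ne_coe.2 hvw) (Subtype.coe_ne_coe.2 huw)).2.2.2
  have hmemA : ∀ {a b c : α}, P H a b c → a ∈ D → cyc a b c ∈ A := fun {a b c} h ha => by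
    refine ⟨cyc (⟨a, ha⟩ : ↥D) ⟨b, (hclosed h ha).1⟩ ⟨c, (hclosed h ha).2⟩,
      (isThreeCycle_cyc ?_ ?_ ?_).mem_alternatingGroup, hιcyc _ _ _⟩
    · exact fun e => h.1 (congrArg Subtype.val e)
    · exact fun e => h.2.1 (congrArg Subtype.val e)
    · exact fun e => h.2.2.1 (congrArg Subtype.val e)
  set A' := A.subgroupOf H with hA'
  set K := Subgroup.closure {t : ↥H | (t : Perm α).IsThreeCycle} with hK
  haveI hKn : K.Normal := by
    refine ⟨fun x hx g => ?_⟩
    induction hx using Subgroup.closure_induction with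
    | mem t ht =>
      refine Subgroup.subset_closure ?_
      show ((g : Perm α) * t * (g : Perm α)⁻¹).IsThreeCycle
      rw [IsThreeCycle, cycleType_conj]
      exact ht
    | one => rw [mul_one, mul_inv_cancel]; exact one_mem _
    | mul t s _ _ h₁ h₂ => rw [show g * (t * s) * g⁻¹ = g * t * g⁻¹ * (g * s * g⁻¹) by group]; exact mul_mem h₁ h₂
    | inv t _ h => rw [show g * t⁻¹ * g⁻¹ = (g * t * g⁻¹)⁻¹ by group]; exact inv_mem h
  have hA'K : A' ≤ K := by
    intro t ht
    have : (t : Perm α) ∈ K.map H.subtype := by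
      refine (hgen ▸ ?_ : A ≤ K.map H.subtype) ht
      rw [Subgroup.closure_le]
      rintro _ ⟨s, hs, rfl⟩
      refine ⟨⟨ι s, hAH ⟨s, IsThreeCycle.mem_alternatingGroup hs, rfl⟩⟩, Subgroup.subset_closure ?_, rfl⟩
      show (ι s).IsThreeCycle
      obtain ⟨u, v, w, huv, hvw, huw, rfl⟩ := exists_cyc_eq hs
      rw [hιcyc]
      exact isThreeCycle_cyc (Subtype.coe_ne_coe.2 huv) (Subtype.coe_ne_coe.2 hvw) (Subtype.coe_ne_coe.2 huw)
    obtain ⟨s, hs, he⟩ := this
    rwa [← Subtype.ext (a1 := s) (a2 := t) he]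
  have hsn : A'.IsSubnormal := by
    refine Subgroup.IsSubnormal.step _ K hA'K hKn.isSubnormal
      (Subgroup.normal_subgroupOf_of_le_normalizer ?_)
    rw [hK, Subgroup.closure_le]
    intro t ht
    obtain ⟨a, b, c, hab, hbc, hac, htc⟩ := exists_cyc_eq ht
    have hP : P H a b c := ⟨hab, hbc, hac, htc ▸ t.2⟩
    by_cases ha : a ∈ D
    · exact Subgroup.le_normalizer (show (t : Perm α) ∈ A from htc ▸ hmemA hP ha)
    · have hb : b ∉ D := fun h => ha (hclosed hP.rot h).2
      have hc : c ∉ D := fun h => ha (hclosed hP.rot.rot h).1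
      have hcomm : A ≤ Subgroup.centralizer {(t : Perm α)} := by
        rw [hgen, Subgroup.closure_le]
        rintro _ ⟨s, hs, rfl⟩
        obtain ⟨u, v, w, -, -, -, rfl⟩ := exists_cyc_eq hs
        refine Subgroup.mem_centralizer_singleton_iff.2 (mul_inv_eq_iff_eq_mul.1 ?_).symm
        rw [hιcyc, htc, conj_cyc]
        rw [cyc_apply_of_ne (a := a), cyc_apply_of_ne (a := a), cyc_apply_of_ne (a := a)] <;>
          first | exact fun e => ha (e ▸ u.2) | exact fun e => hb (e ▸ u.2) | exact fun e => hc (e ▸ u.2) |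
            exact fun e => ha (e ▸ v.2) | exact fun e => hb (e ▸ v.2) | exact fun e => hc (e ▸ v.2) |
            exact fun e => ha (e ▸ w.2) | exact fun e => hb (e ▸ w.2) | exact fun e => hc (e ▸ w.2)
      refine Subgroup.centralizer_le_normalizer _ (Subgroup.mem_centralizer_iff.2 fun s hs => Subtype.ext ?_)
      exact Subgroup.mem_centralizer_singleton_iff.1 (hcomm hs)
  have eA : ↥A' ≃* ↥(alternatingGroup ↥D) := (Subgroup.subgroupOfEquivOfLe hAH).trans
    ((alternatingGroup ↥D).equivMapOfInjective ι Perm.ofSubtype_injective).symm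
  have hA'E : A' = E → A = E.map H.subtype := fun h => by
    rw [← h, hA', Subgroup.map_subgroupOf_eq_of_le hAH]
  have hnsub : ¬ A' ≤ Subgroup.centralizer (E : Set ↥H) ∨ ¬ Group.IsSolvable ↥A' := by
    by_cases hcard : 5 ≤ D.card
    · right
      haveI : IsSimpleGroup ↥(alternatingGroup ↥D) := alternatingGroup.isSimpleGroup (by simpa using hcard)
      intro hs
      haveI := hs
      exact CfsgLib.Components.quasisimple_not_isSolvable
        (CfsgLib.Components.isQuasisimple_of_isSimpleGroup fun hc => by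
          obtain ⟨y, z, h⟩ := hmoved ((hD a₁).2 (Or.inl rfl))
          obtain ⟨w, hw, hwne⟩ : ∃ w ∈ D, w ∉ ({a₁, y, z} : Finset α) :=
            Finset.exists_mem_notMem_of_card_lt_card (by
              have := Finset.card_le_three (a := a₁) (b := y) (c := z); omega)
          simp only [Finset.mem_insert, Finset.mem_singleton, not_or] at hwne
          have ha := (hD a₁).2 (Or.inl rfl)
          have hP2 : P H a₁ y w := rel_and_cyc (((hD _).1 ha).symm.trans ((hD _).1 (hclosed h ha).1))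
            (((hD _).1 (hclosed h ha).1).symm.trans ((hD _).1 hw)) h.1 (Ne.symm hwne.2.1) (Ne.symm hwne.1)
          obtain ⟨s, hs, es⟩ := hmemA h ha
          obtain ⟨r, hr, er⟩ := hmemA hP2 ha
          have hsr : cyc a₁ y z * cyc a₁ y w = cyc a₁ y w * cyc a₁ y z := by
            rw [← es, ← er, ← map_mul, ← map_mul]
            exact congrArg ι (congrArg Subtype.val (hc.is_comm.comm ⟨s, hs⟩ ⟨r, hr⟩))
          have := congrArg (fun q : Perm α => q a₁) hsr
          simp only [Perm.mul_apply, (cyc_apply h.1 h.2.1 h.2.2.1).1, (cyc_apply hP2.1 hP2.2.1 hP2.2.2.1).1,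
            (cyc_apply h.1 h.2.1 h.2.2.1).2.1, (cyc_apply hP2.1 hP2.2.1 hP2.2.2.1).2.1] at this
          first | exact hwne.2.2 this | exact hwne.2.2 this.symm)
        (Group.isSolvable_of_isSolvable_injective (f := eA.symm.toMonoidHom) eA.symm.injective)
    · left
      intro hcent
      have hEA : ∀ g ∈ E, ∀ x ∈ D, (g : Perm α) x ∈ D := by
        intro g hg x hx
        obtain ⟨y, z, h⟩ := hmoved hx
        have hm := hmemA h hx
        have h1 : g * (⟨cyc x y z, hAH hm⟩ : ↥H) = ⟨cyc x y z, hAH hm⟩ * g :=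
          Subgroup.mem_centralizer_iff.1 (hcent (show (⟨_, hAH hm⟩ : ↥H) ∈ A' from hm)) g hg
        have h2 : (g : Perm α) * cyc x y z = cyc x y z * (g : Perm α) := congrArg Subtype.val h1
        have h3 := congrArg (fun q : Perm α => q x) h2
        simp only [Perm.mul_apply, (cyc_apply h.1 h.2.1 h.2.2.1).1] at h3
        by_contra hgx
        rw [cyc_apply_of_ne (fun e => hgx (by rw [e]; exact hx)) (fun e => hgx (by rw [e]; exact (hclosed h hx).1))
          (fun e => hgx (by rw [e]; exact (hclosed h hx).2))] at h3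
        exact h.1 (((g : Perm α).injective h3).symm)
      let θ : ↥E →* Perm ↥D := MonoidHom.mk' (fun g => (g.1 : Perm α).subtypePerm fun x =>
          ⟨fun h => by simpa using hEA g.1⁻¹ (inv_mem g.2) _ h, hEA g.1 g.2 x⟩)
        (fun g h => by ext x; rfl)
      haveI : Group.IsSolvable (Perm ↥D) :=
        CfsgLib.FgsC.isSolvable_perm_of_card_le_four _ (by simp; omega)
      have htriv : ∀ g : ↥E, θ g = 1 := by
        intro g
        by_contra hne
        haveI : Nontrivial ↥θ.range := (Subgroup.nontrivial_iff_exists_ne_one _).2 ⟨_, ⟨g, rfl⟩, hne⟩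
        haveI := hF.1
        haveI : Group.IsPerfect ↥θ.range := Group.IsPerfect.ofSurjective θ.rangeRestrict_surjective
        exact Group.IsPerfect.not_isSolvable ↥θ.range
          (Group.isSolvable_of_isSolvable_injective θ.range.subtype_injective)
      have hm := hmemA h₁ ((hD a₁).2 (Or.inl rfl))
      have hE' : (⟨_, hAH hm⟩ : ↥H) ∈ E :=
        CfsgLib.Components.centralizer_fstar_le (hcent (show (⟨_, hAH hm⟩ : ↥H) ∈ A' from hm))
      have := congrArg (fun q : Perm ↥D => (q ⟨a₁, (hD a₁).2 (Or.inl rfl)⟩ : α)) (htriv ⟨_, hE'⟩)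
      exact h₁.1 ((cyc_apply h₁.1 h₁.2.1 h₁.2.2.1).1 ▸ this.symm)
  have hEA' : A' = E := by
    by_cases hs : Group.IsSolvable ↥A'
    · exact absurd (Subgroup.commutator_eq_bot_iff_le_centralizer.1
        (Subgroup.commutator_comm A' E ▸ CfsgLib.Components.component_commutator_eq_bot_of_isSolvable hEc hsn hs))
        (hnsub.resolve_right (not_not_intro hs))
    · have h5 : 5 ≤ D.card := by
        by_contra h5
        refine hs ?_
        haveI : Group.IsSolvable (Perm ↥D) :=
          CfsgLib.FgsC.isSolvable_perm_of_card_le_four _ (by simp; omega)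
        exact Group.isSolvable_of_isSolvable_injective
          (f := (alternatingGroup ↥D).subtype.comp eA.toMonoidHom)
          ((alternatingGroup ↥D).subtype_injective.comp eA.injective)
      haveI : IsSimpleGroup ↥(alternatingGroup ↥D) := alternatingGroup.isSimpleGroup (by simpa using h5)
      haveI : IsSimpleGroup ↥A' := eA.isSimpleGroup
      have hc : IsComponent A' := ⟨hsn, CfsgLib.Components.isQuasisimple_of_isSimpleGroup fun hc =>
        hs (Group.isSolvable_of_comm hc.is_comm.comm)⟩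
      by_contra hne
      exact CfsgLib.Components.component_not_le_fitting hc
        ((Subgroup.commutator_eq_bot_iff_le_centralizer.1 (CfsgLib.Components.components_commute hc hEc hne)).trans
          CfsgLib.Components.centralizer_fstar_le_fitting)
  refine ⟨?_, (hA'E hEA').symm⟩
  by_contra h5
  haveI : Group.IsSolvable (Perm ↥D) :=
    CfsgLib.FgsC.isSolvable_perm_of_card_le_four _ (by simp; omega)
  exact CfsgLib.Components.quasisimple_not_isSolvable hF (Group.isSolvable_of_isSolvable_injective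
    (f := ((alternatingGroup ↥D).subtype.comp eA.toMonoidHom).comp (MulEquiv.subgroupCongr hEA'.symm).toMonoidHom)
    (((alternatingGroup ↥D).subtype_injective.comp eA.injective).comp (MulEquiv.subgroupCongr hEA'.symm).injective))

theorem fstar_equiv (H : Subgroup (Perm α)) (hF : IsQuasisimple ↥(generalizedFittingSubgroup ↥H))
    {a₀ b₀ c₀ : α} (h₀ : P H a₀ b₀ c₀) :
    ∃ D : Finset α, 5 ≤ D.card ∧ (∀ a b c, P H a b c → a ∈ D) ∧
      Nonempty (↥(generalizedFittingSubgroup ↥H) ≃* ↥(alternatingGroup ↥D)) := by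
  classical
  obtain ⟨D, h5, hmem, -, hmap⟩ := fstar_data H hF h₀
  exact ⟨D, h5, hmem, ⟨((generalizedFittingSubgroup ↥H).equivMapOfInjective _ H.subtype_injective).trans
    ((MulEquiv.subgroupCongr hmap).trans
      ((alternatingGroup ↥D).equivMapOfInjective _ Perm.ofSubtype_injective).symm)⟩⟩

/-- An element of `H` fixing the set of `F*(H)` pointwise is trivial. -/
theorem eq_one_of_fixes (H : Subgroup (Perm α)) {D : Finset α}
    (hmap : (generalizedFittingSubgroup ↥H).map H.subtype =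
      (alternatingGroup ↥D).map (Perm.ofSubtype (p := (· ∈ D))))
    {h : Perm α} (hh : h ∈ H) (hfix : ∀ x ∈ D, h x = x) : h = 1 := by
  have hc : (⟨h, hh⟩ : ↥H) ∈ Subgroup.centralizer (generalizedFittingSubgroup ↥H : Set ↥H) := by
    refine Subgroup.mem_centralizer_iff.2 fun g hg => Subtype.ext ?_
    obtain ⟨σ, -, hσ⟩ := (hmap ▸ ⟨g, hg, rfl⟩ :
      (g : Perm α) ∈ (alternatingGroup ↥D).map (Perm.ofSubtype (p := (· ∈ D))))
    show (g : Perm α) * h = h * (g : Perm α)
    rw [← hσ]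
    refine Equiv.ext fun x => ?_
    by_cases hx : x ∈ D
    · rw [Perm.mul_apply, Perm.mul_apply, hfix x hx, ofSubtype_apply_of_mem _ hx, hfix _ (σ ⟨x, hx⟩).2]
    · have hx' : h x ∉ D := fun e => hx (by rwa [h.injective (hfix _ e)] at e)
      rw [Perm.mul_apply, Perm.mul_apply, ofSubtype_apply_of_not_mem _ hx, ofSubtype_apply_of_not_mem _ hx']
  obtain ⟨σ, -, hσ⟩ := (hmap ▸ ⟨_, CfsgLib.Components.centralizer_fstar_le hc, rfl⟩ :
    h ∈ (alternatingGroup ↥D).map (Perm.ofSubtype (p := (· ∈ D))))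
  refine Equiv.ext fun x => ?_
  by_cases hx : x ∈ D
  · exact hfix x hx
  · show h x = x
    rw [← hσ, ofSubtype_apply_of_not_mem _ hx]

end CfsgLib.LocalEven.ThreeCycle
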