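import Cfsg.Agent.Lib.LocalEven.ThreeCycleComponent
import Cfsg.Agent.Lib.PGroups.Basic

/-!
Degrees in which a Sylow 3-subgroup of the alternating group has one maximal overgroup.
-/

set_option autoImplicit false

namespace CfsgLib.LocalEven.ThreeMinimalAlt

open Equiv Equiv.Perm ThreeCycle

variable {α : Type*} [DecidableEq α] [Fintype α]

/-- The permutations preserving a relation. -/
def keep (r : α → α → Prop) : Subgroup (Perm α) where
  carrier := {g | ∀ x y, r (g x) (g y) ↔ r x y}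
  one_mem' := fun _ _ => Iff.rfl
  mul_mem' := fun {g h} hg hh x y => (hg (h x) (h y)).trans (hh x y)
  inv_mem' := fun {g} hg x y => by
    have := hg (g⁻¹ x) (g⁻¹ y)
    rw [show g (g⁻¹ x) = x from g.apply_symm_apply x, show g (g⁻¹ y) = y from g.apply_symm_apply y] at this
    exact this.symm

theorem alt_le_of_rel {M : Subgroup (Perm α)} (h : ∀ x y, Rel M x y) : alternatingGroup α ≤ M := by
  rw [← closure_three_cycles_eq_alternating, Subgroup.closure_le]
  intro t ht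
  obtain ⟨a, b, c, hab, hbc, hac, rfl⟩ := exists_cyc_eq ht
  exact (rel_and_cyc (h a b) (h b c) hab hbc hac).2.2.2

theorem cyc_mem_alt {a b c : α} (hab : a ≠ b) (hbc : b ≠ c) (hac : a ≠ c) :
    cyc a b c ∈ alternatingGroup α := (isThreeCycle_cyc hab hbc hac).mem_alternatingGroup

/-- A cycle inside a class preserves the partition. -/
theorem cyc_mem_keep {r : α → α → Prop} (hr : Equivalence r) {a b c : α} (hab : a ≠ b) (hbc : b ≠ c)
    (hac : a ≠ c) (h₁ : r a b) (h₂ : r b c) : cyc a b c ∈ keep r := by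
  obtain ⟨e₁, e₂, e₃⟩ := cyc_apply hab hbc hac
  have key : ∀ x, r (cyc a b c x) x := fun x => by
    by_cases ha : x = a
    · rw [ha, e₁]; exact hr.symm h₁
    by_cases hb : x = b
    · rw [hb, e₂]; exact hr.symm h₂
    by_cases hc : x = c
    · rw [hc, e₃]; exact hr.trans h₁ h₂
    rw [cyc_apply_of_ne ha hb hc]; exact hr.refl x
  exact fun x y => ⟨fun h => hr.trans (hr.trans (hr.symm (key x)) h) (key y),
    fun h => hr.trans (hr.trans (key x) h) (hr.symm (key y))⟩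

/-- A central element of order three in the action of `T` on one orbit. -/
theorem exists_central (T N : Subgroup (Perm α)) (hT : IsPGroup 3 T) (hNT : N ≤ T)
    (hn : T ≤ Subgroup.normalizer (N : Set (Perm α))) {x m : α} (hm : ∃ t ∈ T, t x = m)
    (hmov : ∃ n ∈ N, n m ≠ m) :
    ∃ z : Perm α, (∀ t ∈ T, z * t = t * z) ∧ z * z * z = 1 ∧
      (∀ y, (∃ t ∈ T, t x = y) → z y ≠ y ∧ ∃ k ∈ N, k y = z y) ∧
      (∀ y, (¬ ∃ t ∈ T, t x = y) → z y = y) := by
  classical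
  let O : α → Prop := fun y => ∃ t ∈ T, t x = y
  have hO : ∀ t ∈ T, ∀ y, O (t y) ↔ O y := fun t ht y =>
    ⟨fun ⟨s, hs, e⟩ => ⟨t⁻¹ * s, T.mul_mem (T.inv_mem ht) hs, by
        rw [Perm.mul_apply, e]; exact t.symm_apply_apply y⟩,
      fun ⟨s, hs, e⟩ => ⟨t * s, T.mul_mem ht hs, by rw [Perm.mul_apply, e]⟩⟩
  let ρ : ↥T →* Perm (Subtype O) := MonoidHom.mk' (fun t => (t : Perm α).subtypePerm (hO t.1 t.2))
    (fun s t => by ext y; rfl)
  have hnor : (N.subgroupOf T).Normal := Subgroup.normal_subgroupOf_of_le_normalizer hn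
  haveI : ((N.subgroupOf T).map ρ.rangeRestrict).Normal :=
    Subgroup.Normal.map hnor _ ρ.rangeRestrict_surjective
  have hp : IsPGroup 3 ↥ρ.range := hT.of_surjective _ ρ.rangeRestrict_surjective
  obtain ⟨k, hk, hkm⟩ := hmov
  have hne : (N.subgroupOf T).map ρ.rangeRestrict ≠ ⊥ := fun e => by
    have h1 : ρ.rangeRestrict ⟨k, hNT hk⟩ ∈ (⊥ : Subgroup ↥ρ.range) := e ▸ ⟨⟨k, hNT hk⟩, hk, rfl⟩
    have h2 := congrArg (fun q : ↥ρ.range => ((q.1 ⟨m, hm⟩ : Subtype O) : α)) (Subgroup.mem_bot.1 h1)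
    exact hkm h2
  haveI : Fact (Nat.Prime 3) := ⟨by norm_num⟩
  obtain ⟨⟨q, hqm⟩, hord⟩ := exists_prime_orderOf_dvd_card'
    (G := ↥((N.subgroupOf T).map ρ.rangeRestrict ⊓ Subgroup.center ↥ρ.range)) 3
    (CfsgLib.PGroups.dvd_card_of_ne_bot hp (CfsgLib.PGroups.inf_center_ne_bot hp hne))
  obtain ⟨⟨n₀, hn₀, hq⟩, hqc⟩ := hqm
  have hq3 : (q : Perm (Subtype O)) * q * q = 1 := by
    have h1 := pow_orderOf_eq_one (⟨q, ⟨⟨n₀, hn₀, hq⟩, hqc⟩⟩ :
      ↥((N.subgroupOf T).map ρ.rangeRestrict ⊓ Subgroup.center ↥ρ.range))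
    rw [hord, pow_succ, pow_two] at h1
    exact congrArg (fun w : ↥((N.subgroupOf T).map ρ.rangeRestrict ⊓ Subgroup.center ↥ρ.range) =>
      ((w : ↥ρ.range) : Perm (Subtype O))) h1
  have hcomm : ∀ t : ↥T, (q : Perm (Subtype O)) * ρ t = ρ t * q := fun t =>
    (congrArg Subtype.val (Subgroup.mem_center_iff.1 hqc (ρ.rangeRestrict t))).symm
  have hfpf : ∀ y : Subtype O, (q : Perm (Subtype O)) y ≠ y := by
    intro y hy
    have hq1 : (q : Perm (Subtype O)) = 1 := by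
      refine Equiv.ext fun w => ?_
      obtain ⟨s, hs, es⟩ := y.2
      obtain ⟨t, ht, et⟩ := w.2
      have hw : ρ (⟨t, ht⟩ * ⟨s, hs⟩⁻¹) y = w := Subtype.ext (by
        show t (s⁻¹ (y : α)) = _
        rw [← es, show s⁻¹ (s x) = x from s.symm_apply_apply x, et])
      rw [Perm.one_apply]
      calc (q : Perm (Subtype O)) w = (q : Perm (Subtype O)) (ρ (⟨t, ht⟩ * ⟨s, hs⟩⁻¹) y) := by rw [hw]
        _ = ρ (⟨t, ht⟩ * ⟨s, hs⟩⁻¹) ((q : Perm (Subtype O)) y) := by
          rw [← Perm.mul_apply, hcomm, Perm.mul_apply]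
        _ = w := by rw [hy, hw]
    have : (⟨q, ⟨⟨n₀, hn₀, hq⟩, hqc⟩⟩ :
        ↥((N.subgroupOf T).map ρ.rangeRestrict ⊓ Subgroup.center ↥ρ.range)) = 1 :=
      Subtype.ext (Subtype.ext hq1)
    rw [this, orderOf_one] at hord
    omega
  refine ⟨Perm.ofSubtype (q : Perm (Subtype O)), fun t ht => Equiv.ext fun y => ?_, ?_, fun y hy => ?_,
    fun y hy => ofSubtype_apply_of_not_mem _ hy⟩
  · rw [Perm.mul_apply, Perm.mul_apply]
    by_cases hy : O y
    · rw [ofSubtype_apply_of_mem _ ((hO t ht y).2 hy), ofSubtype_apply_of_mem _ hy]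
      exact congrArg Subtype.val (congrArg (fun w : Perm (Subtype O) => w ⟨y, hy⟩) (hcomm ⟨t, ht⟩))
    · rw [ofSubtype_apply_of_not_mem _ hy, ofSubtype_apply_of_not_mem _ fun h => hy ((hO t ht y).1 h)]
  · rw [← map_mul, ← map_mul, hq3, map_one]
  · rw [ofSubtype_apply_of_mem _ (show O y from hy)]
    refine ⟨fun e => hfpf ⟨y, hy⟩ (Subtype.ext e), (n₀ : Perm α), hn₀, ?_⟩
    rw [← hq]
    rfl

/-- Two proper overgroups of `T` generating the alternating group. -/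
def Two (T : Subgroup (Perm α)) : Prop :=
  ∃ K₁ K₂ : Subgroup (Perm α), T ≤ K₁ ∧ T ≤ K₂ ∧ ¬ alternatingGroup α ≤ K₁ ∧ ¬ alternatingGroup α ≤ K₂ ∧
    alternatingGroup α ≤ (K₁ ⊓ alternatingGroup α) ⊔ (K₂ ⊓ alternatingGroup α)

/-- A fixed-point-free `z` of order three centralising `T` inside a `T`-invariant partition. -/
theorem two_of_partition {T : Subgroup (Perm α)} {r : α → α → Prop} (hr : Equivalence r)
    (hTr : T ≤ keep r) {z : Perm α} (hz : ∀ t ∈ T, z * t = t * z) (hz3 : z * z * z = 1)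
    (hfpf : ∀ y, z y ≠ y) (hzr : ∀ y, r y (z y)) {x₀ y₀ : α} (hx₀y₀ : ¬ r x₀ y₀)
    (C : Finset α) (hC : ∀ y, y ∈ C ↔ r x₀ y) (h9 : 9 ≤ C.card) : Two T := by
  classical
  have hzzz : ∀ p, z (z (z p)) = p := fun p => by
    show (z * z * z) p = p
    rw [hz3, Perm.one_apply]
  have hd : ∀ p, p ≠ z p ∧ z p ≠ z (z p) ∧ p ≠ z (z p) := fun p =>
    ⟨(hfpf p).symm, (hfpf _).symm, fun e => hfpf p (by
      have := congrArg z e; rw [hzzz] at this; exact this)⟩
  have hrz : ∀ p, r p (z (z p)) := fun p => hr.trans (hzr p) (hzr _)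
  have hcen : ∀ g, g ∈ Subgroup.centralizer {z} ↔ z * g = g * z := fun g =>
    Subgroup.mem_centralizer_singleton_iff.trans ⟨fun h => h.symm, fun h => h.symm⟩
  refine ⟨keep r, Subgroup.centralizer {z}, hTr, fun t ht => (hcen t).2 (hz t ht), ?_, ?_, ?_⟩
  · intro h
    have hne : z x₀ ≠ y₀ := fun e => hx₀y₀ (e ▸ hzr x₀)
    have hne' : x₀ ≠ y₀ := fun e => hx₀y₀ (e ▸ hr.refl x₀)
    have := h (cyc_mem_alt (hd x₀).1 hne hne') x₀ (z x₀)
    obtain ⟨e₁, e₂, -⟩ := cyc_apply (hd x₀).1 hne hne'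
    rw [e₁, e₂] at this
    exact hx₀y₀ (hr.trans (hzr x₀) (this.2 (hzr x₀)))
  · intro h
    have hne : z x₀ ≠ y₀ := fun e => hx₀y₀ (e ▸ hzr x₀)
    have hne' : x₀ ≠ y₀ := fun e => hx₀y₀ (e ▸ hr.refl x₀)
    have := congrArg (fun q : Perm α => q x₀) ((hcen _).1 (h (cyc_mem_alt (hd x₀).1 hne hne')))
    obtain ⟨e₁, e₂, -⟩ := cyc_apply (hd x₀).1 hne hne'
    simp only [Perm.mul_apply, e₁, e₂] at this
    exact hx₀y₀ (this ▸ hrz x₀)
  set M := (keep r ⊓ alternatingGroup α) ⊔ (Subgroup.centralizer {z} ⊓ alternatingGroup α) with hM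
  have hin : ∀ {a b c : α}, a ≠ b → b ≠ c → a ≠ c → r a b → r b c → P M a b c := fun hab hbc hac h₁ h₂ =>
    ⟨hab, hbc, hac, Subgroup.mem_sup_left ⟨cyc_mem_keep hr hab hbc hac h₁ h₂, cyc_mem_alt hab hbc hac⟩⟩
  have hclass : ∀ {a b : α}, r a b → Rel M a b := fun {a b} hab => by
    rcases eq_or_ne a b with e | hne
    · exact Or.inl e
    refine Or.inr ?_
    by_cases hb : b = z a
    · exact ⟨z (z a), hin hne (hb ▸ (hd a).2.1) (hd a).2.2 hab (hr.trans (hr.symm hab) (hrz a))⟩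
    · exact ⟨z a, hin hne hb (hd a).1 hab (hr.trans (hr.symm hab) (hzr a))⟩
  refine alt_le_of_rel fun a b => ?_
  suffices key : ∀ y, ¬ r x₀ y → Rel M x₀ y by
    have hall : ∀ y, Rel M x₀ y := fun y => if h : r x₀ y then hclass h else key y h
    exact (hall a).symm.trans (hall b)
  intro y hy
  obtain ⟨w, hw, hwT⟩ := Finset.exists_mem_notMem_of_card_lt_card
    (s := ({x₀, z x₀, z (z x₀)} : Finset α)) (t := C)
    (by have := Finset.card_le_three (a := x₀) (b := z x₀) (c := z (z x₀)); omega)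
  obtain ⟨u, hu, huT⟩ := Finset.exists_mem_notMem_of_card_lt_card
    (s := ({x₀, z x₀, z (z x₀)} ∪ {w, z w, z (z w)} : Finset α)) (t := C)
    (by have := Finset.card_union_le ({x₀, z x₀, z (z x₀)} : Finset α) {w, z w, z (z w)}
        have := Finset.card_le_three (a := x₀) (b := z x₀) (c := z (z x₀))
        have := Finset.card_le_three (a := w) (b := z w) (c := z (z w))
        omega)
  rw [hC] at hw hu
  simp only [Finset.mem_union, Finset.mem_insert, Finset.mem_singleton, not_or] at hwT huT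
  obtain ⟨⟨hux, huzx, huzzx⟩, huw, huzw, huzzw⟩ := huT
  obtain ⟨hwx, hwzx, hwzzx⟩ := hwT
  -- distinct triples have disjoint translates
  have hsep : ∀ {p q : α}, q ≠ p → q ≠ z p → q ≠ z (z p) →
      q ≠ p ∧ z q ≠ p ∧ z (z q) ≠ p ∧ q ≠ z p ∧ z q ≠ z p ∧ z (z q) ≠ z p ∧
        q ≠ z (z p) ∧ z q ≠ z (z p) ∧ z (z q) ≠ z (z p) := by
    intro p q h₁ h₂ h₃
    refine ⟨h₁, fun e => h₃ ?_, fun e => h₂ ?_, h₂, z.injective.ne h₁, fun e => h₃ ?_, h₃,
      z.injective.ne h₂, z.injective.ne (z.injective.ne h₁)⟩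
    · rw [← e, hzzz]
    · rw [← e, hzzz]
    · have := z.injective e; rw [← this, hzzz]
  have hsepr : ∀ {p q : α}, r x₀ p → ¬ r x₀ q → q ≠ p ∧ q ≠ z p ∧ q ≠ z (z p) := fun {p q} hp hq =>
    ⟨fun e => hq (e ▸ hp), fun e => hq (e ▸ hr.trans hp (hzr p)), fun e => hq (e ▸ hr.trans hp (hrz p))⟩
  have hxu := hsep hux huzx huzzx
  have hxy := hsep (hsepr (hr.refl x₀) hy).1 (hsepr (hr.refl x₀) hy).2.1 (hsepr (hr.refl x₀) hy).2.2
  have huy := hsep (hsepr hu hy).1 (hsepr hu hy).2.1 (hsepr hu hy).2.2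
  have hxw := hsep hwx hwzx hwzzx
  have hwu := hsep huw huzw huzzw
  have hwy := hsep (hsepr hw hy).1 (hsepr hw hy).2.1 (hsepr hw hy).2.2
  set c₀ := cyc x₀ y u with hc₀
  set c₁ := cyc (z x₀) (z y) (z u) with hc₁
  set c₂ := cyc (z (z x₀)) (z (z y)) (z (z u)) with hc₂
  set h := c₀ * c₁ * c₂ with hh
  have hfix₁ : ∀ {v}, v ≠ z x₀ → v ≠ z y → v ≠ z u → c₁ v = v := fun a b c => cyc_apply_of_ne a b c
  have hfix₂ : ∀ {v}, v ≠ z (z x₀) → v ≠ z (z y) → v ≠ z (z u) → c₂ v = v :=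
    fun a b c => cyc_apply_of_ne a b c
  obtain ⟨e₀, -, -⟩ := cyc_apply (hxy.1.symm : x₀ ≠ y) huy.1 hxu.1.symm
  obtain ⟨e₁, -, -⟩ := cyc_apply (z.injective.ne hxy.1.symm) (z.injective.ne huy.1)
    (z.injective.ne hxu.1.symm)
  have hhx : h x₀ = y := by
    rw [hh, Perm.mul_apply, Perm.mul_apply, hfix₂ (hd x₀).2.2 hxy.2.2.1.symm hxu.2.2.1.symm,
      hfix₁ (hd x₀).1 hxy.2.1.symm hxu.2.1.symm]
    exact e₀
  have hhz : h (z x₀) = z y := by
    rw [hh, Perm.mul_apply, Perm.mul_apply, hfix₂ (hd x₀).2.1 hxy.2.2.2.2.2.1.symm hxu.2.2.2.2.2.1.symm]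
    rw [hc₁, e₁]
    exact cyc_apply_of_ne hxy.2.1 (hd y).1.symm huy.2.1
  have hhw : h w = w := by
    rw [hh, Perm.mul_apply, Perm.mul_apply, hfix₂ hxw.2.2.2.2.2.2.1 hwy.2.2.1.symm hwu.2.2.1.symm,
      hfix₁ hxw.2.2.2.1 hwy.2.1.symm hwu.2.1.symm]
    exact cyc_apply_of_ne hxw.1 hwy.1.symm hwu.1.symm
  have hconj : c₁ * c₂ * c₀ = h := by
    have hc : c₁ * c₂ * c₀ * (c₁ * c₂)⁻¹ = c₀ := by
      rw [hc₀, conj_cyc]
      rw [Perm.mul_apply, Perm.mul_apply, Perm.mul_apply,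
        hfix₂ (hd x₀).2.2 hxy.2.2.1.symm hxu.2.2.1.symm,
        hfix₂ hxy.2.2.2.2.2.2.1 (hd y).2.2 huy.2.2.2.2.2.2.1,
        hfix₂ hxu.2.2.2.2.2.2.1 huy.2.2.1.symm (hd u).2.2,
        hfix₁ (hd x₀).1 hxy.2.1.symm hxu.2.1.symm,
        hfix₁ hxy.2.2.2.1 (hd y).1 huy.2.2.2.1,
        hfix₁ hxu.2.2.2.1 huy.2.1.symm (hd u).1]
    rw [mul_inv_eq_iff_eq_mul] at hc
    rw [hc, hh, mul_assoc]
  have hmem : h ∈ M := by
    refine Subgroup.mem_sup_right ⟨(hcen h).2 (mul_inv_eq_iff_eq_mul.1 ?_), ?_⟩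
    · show z * (cyc x₀ y u * cyc (z x₀) (z y) (z u) * cyc (z (z x₀)) (z (z y)) (z (z u))) * z⁻¹ = h
      rw [show ∀ a b c : Perm α, z * (a * b * c) * z⁻¹ = (z * a * z⁻¹) * (z * b * z⁻¹) * (z * c * z⁻¹)
        from fun a b c => by group, conj_cyc, conj_cyc, conj_cyc, hzzz, hzzz, hzzz]
      exact hconj
    · exact mul_mem (mul_mem (cyc_mem_alt hxy.1.symm huy.1 hxu.1.symm)
        (cyc_mem_alt (z.injective.ne hxy.1.symm) (z.injective.ne huy.1) (z.injective.ne hxu.1.symm)))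
        (cyc_mem_alt (z.injective.ne (z.injective.ne hxy.1.symm)) (z.injective.ne (z.injective.ne huy.1))
          (z.injective.ne (z.injective.ne hxu.1.symm)))
  have hP := (hin (hd x₀).1 (Ne.symm hwzx) (Ne.symm hwx) (hzr x₀) (hr.trans (hr.symm (hzr x₀)) hw)).conj hmem
  rw [hhx, hhz, hhw] at hP
  exact (hclass hw).trans (Or.inr ⟨z y, hP.rot.rot⟩)

/-- Degrees with a single maximal overgroup. -/
theorem degree_of_not_two (hn : 5 ≤ Fintype.card α) (T : Subgroup (Perm α)) (hT : IsPGroup 3 T)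
    (hTne : T ≠ ⊥) (hnot : ¬ Two T) :
    Fintype.card α = 6 ∨ Fintype.card α = 9 ∨ ∃ a : ℕ, 2 ≤ a ∧ Fintype.card α = 3 ^ a + 1 := by
  classical
  haveI : Fact (Nat.Prime 3) := ⟨by norm_num⟩
  let O : α → Finset α := fun x => Finset.univ.filter fun y => ∃ t ∈ T, t x = y
  have hO : ∀ {x y}, y ∈ O x ↔ ∃ t ∈ T, t x = y := fun {x y} => by simp [O]
  have hself : ∀ x, x ∈ O x := fun x => hO.2 ⟨1, T.one_mem, rfl⟩
  have hsymm : ∀ {x y}, y ∈ O x → x ∈ O y := fun {x y} h => by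
    obtain ⟨t, ht, rfl⟩ := hO.1 h
    exact hO.2 ⟨t⁻¹, T.inv_mem ht, t.symm_apply_apply x⟩
  have htrans : ∀ {x y w}, y ∈ O x → w ∈ O y → w ∈ O x := fun {x y w} h h' => by
    obtain ⟨t, ht, rfl⟩ := hO.1 h
    obtain ⟨s, hs, rfl⟩ := hO.1 h'
    exact hO.2 ⟨s * t, T.mul_mem hs ht, rfl⟩
  have hinv : ∀ {t}, t ∈ T → ∀ x y, t y ∈ O x ↔ y ∈ O x := fun {t} ht x y =>
    ⟨fun h => htrans h (hsymm (hO.2 ⟨t, ht, rfl⟩)), fun h => htrans h (hO.2 ⟨t, ht, rfl⟩)⟩
  have hcard : ∀ x, ∃ k, (O x).card = 3 ^ k := fun x => by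
    obtain ⟨k, hk⟩ := hT.card_orbit (α := α) x
    refine ⟨k, ?_⟩
    rw [← hk, Nat.card_eq_fintype_card, Fintype.card_subtype]
    refine congrArg Finset.card (Finset.ext fun y => ?_)
    simp only [O, Finset.mem_filter, Finset.mem_univ, true_and, MulAction.mem_orbit_iff]
    exact ⟨fun ⟨t, ht, e⟩ => ⟨⟨t, ht⟩, e⟩, fun ⟨t, e⟩ => ⟨t.1, t.2, e⟩⟩
  obtain ⟨t₀, ht₀, ht₀ne⟩ := (Subgroup.ne_bot_iff_exists_ne_one.1 hTne) |> fun ⟨t, ht⟩ =>
    (⟨t.1, t.2, fun e => ht (Subtype.ext e)⟩ : ∃ t, t ∈ T ∧ t ≠ 1)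
  obtain ⟨c, hc⟩ : ∃ c, t₀ c ≠ c := by
    by_contra h
    push Not at h
    exact ht₀ne (Equiv.ext h)
  have hc3 : 3 ≤ (O c).card := by
    obtain ⟨k, hk⟩ := hcard c
    have h2 : 1 < (O c).card := Finset.one_lt_card.2 ⟨c, hself c, t₀ c, hO.2 ⟨t₀, ht₀, rfl⟩, hc.symm⟩
    rcases Nat.eq_zero_or_pos k with rfl | hk0
    · simp [hk] at h2
    · rw [hk]; exact Nat.le_self_pow (by omega) 3
  by_cases htwo : ∃ b, b ∉ O c
  swap
  · -- one orbit
    push Not at htwo
    have hOc : O c = Finset.univ := Finset.eq_univ_of_forall htwo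
    obtain ⟨k, hk⟩ := hcard c
    rw [hOc, Finset.card_univ] at hk
    by_cases hk2 : k ≤ 2
    · interval_cases k
      · omega
      · omega
      · exact Or.inr (Or.inl hk)
    exfalso
    push Not at hk2
    apply hnot
    let S := MulAction.stabilizer ↥T c
    obtain ⟨e, he⟩ := IsPGroup.iff_card.1 hT
    obtain ⟨f, hf⟩ := IsPGroup.iff_card.1 (hT.to_subgroup S)
    have horb : Nat.card S * 3 ^ k = Nat.card ↥T := by
      rw [← hk, ← S.card_mul_index]
      congr 1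
      rw [MulAction.index_stabilizer, ← Nat.card_eq_fintype_card]
      have : MulAction.orbit ↥T c = Set.univ := Set.eq_univ_of_forall fun y => by
        obtain ⟨t, ht, e⟩ := hO.1 (htwo y)
        exact ⟨⟨t, ht⟩, e⟩
      rw [this, Set.ncard_univ]
    rw [hf, he, ← pow_add] at horb
    have hef : f + k = e := Nat.pow_right_injective (by norm_num) horb
    obtain ⟨N, hN, hSN⟩ := Sylow.exists_subgroup_card_pow_prime_le 3 (m := e - 1)
      (by rw [he]; exact pow_dvd_pow 3 (by omega)) S hf (by omega)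
    have hNi : N.index = 3 := by
      have h1 := N.card_mul_index
      rw [hN, he, show e = (e - 1) + 1 by omega, pow_succ] at h1
      exact Nat.eq_of_mul_eq_mul_left (show 0 < 3 ^ (e - 1) by positivity) (by simpa using h1)
    haveI hNn : N.Normal := Subgroup.normal_of_index_eq_minFac_card (by
      rw [hNi, he, Nat.Prime.pow_minFac (by norm_num) (by omega)])
    let N' := N.map T.subtype
    have hNT : N' ≤ T := Subgroup.map_subtype_le N
    have hTN : T ≤ Subgroup.normalizer (N' : Set (Perm α)) := by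
      refine le_trans ?_ (Subgroup.le_normalizer_map T.subtype)
      rw [Subgroup.normalizer_eq_top_iff.2 hNn, ← MonoidHom.range_eq_map, Subgroup.range_subtype]
    let r : α → α → Prop := fun x y => ∃ q ∈ N', q x = y
    have hr : Equivalence r :=
      ⟨fun x => ⟨1, N'.one_mem, rfl⟩, fun ⟨q, hq, e⟩ => ⟨q⁻¹, N'.inv_mem hq, e ▸ q.symm_apply_apply _⟩,
        fun ⟨q, hq, e⟩ ⟨q', hq', e'⟩ => ⟨q' * q, N'.mul_mem hq' hq, by rw [Perm.mul_apply, e, e']⟩⟩
    let C := Finset.univ.filter (r c)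
    have hCcard : C.card = 3 ^ (k - 1) := by
      have h1 : Nat.card (MulAction.orbit ↥N c) * Nat.card (MulAction.stabilizer ↥N c) = Nat.card N := by
        rw [← (MulAction.stabilizer ↥N c).card_mul_index, MulAction.index_stabilizer, mul_comm]
        rfl
      have h2 : Nat.card (MulAction.stabilizer ↥N c) = 3 ^ f := by
        rw [← hf]
        have : MulAction.stabilizer ↥N c = S.subgroupOf N := rfl
        rw [this]
        exact Nat.card_congr (Subgroup.subgroupOfEquivOfLe hSN).toEquiv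
      rw [h2, hN] at h1
      have h3 : Nat.card (MulAction.orbit ↥N c) = C.card := by
        rw [Nat.card_eq_fintype_card, Fintype.card_subtype]
        refine congrArg Finset.card (Finset.ext fun y => ?_)
        simp only [C, Finset.mem_filter, Finset.mem_univ, true_and, MulAction.mem_orbit_iff, r]
        exact ⟨fun ⟨q, e⟩ => ⟨_, ⟨q.1, q.2, rfl⟩, e⟩, fun ⟨_, ⟨q, hq, rfl⟩, e⟩ => ⟨⟨q, hq⟩, e⟩⟩
      rw [h3] at h1
      refine Nat.eq_of_mul_eq_mul_right (show 0 < 3 ^ f by positivity) ?_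
      rw [h1, ← pow_add]
      congr 1
      omega
    have h27 : 3 ^ (k - 1) * 3 = 3 ^ k := by rw [← pow_succ]; congr 1; omega
    have h9 : 9 ≤ 3 ^ (k - 1) := le_trans (by norm_num) (Nat.pow_le_pow_right (by norm_num) (by omega : 2 ≤ k - 1))
    obtain ⟨y₀, hy₀⟩ : ∃ y₀, ¬ r c y₀ := by
      by_contra h
      push Not at h
      have : C = Finset.univ := Finset.eq_univ_of_forall fun y => by simp [C, h]
      rw [this, Finset.card_univ] at hCcard
      omega
    obtain ⟨m, hm⟩ : ∃ m, ∃ q ∈ N', q m ≠ m := by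
      refine ⟨c, ?_⟩
      by_contra h
      push Not at h
      have : C ⊆ {c} := fun y hy => by
        simp only [C, Finset.mem_filter, r] at hy
        obtain ⟨-, q, hq, e⟩ := hy
        rw [Finset.mem_singleton, ← e, h q hq]
      have := Finset.card_le_card this
      simp at this
      omega
    obtain ⟨z, hz, hz3, hzO, -⟩ := exists_central T N' hT hNT hTN (hO.1 (htwo m)) hm
    refine two_of_partition hr (fun t ht x y => ⟨fun ⟨q, hq, e⟩ => ?_, fun ⟨q, hq, e⟩ => ?_⟩) hz hz3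
      (fun y => (hzO y (hO.1 (htwo y))).1) (fun y => (hzO y (hO.1 (htwo y))).2) hy₀ C (fun y => by simp [C])
      (hCcard ▸ h9)
    · refine ⟨t⁻¹ * q * t, ?_, ?_⟩
      · have := (Subgroup.mem_normalizer_iff.1 (hTN (T.inv_mem ht)) q).1 hq
        simpa using this
      · rw [Perm.mul_apply, Perm.mul_apply, e]
        exact t.symm_apply_apply y
    · refine ⟨t * q * t⁻¹, (Subgroup.mem_normalizer_iff.1 (hTN ht) q).1 hq, ?_⟩
      rw [Perm.mul_apply, Perm.mul_apply, show t⁻¹ (t x) = x from t.symm_apply_apply x, e]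
  obtain ⟨b, hb⟩ := htwo
  have hdis : Disjoint (O c) (O b) := Finset.disjoint_left.2 fun y h h' => hb (htrans h (hsymm h'))
  by_cases hthree : ∃ a, a ∉ O c ∧ a ∉ O b
  · exfalso
    obtain ⟨a, hac, hab⟩ := hthree
    apply hnot
    let r : α → α → α → Prop := fun v x y => x ∈ O v ↔ y ∈ O v
    have hr : ∀ v, Equivalence (r v) := fun v => ⟨fun x => Iff.rfl, fun h => h.symm, fun h h' => h.trans h'⟩
    obtain ⟨c', hc'm, hc'⟩ := Finset.exists_mem_ne (by omega : 1 < (O c).card) c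
    have hproper : ∀ v, v ∉ O c → ¬ alternatingGroup α ≤ keep (r v) := fun v hv h => by
      have hvc : v ≠ c := fun e => hv (e ▸ hself c)
      have hvc' : v ≠ c' := fun e => hv (e ▸ hc'm)
      have hcv : c ∉ O v := fun e => hv (hsymm e)
      have hc'v : c' ∉ O v := fun e => hv (htrans hc'm (hsymm e))
      have := h (cyc_mem_alt hvc hc'.symm hvc') c c'
      obtain ⟨-, e₂, e₃⟩ := cyc_apply hvc hc'.symm hvc'
      rw [e₂, e₃] at this
      exact hc'v ((this.2 (iff_of_false hcv hc'v)).2 (hself v))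
    refine ⟨keep (r a), keep (r b), ?_, ?_, hproper a hac, hproper b hb, ?_⟩
    · exact fun t ht x y => iff_congr (hinv ht _ _) (hinv ht _ _)
    · exact fun t ht x y => iff_congr (hinv ht _ _) (hinv ht _ _)
    set M := (keep (r a) ⊓ alternatingGroup α) ⊔ (keep (r b) ⊓ alternatingGroup α)
    have hout : ∀ v, v ∉ O c → (keep (r v) ⊓ alternatingGroup α ≤ M) → ∀ x, x ∉ O v → Rel M c x := by
      intro v hv hle x hx
      rcases eq_or_ne c x with e | hne
      · exact Or.inl e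
      obtain ⟨w, hw, hwne⟩ := Finset.exists_mem_notMem_of_card_lt_card
        (s := ({c, x} : Finset α)) (t := O c) (by have := Finset.card_le_two (a := c) (b := x); omega)
      simp only [Finset.mem_insert, Finset.mem_singleton, not_or] at hwne
      have hcv : c ∉ O v := fun e => hv (hsymm e)
      have hwv : w ∉ O v := fun e => hv (htrans hw (hsymm e))
      exact Or.inr ⟨w, hne, Ne.symm hwne.2, Ne.symm hwne.1, hle ⟨cyc_mem_keep (hr v) hne (Ne.symm hwne.2)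
        (Ne.symm hwne.1) (iff_of_false hcv hx) (iff_of_false hx hwv),
        cyc_mem_alt hne (Ne.symm hwne.2) (Ne.symm hwne.1)⟩⟩
    have hall : ∀ x, Rel M c x := fun x => by
      by_cases hxa : x ∈ O a
      · exact hout b hb le_sup_right x fun hxb => hab (htrans hxb (hsymm hxa))
      · exact hout a hac le_sup_left x hxa
    exact alt_le_of_rel fun x y => (hall x).symm.trans (hall y)
  -- two orbits
  push Not at hthree
  have hsum : Fintype.card α = (O c).card + (O b).card := by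
    rw [← Finset.card_union_of_disjoint hdis, ← Finset.card_univ]
    refine congrArg Finset.card (Finset.eq_univ_of_forall fun y => Finset.mem_union.2 ?_).symm
    exact (em (y ∈ O c)).imp id (hthree y)
  obtain ⟨i, hi⟩ := hcard c
  obtain ⟨j, hj⟩ := hcard b
  have hi1 : 1 ≤ i := Nat.one_le_iff_ne_zero.2 fun e => by simp [hi, e] at hc3
  rcases Nat.eq_zero_or_pos j with rfl | hj1
  · refine Or.inr (Or.inr ⟨i, ?_, by rw [hsum, hi, hj, pow_zero]⟩)
    by_contra h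
    have : i = 1 := by omega
    rw [hsum, hi, hj, this] at hn
    norm_num at hn
  by_cases h11 : i = 1 ∧ j = 1
  · left; rw [hsum, hi, hj, h11.1, h11.2]; norm_num
  exfalso
  apply hnot
  have hmov : ∀ v k, (O v).card = 3 ^ k → 1 ≤ k → ∃ q ∈ T, q v ≠ v := fun v k hk hk1 => by
    by_contra h
    push Not at h
    have hle : (O v).card ≤ ({v} : Finset α).card := Finset.card_le_card fun y hy => by
      obtain ⟨t, ht, e⟩ := hO.1 hy
      rw [Finset.mem_singleton, ← e, h t ht]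
    rw [hk, Finset.card_singleton] at hle
    exact absurd hle (by have : 3 ≤ 3 ^ k := Nat.le_self_pow (by omega) 3; omega)
  obtain ⟨z₁, hz₁, hz₁3, h₁O, h₁n⟩ := exists_central T T hT le_rfl Subgroup.le_normalizer
    (x := c) ⟨1, T.one_mem, rfl⟩ (hmov c i hi hi1)
  obtain ⟨z₂, hz₂, hz₂3, h₂O, h₂n⟩ := exists_central T T hT le_rfl Subgroup.le_normalizer
    (x := b) ⟨1, T.one_mem, rfl⟩ (hmov b j hj hj1)
  have hob : ∀ y, y ∉ O c → y ∈ O b := hthree
  have hbc : ∀ y, y ∈ O b → y ∉ O c := fun y h h' => Finset.disjoint_left.1 hdis h' h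
  have hkeep1 : ∀ y, y ∈ O c → z₁ y ∈ O c := fun y hy => by
    obtain ⟨q, hq, e⟩ := (h₁O y (hO.1 hy)).2
    rw [← e]; exact (hinv hq c y).2 hy
  have hkeep2 : ∀ y, y ∈ O b → z₂ y ∈ O b := fun y hy => by
    obtain ⟨q, hq, e⟩ := (h₂O y (hO.1 hy)).2
    rw [← e]; exact (hinv hq b y).2 hy
  have h1 : ∀ y, y ∈ O c → (z₁ * z₂) y = z₁ y := fun y hy => by
    rw [Perm.mul_apply, h₂n y fun h => hbc y (hO.2 h) hy]
  have h2 : ∀ y, y ∉ O c → (z₁ * z₂) y = z₂ y := fun y hy => by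
    rw [Perm.mul_apply, h₁n _ fun h => hbc _ (hkeep2 y (hob y hy)) (hO.2 h)]
  let r : α → α → Prop := fun x y => x ∈ O c ↔ y ∈ O c
  obtain ⟨v, w, C, hvw, hC, h9⟩ : ∃ v w, ∃ C : Finset α, ¬ r v w ∧ (∀ y, y ∈ C ↔ r v y) ∧ 9 ≤ C.card := by
    by_cases hi2 : 2 ≤ i
    · refine ⟨c, b, O c, fun h => hb (h.1 (hself c)), fun y => ⟨fun h => iff_of_true (hself c) h, fun h => h.1 (hself c)⟩, ?_⟩
      rw [hi]; exact le_trans (by norm_num) (Nat.pow_le_pow_right (by norm_num) hi2)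
    · have hj2 : 2 ≤ j := by omega
      refine ⟨b, c, O b, fun h => hb (h.2 (hself c)), fun y => ⟨fun h => iff_of_false hb (hbc y h), fun h => hob y fun h' => hb (h.2 h')⟩, ?_⟩
      rw [hj]; exact le_trans (by norm_num) (Nat.pow_le_pow_right (by norm_num) hj2)
  refine two_of_partition (r := r) ⟨fun x => Iff.rfl, fun h => h.symm, fun h h' => h.trans h'⟩
    (fun t ht x y => iff_congr (hinv ht c x) (hinv ht c y)) (z := z₁ * z₂)
    (fun t ht => by rw [mul_assoc, hz₂ t ht, ← mul_assoc, hz₁ t ht, mul_assoc]) ?_ (fun y => ?_) (fun y => ?_)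
    hvw C hC h9
  · refine Equiv.ext fun y => ?_
    show (z₁ * z₂) ((z₁ * z₂) ((z₁ * z₂) y)) = y
    by_cases hy : y ∈ O c
    · rw [h1 y hy, h1 _ (hkeep1 y hy), h1 _ (hkeep1 _ (hkeep1 y hy))]
      show (z₁ * z₁ * z₁) y = y
      rw [hz₁3, Perm.one_apply]
    · rw [h2 y hy, h2 _ (hbc _ (hkeep2 y (hob y hy))), h2 _ (hbc _ (hkeep2 _ (hkeep2 y (hob y hy))))]
      show (z₂ * z₂ * z₂) y = y
      rw [hz₂3, Perm.one_apply]
  · by_cases hy : y ∈ O c
    · rw [h1 y hy]; exact (h₁O y (hO.1 hy)).1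
    · rw [h2 y hy]; exact (h₂O y (hO.1 (hob y hy))).1
  · by_cases hy : y ∈ O c
    · show _ ↔ _
      rw [h1 y hy]; exact iff_of_true hy (hkeep1 y hy)
    · show _ ↔ _
      rw [h2 y hy]; exact iff_of_false hy (hbc _ (hkeep2 y (hob y hy)))

end CfsgLib.LocalEven.ThreeMinimalAlt
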