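import Mathlib
import Cfsg.Prelude.Def_PLocal
import Cfsg.Agent.Lib.PGroups.Basic
import Cfsg.Agent.Lib.Transfer.NormalPComplement

/-!
# A central involution fixed by `N(S)` outside `Φ(S)` forces a quotient of order two
-/

namespace CfsgLib.LocalEven.TransferCentral

open Subgroup
open scoped commutatorElement

variable {G : Type*} [Group G] [Finite G]

theorem prod_eq_pow {p : ℕ} [Fact p.Prime] {S : Type*} [Group S] (hS : IsPGroup p S)
    {X : Type*} [Fintype X] [MulAction S X] {A : Type*} [CommGroup A] (hA : ∀ a : A, a ^ p = 1)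
    (f : X → A) (hf : ∀ (s : S) (x : X), f (s • x) = f x) (c : A)
    (hc : ∀ x ∈ MulAction.fixedPoints S X, f x = c) : ∏ x, f x = c ^ Fintype.card X := by
  classical
  suffices h : ∏ x, f x * c⁻¹ = 1 by
    rw [Finset.prod_mul_distrib, Finset.prod_const, Finset.card_univ, inv_pow, mul_inv_eq_one] at h
    exact h
  rw [← Finset.prod_fiberwise Finset.univ
    (fun x => (Quotient.mk'' x : Quotient (MulAction.orbitRel S X))) fun x => f x * c⁻¹]
  refine Finset.prod_eq_one fun q _ => ?_
  induction q using Quotient.inductionOn' with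
  | h x =>
    have hset : ∀ y, (Quotient.mk'' y : Quotient (MulAction.orbitRel S X)) = Quotient.mk'' x ↔
        y ∈ MulAction.orbit S x := fun y => by rw [Quotient.eq'', MulAction.orbitRel_apply]
    rw [Finset.prod_congr rfl (g := fun _ => f x * c⁻¹) (fun y hy => by
      obtain ⟨s, rfl⟩ := (hset y).1 (Finset.mem_filter.1 hy).2
      rw [hf]), Finset.prod_const]
    have hcard : (Finset.univ.filter fun y =>
        (Quotient.mk'' y : Quotient (MulAction.orbitRel S X)) = Quotient.mk'' x).card =
        Nat.card (MulAction.orbit S x) := by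
      rw [Nat.card_eq_fintype_card]
      exact (Fintype.card_of_subtype _ (fun y => by simp [hset])).symm
    obtain ⟨k, hk⟩ := hS.card_orbit x
    rw [hcard, hk]
    rcases k with - | k
    · rw [hc x (by
        intro s
        rw [pow_zero, Nat.card_eq_one_iff_unique] at hk
        exact congrArg Subtype.val (hk.1.elim ⟨s • x, MulAction.mem_orbit x s⟩
          ⟨x, MulAction.mem_orbit_self x⟩)), mul_inv_cancel, one_pow]
    · rw [pow_succ', pow_mul, hA, one_pow]

theorem main [Fact (Nat.Prime 2)] (S : Sylow 2 G) :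
    Cfsg.pResidual 2 G ≠ ⊤ ∨
      Cfsg.omegaOne 2 ((S : Subgroup G) ⊓ centralizer ((S : Subgroup G) : Set G)) ≤
        (frattini ↥(S : Subgroup G)).map (S : Subgroup G).subtype ∨
      ∃ g ∈ normalizer ((S : Subgroup G) : Set G),
        ∃ z ∈ Cfsg.omegaOne 2 ((S : Subgroup G) ⊓ centralizer ((S : Subgroup G) : Set G)),
          g * z * g⁻¹ ≠ z := by
  classical
  set Ω := Cfsg.omegaOne 2 ((S : Subgroup G) ⊓ centralizer ((S : Subgroup G) : Set G)) with hΩ
  by_contra hcon
  push Not at hcon
  obtain ⟨hres, hnot, hfix⟩ := hcon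
  -- a central involution outside the Frattini subgroup
  obtain ⟨z, hzgen, hznot⟩ : ∃ z, (z ∈ (S : Subgroup G) ⊓ centralizer ((S : Subgroup G) : Set G) ∧
      z ^ 2 = 1) ∧ z ∉ (frattini ↥(S : Subgroup G)).map (S : Subgroup G).subtype := by
    by_contra h
    push Not at h
    exact hnot ((closure_le _).2 fun x hx => h x hx)
  obtain ⟨⟨hzS, hzc⟩, hz2⟩ := hzgen
  have hzΩ : z ∈ Ω := subset_closure ⟨⟨hzS, hzc⟩, hz2⟩
  obtain ⟨M, hM, hzM⟩ : ∃ M : Subgroup (S : Subgroup G), IsCoatom M ∧ (⟨z, hzS⟩ : (S : Subgroup G)) ∉ M := by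
    by_contra h
    push Not at h
    exact hznot ⟨⟨z, hzS⟩, by
      show _ ∈ ⨅ a ∈ {H : Subgroup (S : Subgroup G) | IsCoatom H}, a
      rw [mem_iInf]
      intro M
      rw [mem_iInf]
      exact fun hM => h M hM, rfl⟩
  haveI : Group.IsNilpotent (S : Subgroup G) := S.2.isNilpotent
  haveI hMn : M.Normal := NormalizerCondition.normal_of_coatom M normalizerCondition_of_isNilpotent hM
  have hidx : M.index = 2 := CfsgLib.PGroups.index_eq_of_isCoatom S.2 hM
  have hcard : Nat.card (↥(S : Subgroup G) ⧸ M) = 2 := by rw [← index_eq_card, hidx]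
  haveI : IsCyclic (↥(S : Subgroup G) ⧸ M) := isCyclic_of_prime_card hcard
  letI : CommGroup (↥(S : Subgroup G) ⧸ M) := { (inferInstance : Group (↥(S : Subgroup G) ⧸ M)) with
    mul_comm := (IsCyclic.isMulCommutative (α := ↥(S : Subgroup G) ⧸ M)).1.1 }
  have := Fintype.ofFinite (G ⧸ (S : Subgroup G))
  let φ : ↥(S : Subgroup G) →* ↥(S : Subgroup G) ⧸ M := QuotientGroup.mk' M
  have hA : ∀ a : ↥(S : Subgroup G) ⧸ M, a ^ 2 = 1 := fun a => by
    have h := pow_card_eq_one' (x := a)
    rwa [hcard] at h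
  let F : G ⧸ (S : Subgroup G) → ↥(S : Subgroup G) ⧸ M := fun x =>
    if h : x.out⁻¹ * z * x.out ∈ (S : Subgroup G) then φ ⟨_, h⟩ else 1
  have hmem : ∀ x : G ⧸ (S : Subgroup G), x.out⁻¹ * z * x.out ∈ (S : Subgroup G) ↔ z • x = x := by
    intro x
    conv_rhs => rw [← QuotientGroup.out_eq' x]
    rw [MulAction.Quotient.smul_coe, QuotientGroup.eq, smul_eq_mul]
    constructor
    · intro h
      have : (z * x.out)⁻¹ * x.out = (x.out⁻¹ * z * x.out)⁻¹ := by group
      rw [this]; exact inv_mem h
    · intro h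
      have : x.out⁻¹ * z * x.out = ((z * x.out)⁻¹ * x.out)⁻¹ := by group
      rw [this]; exact inv_mem h
  -- value of `F` at any representative
  have hrep : ∀ (t : G) (h : t⁻¹ * z * t ∈ (S : Subgroup G)),
      F (t : G ⧸ (S : Subgroup G)) = φ ⟨_, h⟩ := by
    intro t h
    obtain ⟨s, hs⟩ := QuotientGroup.mk_out_eq_mul (S : Subgroup G) t
    have e : (t : G ⧸ (S : Subgroup G)).out⁻¹ * z * (t : G ⧸ (S : Subgroup G)).out =
        ((s⁻¹ * ⟨_, h⟩ * s : (S : Subgroup G)) : G) := by
      rw [hs]; simp [mul_assoc]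
    simp only [F, dif_pos (show _ ∈ (S : Subgroup G) from e ▸ SetLike.coe_mem _)]
    calc φ ⟨_, _⟩ = φ (s⁻¹ * ⟨_, h⟩ * s) := congrArg φ (Subtype.ext e)
      _ = φ ⟨_, h⟩ := by rw [map_mul, map_mul, map_inv, mul_comm, mul_inv_cancel_left]
  -- transfer of `z`
  have hV : MonoidHom.transfer φ z = ∏ x, F x := by
    have := Fintype.ofFinite (Quotient (MulAction.orbitRel (zpowers z) (G ⧸ (S : Subgroup G))))
    rw [MonoidHom.transfer_eq_prod_quotient_orbitRel_zpowers_quot,
      ← Finset.prod_fiberwise Finset.univ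
        (fun x => (Quotient.mk'' x : Quotient (MulAction.orbitRel (zpowers z) (G ⧸ (S : Subgroup G))))) F]
    refine Finset.prod_congr rfl fun q _ => ?_
    have horb : ∀ y, (Quotient.mk'' y : Quotient (MulAction.orbitRel (zpowers z)
        (G ⧸ (S : Subgroup G)))) = q → ∃ w : zpowers z, w • q.out = y := by
      intro y hy
      rw [← q.out_eq', Quotient.eq'', MulAction.orbitRel_apply] at hy
      exact hy
    by_cases hq : z • q.out = q.out
    · have hper : Function.minimalPeriod (z • ·) q.out = 1 :=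
        Function.minimalPeriod_eq_one_iff_isFixedPt.2 hq
      rw [Finset.prod_eq_single_of_mem q.out (Finset.mem_filter.2 ⟨Finset.mem_univ _, q.out_eq'⟩)]
      · have h := (hmem q.out).2 hq
        simp only [F, dif_pos h]
        refine congrArg φ (Subtype.ext ?_)
        simp [hper]
      · intro y hy hne
        obtain ⟨⟨w, hw⟩, rfl⟩ := horb y (Finset.mem_filter.1 hy).2
        exact absurd (zpowers_le.2 (show z ∈ MulAction.stabilizer G q.out from hq) hw) hne
    · have hper : Function.minimalPeriod (z • ·) q.out = 2 := by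
        have hdvd : Function.minimalPeriod (z • ·) q.out ∣ 2 := by
          refine Function.IsPeriodicPt.minimalPeriod_dvd ?_
          show (z • ·)^[2] q.out = q.out
          simp [smul_smul, ← sq, hz2]
        rcases (Nat.dvd_prime Nat.prime_two).1 hdvd with h | h
        · exact absurd (Function.minimalPeriod_eq_one_iff_isFixedPt.1 h) hq
        · exact h
      rw [Finset.prod_eq_one (f := F)]
      · refine (congrArg φ (Subtype.ext ?_)).trans (map_one φ)
        simp [hper, hz2]
      · intro y hy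
        obtain ⟨w, rfl⟩ := horb y (Finset.mem_filter.1 hy).2
        simp only [F]
        rw [dif_neg]
        intro h
        apply hq
        have h1 := (hmem _).1 h
        change z • ((w : G) • q.out) = (w : G) • q.out at h1
        obtain ⟨i, hi⟩ := mem_zpowers_iff.1 w.2
        rw [← hi, smul_smul, (Commute.self_zpow z i).eq, ← smul_smul] at h1
        exact smul_left_cancel _ h1
  -- `S` permutes the cosets
  have hcomm : ∀ s ∈ (S : Subgroup G), s * z = z * s := fun s hs =>
    mem_centralizer_iff.1 hzc s hs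
  have hFs : ∀ (s : (S : Subgroup G)) (x : G ⧸ (S : Subgroup G)), F (s • x) = F x := by
    intro s x
    have hkey : (s : G)⁻¹ * z * s = z := by rw [mul_assoc, ← hcomm s s.2]; group
    have hx : s • x = (((s : G) * x.out : G) : G ⧸ (S : Subgroup G)) := by
      conv_lhs => rw [← QuotientGroup.out_eq' x]
      rfl
    by_cases h : x.out⁻¹ * z * x.out ∈ (S : Subgroup G)
    · have e : ((s : G) * x.out)⁻¹ * z * ((s : G) * x.out) = x.out⁻¹ * z * x.out := by
        calc _ = x.out⁻¹ * ((s : G)⁻¹ * z * s) * x.out := by group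
          _ = _ := by rw [hkey]
      rw [hx, hrep _ (e ▸ h)]
      conv_rhs => rw [← QuotientGroup.out_eq' x, hrep _ h]
      exact congrArg φ (Subtype.ext e)
    · simp only [F, dif_neg h]
      rw [dif_neg]
      intro h'
      apply h
      rw [hmem] at h'
      change z • ((s : G) • x) = (s : G) • x at h'
      rw [smul_smul, ← hcomm s s.2, ← smul_smul] at h'
      exact (hmem x).2 (smul_left_cancel _ h')
  have hFfix : ∀ x ∈ MulAction.fixedPoints (S : Subgroup G) (G ⧸ (S : Subgroup G)),
      F x = φ ⟨z, hzS⟩ := by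
    intro x hx
    have hn : x.out ∈ normalizer ((S : Subgroup G) : Set G) := by
      have hinv : x.out⁻¹ ∈ normalizer ((S : Subgroup G) : Set G) := by
        refine mem_normalizer_fintype fun s hs => ?_
        have h1 : ((⟨s, hs⟩ : (S : Subgroup G)) : G) • x = x := hx ⟨s, hs⟩
        rw [← QuotientGroup.out_eq' x, MulAction.Quotient.smul_coe, QuotientGroup.eq,
          smul_eq_mul] at h1
        have := inv_mem h1
        simp only [mul_inv_rev, inv_inv] at this
        show x.out⁻¹ * s * x.out⁻¹⁻¹ ∈ (S : Subgroup G)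
        rwa [inv_inv, mul_assoc]
      simpa using inv_mem hinv
    have e : x.out⁻¹ * z * x.out = z := by
      have := hfix x.out hn z hzΩ
      calc x.out⁻¹ * z * x.out = x.out⁻¹ * (x.out * z * x.out⁻¹) * x.out := by rw [this]
        _ = z := by group
    conv_lhs => rw [← QuotientGroup.out_eq' x, hrep _ (e.symm ▸ hzS)]
    exact congrArg φ (Subtype.ext e)
  have hne : φ ⟨z, hzS⟩ ≠ 1 := fun h => hzM ((QuotientGroup.eq_one_iff _).1 h)
  have hodd : ¬ 2 ∣ Fintype.card (G ⧸ (S : Subgroup G)) := by
    rw [← Nat.card_eq_fintype_card, ← index_eq_card]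
    exact S.not_dvd_index
  rw [prod_eq_pow S.2 hA F hFs _ hFfix] at hV
  have hVz : MonoidHom.transfer φ z ≠ 1 := by
    rw [hV]
    obtain ⟨k, hk⟩ := Nat.odd_iff.2 (Nat.two_dvd_ne_zero.1 hodd)
    rw [hk, pow_succ, pow_mul, hA, one_pow, one_mul]
    exact hne
  apply hVz
  have hle : Cfsg.pResidual 2 G ≤ (MonoidHom.transfer φ).ker := by
    rw [Cfsg.pResidual, closure_le]
    intro g hg
    obtain ⟨m, hm⟩ := exists_pow_eq_self_of_coprime (n := 2) (Nat.Coprime.symm hg)
    show MonoidHom.transfer φ g = 1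
    rw [← hm, ← pow_mul, map_pow, pow_mul, hA, one_pow]
  exact hle (hres.symm ▸ mem_top z)

end CfsgLib.LocalEven.TransferCentral
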