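import Cfsg.Agent.Lib.Base.Cores
import Cfsg.Agent.Lib.Base.MinimalNormal
import Cfsg.Agent.Lib.Base.Nilpotent
import Cfsg.Agent.Lib.Coprime.Action2
import Cfsg.Agent.Lib.CharsMore.Clifford
import Cfsg.Agent.Lib.CharApps.RelDegreeComponents
import Cfsg.Agent.Lib.Chars.Linear
import Mathlib

/-!
# Vanishing `p`-singular elements in solvable groups

If, in a finite solvable group with trivial `p`-core, no two vanishing `p`-singular elements have
different orders, then the Sylow `p`-subgroups have order at most `p`.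
-/

set_option autoImplicit false
set_option linter.unusedSectionVars false
set_option linter.style.haveILetI false

namespace CfsgLib.LocalEven.Vanishing

open Cfsg CfsgLib.Chars CfsgLib.CharsMore
open scoped ComplexConjugate commutatorElement

universe u

/-- A group element at which some irreducible character vanishes. -/
def IsVan {G : Type u} [Group G] (g : G) : Prop := ∃ χ : IrrCharacter G, (χ : G → ℂ) g = 0

theorem IsVan.of_map {G H : Type u} [Group G] [Group H] (f : G →* H) (hf : Function.Surjective f)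
    {g : G} (h : IsVan (f g)) : IsVan g := by
  obtain ⟨χ, hχ⟩ := h
  exact ⟨⟨_, isIrrCharacter_comp f hf χ.2⟩, hχ⟩

/-- A commutator of coprime order with commuting factor is trivial. -/
theorem eq_one_of_conj {G : Type u} [Group G] {p m : ℕ} {a b c : G} (h : a * b * a⁻¹ = c * b)
    (hcb : Commute c b) (hb : ∃ k, b ^ p ^ k = 1) (hc : c ^ m = 1) (hm : m.Coprime p) : c = 1 := by
  obtain ⟨k, hk⟩ := hb
  have h1 : c ^ p ^ k = 1 := by
    have h2 := congrArg (fun z => z ^ p ^ k) h
    simp only [conj_pow, hk, mul_one, mul_inv_cancel, hcb.mul_pow] at h2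
    exact h2.symm
  simpa [(hm.pow_right k).gcd_eq_one] using pow_gcd_eq_one.2 ⟨hc, h1⟩

/-- An element whose conjugates all avoid the inertia group of a linear character is a zero of an
irreducible character, together with every element having it as a power. -/
theorem exists_zero_of_moves {G : Type u} [Group G] [Finite G] (A : Subgroup G) [A.Normal]
    (lam : A →* ℂˣ) (x : G)
    (hx : ∀ g : G, ∃ a : A, lam (MulAut.conjNormal (g⁻¹ * x * g) a) ≠ lam a) :
    ∃ χ : IrrCharacter G, ∀ y : G, x ∈ Subgroup.zpowers y → (χ : G → ℂ) y = 0 := by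
  classical
  haveI := Fintype.ofFinite G
  haveI := Fintype.ofFinite A
  let θ : IrrCharacter A := ⟨fun a => (lam a : ℂ), isIrrCharacter_linear lam⟩
  obtain ⟨χ, hχ⟩ := CharApps.RelComp.exists_over A θ
  have hle : A ≤ inertia A (θ : A → ℂ) := le_inertia A (isClassFunction_of_isCharacter (isCharacter_of_irr θ.2))
  haveI := Fintype.ofFinite (inertia A (θ : A → ℂ))
  obtain ⟨ψ, -, hψ, -⟩ := exists_correspondent A hle θ.2 rfl χ.2 hχ
  refine ⟨χ, fun y hy => ?_⟩
  rw [← hψ, indFun_apply, Finset.sum_eq_zero, mul_zero]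
  intro z _
  have hnot : z⁻¹ * y * z ∉ inertia A (θ : A → ℂ) := by
    intro hmem
    obtain ⟨j, rfl⟩ := hy
    obtain ⟨a, ha⟩ := hx z
    have hj := Subgroup.zpow_mem _ hmem j
    have e : (z⁻¹ * y * z) ^ j = z⁻¹ * y ^ j * z := by
      simpa using (conj_zpow (i := j) (a := z⁻¹) (b := y))
    rw [e] at hj
    refine ha (Units.ext ?_)
    exact (mem_inertia A).1 hj a
  unfold extendByZero
  rw [Function.extend_apply' _ _ _ (by rintro ⟨t, ht⟩; exact hnot (ht ▸ t.2))]
  rfl

/-- A family of pairwise commuting automorphisms of `p`-power order of an abelian `p'`-group fixes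
no linear character in common position: some linear character is moved by each non-trivial one. -/
theorem exists_general_position {G : Type u} [Group G] [Finite G] {p : ℕ} [Fact p.Prime]
    (A : Subgroup G) [A.Normal] (hAc : ∀ a b : A, a * b = b * a) (hA : (Nat.card A).Coprime p)
    (W : Set G) (hWpow : ∀ w ∈ W, ∀ n : ℕ, w ^ n ∈ W) (hWp : ∀ w ∈ W, ∃ k, w ^ p ^ k = 1)
    (hWc : ∀ v ∈ W, ∀ w ∈ W, Commute (MulAut.conjNormal v : MulAut A) (MulAut.conjNormal w)) :
    ∃ lam : A →* ℂˣ, ∀ w ∈ W, (MulAut.conjNormal w : MulAut A) ≠ 1 →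
      ∃ a, lam (MulAut.conjNormal w a) ≠ lam a := by
  classical
  set φ : G →* MulAut A := MulAut.conjNormal
  letI : CommGroup A := { (inferInstance : Group A) with mul_comm := hAc }
  haveI : Finite (A →* ℂˣ) := Nat.finite_of_card_ne_zero (by
    rw [card_monoidHom_units]; exact Subgroup.index_ne_zero_of_finite)
  set F : (A →* ℂˣ) → Set G := fun lam =>
    {w | w ∈ W ∧ φ w ≠ 1 ∧ ∀ a, lam (φ w a) = lam a} with hF
  obtain ⟨lam, hlam⟩ := Finite.exists_min (fun lam : A →* ℂˣ => (F lam).ncard)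
  refine ⟨lam, fun w0 hw0 hne => ?_⟩
  by_contra hcon
  push Not at hcon
  -- an element of order `p` with the same properties
  obtain ⟨k, hk⟩ := hWp w0 hw0
  have hex : ∃ i, φ (w0 ^ p ^ i) = 1 := ⟨k, by rw [hk, map_one]⟩
  set i := Nat.find hex with hi
  have hi0 : i ≠ 0 := fun h => hne (by
    have := Nat.find_spec hex
    rw [← hi, h, pow_zero, pow_one] at this
    exact this)
  set s := w0 ^ p ^ (i - 1) with hs
  have hsne : φ s ≠ 1 := Nat.find_min hex (by omega)
  have hsp : φ s ^ p = 1 := by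
    rw [← map_pow, hs, ← pow_mul, ← pow_succ, Nat.sub_add_cancel (Nat.pos_of_ne_zero hi0)]
    exact Nat.find_spec hex
  have hsfix : ∀ a, lam (φ s a) = lam a := by
    have : ∀ (n : ℕ) a, lam (φ (w0 ^ n) a) = lam a := by
      intro n
      induction n with
      | zero => intro a; simp
      | succ n ih => intro a; rw [pow_succ, map_mul, MulAut.mul_apply, ih, hcon]
    exact this _
  have hsW : s ∈ W := hWpow w0 hw0 _
  -- a character separating `s`
  obtain ⟨a0, ha0⟩ : ∃ a, φ s a ≠ a := by
    by_contra h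
    push Not at h
    exact hsne (MulEquiv.ext h)
  obtain ⟨nu, hnu⟩ : ∃ nu : A →* ℂˣ, nu (φ s a0) ≠ nu a0 := by
    obtain ⟨nu, hnu⟩ := CommGroup.exists_apply_ne_one_of_hasEnoughRootsOfUnity A ℂ
      (a := φ s a0 * a0⁻¹) (fun h => ha0 (mul_inv_eq_one.1 h))
    exact ⟨nu, fun h => hnu (by rw [map_mul, map_inv, h, mul_inv_cancel])⟩
  set mu : A →* ℂˣ := nu / nu.comp (φ s).toMonoidHom with hmu
  have hcop : ∀ (f : A →* ℂˣ), (∀ a, f a ^ p = 1) → ∀ a, f a = 1 := by
    intro f hf a
    have h1 : f a ^ Nat.card A = 1 := by rw [← map_pow, pow_card_eq_one', map_one]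
    simpa [hA.gcd_eq_one] using pow_gcd_eq_one.2 ⟨h1, hf a⟩
  have hmuapp : ∀ a, mu a = nu a / nu (φ s a) := fun a => rfl
  have hnorm : ∀ a, ∏ j ∈ Finset.range p, mu ((φ s ^ j) a) = 1 := by
    intro a
    simp only [hmuapp, ← MulAut.mul_apply, ← pow_succ']
    rw [Finset.prod_range_div' (fun j => nu ((φ s ^ j) a)), hsp, pow_zero]
    exact div_self' _
  have hmoved : ¬ ∀ a, mu (φ s a) = mu a := by
    intro h
    have h' : ∀ (j : ℕ) a, mu ((φ s ^ j) a) = mu a := by
      intro j
      induction j with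
      | zero => intro a; simp
      | succ j ih => intro a; rw [pow_succ, MulAut.mul_apply, ih, h]
    have h1 : ∀ a, mu a = 1 := hcop mu fun a => by
      have := hnorm a
      simpa [h'] using this
    have h2 := h1 a0
    rw [hmuapp, div_eq_one] at h2
    exact hnu h2.symm
  have hsub : F (lam * mu) ⊆ F lam \ {s} := by
    rintro w ⟨hwW, hwne, hwfix⟩
    have hcomm : ∀ (j : ℕ) a, (φ s ^ j) (φ w a) = φ w ((φ s ^ j) a) := fun j a => by
      rw [← MulAut.mul_apply, ((hWc s hsW w hwW).pow_left j).eq, MulAut.mul_apply]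
    have hlamj : ∀ (j : ℕ) a, lam ((φ s ^ j) a) = lam a := by
      intro j
      induction j with
      | zero => intro a; simp
      | succ j ih => intro a; rw [pow_succ, MulAut.mul_apply, ih, hsfix]
    have hprod : ∀ a, ∏ j ∈ Finset.range p, (lam * mu) ((φ s ^ j) a) = lam a ^ p := by
      intro a
      simp only [MonoidHom.mul_apply, Finset.prod_mul_distrib, hnorm, mul_one, hlamj,
        Finset.prod_const, Finset.card_range]
    have hl : ∀ a, lam (φ w a) = lam a := by
      intro a
      have h1 : lam (φ w a) ^ p = lam a ^ p := by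
        rw [← hprod, ← hprod]
        exact Finset.prod_congr rfl fun j _ => by rw [hcomm, hwfix]
      have h2 : ∀ b, (lam.comp (φ w).toMonoidHom / lam) b = 1 := hcop _ fun b => by
        have h3 : lam (φ w b) ^ p = lam b ^ p := by
          rw [← hprod, ← hprod]
          exact Finset.prod_congr rfl fun j _ => by rw [hcomm, hwfix]
        simp [div_pow, h3]
      exact div_eq_one.1 (h2 a)
    refine ⟨⟨hwW, hwne, hl⟩, fun hws => hmoved fun a => ?_⟩
    have hws' : w = s := hws
    subst hws'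
    have h1 := hwfix a
    simp only [MonoidHom.mul_apply, hl a] at h1
    exact mul_left_cancel h1
  have hlt : (F (lam * mu)).ncard < (F lam).ncard :=
    lt_of_le_of_lt (Set.ncard_le_ncard hsub)
      (Set.ncard_sdiff_singleton_lt_of_mem ⟨hsW, hsne, hsfix⟩)
  exact absurd (hlam (lam * mu)) (by omega)

/-- A non-trivial solvable normal subgroup contains a non-trivial abelian normal subgroup. -/
theorem exists_abelian_normal_le {G : Type u} [Group G] (N : Subgroup G) [N.Normal]
    [Group.IsSolvable N] (hN : N ≠ ⊥) :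
    ∃ A : Subgroup G, A.Normal ∧ A ≤ N ∧ A ≠ ⊥ ∧ ∀ a ∈ A, ∀ b ∈ A, a * b = b * a := by
  classical
  have hs : ∃ n, derivedSeries N n = ⊥ := Group.IsSolvable.solvable
  have hspec := Nat.find_spec hs
  obtain ⟨m, hm⟩ : ∃ m, Nat.find hs = m + 1 := by
    refine ⟨Nat.find hs - 1, ?_⟩
    by_contra hne
    have h0 : Nat.find hs = 0 := by omega
    rw [h0, derivedSeries_zero] at hspec
    refine hN ((Subgroup.eq_bot_iff_forall N).2 fun v hv => ?_)
    have h1 : (⟨v, hv⟩ : N) ∈ (⊥ : Subgroup N) := hspec ▸ Subgroup.mem_top _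
    exact congrArg Subtype.val (Subgroup.mem_bot.1 h1)
  refine ⟨(derivedSeries N m).map N.subtype, inferInstance, Subgroup.map_subtype_le _, ?_, ?_⟩
  · rw [Ne, Subgroup.map_eq_bot_iff_of_injective _ N.subtype_injective]
    exact Nat.find_min hs (by omega)
  · rintro _ ⟨a, ha, rfl⟩ _ ⟨b, hb, rfl⟩
    rw [hm, derivedSeries_succ, Subgroup.commutator_eq_bot_iff_le_centralizer] at hspec
    exact (congrArg N.subtype (Subgroup.mem_centralizer_iff.1 (hspec hb) a ha))

/-- The vanishing criterion: a `p`-element of a section abelian modulo a normal `p'`-subgroup `N`,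
not centralising `N`, is a zero of an irreducible character. -/
theorem exists_zero_of_not_centralizes {p : ℕ} [Fact p.Prime] : ∀ (n : ℕ) (G : Type u) [Group G] [Finite G],
    Nat.card G ≤ n → ∀ N M : Subgroup G, N.Normal → M.Normal → (Nat.card N).Coprime p →
      Group.IsSolvable N → ⁅M, M⁆ ≤ N → ∀ x ∈ M, (∃ k, x ^ p ^ k = 1) →
      (∃ v ∈ N, ¬ Commute x v) →
      ∃ χ : IrrCharacter G, ∀ y : G, x ∈ Subgroup.zpowers y → (χ : G → ℂ) y = 0 := by
  intro n
  induction n with
  | zero => intro G _ _ h; exact absurd h (Nat.card_pos (α := G)).not_ge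
  | succ n ih =>
    intro G _ _ hcard N M hNn hMn hNcop hNs hMN x hxM hxp hxv
    haveI := hNn; haveI := hMn; haveI := hNs
    classical
    -- an abelian normal subgroup inside `N`
    obtain ⟨A, hAn, hAN, hAne, hAc⟩ := exists_abelian_normal_le N (by
      rintro rfl
      obtain ⟨v, hv, hxv'⟩ := hxv
      exact hxv' (by rw [Subgroup.mem_bot.1 hv]; exact Commute.one_right x))
    haveI := hAn
    set q := QuotientGroup.mk' A with hq
    by_cases hout : ∃ v ∈ N, ¬ Commute (q x) (q v)
    · -- pass to the quotient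
      have hlt : Nat.card (G ⧸ A) < Nat.card G := by
        rw [Subgroup.card_eq_card_quotient_mul_card_subgroup A]
        exact lt_mul_of_one_lt_right Nat.card_pos ((Subgroup.one_lt_card_iff_ne_bot A).2 hAne)
      haveI hNs' : Group.IsSolvable (N.map q) :=
        Group.isSolvable_of_surjective (f := q.subgroupMap N) (q.subgroupMap_surjective N)
      obtain ⟨v, hv, hv'⟩ := hout
      obtain ⟨χ, hχ⟩ := ih (G ⧸ A) (by omega) (N.map q) (M.map q)
        (hNn.map q (QuotientGroup.mk'_surjective A)) (hMn.map q (QuotientGroup.mk'_surjective A))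
        (hNcop.coprime_dvd_left (Subgroup.card_map_dvd N q)) hNs'
        (by rw [← Subgroup.map_commutator]; exact Subgroup.map_mono hMN) (q x)
        (Subgroup.mem_map_of_mem q hxM)
        (by obtain ⟨k, hk⟩ := hxp; exact ⟨k, by rw [← map_pow, hk, map_one]⟩)
        ⟨q v, Subgroup.mem_map_of_mem q hv, hv'⟩
      refine ⟨⟨_, isIrrCharacter_comp q (QuotientGroup.mk'_surjective A) χ.2⟩, fun y hy => hχ _ ?_⟩
      obtain ⟨j, rfl⟩ := hy
      exact ⟨j, (map_zpow q y j).symm⟩
    push Not at hout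
    set φ : G →* MulAut A := MulAut.conjNormal with hφ
    set W : Set G := {w | w ∈ M ∧ (∃ k, w ^ p ^ k = 1) ∧ ∀ v ∈ N, Commute (q w) (q v)} with hW
    have hWpow : ∀ w ∈ W, ∀ m : ℕ, w ^ m ∈ W := by
      rintro w ⟨h1, ⟨k, hk⟩, h3⟩ m
      refine ⟨pow_mem h1 m, ⟨k, ?_⟩, fun v hv => ?_⟩
      · rw [← pow_mul, mul_comm, pow_mul, hk, one_pow]
      · rw [map_pow]; exact (h3 v hv).pow_left m
    have hWconj : ∀ w ∈ W, ∀ g : G, g⁻¹ * w * g ∈ W := by
      rintro w ⟨h1, ⟨k, hk⟩, h3⟩ g
      refine ⟨hMn.conj_mem' w h1 g, ⟨k, ?_⟩, fun v hv => ?_⟩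
      · have := conj_pow (i := p ^ k) (a := g⁻¹) (b := w)
        simp only [inv_inv] at this
        rw [this, hk, mul_one, inv_mul_cancel]
      · have h := (h3 (g * v * g⁻¹) (hNn.conj_mem v hv g)).eq
        show q (g⁻¹ * w * g) * q v = q v * q (g⁻¹ * w * g)
        simp only [map_mul, map_inv] at h ⊢
        have h' := congrArg (fun t => (q g)⁻¹ * t * q g) h
        simpa [mul_assoc] using h'
    have hcommN : ∀ w ∈ W, ∀ v ∈ N, Commute (φ w) (φ v) := by
      rintro w ⟨-, -, h3⟩ v hv
      have hker : φ (v⁻¹ * w⁻¹ * v * w) = 1 := by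
        have hmem : v⁻¹ * w⁻¹ * v * w ∈ A := by
          rw [← QuotientGroup.eq_one_iff]
          show q (v⁻¹ * w⁻¹ * v * w) = 1
          simp only [map_mul, map_inv]
          rw [mul_assoc ((q v)⁻¹ * (q w)⁻¹), ← (h3 v hv).eq]
          group
        ext a
        rw [MulAut.one_apply, MulAut.conjNormal_apply, hAc _ hmem a a.2, mul_inv_cancel_right]
      have e : w * v = v * w * (v⁻¹ * w⁻¹ * v * w)⁻¹ := by group
      have h := congrArg φ e
      rw [map_mul, map_mul, map_mul, map_inv, hker, inv_one, mul_one] at h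
      exact h
    have hWc : ∀ v ∈ W, ∀ w ∈ W, Commute (φ v) (φ w) := by
      intro v hv w hw
      have hcN : v * w * v⁻¹ * w⁻¹ ∈ N := hMN (Subgroup.commutator_mem_commutator hv.1 hw.1)
      have h1 : φ (v * w * v⁻¹ * w⁻¹) = 1 := by
        refine eq_one_of_conj (p := p) (m := Nat.card N) (a := φ v) (b := φ w) ?_
          (hcommN w hw _ hcN).symm (by obtain ⟨k, hk⟩ := hw.2.1; exact ⟨k, by rw [← map_pow, hk, map_one]⟩)
          ?_ hNcop
        · simp only [← map_mul, ← map_inv]
          congr 1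
          group
        · rw [← map_pow]
          have : (⟨_, hcN⟩ : N) ^ Nat.card N = 1 := pow_card_eq_one'
          rw [show (v * w * v⁻¹ * w⁻¹) ^ Nat.card N = 1 from congrArg Subtype.val this, map_one]
      simp only [map_mul, map_inv] at h1
      show φ v * φ w = φ w * φ v
      exact mul_inv_eq_iff_eq_mul.1 (mul_inv_eq_one.1 h1)
    obtain ⟨lam, hlam⟩ := exists_general_position A (fun a b => Subtype.ext (hAc a a.2 b b.2))
      (hNcop.coprime_dvd_left (Subgroup.card_dvd_of_le hAN)) W hWpow (fun w hw => hw.2.1) hWc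
    have hxW : x ∈ W := ⟨hxM, hxp, hout⟩
    have hxA : φ x ≠ 1 := by
      intro h
      obtain ⟨v, hv, hxv'⟩ := hxv
      refine hxv' ?_
      have hcA : x * v * x⁻¹ * v⁻¹ ∈ A := by
        rw [← QuotientGroup.eq_one_iff]
        show q (x * v * x⁻¹ * v⁻¹) = 1
        simp only [map_mul, map_inv]
        rw [(hout v hv).eq]
        group
      have hc : Commute x (x * v * x⁻¹ * v⁻¹) := by
        have := congrArg (fun f : MulAut A => ((f ⟨_, hcA⟩ : A) : G)) h
        simp only [MulAut.one_apply, hφ, MulAut.conjNormal_apply] at this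
        exact mul_inv_eq_iff_eq_mul.1 this
      have hc' : (x * v * x⁻¹ * v⁻¹) ^ Nat.card N = 1 :=
        congrArg Subtype.val (pow_card_eq_one' (x := (⟨_, hAN hcA⟩ : N)))
      have h1 : x * v * x⁻¹ * v⁻¹ = 1 := by
        have h2 : v * x * v⁻¹ = (x * v * x⁻¹ * v⁻¹)⁻¹ * x := by group
        exact inv_eq_one.1 (eq_one_of_conj h2 hc.symm.inv_left hxp (by rw [inv_pow, hc', inv_one]) hNcop)
      exact mul_inv_eq_iff_eq_mul.1 (mul_inv_eq_one.1 h1)
    refine exists_zero_of_moves A lam x fun g => hlam _ (hWconj x hxW g) ?_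
    intro h
    apply hxA
    rw [map_mul, map_mul, map_inv] at h
    have := congrArg (fun t => φ g * t * (φ g)⁻¹) h
    simpa [hφ, mul_assoc] using this

/-- The hypothesis passed to the quotient. -/
structure Hyp (G : Type u) [Group G] (p : ℕ) : Prop where
  single : ∀ x n : G, (∃ k, x ^ p ^ k = 1) → x ≠ 1 → Commute x n → (orderOf n).Coprime p →
    IsVan x → IsVan (x * n) → n = 1
  pow : ∀ x : G, (∃ k, x ^ p ^ k = 1) → IsVan x → IsVan (x ^ p) → x ^ p = 1

/-- A `p`-element of a quotient has a `p`-element preimage. -/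
theorem exists_pElement_lift {G H : Type u} [Group G] [Finite G] [Group H] {p : ℕ} [hp : Fact p.Prime]
    (f : G →* H) (hf : Function.Surjective f) {y : H} (hy : ∃ k, y ^ p ^ k = 1) :
    ∃ x : G, f x = y ∧ ∃ k, x ^ p ^ k = 1 := by
  obtain ⟨g, rfl⟩ := hf y
  obtain ⟨k, hk⟩ := hy
  set o := orderOf g with ho
  have ho0 : o ≠ 0 := (orderOf_pos g).ne'
  set a := o.factorization p with ha
  obtain ⟨e, he1, he2⟩ := Nat.chineseRemainder
    ((Nat.coprime_ordCompl hp.out ho0).pow_left a) 1 0
  refine ⟨g ^ e, ?_, a, ?_⟩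
  · rw [map_pow]
    obtain ⟨i, -, hi⟩ := (Nat.dvd_prime_pow hp.out).1 (orderOf_dvd_of_pow_eq_one hk)
    have hdvd : orderOf (f g) ∣ p ^ a := by
      rw [hi]
      refine pow_dvd_pow p ((hp.out.pow_dvd_iff_le_factorization ho0).1 ?_)
      rw [← hi]
      exact orderOf_map_dvd f g
    conv_rhs => rw [← pow_one (f g)]
    exact pow_eq_pow_iff_modEq.2 (he1.of_dvd hdvd)
  · rw [← pow_mul, ← orderOf_dvd_iff_pow_eq_one, ← ho]
    obtain ⟨c, hc⟩ := Nat.modEq_zero_iff_dvd.1 he2
    exact ⟨c, by rw [hc, mul_right_comm, mul_comm (o / p ^ o.factorization p),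
      Nat.ordProj_mul_ordCompl_eq_self]⟩

/-- The hypothesis for a quotient follows when all vanishing `p`-singular elements have one order. -/
theorem hyp_of_order {G : Type u} [Group G] [Finite G] {p b : ℕ} [hp : Fact p.Prime]
    (h : ∀ g : G, p ∣ orderOf g → IsVan g → orderOf g = b) (Q : Subgroup G) [Q.Normal] :
    Hyp (G ⧸ Q) p := by
  set q := QuotientGroup.mk' Q
  have hdvd : ∀ {y : G ⧸ Q} {g : G}, q g = y → (∃ k, y ^ p ^ k = 1) → y ≠ 1 → p ∣ orderOf g := by
    rintro y g rfl ⟨k, hk⟩ hy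
    obtain ⟨i, -, hi⟩ := (Nat.dvd_prime_pow hp.out).1 (orderOf_dvd_of_pow_eq_one hk)
    rcases i with _ | i
    · exact absurd (orderOf_eq_one_iff.1 (by simpa using hi)) hy
    · exact ((hi ▸ dvd_pow_self p i.succ_ne_zero)).trans (orderOf_map_dvd q g)
  constructor
  · intro x n hx hx1 hxn hn hvx hvxn
    obtain ⟨g, hg, k, hk⟩ := exists_pElement_lift q (QuotientGroup.mk'_surjective Q) hx
    obtain ⟨g', hg'⟩ := QuotientGroup.mk'_surjective Q (x * n)
    have hb := h g (hdvd hg hx hx1) (IsVan.of_map q (QuotientGroup.mk'_surjective Q) (hg ▸ hvx))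
    obtain ⟨i, -, hi⟩ := (Nat.dvd_prime_pow hp.out).1 (orderOf_dvd_of_pow_eq_one hk)
    obtain ⟨j, hj⟩ := hx
    obtain ⟨l, -, hl⟩ := (Nat.dvd_prime_pow hp.out).1 (orderOf_dvd_of_pow_eq_one hj)
    have hco : (orderOf x).Coprime (orderOf n) := hl ▸ hn.symm.pow_left l
    have hord : orderOf (x * n) = orderOf x * orderOf n := hxn.orderOf_mul_eq_mul_orderOf_of_coprime hco
    have hmul : orderOf (x * n) ∣ orderOf g' := hg' ▸ orderOf_map_dvd q g'
    have hl0 : l ≠ 0 := fun h0 => hx1 (orderOf_eq_one_iff.1 (by rw [hl, h0, pow_zero]))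
    have hp' : p ∣ orderOf g' := by
      refine Dvd.dvd.trans ?_ hmul
      rw [hord, hl]
      exact dvd_mul_of_dvd_left (dvd_pow_self p hl0) _
    have hb' := h g' hp' (IsVan.of_map q (QuotientGroup.mk'_surjective Q) (hg' ▸ hvxn))
    rw [hord, hb', ← hb, hi] at hmul
    have h1 : orderOf n ∣ p ^ i := (dvd_mul_left _ _).trans hmul
    exact orderOf_eq_one_iff.1 (Nat.eq_one_of_dvd_coprimes (hn.pow_right i) dvd_rfl h1)
  · intro x hx hvx hvxp
    by_contra hne
    have hx1 : x ≠ 1 := fun h0 => hne (by rw [h0, one_pow])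
    obtain ⟨g, hg, k, hk⟩ := exists_pElement_lift q (QuotientGroup.mk'_surjective Q) hx
    have hxp : ∃ j, (x ^ p) ^ p ^ j = 1 := by
      obtain ⟨j, hj⟩ := hx
      exact ⟨j, by rw [← pow_mul, mul_comm, pow_mul, hj, one_pow]⟩
    have hgp : q (g ^ p) = x ^ p := by rw [map_pow, hg]
    have hd1 := hdvd hg hx hx1
    have h1 := h g hd1 (IsVan.of_map q (QuotientGroup.mk'_surjective Q) (hg ▸ hvx))
    have h2 := h (g ^ p) (hdvd hgp hxp hne)
      (IsVan.of_map q (QuotientGroup.mk'_surjective Q) (hgp ▸ hvxp))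
    rw [orderOf_pow_of_dvd hp.out.ne_zero hd1, h1] at h2
    have := Nat.div_lt_self (h1 ▸ orderOf_pos g) hp.out.one_lt
    omega

/-- An element with a commutator generating a normal subgroup centralised by it vanishes. -/
theorem isVan_of_commutator {G : Type u} [Group G] [Finite G] {y f c : G}
    (hfc : f * y * f⁻¹ = c * y) (hc : c ≠ 1) (hcn : (Subgroup.zpowers c).Normal) (hcf : Commute c f) :
    IsVan y := by
  classical
  haveI := Fintype.ofFinite G
  haveI := irrFintype G
  obtain ⟨χ, hχ⟩ : ∃ χ : IrrCharacter G, (χ : G → ℂ) c ≠ (χ : G → ℂ) 1 := by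
    by_contra h
    push Not at h
    have h1 := second_orthogonality c (1 : G)
    rw [if_neg (by rw [isConj_one_right]; exact hc)] at h1
    have h2 := second_orthogonality (1 : G) (1 : G)
    rw [if_pos (IsConj.refl 1)] at h2
    simp only [h] at h1
    rw [h1] at h2
    exact Nat.card_pos.ne' (Nat.cast_eq_zero.1 h2.symm)
  refine ⟨χ, ?_⟩
  obtain ⟨n, ρ, hirr, hρ⟩ := χ.2
  haveI := hirr
  have hconj : ∀ i : ℕ, ρ.character (c ^ i * y) = ρ.character y := by
    intro i
    induction i with
    | zero => simp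
    | succ i ih =>
      have e : c ^ (i + 1) * y = f * (c ^ i * y) * f⁻¹ := by
        rw [pow_succ, mul_assoc, ← hfc]
        have := (hcf.pow_left i).eq
        calc c ^ i * (f * y * f⁻¹) = (c ^ i * f) * y * f⁻¹ := by group
          _ = _ := by rw [this]; group
      rw [e, Representation.char_conj, ih]
  set T : Module.End ℂ (Fin n → ℂ) := ∑ i ∈ Finset.range (orderOf c), ρ (c ^ i) with hT
  have hTc : ρ c * T = T := by
    rw [hT, Finset.mul_sum]
    simp only [← map_mul, ← pow_succ']
    have h1 := Finset.sum_range_succ (fun i => ρ (c ^ i)) (orderOf c)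
    have h2 := Finset.sum_range_succ' (fun i => ρ (c ^ i)) (orderOf c)
    rw [h1, pow_orderOf_eq_one, pow_zero] at h2
    exact (add_right_cancel h2).symm
  let S : Subrepresentation ρ :=
    { toSubmodule := LinearMap.ker (ρ c - 1)
      apply_mem_toSubmodule := fun g v hv => by
        simp only [LinearMap.mem_ker, LinearMap.sub_apply, Module.End.one_apply, sub_eq_zero] at hv ⊢
        obtain ⟨j, hj⟩ := Subgroup.mem_zpowers_iff.1
          (hcn.conj_mem' c (Subgroup.mem_zpowers c) g)
        have hfix : ρ (c ^ j) v = v := by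
          have hnat : ∀ i : ℕ, ρ (c ^ i) v = v := by
            intro i
            induction i with
            | zero => simp
            | succ i ih => rw [pow_succ, map_mul, Module.End.mul_apply, hv, ih]
          obtain ⟨i, hi⟩ := mem_powers_iff_mem_zpowers.2 (Subgroup.zpow_mem_zpowers c j)
          simp only at hi
          rw [← hi]
          exact hnat i
        rw [hj] at hfix
        have h3 : c * g = g * (g⁻¹ * c * g) := by group
        rw [← Module.End.mul_apply, ← map_mul, h3, map_mul, Module.End.mul_apply, hfix] }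
  have hbot : S = ⊥ := by
    refine (eq_bot_or_eq_top S).resolve_right fun htop => hχ ?_
    have hc1 : ρ c = 1 := LinearMap.ext fun v => by
      have h1 : v ∈ S := htop ▸ Submodule.mem_top
      have h2 : v ∈ LinearMap.ker (ρ c - 1) := h1
      simpa [sub_eq_zero] using h2
    rw [← hρ]
    simp [Representation.character, hc1]
  have hT0 : T = 0 := LinearMap.ext fun v => by
    have h1 : T v ∈ S := by
      show T v ∈ LinearMap.ker (ρ c - 1)
      simp [← Module.End.mul_apply, hTc]
    rw [hbot] at h1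
    exact (Submodule.mem_bot ℂ).1 h1
  rw [← hρ]
  have h := congrArg (fun Z => LinearMap.trace ℂ (Fin n → ℂ) (Z * ρ y)) hT0
  simp only [hT, Finset.sum_mul, map_sum, zero_mul, map_zero, ← map_mul] at h
  have h' : ∑ i ∈ Finset.range (orderOf c), ρ.character (c ^ i * y) = 0 := h
  simp only [hconj, Finset.sum_const, Finset.card_range, nsmul_eq_mul] at h'
  exact (mul_eq_zero.1 h').resolve_left (Nat.cast_ne_zero.2 (orderOf_pos c).ne')

/-- The main theorem. -/
theorem card_sylow_le {G : Type u} [Group G] [Finite G] [Group.IsSolvable G] {p : ℕ}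
    [hp : Fact p.Prime] (hH : Hyp G p) (hO : pCore p G = ⊥) (P : Sylow p G) :
    Nat.card (P : Subgroup G) ≤ p := by
  classical
  set N := pPrimeCore p G with hN
  haveI : N.Normal := inferInstance
  have hNcop := Base.pPrimeCore_coprime p G
  set q := QuotientGroup.mk' N with hq
  have hqs : Function.Surjective q := QuotientGroup.mk'_surjective N
  set F := pCore p (G ⧸ N) with hF
  have hFC : Subgroup.centralizer (F : Set (G ⧸ N)) ≤ F :=
    Base.centralizer_pCore_le_of_isSolvable (Base.pPrimeCore_quotient_pPrimeCore p G)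
  have hinj : ∀ a ∈ (P : Subgroup G), q a = 1 → a = 1 := by
    intro a ha h
    have haN : a ∈ N := (QuotientGroup.eq_one_iff a).1 h
    obtain ⟨i, hi⟩ := IsPGroup.iff_orderOf.1 P.2 ⟨a, ha⟩
    rw [Subgroup.orderOf_mk] at hi
    have h1 : orderOf a ∣ Nat.card N := Subgroup.orderOf_dvd_natCard _ haN
    exact orderOf_eq_one_iff.1 (Nat.eq_one_of_dvd_coprimes
      (hNcop.pow_right i) h1 (hi ▸ dvd_rfl))
  let Pq : Sylow p (G ⧸ N) := P.mapSurjective hqs
  have hlift : ∀ z ∈ F, ∃ a ∈ (P : Subgroup G), q a = z := fun z hz =>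
    (Base.pCore_le_sylow Pq hz : z ∈ (P : Subgroup G).map q)
  have hpel : ∀ a ∈ (P : Subgroup G), ∃ k, a ^ p ^ k = 1 := fun a ha => by
    obtain ⟨k, hk⟩ := P.2 ⟨a, ha⟩
    exact ⟨k, congrArg Subtype.val hk⟩
  set Z := (Subgroup.center F).map F.subtype with hZ
  haveI hFn : F.Normal := pCore_normal p (G ⧸ N)
  haveI hZn : Z.Normal := inferInstance
  have hZF : Z ≤ F := Subgroup.map_subtype_le _
  have hZc : ∀ z ∈ Z, ∀ f ∈ F, Commute z f := by
    rintro _ ⟨z, hz, rfl⟩ f hf
    exact (congrArg Subtype.val (Subgroup.mem_center_iff.1 hz ⟨f, hf⟩)).symm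
  -- (A) the preimage of a central element of the `p`-core vanishes in a strong sense
  have hA : ∀ a ∈ (P : Subgroup G), q a ∈ Z → q a ≠ 1 →
      ∀ y : G, a ∈ Subgroup.zpowers y → IsVan y := by
    intro a ha haZ ha1
    set M := Z.comap q with hM
    have hMN : ⁅M, M⁆ ≤ N := by
      rw [Subgroup.commutator_le]
      intro g hg g' hg'
      rw [← QuotientGroup.eq_one_iff]
      show q ⁅g, g'⁆ = 1
      rw [map_commutatorElement, commutatorElement_eq_one_iff_commute]
      exact hZc _ hg _ (hZF hg')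
    have hv : ∃ v ∈ N, ¬ Commute a v := by
      by_contra hcon
      push Not at hcon
      -- the `p`-elements of `M` centralising `N` form a normal `p`-subgroup
      let Q : Subgroup G :=
        { carrier := {g | g ∈ M ∧ (∀ v ∈ N, Commute g v) ∧ ∃ k, g ^ p ^ k = 1}
          one_mem' := ⟨one_mem _, fun v _ => Commute.one_left v, 0, by simp⟩
          mul_mem' := by
            rintro g g' ⟨h1, h2, k, hk⟩ ⟨h1', h2', k', hk'⟩
            have hcN : g * g' * g⁻¹ * g'⁻¹ ∈ N := hMN (Subgroup.commutator_mem_commutator h1 h1')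
            have hc : g * g' * g⁻¹ * g'⁻¹ = 1 :=
              eq_one_of_conj (p := p) (a := g) (b := g') (m := Nat.card N) (by group)
                (h2' _ hcN).symm ⟨k', hk'⟩ (congrArg Subtype.val (pow_card_eq_one' (x := (⟨_, hcN⟩ : N))))
                hNcop
            have hcomm : Commute g g' := mul_inv_eq_iff_eq_mul.1 (mul_inv_eq_one.1 hc)
            refine ⟨mul_mem h1 h1', fun v hv => (h2 v hv).mul_left (h2' v hv), k + k', ?_⟩
            rw [hcomm.mul_pow, pow_add, pow_mul, hk, one_pow, one_mul, mul_comm, pow_mul, hk', one_pow]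
          inv_mem' := by
            rintro g ⟨h1, h2, k, hk⟩
            exact ⟨inv_mem h1, fun v hv => (h2 v hv).inv_left, k, by rw [inv_pow, hk, inv_one]⟩ }
      haveI : Q.Normal := ⟨by
        rintro g ⟨h1, h2, k, hk⟩ t
        refine ⟨(inferInstance : M.Normal).conj_mem g h1 t, fun v hv => ?_, k, by
          rw [conj_pow, hk, mul_one, mul_inv_cancel]⟩
        have h := (h2 (t⁻¹ * v * t) ((inferInstance : N.Normal).conj_mem' v hv t)).eq
        have h' := congrArg (fun s => t * s * t⁻¹) h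
        show t * g * t⁻¹ * v = v * (t * g * t⁻¹)
        simpa [mul_assoc] using h'⟩
      have hQ : IsPGroup p Q := fun g => by
        obtain ⟨-, -, k, hk⟩ := g.2
        exact ⟨k, Subtype.ext hk⟩
      have hle := Base.le_pCore hQ
      rw [hO] at hle
      have : a ∈ (⊥ : Subgroup G) := hle ⟨haZ, hcon, hpel a ha⟩
      exact ha1 (by rw [Subgroup.mem_bot.1 this, map_one])
    obtain ⟨χ, hχ⟩ := exists_zero_of_not_centralizes (p := p) (Nat.card G) G le_rfl N M
      inferInstance inferInstance hNcop inferInstance hMN a haZ (hpel a ha) hv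
    exact fun y hy => ⟨χ, hχ y hy⟩
  have hordN : ∀ v ∈ N, (orderOf v).Coprime p := fun v hv =>
    hNcop.coprime_dvd_left (Subgroup.orderOf_dvd_natCard _ hv)
  -- (B) fixed-point-freeness and exponent `p` on `Z`
  have hZfree : ∀ a ∈ (P : Subgroup G), q a ∈ Z → q a ≠ 1 → ∀ v ∈ N, Commute a v → v = 1 := by
    intro a ha haZ ha1 v hv hcomm
    refine hH.single a v (hpel a ha) (fun h => ha1 (by rw [h, map_one])) hcomm (hordN v hv)
      (hA a ha haZ ha1 a (Subgroup.mem_zpowers a)) (hA a ha haZ ha1 _ ?_)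
    obtain ⟨k, hk⟩ := hpel a ha
    have hco : (orderOf a).Coprime (orderOf v) := by
      obtain ⟨i, -, hi⟩ := (Nat.dvd_prime_pow hp.out).1 (orderOf_dvd_of_pow_eq_one hk)
      exact hi ▸ (hordN v hv).symm.pow_left i
    obtain ⟨e, he1, he2⟩ := Nat.chineseRemainder hco 1 0
    refine ⟨(e : ℤ), ?_⟩
    show (a * v) ^ (e : ℤ) = a
    rw [zpow_natCast, hcomm.mul_pow, orderOf_dvd_iff_pow_eq_one.1 (Nat.modEq_zero_iff_dvd.1 he2),
      mul_one]
    conv_rhs => rw [← pow_one a]
    exact pow_eq_pow_iff_modEq.2 he1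
  have hZexp : ∀ z ∈ Z, z ^ p = 1 := by
    intro z hz
    by_contra hne
    have hz1 : z ≠ 1 := fun h => hne (by rw [h, one_pow])
    obtain ⟨a, ha, rfl⟩ := hlift z (hZF hz)
    rw [← map_pow] at hne
    have hap : q (a ^ p) ∈ Z := by rw [map_pow]; exact pow_mem hz p
    exact hne (by rw [hH.pow a (hpel a ha) (hA a ha hz hz1 a (Subgroup.mem_zpowers a))
      (hA _ (pow_mem ha p) hap hne _ (Subgroup.mem_zpowers _)), map_one])
  -- two independent commuting elements cannot both act fixed point freely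
  have hpair : ∀ z ∈ Z, z ≠ 1 → ∀ w ∈ F, w ^ p = 1 → w ∉ Subgroup.zpowers z →
      (∀ i < p, ∀ a ∈ (P : Subgroup G), q a = w * z ^ i → ∀ v ∈ N, Commute a v → v = 1) → False := by
    intro z hz hz1 w hw hwp hwz hfree
    obtain ⟨a, ha, hqa⟩ := hlift z (hZF hz)
    obtain ⟨b, hb, hqb⟩ := hlift w hw
    have hNb : N ≠ ⊥ := by
      intro hbot
      have hQ : Z.comap q ≤ pCore p G := by
        refine Base.le_pCore ?_
        intro g
        have hg : q g ∈ F := hZF g.2
        obtain ⟨k, hk⟩ := Base.isPGroup_pCore p (G ⧸ N) ⟨q g, hg⟩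
        refine ⟨k, Subtype.ext ?_⟩
        have h1 : q ((g : G) ^ p ^ k) = 1 := by rw [map_pow]; exact congrArg Subtype.val hk
        have h2 : (g : G) ^ p ^ k ∈ N := (QuotientGroup.eq_one_iff _).1 h1
        exact (Subgroup.eq_bot_iff_forall N).1 hbot _ h2
      rw [hO] at hQ
      have hz' : a ∈ (⊥ : Subgroup G) := hQ (show q a ∈ Z from hqa ▸ hz)
      exact hz1 (by rw [← hqa, Subgroup.mem_bot.1 hz', map_one])
    obtain ⟨A, hAn, hAN, hAne, hAc⟩ := exists_abelian_normal_le N hNb
    haveI := hAn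
    letI : CommGroup A := { (inferInstance : Group A) with
      mul_comm := fun x y => Subtype.ext (hAc x x.2 y y.2) }
    set φ : G →* MulAut A := MulAut.conjNormal with hφ
    have hab : Commute b a := by
      have h1 : b * a * b⁻¹ * a⁻¹ = 1 := hinj _
        (mul_mem (mul_mem (mul_mem hb ha) (inv_mem hb)) (inv_mem ha)) (by
          simp only [map_mul, map_inv, hqa, hqb]
          rw [← (hZc z hz w hw).eq]
          group)
      exact mul_inv_eq_iff_eq_mul.1 (mul_inv_eq_one.1 h1)
    have hap : a ^ p = 1 := hinj _ (pow_mem ha p) (by rw [map_pow, hqa, hZexp z hz])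
    have hbp : b ^ p = 1 := hinj _ (pow_mem hb p) (by rw [map_pow, hqb, hwp])
    have hfixed : ∀ c : G, ∀ v : A, φ c v = v → Commute c (v : G) := fun c v h => by
      have := congrArg Subtype.val h
      rw [hφ, MulAut.conjNormal_apply] at this
      exact mul_inv_eq_iff_eq_mul.1 this
    apply hAne
    rw [Subgroup.eq_bot_iff_forall]
    intro v hv
    have hcopA : (Nat.card A).Coprime p := hNcop.coprime_dvd_left (Subgroup.card_dvd_of_le hAN)
    have := CfsgLib.Coprime.eq_one_of_fixedPointFree_pair hp.out (fun v hv' => by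
        simpa [hcopA.gcd_eq_one] using pow_gcd_eq_one.2 ⟨(pow_card_eq_one' : v ^ Nat.card A = 1), hv'⟩)
      (φ b) (φ a) (hab.map φ) (by rw [← map_pow, hbp, map_one]) (by rw [← map_pow, hap, map_one])
      (fun v hv' => Subtype.ext (hZfree a ha (hqa ▸ hz) (hqa ▸ hz1) v (hAN v.2) (hfixed a v hv')))
      (fun i hi v hv' => Subtype.ext (hfree i hi (b * a ^ i) (mul_mem hb (pow_mem ha i))
        (by rw [map_mul, map_pow, hqa, hqb]) v (hAN v.2)
        (hfixed _ v (by rw [map_mul, map_pow]; exact hv')))) ⟨v, hv⟩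
    exact congrArg Subtype.val this
  -- `Z` is cyclic of order `p`
  by_cases hpG : p ∣ Nat.card G
  swap
  · obtain ⟨k, hk⟩ := IsPGroup.iff_card.1 P.2
    rcases Nat.eq_zero_or_pos k with rfl | hk0
    · rw [hk, pow_zero]; exact hp.out.one_lt.le
    · exact absurd ((hk ▸ dvd_pow_self p hk0.ne' : p ∣ Nat.card (P : Subgroup G)).trans
        (Subgroup.card_subgroup_dvd_card _)) hpG
  have hFne : F ≠ ⊥ := by
    intro h
    rw [h, Subgroup.coe_bot, Subgroup.centralizer_eq_top_iff_subset.2 (by simp)] at hFC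
    have hsub : ∀ g : G, q g = 1 := fun g => Subgroup.mem_bot.1 (hFC (Subgroup.mem_top _))
    obtain ⟨x, hx⟩ := exists_prime_orderOf_dvd_card' p hpG
    have h1 : p ∣ Nat.card N := hx.symm.dvd.trans
      (Subgroup.orderOf_dvd_natCard _ ((QuotientGroup.eq_one_iff x).1 (hsub x)))
    exact hp.out.ne_one (Nat.eq_one_of_dvd_coprimes hNcop h1 dvd_rfl)
  have hFp : IsPGroup p F := Base.isPGroup_pCore p (G ⧸ N)
  haveI : Nontrivial F := (Subgroup.nontrivial_iff_ne_bot F).2 hFne
  obtain ⟨z0, hz0⟩ := (nontrivial_iff_exists_ne (1 : Subgroup.center F)).1 hFp.center_nontrivial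
  set z : G ⧸ N := ((z0 : F) : G ⧸ N) with hzdef
  have hz : z ∈ Z := ⟨(z0 : F), z0.2, rfl⟩
  have hz1 : z ≠ 1 := fun h => hz0 (Subtype.ext (Subtype.ext h))
  have hZz : Z ≤ Subgroup.zpowers z := by
    intro w hw
    by_contra hwz
    refine hpair z hz hz1 w (hZF hw) (hZexp w hw) hwz fun i _ a ha hqa v hv hc => ?_
    refine hZfree a ha (hqa ▸ mul_mem hw (pow_mem hz i)) (fun h => hwz ?_) v hv hc
    rw [hqa] at h
    rw [eq_inv_of_mul_eq_one_left h]
    exact inv_mem (pow_mem (Subgroup.mem_zpowers z) i)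
  -- `F` is abelian
  have hFab : F ≤ Z := by
    by_contra hle
    haveI := hFp.isNilpotent
    obtain ⟨y, hy, hy1⟩ : ∃ y : F, y ∈ Subgroup.upperCentralSeries F 2 ∧ y ∉ Subgroup.center F := by
      by_contra hno
      push Not at hno
      refine hle fun w hw => ⟨⟨w, hw⟩, ?_, rfl⟩
      have h21 : Subgroup.upperCentralSeries F 2 = Subgroup.upperCentralSeries F 1 :=
        le_antisymm (by rw [Subgroup.upperCentralSeries_one]; exact hno)
          (Subgroup.upperCentralSeries_mono F (by norm_num))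
      have hstab : ∀ n, Subgroup.upperCentralSeries F (n + 1) = Subgroup.upperCentralSeries F 1 := by
        intro n
        induction n with
        | zero => rfl
        | succ n ih =>
          ext w
          rw [Subgroup.mem_upperCentralSeries_succ_iff, ih]
          conv_rhs => rw [← h21, Subgroup.mem_upperCentralSeries_succ_iff]
      obtain ⟨n, hn⟩ := Group.IsNilpotent.nilpotent F
      have htop : Subgroup.upperCentralSeries F (n + 1) = ⊤ :=
        top_unique (hn ▸ Subgroup.upperCentralSeries_mono F (Nat.le_succ n))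
      rw [hstab, Subgroup.upperCentralSeries_one] at htop
      rw [htop]
      exact Subgroup.mem_top _
    have hcomm : ∀ f : F, (y : G ⧸ N) * f * (y : G ⧸ N)⁻¹ * (f : G ⧸ N)⁻¹ ∈ Z := fun f => by
      have h := Subgroup.mem_upperCentralSeries_succ_iff.1 hy f
      rw [Subgroup.upperCentralSeries_one] at h
      exact ⟨_, h, by simp [commutatorElement_def]⟩
    -- every element of `F` outside the centre with central commutators vanishes
    have hvan : ∀ w : F, w ∉ Subgroup.center F →
        (∀ f : F, (w : G ⧸ N) * f * (w : G ⧸ N)⁻¹ * (f : G ⧸ N)⁻¹ ∈ Z) → IsVan (w : G ⧸ N) := by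
      intro w hw hwc
      obtain ⟨f, hf⟩ : ∃ f : F, f * w ≠ w * f := by
        by_contra h
        push Not at h
        exact hw (Subgroup.mem_center_iff.2 h)
      set c := (w : G ⧸ N) * f * (w : G ⧸ N)⁻¹ * (f : G ⧸ N)⁻¹ with hc
      have hc1 : c⁻¹ ≠ 1 := fun h => hf (Subtype.ext ?_)
      swap
      · have h' : c = 1 := inv_eq_one.1 h
        exact (mul_inv_eq_iff_eq_mul.1 (mul_inv_eq_one.1 h')).symm
      refine isVan_of_commutator (f := (f : G ⧸ N)) (c := c⁻¹) (by rw [hc]; group) hc1 ?_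
        (hZc _ (inv_mem (hwc f)) _ f.2)
      have hcz : Subgroup.zpowers c⁻¹ = Z := by
        refine le_antisymm (Subgroup.zpowers_le.2 (inv_mem (hwc f))) (hZz.trans ?_)
        have h1 : orderOf c⁻¹ = p := orderOf_eq_prime (hZexp _ (inv_mem (hwc f))) hc1
        have h2 : orderOf z = p := orderOf_eq_prime (hZexp z hz) hz1
        refine (Subgroup.eq_of_le_of_card_ge
          (Subgroup.zpowers_le.2 (hZz (inv_mem (hwc f)))) ?_).ge
        rw [Nat.card_zpowers, Nat.card_zpowers, h1, h2]
      rw [hcz]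
      exact hZn
    have hyZ : ∀ i : ℕ, (y * (z0 : F) ^ i) ∉ Subgroup.center F ∧
        ∀ f : F, ((y * (z0 : F) ^ i : F) : G ⧸ N) * f * ((y * (z0 : F) ^ i : F) : G ⧸ N)⁻¹ *
          (f : G ⧸ N)⁻¹ ∈ Z := by
      intro i
      refine ⟨fun h => hy1 ?_, fun f => ?_⟩
      · have := mul_mem h (inv_mem (pow_mem z0.2 i))
        rwa [mul_inv_cancel_right] at this
      · have hcz : Commute ((z : G ⧸ N) ^ i) (f : G ⧸ N) := (hZc z hz f f.2).pow_left i
        have e : ((y * (z0 : F) ^ i : F) : G ⧸ N) * f * ((y * (z0 : F) ^ i : F) : G ⧸ N)⁻¹ *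
            (f : G ⧸ N)⁻¹ = (y : G ⧸ N) * f * (y : G ⧸ N)⁻¹ * (f : G ⧸ N)⁻¹ := by
          simp only [Subgroup.coe_mul, Subgroup.coe_pow, ← hzdef]
          calc (y : G ⧸ N) * z ^ i * f * ((y : G ⧸ N) * z ^ i)⁻¹ * (f : G ⧸ N)⁻¹ =
              (y : G ⧸ N) * (z ^ i * f * (z ^ i)⁻¹) * (y : G ⧸ N)⁻¹ * (f : G ⧸ N)⁻¹ := by group
            _ = _ := by rw [hcz.eq, mul_inv_cancel_right]
        rw [e]
        exact hcomm f
    -- lifts of vanishing elements
    have hlifts : ∀ w : F, w ∉ Subgroup.center F →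
        (∀ f : F, (w : G ⧸ N) * f * (w : G ⧸ N)⁻¹ * (f : G ⧸ N)⁻¹ ∈ Z) →
        ∀ g : G, q g = (w : G ⧸ N) → IsVan g := fun w hw hwc g hg =>
      IsVan.of_map q hqs (hg ▸ hvan w hw hwc)
    have hyp : (y : G ⧸ N) ^ p = 1 := by
      obtain ⟨a, ha, hqa⟩ := hlift _ y.2
      have hypZ : (y : G ⧸ N) ^ p ∈ Z := by
        refine ⟨y ^ p, Subgroup.mem_center_iff.2 fun f => ?_, by simp⟩
        apply Subtype.ext
        have hc := hcomm f
        set c := (y : G ⧸ N) * f * (y : G ⧸ N)⁻¹ * (f : G ⧸ N)⁻¹ with hcdef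
        have hcp := hZexp c hc
        have e : (f : G ⧸ N) * (y : G ⧸ N) * (f : G ⧸ N)⁻¹ = c⁻¹ * (y : G ⧸ N) := by
          rw [hcdef]; group
        have e2 := congrArg (fun t => t ^ p) e
        simp only [conj_pow, ((hZc c hc y y.2).inv_left).mul_pow, inv_pow, hcp, inv_one, one_mul] at e2
        simpa using mul_inv_eq_iff_eq_mul.1 e2
      by_contra hne
      refine hne ?_
      have hv1 := hlifts y hy1 hcomm a hqa
      have hv2 : IsVan (a ^ p) := hA _ (pow_mem ha p) (by rw [map_pow, hqa]; exact hypZ)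
        (by rw [map_pow, hqa]; exact hne) _ (Subgroup.mem_zpowers _)
      rw [← hqa, ← map_pow, hH.pow a (hpel a ha) hv1 hv2, map_one]
    refine hpair z hz hz1 y y.2 hyp (fun h => hy1 ?_) fun i _ a ha hqa v hv hc => ?_
    · have h' : (y : G ⧸ N) ∈ Z := (Subgroup.zpowers_le.2 hz) h
      obtain ⟨y', hy', he⟩ := h'
      exact (Subtype.ext he : y' = y) ▸ hy'
    · obtain ⟨h1, h2⟩ := hyZ i
      have hq' : q a = ((y * (z0 : F) ^ i : F) : G ⧸ N) := by
        rw [hqa, hzdef]; simp
      have hqv : q (a * v) = ((y * (z0 : F) ^ i : F) : G ⧸ N) := by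
        rw [map_mul, (QuotientGroup.eq_one_iff v).2 hv |> fun e => (show q v = 1 from e), mul_one, hq']
      refine hH.single a v (hpel a ha) (fun h => h1 ?_) hc (hordN v hv) (hlifts _ h1 h2 a hq')
        (hlifts _ h1 h2 _ hqv)
      rw [h, map_one] at hq'
      rw [show y * (z0 : F) ^ i = 1 from Subtype.ext hq'.symm]
      exact one_mem _
  -- conclusion
  have hFz : F = Subgroup.zpowers z :=
    le_antisymm (hFab.trans hZz) (Subgroup.zpowers_le.2 (hZF hz))
  have hcardF : Nat.card F = p := by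
    rw [hFz, Nat.card_zpowers, orderOf_eq_prime (hZexp z hz) hz1]
  -- the image of `P` centralises `F`
  let conjF : (P : Subgroup G) →* MulAut F :=
    (MulAut.conjNormal (H := F)).comp (q.comp (P : Subgroup G).subtype)
  have htriv : conjF = 1 := by
    ext1 a
    obtain ⟨k, hk⟩ := P.2 a
    have h1 : conjF a ^ p ^ k = 1 := by rw [← map_pow, hk, map_one]
    haveI : IsCyclic F := isCyclic_of_prime_card hcardF
    have h2 : conjF a ^ (p - 1) = 1 := by
      have hc : Nat.card (MulAut F) = p - 1 := by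
        rw [IsCyclic.card_mulAut, hcardF, Nat.totient_prime hp.out]
      rw [← hc]
      exact pow_card_eq_one'
    have hco : (p ^ k).Coprime (p - 1) := Nat.Coprime.pow_left k
      ((hp.out.coprime_iff_not_dvd).2 fun hd => by
        have := Nat.le_of_dvd (by have := hp.out.two_le; omega) hd
        have := hp.out.two_le
        omega)
    simpa [hco.gcd_eq_one] using pow_gcd_eq_one.2 ⟨h1, h2⟩
  have hPF : (P : Subgroup G).map q ≤ F := by
    rintro _ ⟨a, ha, rfl⟩
    refine hFC (Subgroup.mem_centralizer_iff.2 fun f hf => ?_)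
    have h := congrArg (fun e : MulAut F => ((e ⟨f, hf⟩ : F) : G ⧸ N))
      (DFunLike.congr_fun htriv ⟨a, ha⟩)
    simp only [conjF, MonoidHom.coe_comp, Function.comp_apply, Subgroup.coe_subtype,
      MulAut.conjNormal_apply, MonoidHom.one_apply, MulAut.one_apply] at h
    exact (mul_inv_eq_iff_eq_mul.1 h).symm
  calc Nat.card (P : Subgroup G) = Nat.card ((P : Subgroup G).map q) := by
        refine Nat.card_congr (Equiv.ofBijective (q.subgroupMap P) ⟨?_, q.subgroupMap_surjective _⟩)
        rw [injective_iff_map_eq_one]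
        intro a ha
        exact Subtype.ext (hinj a a.2 (congrArg Subtype.val ha))
    _ ≤ Nat.card F := Subgroup.card_le_of_le hPF
    _ = p := hcardF

/-- The form used for the statements. -/
theorem card_map_sylow_le {G : Type u} [Group G] [Finite G] [Group.IsSolvable G] {p b : ℕ}
    [hp : Fact p.Prime] (h : ∀ g : G, p ∣ orderOf g → IsVan g → orderOf g = b) (P : Sylow p G) :
    Nat.card ((P : Subgroup G).map (QuotientGroup.mk' (pCore p G))) ≤ p := by
  haveI : Group.IsSolvable (G ⧸ pCore p G) :=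
    Group.isSolvable_of_surjective (QuotientGroup.mk'_surjective _)
  exact card_sylow_le (hyp_of_order h _) (Base.pCore_quotient_pCore p G)
    (P.mapSurjective (QuotientGroup.mk'_surjective _))

/-- The bound on the Sylow subgroup itself. -/
theorem card_le_mul {G : Type u} [Group G] [Finite G] {p : ℕ} [hp : Fact p.Prime] (P : Sylow p G)
    (h : Nat.card ((P : Subgroup G).map (QuotientGroup.mk' (pCore p G))) ≤ p) :
    Nat.card (P : Subgroup G) ≤ p * Nat.card (pCore p G) := by
  set Q := pCore p G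
  have h1 := ((QuotientGroup.mk' Q).subgroupMap (P : Subgroup G)).ker.card_eq_card_quotient_mul_card_subgroup
  rw [Nat.card_congr (QuotientGroup.quotientKerEquivOfSurjective _
    ((QuotientGroup.mk' Q).subgroupMap_surjective (P : Subgroup G))).toEquiv] at h1
  rw [h1]
  refine Nat.mul_le_mul h ?_
  refine Nat.card_le_card_of_injective (fun a => (⟨((a : (P : Subgroup G)) : G), ?_⟩ : Q)) ?_
  · exact (QuotientGroup.eq_one_iff _).1 (congrArg Subtype.val a.2)
  · exact fun a a' h => Subtype.ext (Subtype.ext (by simpa using h))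

/-- The derived subgroup of the Sylow subgroup is subnormal and the image is cyclic. -/
theorem subnormal_and_cyclic {G : Type u} [Group G] [Finite G] {p : ℕ} [hp : Fact p.Prime]
    (P : Sylow p G) (h : Nat.card ((P : Subgroup G).map (QuotientGroup.mk' (pCore p G))) ≤ p) :
    ((commutator ↥(P : Subgroup G)).map (P : Subgroup G).subtype).IsSubnormal ∧
      IsCyclic ↥((P : Subgroup G).map (QuotientGroup.mk' (pCore p G))) := by
  set q := QuotientGroup.mk' (pCore p G) with hq
  have hcyc : IsCyclic ((P : Subgroup G).map q) := by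
    obtain ⟨k, hk⟩ := IsPGroup.iff_card.1 (P.2.map q)
    rcases Nat.eq_zero_or_pos k with rfl | hk0
    · haveI : Subsingleton ((P : Subgroup G).map q) :=
        (Nat.card_eq_one_iff_unique.1 (by rw [hk, pow_zero])).1
      infer_instance
    · refine isCyclic_of_prime_card (p := p) ?_
      refine le_antisymm h ?_
      rw [hk]
      exact Nat.le_self_pow hk0.ne' p
  refine ⟨?_, hcyc⟩
  have hle : (commutator ↥(P : Subgroup G)).map (P : Subgroup G).subtype ≤ pCore p G := by
    rw [commutator_def, Subgroup.map_commutator, Subgroup.commutator_le]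
    rintro _ ⟨a, -, rfl⟩ _ ⟨b, -, rfl⟩
    rw [← QuotientGroup.eq_one_iff]
    show q ⁅((P : Subgroup G).subtype a), ((P : Subgroup G).subtype b)⁆ = 1
    rw [map_commutatorElement, commutatorElement_eq_one_iff_commute]
    exact congrArg Subtype.val (IsMulCommutative.is_comm.comm
      (⟨q a, Subgroup.mem_map_of_mem q a.2⟩ : (P : Subgroup G).map q)
      ⟨q b, Subgroup.mem_map_of_mem q b.2⟩)
  haveI := (Base.isPGroup_pCore p G).isNilpotent
  haveI : (pCore p G).Normal := pCore_normal p G
  exact Subgroup.IsSubnormal.trans hle (Base.isSubnormal_of_isNilpotent _)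
    (Subgroup.Normal.isSubnormal inferInstance)

end CfsgLib.LocalEven.Vanishing
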