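import Cfsg.Prelude.Def_LocalStructure
import Cfsg.Prelude.Def_Transfer
import Cfsg.Agent.Lib.Base.Cores
import Cfsg.Agent.Lib.LocalEven.CharP
import Cfsg.Agent.Lib.PGroups.Basic

/-!
`Y`-minimal groups of characteristic `p` with `Y` elementary abelian normalized by `O_p`.
-/

set_option autoImplicit false
set_option linter.style.haveILetI false

namespace CfsgLib.LocalEven.YMinimalAbelian

open Cfsg
open scoped commutatorElement Pointwise

variable {L : Type*} [Group L] [Finite L] {p : ℕ}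

theorem gen (L₀ : Subgroup L) (hL₀ : IsCoatom L₀) (Y : Subgroup L) (hYL : Y ≤ L₀)
    (hmin : IsMinimalOver Y) (g : L) (hg : g ∉ L₀) :
    Y ⊔ Y.map (MulAut.conj g).toMonoidHom = ⊤ := by
  obtain ⟨hgen, M, ⟨hM, hYM⟩, huniq⟩ := hmin
  have hLM : L₀ = M := huniq L₀ ⟨hL₀, hYL⟩
  subst hLM
  have hprop : ∀ Z : Subgroup L, Y ≤ Z → Z ≠ ⊤ → Z ≤ L₀ := by
    intro Z hYZ hZ
    obtain ⟨W, hW, hZW⟩ := (eq_top_or_exists_le_coatom Z).resolve_left hZ
    exact (huniq W ⟨hW, hYZ.trans hZW⟩) ▸ hZW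
  have hNL : Subgroup.normalizer (L₀ : Set L) = L₀ :=
    le_antisymm (hprop _ (hYL.trans Subgroup.le_normalizer) fun e => hL₀.1 (top_le_iff.1
      (hgen.ge.trans (@Subgroup.normalClosure_le_normal _ _ _ _
        (Subgroup.normalizer_eq_top_iff.1 e) hYL)))) Subgroup.le_normalizer
  by_contra hne
  have h1 := hprop _ le_sup_left hne
  apply hg
  have h2 : L₀.map (MulAut.conj g).toMonoidHom = L₀ := by
    have hc : IsCoatom (L₀.map (MulAut.conj g⁻¹).toMonoidHom) :=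
      (OrderIso.isCoatom_iff (MulEquiv.mapSubgroup (MulAut.conj g⁻¹)) L₀).2 hL₀
    have hYc : Y ≤ L₀.map (MulAut.conj g⁻¹).toMonoidHom := fun y hy =>
      ⟨g * y * g⁻¹, h1 (Subgroup.mem_sup_right ⟨y, hy, rfl⟩), by simp [mul_assoc]⟩
    have := huniq _ ⟨hc, hYc⟩
    conv_lhs => rw [← this]
    rw [Subgroup.map_map]
    convert Subgroup.map_id L₀
    ext x; simp [mul_assoc]
  exact hNL.le (CfsgLib.LocalEven.mem_normalizer_of_conj h2)

theorem commute_of_top {Y Y' : Subgroup L} (htop : Y ⊔ Y' = ⊤) {x : L}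
    (h : ∀ y ∈ Y, Commute x y) (h' : ∀ y ∈ Y', Commute x y) : x ∈ Subgroup.center L := by
  rw [Subgroup.mem_center_iff]
  intro l
  have : (⊤ : Subgroup L) ≤ Subgroup.centralizer ({x} : Set L) := htop ▸
    sup_le (fun y hy => Subgroup.mem_centralizer_singleton_iff.2 (h y hy).symm.eq)
      fun y hy => Subgroup.mem_centralizer_singleton_iff.2 (h' y hy).symm.eq
  exact Subgroup.mem_centralizer_singleton_iff.1 (this (Subgroup.mem_top l))

theorem main [Fact p.Prime] (hchar : Subgroup.centralizer (pCore p L : Set L) ≤ pCore p L)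
    (L₀ : Subgroup L) (hL₀ : IsCoatom L₀) (Y : Subgroup L) (hYL₀ : Y ≤ L₀)
    (hYel : IsElementaryAbelian p Y) (hmin : IsMinimalOver Y)
    (hOY : pCore p L ≤ Subgroup.normalizer (Y : Set L)) (A : Subgroup L)
    (hA : A = Subgroup.normalClosure (((pCore p L ⊓ Y : Subgroup L)) : Set L)) (g : L)
    (hg : g ∉ L₀) :
    (frattini ↥A).map A.subtype = ⁅A, A⁆ ∧ ⁅A, A⁆ = ⁅A ⊓ Y, A⁆ ∧
      ⁅A ⊓ Y, A⁆ = ⁅A ⊓ Y, A ⊓ Y.map (MulAut.conj g).toMonoidHom⁆ ∧
      ⁅A ⊓ Y, A⁆ ≤ Y ⊓ Subgroup.center L ∧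
      Y ⊓ Y.map (MulAut.conj g).toMonoidHom = Y ⊓ Subgroup.center L ∧
      (A ⊓ Y) ⊓ (A ⊓ Y.map (MulAut.conj g).toMonoidHom) = Y ⊓ Subgroup.center L ∧
      A ⊓ Subgroup.center L = Y ⊓ Subgroup.center L := by
  set Y' := Y.map (MulAut.conj g).toMonoidHom with hY'
  set P := pCore p L with hP
  have htop : Y ⊔ Y' = ⊤ := gen L₀ hL₀ Y hYL₀ hmin g hg
  have hYc : ∀ a ∈ Y, ∀ b ∈ Y, Commute a b := fun a ha b hb =>
    congrArg Subtype.val (hYel.1.1.1 ⟨a, ha⟩ ⟨b, hb⟩)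
  have hY'c : ∀ a ∈ Y', ∀ b ∈ Y', Commute a b := by
    rintro _ ⟨a, ha, rfl⟩ _ ⟨b, hb, rfl⟩
    exact (hYc a ha b hb).map (MulAut.conj g)
  have hPn : ∀ x ∈ P, ∀ l : L, l * x * l⁻¹ ∈ P := fun x hx l =>
    (inferInstance : (pCore p L).Normal).conj_mem x hx l
  have hOY' : ∀ x ∈ P, ∀ y ∈ Y', x * y * x⁻¹ ∈ Y' := by
    rintro x hx _ ⟨y, hy, rfl⟩
    refine ⟨(g⁻¹ * x * g) * y * (g⁻¹ * x * g)⁻¹, (Subgroup.mem_normalizer_iff.1
      (hOY (by simpa using hPn x hx g⁻¹)) y).1 hy, ?_⟩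
    simp [mul_assoc]
  set Z := Y ⊓ Subgroup.center L with hZ
  have hYY : Y ⊓ Y' = Z := by
    refine le_antisymm (fun x hx => ⟨hx.1, commute_of_top htop (fun y hy => hYc x hx.1 y hy)
      fun y hy => hY'c x hx.2 y hy⟩) ?_
    intro x hx
    refine ⟨hx.1, x, hx.1, ?_⟩
    show g * x * g⁻¹ = x
    rw [Subgroup.mem_center_iff.1 hx.2 g, mul_inv_cancel_right]
  have hZP : Z ≤ P := (inf_le_right.trans (Subgroup.center_le_centralizer _)).trans hchar
  set D := P ⊓ Y with hD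
  set D' := P ⊓ Y' with hD'
  have hPY : ∀ x ∈ P, ∀ y ∈ Y, x * y * x⁻¹ ∈ Y := fun x hx y hy =>
    (Subgroup.mem_normalizer_iff.1 (hOY hx) y).1 hy
  have hcomm : ⁅D, D'⁆ ≤ Z := by
    rw [← hYY, Subgroup.commutator_le]
    intro a ha b hb
    rw [commutatorElement_def]
    refine ⟨?_, Y'.mul_mem (hOY' a ha.1 b hb.2) (Y'.inv_mem hb.2)⟩
    rw [show a * b * a⁻¹ * b⁻¹ = a * (b * a⁻¹ * b⁻¹) by group]
    exact mul_mem ha.2 (hPY b hb.1 _ (inv_mem ha.2))
  -- `A = D D'`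
  have hDD' : D' ≤ Subgroup.normalizer (D : Set L) := fun x hx =>
    Subgroup.mem_normalizer_fintype (fun y hy => ⟨hPn y hy.1 x, hPY x hx.1 y hy.2⟩)
  have hAeq : A = D ⊔ D' := by
    have hDA : D ≤ A := hA ▸ Subgroup.subset_normalClosure
    have hD'A : D' ≤ A := by
      rintro _ ⟨hxP, y, hy, rfl⟩
      have hyP : y ∈ P := by simpa [mul_assoc] using hPn _ hxP g⁻¹
      exact (hA ▸ Subgroup.normalClosure_normal : A.Normal).conj_mem y (hDA ⟨hyP, hy⟩) g
    refine le_antisymm ?_ (sup_le hDA hD'A)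
    rw [hA]
    haveI : (D ⊔ D').Normal := by
      refine Subgroup.normalizer_eq_top_iff.1 (top_le_iff.1 (htop ▸ sup_le ?_ ?_))
      · intro y hy
        refine Subgroup.mem_normalizer_fintype fun x hx => ?_
        suffices D ⊔ D' ≤ (D ⊔ D').comap (MulAut.conj y).toMonoidHom from this hx
        refine sup_le (fun d hd => ?_) fun d hd => ?_
        · show y * d * y⁻¹ ∈ D ⊔ D'
          rw [(hYc y hy d hd.2).eq, mul_inv_cancel_right]
          exact Subgroup.mem_sup_left hd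
        · show y * d * y⁻¹ ∈ D ⊔ D'
          have h1 : y * d * y⁻¹ * d⁻¹ ∈ D := by
            refine ⟨P.mul_mem (hPn d hd.1 y) (P.inv_mem hd.1), ?_⟩
            rw [show y * d * y⁻¹ * d⁻¹ = y * (d * y⁻¹ * d⁻¹) by group]
            exact mul_mem hy (hPY d hd.1 _ (inv_mem hy))
          have h2 := mul_mem (Subgroup.mem_sup_left (T := D') h1) (Subgroup.mem_sup_right (S := D) hd)
          rwa [inv_mul_cancel_right] at h2
      · intro y hy
        refine Subgroup.mem_normalizer_fintype fun x hx => ?_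
        suffices D ⊔ D' ≤ (D ⊔ D').comap (MulAut.conj y).toMonoidHom from this hx
        refine sup_le (fun d hd => ?_) fun d hd => ?_
        · show y * d * y⁻¹ ∈ D ⊔ D'
          have h1 : y * d * y⁻¹ * d⁻¹ ∈ D' := by
            refine ⟨P.mul_mem (hPn d hd.1 y) (P.inv_mem hd.1), ?_⟩
            rw [show y * d * y⁻¹ * d⁻¹ = y * (d * y⁻¹ * d⁻¹) by group]
            exact mul_mem hy (hOY' d hd.1 _ (inv_mem hy))
          have h2 := mul_mem (Subgroup.mem_sup_right (S := D) h1) (Subgroup.mem_sup_left (T := D') hd)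
          rwa [inv_mul_cancel_right] at h2
        · show y * d * y⁻¹ ∈ D ⊔ D'
          rw [(hY'c y hy d hd.2).eq, mul_inv_cancel_right]
          exact Subgroup.mem_sup_right hd
    exact Subgroup.normalClosure_le_normal (le_sup_left : D ≤ D ⊔ D')
  have hAP : A ≤ P := hAeq ▸ sup_le inf_le_left inf_le_left
  have hAY : A ⊓ Y = D :=
    le_antisymm (fun x hx => ⟨hAP hx.1, hx.2⟩) (le_inf (hAeq ▸ le_sup_left) inf_le_right)
  have hAY' : A ⊓ Y' = D' :=
    le_antisymm (fun x hx => ⟨hAP hx.1, hx.2⟩) (le_inf (hAeq ▸ le_sup_right) inf_le_right)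
  have hdec : ∀ x ∈ A, ∃ d ∈ D, ∃ d' ∈ D', d * d' = x := by
    intro x hx
    have : x ∈ (D : Set L) * (D' : Set L) := by
      rw [← Subgroup.coe_mul_of_right_le_normalizer_left D D' hDD', ← hAeq]
      exact hx
    exact Set.mem_mul.1 this
  have hcen : ∀ z ∈ ⁅D, D'⁆, ∀ l : L, Commute l z := fun z hz l =>
    Subgroup.mem_center_iff.1 (hcomm hz).2 l
  -- every commutator of `A` is one of `D` and `D'`
  have hAA : ⁅A, A⁆ ≤ ⁅D, D'⁆ := by
    rw [Subgroup.commutator_le]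
    intro a ha b hb
    obtain ⟨d, hd, d', hd', rfl⟩ := hdec a ha
    obtain ⟨e, he, e', he', rfl⟩ := hdec b hb
    have h1 : ⁅d, e'⁆ ∈ ⁅D, D'⁆ := Subgroup.commutator_mem_commutator hd he'
    have h2 : ⁅d', e⁆ ∈ ⁅D, D'⁆ := Subgroup.commutator_comm D' D ▸
      Subgroup.commutator_mem_commutator hd' he
    have e1 : ⁅d * d', e * e'⁆ = (d * (⁅d', e⁆ * (e * ⁅d', e'⁆ * e⁻¹)) * d⁻¹) *
        (⁅d, e⁆ * (e * ⁅d, e'⁆ * e⁻¹)) := by
      simp [commutatorElement_def, mul_assoc]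
    have c1 : ⁅d', e'⁆ = 1 := commutatorElement_eq_one_iff_commute.2 (hY'c d' hd'.2 e' he'.2)
    have c2 : ⁅d, e⁆ = 1 := commutatorElement_eq_one_iff_commute.2 (hYc d hd.2 e he.2)
    rw [e1, c1, c2, mul_one, mul_inv_cancel, mul_one, one_mul, (hcen _ h2 d).eq,
      mul_inv_cancel_right, (hcen _ h1 e).eq, mul_inv_cancel_right]
    exact mul_mem h2 h1
  have hmono : ⁅A ⊓ Y, A ⊓ Y'⁆ ≤ ⁅A ⊓ Y, A⁆ := Subgroup.commutator_mono le_rfl inf_le_left
  have hDA : ⁅A ⊓ Y, A⁆ ≤ ⁅A, A⁆ := Subgroup.commutator_mono inf_le_left le_rfl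
  rw [← hAY, ← hAY'] at hAA
  refine ⟨?_, le_antisymm (hAA.trans hmono) hDA, le_antisymm (hDA.trans hAA) hmono,
    (hDA.trans hAA).trans (by rw [hAY, hAY']; exact hcomm), hYY, ?_, ?_⟩
  · -- the Frattini subgroup
    have hAp : IsPGroup p A := (CfsgLib.Base.isPGroup_pCore p L).to_le hAP
    haveI : ((⁅A, A⁆).subgroupOf A).Normal := by
      refine ⟨fun n hn a => ?_⟩
      rw [Subgroup.mem_subgroupOf] at hn ⊢
      push_cast
      exact (Subgroup.mem_normalizer_iff.1 (Subgroup.normalizer_commutator_ge_left A A a.2) _).1 hn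
    refine le_antisymm ?_ ?_
    · have hpow : ∀ x ∈ A, x ^ p ∈ ⁅A, A⁆ := by
        intro x hx
        obtain ⟨d, hd, d', hd', rfl⟩ := hdec x hx
        set N := (⁅A, A⁆).subgroupOf A
        have hdA : d ∈ A := hAeq ▸ Subgroup.mem_sup_left hd
        have hd'A : d' ∈ A := hAeq ▸ Subgroup.mem_sup_right hd'
        have hdp : d' ^ p = 1 := by
          obtain ⟨-, y, hy, rfl⟩ := hd'
          rw [← map_pow, hYel.2 y hy, map_one]
        set π := QuotientGroup.mk' N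
        have hc : Commute (π ⟨d, hdA⟩) (π ⟨d', hd'A⟩) := by
          rw [← commutatorElement_eq_one_iff_commute, ← map_commutatorElement]
          exact (QuotientGroup.eq_one_iff _).2 (Subgroup.mem_subgroupOf.2
            (Subgroup.commutator_mem_commutator hdA hd'A))
        have h3 : π ((⟨d, hdA⟩ * ⟨d', hd'A⟩) ^ p) = 1 := by
          rw [map_pow, map_mul, hc.mul_pow, ← map_pow, ← map_pow,
            show (⟨d, hdA⟩ : A) ^ p = 1 from Subtype.ext (hYel.2 d hd.2),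
            show (⟨d', hd'A⟩ : A) ^ p = 1 from Subtype.ext hdp, map_one, mul_one]
        exact Subgroup.mem_subgroupOf.1 ((QuotientGroup.eq_one_iff _).1 h3)
      rw [Subgroup.map_le_iff_le_comap]
      exact CfsgLib.PGroups.frattini_le_of_elementary_quotient (p := p)
        (N := (⁅A, A⁆).subgroupOf A) (Subgroup.commutator_le.2 fun x _ y _ =>
          Subgroup.commutator_mem_commutator x.2 y.2) fun x => hpow x.1 x.2
    · rw [Subgroup.commutator_le]
      intro a ha b hb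
      exact ⟨⁅(⟨a, ha⟩ : A), ⟨b, hb⟩⁆, CfsgLib.PGroups.commutator_le_frattini hAp
        (Subgroup.commutator_mem_commutator (Subgroup.mem_top _) (Subgroup.mem_top _)), rfl⟩
  · rw [hAY, hAY']
    refine le_antisymm (fun x hx => hYY ▸ ⟨hx.1.2, hx.2.2⟩) fun x hx => ?_
    have := hYY.ge hx
    exact ⟨⟨hZP hx, this.1⟩, hZP hx, this.2⟩
  · refine le_antisymm ?_ fun x hx => ⟨(hAY.ge ⟨hZP hx, hx.1⟩).1, hx.2⟩
    rintro x ⟨hxA, hxc⟩
    obtain ⟨d, hd, d', hd', rfl⟩ := hdec x hxA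
    have hxc' := Subgroup.mem_center_iff.1 hxc
    have hd'c : d' ∈ Subgroup.center L := by
      refine commute_of_top htop (fun y hy => ?_) fun y hy => hY'c d' hd'.2 y hy
      have h1 : Commute (d⁻¹ * (d * d')) y :=
        (hYc d hd.2 y hy).inv_left.mul_left (hxc' y).symm
      rwa [inv_mul_cancel_left] at h1
    have hd'Y : d' ∈ Y := by
      obtain ⟨-, y, hy, hyd⟩ := hd'
      have : y = d' := by
        have e : d' = g * y * g⁻¹ := hyd.symm
        have e2 : y = g⁻¹ * d' * g := by rw [e]; group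
        rw [e2, ← Subgroup.mem_center_iff.1 hd'c g⁻¹ |>.symm, inv_mul_cancel_right]
      exact this ▸ hy
    exact ⟨mul_mem hd.2 hd'Y, hxc⟩

end CfsgLib.LocalEven.YMinimalAbelian
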